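import Cfsg.Agent.Transpositions.M22Relations
import Cfsg.Agent.CosetEnum.Fi22Simple.Final

/-!
# Uniqueness in type M(22)

A group of type M(22) is isomorphic to the presented group `Fi₂₂`, the members corresponding to the
conjugates of a generator.
-/

set_option autoImplicit false
set_option linter.unusedSectionVars false

namespace CfsgLib.Transpositions.M22Unique

open Cfsg CfsgLib.FischerTypes
open CfsgLib.Transpositions.Braid

variable {G : Type*} [Group G] {D : Set G}

/-- The letter of a generator. -/
def letter : Spor.Fi22.Gen → ℕ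
  | .a => 0
  | .b => 1
  | .c => 2
  | .d => 3
  | .e => 4
  | .f => 5
  | .g => 6
  | .h => 7
  | .i => 8

theorem coxLabel_eq (x y : Spor.Fi22.Gen) : Spor.coxLabel Spor.Fi22.edges x y =
    if x = y then 1 else if adjb (letter x) (letter y) then 3 else 2 := by
  cases x <;> cases y <;> decide

variable [Finite G] (h : IsThreeTranspositionGroup D) (hp : IsPrimitiveUnderConj D) (h22 : IsOfTypeM22 G D)

include h hp h22

/-- A configuration gives a homomorphism of `Fi₂₂`. -/
theorem exists_hom {F : ℕ → G} (hF : Config D F) :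
    ∃ φ : Spor.Fi22 →* G, ∀ x, φ (PresentedGroup.of x) = F (letter x) := by
  have hb := hF.braided
  have hrel : ∀ r ∈ (Spor.coxRelators Spor.Fi22.edges ∪ {r | r ∈ Spor.Fi22.extra} : Set (FreeGroup Spor.Fi22.Gen)),
      FreeGroup.lift (fun x => F (letter x)) r = 1 := by
    rintro r (⟨x, -, y, -, rfl⟩ | hr)
    · rw [map_pow, map_mul, FreeGroup.lift_apply_of, FreeGroup.lift_apply_of, coxLabel_eq]
      by_cases hxy : x = y
      · rw [if_pos hxy, pow_one, hxy, hb.sq]
      rw [if_neg hxy]
      cases ha : adjb (letter x) (letter y)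
      · rw [if_neg Bool.false_ne_true, pow_two, mul_assoc, ← mul_assoc (F (letter y)), ← (hb.comm _ _ ha).eq,
          mul_assoc (F (letter x)) (F (letter y)), hb.sq, mul_one, hb.sq]
      · rw [if_pos rfl]
        calc (F (letter x) * F (letter y)) ^ 3 = F (letter x) * F (letter y) * F (letter x) *
              (F (letter y) * F (letter x) * F (letter y)) := by simp [pow_succ, mul_assoc]
          _ = 1 := by
            rw [← hb.braid _ _ ha]
            have e1 := hb.sq (letter x)
            have e2 := hb.sq (letter y)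
            have c1 : ∀ z, F (letter x) * (F (letter x) * z) = z := fun z => by rw [← mul_assoc, e1, one_mul]
            have c2 : ∀ z, F (letter y) * (F (letter y) * z) = z := fun z => by rw [← mul_assoc, e2, one_mul]
            simp [mul_assoc, c1, c2, e1]
    · have z1 := pw_z1 h hp h22 hF
      have z2 := pw_z2 h hp h22 hF
      have z3 := pw_spider h hp h22 hF
      rw [Words.z1, pw_replicate] at z1
      rw [Words.z2, pw_replicate] at z2
      rw [Words.spider, pw_replicate] at z3
      simp only [Set.mem_ofPred_eq, Spor.Fi22.extra, List.mem_cons, List.not_mem_nil, or_false] at hr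
      rcases hr with rfl | rfl | rfl
      · rw [map_pow]; simpa [pw, letter, mul_assoc] using z3
      · rw [map_pow]; simpa [pw, letter, mul_assoc] using z1
      · rw [map_pow]; simpa [pw, letter, mul_assoc] using z2
  exact ⟨PresentedGroup.toGroup hrel, fun x => PresentedGroup.toGroup.of hrel⟩

/-- A group of type M(22) is `Fi₂₂`, with the members the conjugates of a generator. -/
theorem exists_equiv : ∃ e : Spor.Fi22 ≃* G, e '' conjugatesOf (PresentedGroup.of Spor.Fi22.Gen.a) = D := by
  obtain ⟨d, hd, c, hc, hdc, -⟩ := id h22.2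
  obtain ⟨F, hF, h0, -⟩ := exists_config h hp h22 hd hc hdc
  obtain ⟨φ, hφ⟩ := exists_hom h hp h22 hF
  have := CfsgLib.CosetEnum.Fi22.isSimpleGroup_Fi22
  have hinj : Function.Injective φ := by
    rw [← MonoidHom.ker_eq_bot_iff]
    rcases (inferInstance : φ.ker.Normal).eq_bot_or_eq_top with hb | hb
    · exact hb
    · exfalso
      have ha : φ (PresentedGroup.of Spor.Fi22.Gen.a) = 1 := MonoidHom.mem_ker.1 (hb ▸ Subgroup.mem_top _)
      rw [hφ] at ha
      exact FischerTypes.ne_one h.1 (hF.mem 0 (by norm_num)) ha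
  have hcard : Nat.card Spor.Fi22 = Nat.card G := by
    rw [CfsgLib.CosetEnum.Fi22.card_Fi22, card_group h hp h22]
  set e : Spor.Fi22 ≃* G := MulEquiv.ofBijective φ ((Nat.bijective_iff_injective_and_card φ).2 ⟨hinj, hcard⟩)
  have he : ∀ x, e x = φ x := fun x => rfl
  refine ⟨e, Set.Subset.antisymm ?_ ?_⟩
  · rintro _ ⟨x, hx, rfl⟩
    obtain ⟨g, rfl⟩ := isConj_iff.1 hx
    rw [he, map_mul, map_mul, map_inv, hφ]
    exact h.2.1 _ _ (hF.mem 0 (by norm_num))
  · intro y hy
    obtain ⟨g, rfl⟩ := hp.1 _ (hF.mem 0 (by norm_num)) y hy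
    refine ⟨e.symm g * PresentedGroup.of Spor.Fi22.Gen.a * (e.symm g)⁻¹, isConj_iff.2 ⟨_, rfl⟩, ?_⟩
    rw [map_mul, map_mul, map_inv, MulEquiv.apply_symm_apply, he, hφ]
    rfl

end CfsgLib.Transpositions.M22Unique
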