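import Cfsg.Agent.Transpositions.ReflectionCocycles
import Cfsg.Agent.Forms.SmallOrth

/-!
# Generation of small orthogonal groups over two elements by pairs of transvections, and certificates
-/

set_option autoImplicit false

namespace CfsgLib.Transpositions

open CfsgLib.Spinor CfsgLib.StdForms CfsgLib.Forms Matrix

variable {ι : Type} [Fintype ι] [DecidableEq ι]

/-- The decidable part of a connectivity certificate. -/
def certCheck {n : ℕ} (q : (ι → ZMod 2) → ZMod 2) (b dual : Fin n → ι → ZMod 2)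
    (steps : List (ℕ × ℕ)) : Bool :=
  decide ((∀ i, q (b i) = 1) ∧
    (∀ i j, QuadraticMap.polar q (dual i) (b j) = if i = j then 1 else 0) ∧
    (∀ i, ∃ j, QuadraticMap.polar q (b j) (b i) = 1) ∧
    (∀ i : Fin n, (i : ℕ) = 0 ∨ ∃ j, j < i ∧ QuadraticMap.polar q (b j) (b i) = 1)) &&
  match growCheck q (List.ofFn b) steps with
  | some L => decide (∀ v, q v = 1 → v ∈ L)
  | none => false

theorem principal_of_cert (Q : QuadraticForm (ZMod 2) (ι → ZMod 2)) {n : ℕ}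
    (b dual : Fin n → ι → ZMod 2) (steps : List (ℕ × ℕ))
    (hcert : certCheck (⇑Q) b dual steps = true)
    (homega : ∀ K : Subgroup ↥(Cfsg.isometryGroup (ZMod 2) ⇑Q),
      (∀ u v, ∀ hu : Q u = 1, ∀ hv : Q v = 1, tv Q u hu * tv Q v hv ∈ K) →
        Cfsg.Omega (ZMod 2) ⇑Q ≤ K)
    (f : ↥(Cfsg.Omega (ZMod 2) ⇑Q) → ι → ZMod 2) (hf : IsCrossedHom Q f) :
    ∃ a, ∀ g, f g = mat Q g.1 *ᵥ a - a := by
  simp only [certCheck, Bool.and_eq_true, decide_eq_true_eq] at hcert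
  obtain ⟨⟨h1, h2, h3, h4⟩, hm⟩ := hcert
  cases hg : growCheck (⇑Q) (List.ofFn b) steps with
  | none => simp [hg] at hm
  | some L =>
    simp only [hg, decide_eq_true_eq] at hm
    exact exists_principal Q b dual h1 h2 h3 h4 steps L hg hm homega f hf

variable (Q : QuadraticForm (ZMod 2) (ι → ZMod 2))

/-- The subgroup generated by the products of two transvections. -/
def pairsSubgroup : Subgroup ↥(Cfsg.isometryGroup (ZMod 2) ⇑Q) :=
  Subgroup.closure {g | ∃ u v, ∃ hu : Q u = 1, ∃ hv : Q v = 1, g = tv Q u hu * tv Q v hv}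

theorem pairsSubgroup_normal : (pairsSubgroup Q).Normal := by
  refine ⟨fun x hx g => ?_⟩
  induction hx using Subgroup.closure_induction with
  | mem x hx =>
    obtain ⟨u, v, hu, hv, rfl⟩ := hx
    refine Subgroup.subset_closure ⟨mat Q g *ᵥ u, mat Q g *ᵥ v, by rw [quad_mulVec, hu],
      by rw [quad_mulVec, hv], ?_⟩
    rw [show g * (tv Q u hu * tv Q v hv) * g⁻¹ =
      (g * tv Q u hu * g⁻¹) * (g * tv Q v hv * g⁻¹) by group]
    exact congrArg₂ (· * ·) (conj_reflIso Q g u _) (conj_reflIso Q g v _)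
  | one => simp
  | mul a b _ _ ha hb => rw [← conj_mul]; exact mul_mem ha hb
  | inv a _ ha => rw [← conj_inv]; exact inv_mem ha

theorem omega_le_pairs_of_gen
    (hgen : ∀ g : ↥(Cfsg.isometryGroup (ZMod 2) ⇑Q), ∃ vs, IsReflProd Q g vs) :
    Cfsg.Omega (ZMod 2) ⇑Q ≤ pairsSubgroup Q := by
  haveI := pairsSubgroup_normal Q
  refine le_trans (omega_le_of_reflections_commute hgen (QuotientGroup.mk' (pairsSubgroup Q))
    fun v w hv hw => ?_) (QuotientGroup.ker_mk' _).le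
  have hv1 : Q v = 1 := (zmod_two_cases _).resolve_left hv
  have hw1 : Q w = 1 := (zmod_two_cases _).resolve_left hw
  have heq : QuotientGroup.mk' (pairsSubgroup Q) (reflIso Q v hv) =
      QuotientGroup.mk' (pairsSubgroup Q) (reflIso Q w hw) := by
    rw [QuotientGroup.mk'_apply, QuotientGroup.mk'_apply, QuotientGroup.eq]
    refine Subgroup.subset_closure ⟨v, w, hv1, hw1, ?_⟩
    exact congrArg (· * reflIso Q w hw) (tv_inv Q hv1)
  rw [heq]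

theorem omega_le_pairs_of_perm_five (e : ↥(Cfsg.isometryGroup (ZMod 2) ⇑Q) ≃* Equiv.Perm (Fin 5))
    {u v : ι → ZMod 2} (hu : Q u = 1) (hv : Q v = 1) (h : tv Q u hu * tv Q v hv ≠ 1) :
    Cfsg.Omega (ZMod 2) ⇑Q ≤ pairsSubgroup Q := by
  haveI hn : ((pairsSubgroup Q).map e.toMonoidHom).Normal :=
    (pairsSubgroup_normal Q).map _ e.surjective
  haveI : Nontrivial ((pairsSubgroup Q).map e.toMonoidHom) := by
    rw [Subgroup.nontrivial_iff_ne_bot]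
    intro hb
    exact h (e.map_eq_one_iff.1 (Subgroup.mem_bot.1
      (hb ▸ Subgroup.mem_map_of_mem e.toMonoidHom
        (Subgroup.subset_closure ⟨u, v, hu, hv, rfl⟩))))
  have hle := Equiv.Perm.alternatingGroup_le_of_normal (α := Fin 5) (by simp) (N := _) this
  intro g hg
  have hsign : e g ∈ alternatingGroup (Fin 5) := by
    rw [Equiv.Perm.mem_alternatingGroup]
    have h1 := Abelianization.commutator_subset_ker ((Equiv.Perm.sign).comp e.toMonoidHom) hg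
    exact h1
  obtain ⟨x, hx, hxe⟩ := hle hsign
  rwa [← e.injective hxe]


/-- Base vectors. -/
def minusOneBase : Fin 4 → (Fin 1 ⊕ Fin 1) ⊕ Fin 2 → ZMod 2 := ![
    Sum.elim (Sum.elim ![1] ![0]) ![0, 1],
    Sum.elim (Sum.elim ![1] ![0]) ![1, 1],
    Sum.elim (Sum.elim ![1] ![1]) ![0, 0],
    Sum.elim (Sum.elim ![1] ![0]) ![1, 0]]

/-- Dual vectors. -/
def minusOneDual : Fin 4 → (Fin 1 ⊕ Fin 1) ⊕ Fin 2 → ZMod 2 := ![
    Sum.elim (Sum.elim ![1] ![1]) ![0, 1],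
    Sum.elim (Sum.elim ![1] ![1]) ![1, 1],
    Sum.elim (Sum.elim ![1] ![0]) ![0, 0],
    Sum.elim (Sum.elim ![1] ![1]) ![1, 0]]

theorem minusOne_cert : certCheck (Cfsg.quadFormMinus 1 (ZMod 2) 1 1) minusOneBase minusOneDual [(0, 1), (0, 2), (0, 3), (1, 2), (1, 3), (2, 3)] = true := by
  decide +kernel

theorem minusOne_principal (homega : Cfsg.Omega (ZMod 2) ⇑(minusQ 1 (ZMod 2) 1 1) ≤ pairsSubgroup (minusQ 1 (ZMod 2) 1 1))
    (f : ↥(Cfsg.Omega (ZMod 2) ⇑(minusQ 1 (ZMod 2) 1 1)) → ((Fin 1 ⊕ Fin 1) ⊕ Fin 2) → ZMod 2)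
    (hf : IsCrossedHom (minusQ 1 (ZMod 2) 1 1) f) : ∃ a, ∀ g, f g = mat (minusQ 1 (ZMod 2) 1 1) g.1 *ᵥ a - a :=
  principal_of_cert _ _ _ _ (by rw [coe_minusQ 1 1 1]; exact minusOne_cert)
    (fun _ hK => homega.trans ((Subgroup.closure_le _).2 (by
      rintro _ ⟨u, v, hu, hv, rfl⟩; exact hK u v hu hv))) f hf


/-- Base vectors. -/
def minusTwoBase : Fin 6 → (Fin 2 ⊕ Fin 2) ⊕ Fin 2 → ZMod 2 := ![
    Sum.elim (Sum.elim ![1, 1] ![1, 1]) ![1, 0],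
    Sum.elim (Sum.elim ![0, 0] ![0, 0]) ![1, 1],
    Sum.elim (Sum.elim ![1, 1] ![0, 0]) ![1, 1],
    Sum.elim (Sum.elim ![0, 1] ![1, 1]) ![0, 0],
    Sum.elim (Sum.elim ![1, 0] ![0, 0]) ![1, 1],
    Sum.elim (Sum.elim ![1, 0] ![0, 1]) ![0, 1]]

/-- Dual vectors. -/
def minusTwoDual : Fin 6 → (Fin 2 ⊕ Fin 2) ⊕ Fin 2 → ZMod 2 := ![
    Sum.elim (Sum.elim ![1, 1] ![0, 0]) ![1, 1],
    Sum.elim (Sum.elim ![1, 1] ![1, 0]) ![0, 1],
    Sum.elim (Sum.elim ![1, 0] ![0, 1]) ![0, 0],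
    Sum.elim (Sum.elim ![0, 1] ![0, 0]) ![1, 1],
    Sum.elim (Sum.elim ![1, 0] ![1, 1]) ![1, 1],
    Sum.elim (Sum.elim ![1, 1] ![0, 0]) ![0, 0]]

theorem minusTwo_cert : certCheck (Cfsg.quadFormMinus 2 (ZMod 2) 1 1) minusTwoBase minusTwoDual [(0, 1), (0, 2), (0, 3), (0, 5), (1, 5), (1, 7), (1, 8), (2, 8), (2, 9), (2, 12), (3, 4), (3, 9), (3, 14), (4, 5), (4, 8), (4, 9), (4, 10), (4, 12), (4, 13), (4, 14), (4, 15), (5, 16), (5, 23), (5, 26), (0, 15), (0, 18), (0, 26), (0, 28), (1, 31), (3, 32)] = true := by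
  decide +kernel

theorem minusTwo_principal (homega : Cfsg.Omega (ZMod 2) ⇑(minusQ 2 (ZMod 2) 1 1) ≤ pairsSubgroup (minusQ 2 (ZMod 2) 1 1))
    (f : ↥(Cfsg.Omega (ZMod 2) ⇑(minusQ 2 (ZMod 2) 1 1)) → ((Fin 2 ⊕ Fin 2) ⊕ Fin 2) → ZMod 2)
    (hf : IsCrossedHom (minusQ 2 (ZMod 2) 1 1) f) : ∃ a, ∀ g, f g = mat (minusQ 2 (ZMod 2) 1 1) g.1 *ᵥ a - a :=
  principal_of_cert _ _ _ _ (by rw [coe_minusQ 2 1 1]; exact minusTwo_cert)
    (fun _ hK => homega.trans ((Subgroup.closure_le _).2 (by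
      rintro _ ⟨u, v, hu, hv, rfl⟩; exact hK u v hu hv))) f hf


/-- Base vectors. -/
def plusFourBase : Fin 8 → Fin 4 ⊕ Fin 4 → ZMod 2 := ![
    Sum.elim ![1, 1, 1, 1] ![1, 1, 1, 0],
    Sum.elim ![1, 0, 1, 1] ![0, 0, 1, 0],
    Sum.elim ![0, 0, 1, 1] ![1, 0, 0, 1],
    Sum.elim ![1, 1, 0, 0] ![0, 1, 1, 0],
    Sum.elim ![1, 0, 0, 1] ![1, 0, 0, 0],
    Sum.elim ![0, 1, 1, 0] ![0, 0, 1, 1],
    Sum.elim ![0, 0, 0, 1] ![1, 0, 0, 1],
    Sum.elim ![1, 0, 1, 0] ![1, 1, 0, 1]]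

/-- Dual vectors. -/
def plusFourDual : Fin 8 → Fin 4 ⊕ Fin 4 → ZMod 2 := ![
    Sum.elim ![0, 0, 0, 1] ![1, 1, 0, 1],
    Sum.elim ![0, 0, 1, 0] ![0, 1, 0, 0],
    Sum.elim ![0, 1, 1, 1] ![1, 1, 1, 1],
    Sum.elim ![1, 1, 1, 1] ![1, 0, 0, 0],
    Sum.elim ![0, 1, 1, 0] ![1, 1, 0, 0],
    Sum.elim ![1, 1, 1, 0] ![0, 0, 0, 1],
    Sum.elim ![0, 0, 1, 0] ![1, 0, 1, 1],
    Sum.elim ![1, 0, 1, 0] ![0, 1, 0, 1]]

theorem plusFour_cert : certCheck (Cfsg.quadFormPlus 4 (ZMod 2)) plusFourBase plusFourDual [(0, 1), (0, 2), (0, 7), (1, 2), (1, 3), (1, 4), (1, 5), (1, 7), (2, 10), (2, 12), (2, 13), (2, 14), (2, 15), (3, 4), (3, 6), (3, 7), (3, 8), (3, 10), (3, 14), (3, 16), (3, 19), (4, 5), (4, 7), (4, 8), (4, 10), (4, 16), (4, 22), (4, 26), (4, 28), (5, 6), (5, 8), (5, 15), (5, 20), (5, 21), (5, 22), (5, 24), (5, 30), (5, 32), (5, 33), (6, 12), (6, 14), (6, 17), (6, 19), (6, 23), (6,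 24), (6, 25), (6, 27), (6, 29), (6, 38), (6, 39), (6, 40), (6, 44), (6, 45), (6, 46), (7, 24), (7, 31), (7, 35), (7, 36), (7, 42), (7, 43), (7, 52), (0, 20), (0, 35), (0, 40), (0, 58), (0, 65), (0, 66), (1, 28), (1, 40), (1, 43), (1, 44), (1, 46), (1, 58), (1, 59), (1, 61), (1, 65), (1, 66), (2, 74), (2, 77), (2, 78), (2, 81), (2, 84), (3, 59), (3, 60), (3, 61), (3, 63), (3, 68), (3, 72), (3, 76), (4, 68), (5, 80), (5, 81), (5, 82), (5, 83), (5, 88), (5, 97), (6, 101), (7, 79), (7, 82), (7, 91), (7, 92), (7, 95), (7, 100), (8, 100), (8, 110), (9, 107), (9, 112), (10, 111), (11, 107), (12, 115), (13, 115), (22, 110)] = true := by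
  decide +kernel

theorem plusFour_principal (homega : Cfsg.Omega (ZMod 2) ⇑(plusQ 4 (ZMod 2)) ≤ pairsSubgroup (plusQ 4 (ZMod 2)))
    (f : ↥(Cfsg.Omega (ZMod 2) ⇑(plusQ 4 (ZMod 2))) → (Fin 4 ⊕ Fin 4) → ZMod 2)
    (hf : IsCrossedHom (plusQ 4 (ZMod 2)) f) : ∃ a, ∀ g, f g = mat (plusQ 4 (ZMod 2)) g.1 *ᵥ a - a :=
  principal_of_cert _ _ _ _ (by rw [coe_plusQ 4]; exact plusFour_cert)
    (fun _ hK => homega.trans ((Subgroup.closure_le _).2 (by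
      rintro _ ⟨u, v, hu, hv, rfl⟩; exact hK u v hu hv))) f hf


theorem omega_le_pairs_minusOne :
    Cfsg.Omega (ZMod 2) ⇑(minusQ 1 (ZMod 2) 1 1) ≤ pairsSubgroup (minusQ 1 (ZMod 2) 1 1) := by
  obtain ⟨e⟩ : Nonempty (↥(Cfsg.isometryGroup (ZMod 2) ⇑(minusQ 1 (ZMod 2) 1 1)) ≃*
      Equiv.Perm (Fin 5)) := by rw [coe_minusQ]; exact o_minus_four_two
  have hq : ∀ i, minusQ 1 (ZMod 2) 1 1 (minusOneBase i) = 1 := by
    intro i; rw [coe_minusQ]; revert i; decide +kernel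
  refine omega_le_pairs_of_perm_five _ e (hq 0) (hq 1) fun h => ?_
  have h' : mat (minusQ 1 (ZMod 2) 1 1) (tv _ (minusOneBase 0) (hq 0) *
      tv _ (minusOneBase 1) (hq 1)) *ᵥ minusOneBase 0 = minusOneBase 0 := by
    rw [h, mat_one, one_mulVec]
  rw [mat_mul, ← mulVec_mulVec, tv_apply, tv_apply, coe_minusQ] at h'
  revert h'
  decide +kernel

theorem omega_le_pairs_minusTwo :
    Cfsg.Omega (ZMod 2) ⇑(minusQ 2 (ZMod 2) 1 1) ≤ pairsSubgroup (minusQ 2 (ZMod 2) 1 1) :=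
  omega_le_pairs_of_gen _
    (exists_isReflProd_finite (minusQ_nondegenerate 2 (by decide)) (Or.inr (by simp)))

theorem omega_le_pairs_plusFour :
    Cfsg.Omega (ZMod 2) ⇑(plusQ 4 (ZMod 2)) ≤ pairsSubgroup (plusQ 4 (ZMod 2)) :=
  omega_le_pairs_of_gen _
    (exists_isReflProd_finite (plusQ_nondegenerate 4) (Or.inr (by simp)))

end CfsgLib.Transpositions
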