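import Cfsg.Agent.Transpositions.WidthOne

/-!
# The two twin relations of a 3-transposition group

`VRel D d v`: `v` commutes with the same members as `d`.
`WRel D d w`: `d` and `w` have the same commuting partners.
The classes are the intersections of `D` with the cosets modulo `O₂(G)` and `O₃(G)`.
-/

set_option autoImplicit false

namespace CfsgLib.Transpositions

open Cfsg

variable {G : Type*} [Group G] {D : Set G} {d e v w : G}

/-- The commuting partners of `d` in `D`. -/
def perp (D : Set G) (d : G) : Set G := {y | y ∈ D ∧ y ≠ d ∧ Commute d y}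

/-- `v` commutes with the same members of `D` as `d`. -/
def VRel (D : Set G) (d v : G) : Prop := v ∈ D ∧ ∀ e ∈ D, Commute v e ↔ Commute d e

/-- `w` has the same commuting partners as `d`. -/
def WRel (D : Set G) (d w : G) : Prop := w ∈ D ∧ perp D d = perp D w

theorem isThreeTranspositionGroup_of_class (hD : IsThreeTranspositionClass D) :
    IsThreeTranspositionGroup D := by
  obtain ⟨h1, ⟨d, -, hd⟩, h3⟩ := hD
  refine ⟨h1, fun g x hx => ?_, h3⟩
  rw [hd, conjugatesOf, Set.mem_setOf_eq, isConj_iff] at hx ⊢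
  obtain ⟨c, rfl⟩ := hx
  exact ⟨g * c, by group⟩

theorem exists_conj_of_class (hD : IsThreeTranspositionClass D) (hd : d ∈ D) (he : e ∈ D) :
    ∃ g : G, g * d * g⁻¹ = e := by
  obtain ⟨-, ⟨a, -, ha⟩, -⟩ := hD
  rw [ha] at hd he
  exact isConj_iff.1 ((show IsConj a d from hd).symm.trans he)

theorem exists_not_commute_of_class (hD : IsThreeTranspositionClass D)
    (h2 : ∃ a ∈ D, ∃ b ∈ D, a ≠ b) (hd : d ∈ D) : ∃ e ∈ D, ¬ Commute d e := by
  by_contra h
  push Not at h
  have hc : ∀ g : G, Commute g d := fun g => by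
    induction (hD.2.2 ▸ Subgroup.mem_top g : g ∈ Subgroup.closure D) using
      Subgroup.closure_induction with
    | mem x hx => exact (h x hx).symm
    | one => exact Commute.one_left d
    | mul x y _ _ hx hy => exact hx.mul_left hy
    | inv x _ hx => exact hx.inv_left
  obtain ⟨a, ha, b, hb, hne⟩ := h2
  obtain ⟨g, rfl⟩ := exists_conj_of_class hD hd ha
  obtain ⟨k, rfl⟩ := exists_conj_of_class hD hd hb
  exact hne (by rw [(hc g).eq, (hc k).eq, mul_inv_cancel_right, mul_inv_cancel_right])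

/-! ### Generalities on the two relations -/

theorem VRel.refl (hd : d ∈ D) : VRel D d d := ⟨hd, fun _ _ => Iff.rfl⟩

theorem VRel.symm (hd : d ∈ D) (h : VRel D d v) : VRel D v d := ⟨hd, fun e he => (h.2 e he).symm⟩

theorem VRel.trans {u : G} (h : VRel D d v) (h' : VRel D v u) : VRel D d u :=
  ⟨h'.1, fun e he => (h'.2 e he).trans (h.2 e he)⟩

theorem VRel.commute (h : VRel D d v) : Commute d v := (h.2 v h.1).1 (Commute.refl v)

theorem VRel.conj (hconj : ∀ g : G, ∀ x ∈ D, g * x * g⁻¹ ∈ D) (h : VRel D d v) (g : G) :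
    VRel D (g * d * g⁻¹) (g * v * g⁻¹) := by
  refine ⟨hconj g v h.1, fun e he => ?_⟩
  have he' : g * (g⁻¹ * e * g) * g⁻¹ = e := by group
  have := h.2 _ (by simpa using hconj g⁻¹ e he)
  rw [← commute_conj_iff g v, ← commute_conj_iff g d, he'] at this
  exact this

theorem WRel.refl (hd : d ∈ D) : WRel D d d := ⟨hd, rfl⟩

theorem WRel.symm (hd : d ∈ D) (h : WRel D d w) : WRel D w d := ⟨hd, h.2.symm⟩

theorem WRel.trans {u : G} (h : WRel D d w) (h' : WRel D w u) : WRel D d u :=
  ⟨h'.1, h.2.trans h'.2⟩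

theorem WRel.not_commute (h : WRel D d w) (hne : w ≠ d) : ¬ Commute d w := fun hc => by
  have : w ∈ perp D w := h.2 ▸ ⟨h.1, hne, hc⟩
  exact this.2.1 rfl

theorem WRel.eq_of_commute (h : WRel D d w) (hc : Commute d w) : d = w := by
  by_contra hne
  exact h.not_commute (Ne.symm hne) hc

theorem mem_perp_conj_iff (hconj : ∀ g : G, ∀ x ∈ D, g * x * g⁻¹ ∈ D) (g y : G) :
    g * y * g⁻¹ ∈ perp D (g * d * g⁻¹) ↔ y ∈ perp D d := by
  refine ⟨fun h => ⟨by simpa [mul_assoc] using hconj g⁻¹ _ h.1, fun hy => h.2.1 (by rw [hy]),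
    (commute_conj_iff g d y).1 h.2.2⟩, fun h => ⟨hconj g y h.1, ?_,
    (commute_conj_iff g d y).2 h.2.2⟩⟩
  exact fun hy => h.2.1 (mul_left_cancel (mul_right_cancel hy))

theorem WRel.conj (hconj : ∀ g : G, ∀ x ∈ D, g * x * g⁻¹ ∈ D) (h : WRel D d w) (g : G) :
    WRel D (g * d * g⁻¹) (g * w * g⁻¹) := by
  refine ⟨hconj g w h.1, Set.ext fun z => ?_⟩
  have hz : z = g * (g⁻¹ * z * g) * g⁻¹ := by group
  rw [hz, mem_perp_conj_iff hconj, mem_perp_conj_iff hconj, h.2]

theorem WRel.third (hD : IsThreeTranspositionGroup D) (hd : d ∈ D) (h : WRel D d w) :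
    WRel D d (w * d * w) := by
  have := h.conj hD.2.1 w
  rw [inv_eq hD.1 h.1, sq hD.1 h.1, one_mul] at this
  exact h.trans (this.symm (conj_mem_of_mem hD.1 hD.2.1 h.1 hd))

/-! ### `d v` fixes every `V`-class -/

theorem commute_vConj_of_commute (hD : IsThreeTranspositionGroup D) (hd : d ∈ D) (h : VRel D d v)
    (he : e ∈ D) (hn : ¬ Commute d e) {f : G} (hf : f ∈ D) (hc : Commute f e) :
    Commute f (d * v * e * (d * v)⁻¹) := by
  obtain ⟨hD, hconj, -⟩ := hD
  have hv := h.1
  have hdv := h.commute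
  by_cases hfd : Commute d f
  · have hfv : Commute v f := (h.2 f hf).2 hfd
    have hg : d * v * f * (d * v)⁻¹ = f := by
      rw [(hfd.mul_left hfv).eq, mul_inv_cancel_right]
    have := (commute_conj_iff (d * v) f e).2 hc
    rwa [hg] at this
  · set q := d * e * d with hq
    have hqD : q ∈ D := conj_mem_of_mem hD hconj hd he
    have hqe : q * e * q = d := conj_third hD hd he hn
    have h1 : Commute (q * f * q) d := by
      rw [← hqe, commute_conj_iff_of_mem hD hqD]; exact hc
    have hfD : q * f * q ∈ D := conj_mem_of_mem hD hconj hqD hf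
    have h2 : Commute (q * f * q) v := ((h.2 _ hfD).2 h1.symm).symm
    rw [commute_conj_swap hD hqD] at h2
    have hev : ¬ Commute e v := fun hc' => hn ((h.2 e he).1 hc'.symm)
    have key : q * v * q = d * v * e * (d * v)⁻¹ := by
      rw [mul_inv_rev, inv_eq hD hd, inv_eq hD hv, hq]
      calc d * e * d * v * (d * e * d) = d * e * (d * v * d) * e * d := by
            simp only [mul_assoc]
        _ = d * (e * v * e) * d := by
            rw [(commute_iff_conj_eq hD hd).1 hdv]; simp only [mul_assoc]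
        _ = d * (v * e * v) * d := by rw [braid hD he hv hev]
        _ = d * v * e * (v * d) := by simp only [mul_assoc]
    rwa [key] at h2

theorem vRel_conj_mul (hD : IsThreeTranspositionGroup D) (hd : d ∈ D) (h : VRel D d v)
    (he : e ∈ D) : VRel D e (d * v * e * (d * v)⁻¹) := by
  set g := d * v with hg
  have hg2 : g⁻¹ = g := by
    rw [hg, mul_inv_rev, inv_eq hD.1 hd, inv_eq hD.1 h.1, h.commute.eq]
  have he' : g * e * g⁻¹ ∈ D := hD.2.1 g e he
  by_cases hn : Commute d e
  · have : g * e * g⁻¹ = e := by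
      rw [hg, (hn.mul_left ((h.2 e he).2 hn)).eq, mul_inv_cancel_right]
    rw [this]
    exact VRel.refl he
  · refine ⟨he', fun f hf => ⟨fun hc => ?_, fun hc =>
      (commute_vConj_of_commute hD hd h he hn hf hc.symm).symm⟩⟩
    have hgd : g * d * g⁻¹ = d := by
      rw [hg, ((Commute.refl d).mul_left h.commute.symm).eq, mul_inv_cancel_right]
    have hn' : ¬ Commute d (g * e * g⁻¹) := by
      intro hc'
      rw [← hgd, commute_conj_iff] at hc'
      exact hn hc'
    have := (commute_vConj_of_commute hD hd h he' hn' hf hc.symm).symm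
    rwa [← hg, show g * (g * e * g⁻¹) * g⁻¹ = (g * g) * e * (g * g)⁻¹ by group,
      show g * g = 1 by rw [← mul_inv_cancel g, hg2], one_mul, inv_one, mul_one] at this

/-! ### `w d` fixes every `W`-class -/

theorem perp_subset_wConj (hD : IsThreeTranspositionGroup D) (hd : d ∈ D) (h : WRel D d w)
    (he : e ∈ D) (hn : ¬ Commute d e) (heW : ¬ WRel D d e) :
    perp D e ⊆ perp D (w * d * e * (w * d)⁻¹) := by
  have hD' := hD.1
  have hconj := hD.2.1
  have hw := h.1
  set q := d * e * d with hq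
  have hqD : q ∈ D := conj_mem_of_mem hD' hconj hd he
  have hqe : q * e * q = d := conj_third hD' hd he hn
  have hqw : ¬ Commute q w := by
    intro hc
    rw [hq, commute_conj_swap hD' hd] at hc
    by_cases hwd : w = d
    · rw [hwd, sq hD' hd, one_mul] at hc
      exact hn hc.symm
    · have hW : WRel D d (d * w * d) := by
        have := h.third hD hd
        rwa [← braid hD' hd hw (h.not_commute hwd)] at this
      have : e ∈ perp D (d * w * d) :=
        ⟨he, fun h' => heW (h' ▸ hW), hc.symm⟩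
      rw [← hW.2] at this
      exact hn this.2.2
  intro y hy
  have h1 : q * y * q ∈ perp D d := by
    have := (mem_perp_conj_iff (d := e) hconj q y).2 hy
    rwa [inv_eq hD' hqD, hqe] at this
  rw [h.2] at h1
  have h2 : y ∈ perp D (q * w * q) := by
    rw [← mem_perp_conj_iff hconj q y, inv_eq hD' hqD]
    simpa only [mul_assoc, mul_cancel_left hD' hqD, sq hD' hqD, mul_one] using h1
  have key : q * w * q = w * d * e * (w * d)⁻¹ := by
    rw [braid hD' hqD hw hqw, hq, mul_inv_rev, inv_eq hD' hd, inv_eq hD' hw]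
    simp only [mul_assoc]
  rwa [key] at h2

theorem wRel_conj_mul (hD : IsThreeTranspositionGroup D) (hd : d ∈ D) (h : WRel D d w)
    (he : e ∈ D) : WRel D e (w * d * e * (w * d)⁻¹) := by
  have hD' := hD.1
  have hconj := hD.2.1
  have hw := h.1
  set g := w * d with hg
  by_cases hwd : w = d
  · have : g = 1 := by rw [hg, hwd, sq hD' hd]
    rw [this]
    simpa using WRel.refl he
  have hgd : g * d * g⁻¹ = w * d * w := by
    rw [hg, mul_inv_rev, inv_eq hD' hd, inv_eq hD' hw, mul_assoc w d d, sq hD' hd, mul_one,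
      mul_assoc w d w]
  have hinv : g⁻¹ = d * w := by rw [hg, mul_inv_rev, inv_eq hD' hd, inv_eq hD' hw]
  by_cases heW : WRel D d e
  · have h1 := heW.conj hconj g
    rw [hgd] at h1
    exact (heW.symm hd).trans ((h.third hD hd).trans h1)
  by_cases hn : Commute d e
  · have hne : e ≠ d := fun h' => heW (by rw [h']; exact WRel.refl hd)
    have hew : e ∈ perp D w := h.2 ▸ ⟨he, hne, hn⟩
    have : g * e * g⁻¹ = e := by
      rw [hg, (hew.2.2.mul_left hn).eq, mul_inv_cancel_right]
    rw [this]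
    exact WRel.refl he
  have hnw : ¬ Commute w e := by
    intro hc
    have : e ∈ perp D d := h.2.symm ▸ ⟨he, fun h' => heW (h' ▸ h), hc⟩
    exact hn this.2.2
  have he' : g * e * g⁻¹ ∈ D := hconj g e he
  refine ⟨he', Set.Subset.antisymm (perp_subset_wConj hD hd h he hn heW) ?_⟩
  have hgg : d * w * (g * e * g⁻¹) * (d * w)⁻¹ = e := by
    rw [← hinv]; group
  have hn' : ¬ Commute w (g * e * g⁻¹) := by
    intro hc
    have hW := h.third hD hd
    rw [← braid hD' hd hw (h.not_commute hwd)] at hW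
    have hgw : g * (d * w * d) * g⁻¹ = w := by
      rw [hg, mul_inv_rev, inv_eq hD' hd, inv_eq hD' hw]
      simp only [mul_assoc, mul_cancel_left hD' hd, mul_cancel_left hD' hw]
    rw [← hgw, commute_conj_iff] at hc
    have : e ∈ perp D (d * w * d) := ⟨he, fun h' => heW (h' ▸ hW), hc⟩
    rw [← hW.2] at this
    exact hn this.2.2
  have heW' : ¬ WRel D w (g * e * g⁻¹) := by
    intro h1
    apply heW
    have h2 := (h.trans h1).conj hconj g⁻¹
    have hgd' : g⁻¹ * d * g⁻¹⁻¹ = w := by
      rw [hinv, mul_inv_rev, inv_eq hD' hd, inv_eq hD' hw,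
        show d * w * d * (w * d) = d * (w * d * w) * d by simp only [mul_assoc],
        ← braid hD' hd hw (h.not_commute hwd)]
      simp only [mul_assoc, mul_cancel_left hD' hd, sq hD' hd, mul_one]
    rw [hgd', show g⁻¹ * (g * e * g⁻¹) * g⁻¹⁻¹ = e by group] at h2
    exact h.trans h2
  have := perp_subset_wConj hD hw (h.symm hd) he' hn' heW'
  rwa [hgg] at this

/-! ### The kernels on the classes and the cores -/

/-- The elements fixing every `V`-class. -/
def vKernel (hD : IsThreeTranspositionGroup D) : Subgroup G where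
  carrier := {g | ∀ e ∈ D, VRel D e (g * e * g⁻¹)}
  one_mem' e he := by simpa using VRel.refl he
  mul_mem' {a b} ha hb e he := by
    have := (hb e he).trans (ha _ (hD.2.1 b e he))
    simpa [mul_assoc] using this
  inv_mem' {a} ha e he := by
    have := (ha _ (hD.2.1 a⁻¹ e he)).symm (hD.2.1 a⁻¹ e he)
    simpa [mul_assoc] using this

/-- The elements fixing every `W`-class. -/
def wKernel (hD : IsThreeTranspositionGroup D) : Subgroup G where
  carrier := {g | ∀ e ∈ D, WRel D e (g * e * g⁻¹)}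
  one_mem' e he := by simpa using WRel.refl he
  mul_mem' {a b} ha hb e he := by
    have := (hb e he).trans (ha _ (hD.2.1 b e he))
    simpa [mul_assoc] using this
  inv_mem' {a} ha e he := by
    have := (ha _ (hD.2.1 a⁻¹ e he)).symm (hD.2.1 a⁻¹ e he)
    simpa [mul_assoc] using this

theorem vKernel_normal (hD : IsThreeTranspositionGroup D) : (vKernel hD).Normal := by
  refine ⟨fun n hn g e he => ?_⟩
  have := (hn _ (by simpa using hD.2.1 g⁻¹ e he : g⁻¹ * e * g ∈ D)).conj hD.2.1 g
  simpa [mul_assoc] using this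

theorem wKernel_normal (hD : IsThreeTranspositionGroup D) : (wKernel hD).Normal := by
  refine ⟨fun n hn g e he => ?_⟩
  have := (hn _ (by simpa using hD.2.1 g⁻¹ e he : g⁻¹ * e * g ∈ D)).conj hD.2.1 g
  simpa [mul_assoc] using this

theorem isPGroup_two_closure {S : Set G} (hc : ∀ a ∈ S, ∀ b ∈ S, Commute a b)
    (h2 : ∀ a ∈ S, a * a = 1) : IsPGroup 2 (Subgroup.closure S) := by
  haveI := Subgroup.isMulCommutative_closure fun a ha b hb => hc a ha b hb
  rintro ⟨x, hx⟩
  refine ⟨1, Subtype.ext ?_⟩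
  show x ^ 2 = 1
  induction hx using Subgroup.closure_induction with
  | mem y hy => rw [pow_two]; exact h2 y hy
  | one => simp
  | mul y z hy hz h1 h3 =>
    have hyz : Commute y z := congrArg Subtype.val
      ((inferInstance : IsMulCommutative (Subgroup.closure S)).is_comm.comm ⟨y, hy⟩ ⟨z, hz⟩)
    rw [hyz.mul_pow, h1, h3, one_mul]
  | inv y _ h => rw [inv_pow, h, inv_one]

theorem le_pCore_of_normalized {p : ℕ} {K E : Subgroup G} [K.Normal] (hEK : E ≤ K)
    (hnorm : ∀ k ∈ K, ∀ x ∈ E, k * x * k⁻¹ ∈ E) (hp : IsPGroup p E) : E ≤ pCore p G := by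
  haveI : (E.subgroupOf K).Normal := ⟨fun x hx k => hnorm k k.2 x hx⟩
  have h1 : E.subgroupOf K ≤ pCore p K :=
    CfsgLib.PLocal.le_pCore (hp.of_equiv (Subgroup.subgroupOfEquivOfLe hEK).symm)
  intro x hx
  exact CfsgLib.PLocal.pCore_map_subtype_le K ⟨⟨x, hEK hx⟩, h1 hx, rfl⟩

theorem mul_mem_pCore_two_of_vRel (hD : IsThreeTranspositionGroup D) (hd : d ∈ D)
    (h : VRel D d v) : d * v ∈ pCore 2 G := by
  haveI := vKernel_normal hD
  have hD' := hD.1
  refine le_pCore_of_normalized (K := vKernel hD)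
    (E := Subgroup.closure {x | ∃ v, VRel D d v ∧ d * v = x}) ?_ ?_ ?_
    (Subgroup.subset_closure ⟨v, h, rfl⟩)
  · rw [Subgroup.closure_le]
    rintro _ ⟨u, hu, rfl⟩ e he
    exact vRel_conj_mul hD hd hu he
  · intro k hk x hx
    induction hx using Subgroup.closure_induction with
    | mem x hx =>
      obtain ⟨u, hu, rfl⟩ := hx
      have h1 : VRel D d (k * d * k⁻¹) := hk d hd
      have h2 : VRel D d (k * u * k⁻¹) := hu.trans (hk u hu.1)
      have hprod : k * (d * u) * k⁻¹ = (d * (k * d * k⁻¹))⁻¹ * (d * (k * u * k⁻¹)) := by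
        conv_lhs => rw [← inv_eq hD' hd]
        group
      rw [hprod]
      exact mul_mem (inv_mem (Subgroup.subset_closure ⟨_, h1, rfl⟩))
        (Subgroup.subset_closure ⟨_, h2, rfl⟩)
    | one => simp
    | mul x y _ _ hx hy => simpa [conj_mul] using mul_mem hx hy
    | inv x _ hx => rw [← conj_inv]; exact inv_mem hx
  · refine isPGroup_two_closure ?_ ?_
    · rintro _ ⟨a, ha, rfl⟩ _ ⟨b, hb, rfl⟩
      have hab : Commute a b := (ha.2 b hb.1).2 hb.commute
      exact (((Commute.refl d).mul_right hb.commute).mul_left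
        (ha.commute.symm.mul_right hab))
    · rintro _ ⟨a, ha, rfl⟩
      rw [← pow_two]
      exact (commute_iff_sq_eq_one hD' hd ha.1).1 ha.commute

theorem vRel_of_mul_mem_pCore (hD : IsThreeTranspositionSet D) (hd : d ∈ D) (hv : v ∈ D)
    (h : d * v ∈ pCore 2 G) : VRel D d v := by
  have hP := CfsgLib.PLocal.isPGroup_pCore 2 G
  have key : ∀ a ∈ D, ∀ b ∈ D, a * b ∈ pCore 2 G → ∀ e ∈ D, Commute a e → Commute b e := by
    intro a ha b hb hab e he hc
    by_contra hn
    have hm : ((e * a : G) : G ⧸ pCore 2 G) = ((e * b : G) : G ⧸ pCore 2 G) := by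
      rw [QuotientGroup.eq, mul_inv_rev, inv_eq hD he, inv_eq hD ha, mul_assoc a,
        mul_cancel_left hD he]
      exact hab
    have h3 : ((e * b : G) : G ⧸ pCore 2 G) ^ 3 = 1 := by
      rw [← QuotientGroup.mk_pow, cube_eq_one hD he hb fun h => hn h.symm]; rfl
    have h2 : ((e * b : G) : G ⧸ pCore 2 G) ^ 2 = 1 := by
      rw [← hm, ← QuotientGroup.mk_pow, (commute_iff_sq_eq_one hD he ha).1 hc.symm]; rfl
    have h1 : ((e * b : G) : G ⧸ pCore 2 G) = 1 := by
      rw [pow_succ, h2, one_mul] at h3; exact h3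
    exact hn (commute_of_isPGroup hD he hb Nat.prime_two (by norm_num) hP
      ((QuotientGroup.eq_one_iff _).1 h1)).symm
  have h' : v * d ∈ pCore 2 G := by
    simpa [inv_eq hD hd, inv_eq hD hv] using inv_mem h
  exact ⟨hv, fun e he => ⟨key v hv d hd h' e he, key d hd v hv h e he⟩⟩

theorem mul_mem_pCore_three_of_wRel [Finite G] (hD : IsThreeTranspositionGroup D) (hd : d ∈ D)
    (h : WRel D d w) : d * w ∈ pCore 3 G := by
  haveI := wKernel_normal hD
  have hD' := hD.1
  refine le_pCore_of_normalized (K := wKernel hD)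
    (E := productsSubgroup {u | WRel D d u}) ?_ ?_ ?_
    (mul_mem_productsSubgroup (D := {u | WRel D d u}) (WRel.refl hd) h)
  · rw [productsSubgroup, Subgroup.closure_le]
    rintro _ ⟨a, ha, b, hb, rfl⟩ e he
    exact wRel_conj_mul hD hb.1 ((hb.symm hd).trans ha) he
  · intro k hk x hx
    induction hx using Subgroup.closure_induction with
    | mem x hx =>
      obtain ⟨a, ha, b, hb, rfl⟩ := hx
      have hprod : k * (a * b) * k⁻¹ = k * a * k⁻¹ * (k * b * k⁻¹) := by group
      rw [hprod]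
      exact mul_mem_productsSubgroup (ha.trans (hk a ha.1)) (hb.trans (hk b hb.1))
    | one => simp
    | mul x y _ _ hx hy => simpa [conj_mul] using mul_mem hx hy
    | inv x _ hx => rw [← conj_inv]; exact inv_mem hx
  · refine isPGroup_productsSubgroup ⟨fun x hx => hD'.1 x hx.1,
      fun x hx y hy => hD'.2 x hx.1 y hy.1⟩ ?_ ?_
    · intro x hx y hy
      exact hx.trans (((hx.symm hd).trans hy).third hD hx.1 |>.trans (by
        by_cases hxy : y = x
        · subst hxy; exact WRel.refl (conj_mem_of_mem hD' hD.2.1 hy.1 hy.1)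
        · rw [← braid hD' hx.1 hy.1 (((hx.symm hd).trans hy).not_commute hxy)]
          exact WRel.refl (conj_mem_of_mem hD' hD.2.1 hx.1 hy.1)))
    · intro x hx y hy hc
      exact ((hx.symm hd).trans hy).eq_of_commute hc

theorem wRel_of_mul_mem_pCore (hD : IsThreeTranspositionSet D) (hd : d ∈ D) (hw : w ∈ D)
    (h : d * w ∈ pCore 3 G) : WRel D d w := by
  have hP := CfsgLib.PLocal.isPGroup_pCore 3 G
  have key : ∀ a ∈ D, ∀ b ∈ D, a * b ∈ pCore 3 G → perp D a ⊆ perp D b := by
    intro a ha b hb hab y hy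
    by_cases hne : a = b
    · exact hne ▸ hy
    have hn : ¬ Commute a b := fun hc =>
      hne (eq_of_commute_of_isPGroup hD ha hb Nat.prime_three (by norm_num) hP hab hc)
    refine ⟨hy.1, fun h' => hn (h' ▸ hy.2.2), ?_⟩
    by_contra hc
    have hm : ((y * a : G) : G ⧸ pCore 3 G) = ((y * b : G) : G ⧸ pCore 3 G) := by
      rw [QuotientGroup.eq, mul_inv_rev, inv_eq hD hy.1, inv_eq hD ha, mul_assoc a,
        mul_cancel_left hD hy.1]
      exact hab
    have h3 : ((y * a : G) : G ⧸ pCore 3 G) ^ 3 = 1 := by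
      rw [hm, ← QuotientGroup.mk_pow, cube_eq_one hD hy.1 hb fun h => hc h.symm]; rfl
    have h2 : ((y * a : G) : G ⧸ pCore 3 G) ^ 2 = 1 := by
      rw [← QuotientGroup.mk_pow, (commute_iff_sq_eq_one hD hy.1 ha).1 hy.2.2.symm]; rfl
    rw [pow_succ, h2, one_mul] at h3
    exact hy.2.1 (eq_of_commute_of_isPGroup hD hy.1 ha Nat.prime_three (by norm_num) hP
      ((QuotientGroup.eq_one_iff _).1 h3) hy.2.2.symm)
  have h' : w * d ∈ pCore 3 G := by
    simpa [inv_eq hD hd, inv_eq hD hw] using inv_mem h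
  exact ⟨hw, Set.Subset.antisymm (key d hd w hw h) (key w hw d hd h')⟩

/-- A `V`-twin of `d` is a conjugate of `d` by an element of `O₂(G)`. -/
theorem exists_conj_of_vRel (hD : IsThreeTranspositionClass D) (h2 : ∃ a ∈ D, ∃ b ∈ D, a ≠ b)
    (hd : d ∈ D) (h : VRel D d v) : ∃ g ∈ pCore 2 G, v = g * d * g⁻¹ := by
  obtain ⟨e, he, hn⟩ := exists_not_commute_of_class hD h2 hd
  have hG := isThreeTranspositionGroup_of_class hD
  have hD' := hD.1
  have hv := h.1
  set e' := d * v * e * (d * v)⁻¹ with he'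
  have hE : VRel D e e' := vRel_conj_mul hG hd h he
  refine ⟨e * e', mul_mem_pCore_two_of_vRel hG he hE, ?_⟩
  have hve : ¬ Commute v e := fun hc => hn ((h.2 e he).1 hc)
  rw [mul_inv_rev, inv_eq hD' hE.1, inv_eq hD' he]
  have h1 : e' * d * e' = v * e * v := by
    have hc := (commute_iff_conj_eq hD' hd).1 h.commute
    have hc' := (commute_iff_conj_eq hD' hv).1 h.commute.symm
    rw [he', mul_inv_rev, inv_eq hD' hd, inv_eq hD' hv]
    calc d * v * e * (v * d) * d * (d * v * e * (v * d))
        = d * v * e * (v * d * v) * e * (v * d) := by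
          simp only [mul_assoc, mul_cancel_left hD' hd]
      _ = d * v * (e * d * e) * v * d := by rw [hc']; simp only [mul_assoc]
      _ = (d * v * d) * e * (d * v * d) := by
          rw [← braid hD' hd he hn]; simp only [mul_assoc]
      _ = v * e * v := by rw [hc]
  calc v = e * (v * e * v) * e := by
        rw [braid hD' hv he hve]
        simp only [mul_assoc, mul_cancel_left hD' he, sq hD' he, mul_one]
    _ = e * e' * d * (e' * e) := by rw [← h1]; simp only [mul_assoc]

theorem wRel_conj_self (hD : IsThreeTranspositionSet D) (hd : d ∈ D) (h : WRel D d w) :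
    w = (d * w) * d * (d * w)⁻¹ := by
  rw [mul_inv_rev, inv_eq hD hd, inv_eq hD h.1]
  by_cases hwd : w = d
  · rw [hwd]; simp [mul_assoc, sq hD hd]
  calc w = d * (d * w * d) * d := by simp only [mul_assoc, mul_cancel_left hD hd, sq hD hd, mul_one]
    _ = d * (w * d * w) * d := by rw [braid hD hd h.1 (h.not_commute hwd)]
    _ = d * w * d * (w * d) := by simp only [mul_assoc]

theorem vRel_iff_of_class (hD : IsThreeTranspositionClass D) (hd : d ∈ D) :
    VRel D d v ↔ v ∈ D ∧ d⁻¹ * v ∈ pCore 2 G := by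
  rw [inv_eq hD.1 hd]
  exact ⟨fun h => ⟨h.1, mul_mem_pCore_two_of_vRel (isThreeTranspositionGroup_of_class hD) hd h⟩,
    fun h => vRel_of_mul_mem_pCore hD.1 hd h.1 h.2⟩

theorem wRel_iff_of_class [Finite G] (hD : IsThreeTranspositionClass D) (hd : d ∈ D) :
    WRel D d w ↔ w ∈ D ∧ d⁻¹ * w ∈ pCore 3 G := by
  rw [inv_eq hD.1 hd]
  exact ⟨fun h => ⟨h.1, mul_mem_pCore_three_of_wRel (isThreeTranspositionGroup_of_class hD) hd h⟩,
    fun h => wRel_of_mul_mem_pCore hD.1 hd h.1 h.2⟩

theorem conj_mem_coset {N : Subgroup G} [N.Normal] {g : G} (hg : g ∈ N) (d : G) :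
    d⁻¹ * (g * d * g⁻¹) ∈ N := by
  have : d⁻¹ * g * d⁻¹⁻¹ ∈ N := Subgroup.Normal.conj_mem inferInstance g hg d⁻¹
  rw [inv_inv] at this
  simpa [mul_assoc] using mul_mem this (inv_mem hg)

end CfsgLib.Transpositions
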