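import Cfsg.Agent.FischerTypes.ReflectionOrder

/-!
# The order of the projective reflection group in dimension seven

Over `ZMod 3` its order is divisible by `3 ^ 9` and by `13`.
-/

set_option autoImplicit false

namespace CfsgLib.Transpositions

open Cfsg Matrix Module CfsgLib.Forms CfsgLib.Spinor

/-- The isometry group of a seven-dimensional nondegenerate form over `ZMod 3`. -/
theorem card_isometryGroup_seven (Q : QuadraticForm (ZMod 3) (Fin 7 → ZMod 3))
    (hμ : polarGramDet (⇑Q) ≠ 0) :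
    Nat.card (isometryGroup (ZMod 3) ⇑Q) = 2 * 3 ^ 9 * (8 * (80 * 728)) := by
  have h2 : (2 : ZMod 3) ≠ 0 := by decide
  let bq := Pi.basisFun (ZMod 3) (Fin 7)
  have hdq : (LinearMap.BilinForm.toMatrix bq (QuadraticMap.polarBilin Q)).det = polarGramDet (⇑Q) := by
    rw [polarGramDet]; congr 1
  set a : ZMod 3 := polarGramDet (⇑Q) with ha
  let Q0 : QuadraticForm (ZMod 3) ((Fin 3 ⊕ Fin 3) ⊕ Unit → ZMod 3) := Forms4.sumForm 3 (Forms4.sqForm (ZMod 3))
  let Qm : QuadraticForm (ZMod 3) ((Fin 3 ⊕ Fin 3) ⊕ Unit → ZMod 3) := a • Q0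
  let bm := Pi.basisFun (ZMod 3) ((Fin 3 ⊕ Fin 3) ⊕ Unit)
  have hM : LinearMap.BilinForm.toMatrix bm (QuadraticMap.polarBilin Qm) =
      a • fromBlocks (fromBlocks 0 1 1 0) 0 0 (diagonal fun _ : Unit => (2 : ZMod 3)) := by
    ext i j
    rw [LinearMap.BilinForm.toMatrix_apply, QuadraticMap.polarBilin_apply_apply,
      show (⇑Qm : _ → ZMod 3) = a • ⇑Q0 from rfl, QuadraticMap.polar_smul, Matrix.smul_apply]
    refine congrArg (a • ·) ?_
    rw [Forms4.polar_sumForm, Pi.basisFun_apply, Pi.basisFun_apply, QuadraticMap.polar]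
    rcases i with (i | i) | i <;> rcases j with (j | j) | j <;> fin_cases i <;> fin_cases j <;>
      simp [Forms4.sqForm, fromBlocks, Fin.sum_univ_three, one_add_one_eq_two] <;> rfl
  have hdm : (LinearMap.BilinForm.toMatrix bm (QuadraticMap.polarBilin Qm)).det = a := by
    rw [hM, det_smul, det_fromBlocks_zero₁₂, det_fromBlocks_zero₁₁', det_diagonal, det_one]
    have key : ∀ x : ZMod 3, x ≠ 0 → x ^ 7 = x := by decide
    rw [show Fintype.card ((Fin 3 ⊕ Fin 3) ⊕ Unit) = 7 from rfl, key a hμ]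
    refine Eq.trans (congrArg (a * ·) ?_) (mul_one a)
    decide
  obtain ⟨L, hL⟩ := exists_isometry_of_isSquare h2 (QuadraticMap.polarBilin Q) (QuadraticMap.polarBilin Qm)
    ⟨fun x y => QuadraticMap.polar_comm _ x y⟩ ⟨fun x y => QuadraticMap.polar_comm _ x y⟩ bq bm (by decide)
    (by rw [hdq]; exact hμ) (by rw [hdm]; exact hμ) (by rw [hdq, hdm]; exact ⟨a, rfl⟩)
  have hLQ : ∀ x, Qm (L x) = Q x := fun x => by
    have h1 := hL x x
    rw [QuadraticMap.polarBilin_apply_apply, QuadraticMap.polarBilin_apply_apply, polar_self', polar_self'] at h1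
    exact mul_left_cancel₀ h2 h1
  obtain ⟨φ, hφ⟩ := CfsgLib.FieldEmb.exists_hom_of_equiv (⇑Q) (⇑Qm) L (fun v => hLQ v)
  obtain ⟨χ, hχ⟩ := CfsgLib.FieldEmb.exists_hom_of_equiv (⇑Qm) (⇑Q) L.symm
    (fun v => by rw [← hLQ (L.symm v), L.apply_symm_apply])
  have hcard : Nat.card (isometryGroup (ZMod 3) ⇑Q) = Nat.card (isometryGroup (ZMod 3) ⇑Qm) :=
    le_antisymm (Nat.card_le_card_of_injective φ hφ) (Nat.card_le_card_of_injective χ hχ)
  let σ : (Fin 3 ⊕ Fin 3) ⊕ Unit ≃ Unit ⊕ (Fin 3 ⊕ Fin 3) := Equiv.sumComm _ _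
  let L' : ((Fin 3 ⊕ Fin 3) ⊕ Unit → ZMod 3) ≃ₗ[ZMod 3] (Unit ⊕ (Fin 3 ⊕ Fin 3) → ZMod 3) :=
    LinearEquiv.funCongrLeft (ZMod 3) (ZMod 3) σ.symm
  have hL' : ∀ v, Qm v = a * quadFormOdd 3 (ZMod 3) (L' v) := fun v => by
    show a * Q0 v = _
    refine congrArg (a * ·) ?_
    rw [show (Q0 v) = Forms4.hsum 3 (⇑(Forms4.sqForm (ZMod 3))) v from congrFun (Forms4.coe_sumForm 3 _) v,
      Forms4.hsum_odd]
    rfl
  obtain ⟨φ', hφ'⟩ := CfsgLib.FieldEmb.exists_hom_of_equiv (⇑Qm)
    (fun v => a * quadFormOdd 3 (ZMod 3) v) L' (fun v => (hL' v).symm)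
  obtain ⟨χ', hχ'⟩ := CfsgLib.FieldEmb.exists_hom_of_equiv (fun v => a * quadFormOdd 3 (ZMod 3) v)
    (⇑Qm) L'.symm (fun v => by rw [hL', L'.apply_symm_apply])
  have hcard' : Nat.card (isometryGroup (ZMod 3) ⇑Qm) =
      Nat.card (isometryGroup (ZMod 3) (fun v => a * quadFormOdd 3 (ZMod 3) v)) :=
    le_antisymm (Nat.card_le_card_of_injective φ' hφ') (Nat.card_le_card_of_injective χ' hχ')
  have hscale : isometryGroup (ZMod 3) (fun v => a * quadFormOdd 3 (ZMod 3) v) =
      isometryGroup (ZMod 3) (quadFormOdd 3 (ZMod 3)) := by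
    ext g
    exact ⟨fun hg v w => mul_left_cancel₀ hμ (hg v v), fun hg v w => congrArg (a * ·) (hg v v)⟩
  rw [hcard, hcard', hscale]
  have h := Forms4.card_isometryGroup_quadFormOdd (q := 3) (ZMod.card 3) (by decide) 3
  norm_num [Finset.prod_range_succ] at h ⊢
  exact h

/-- The order of the projective reflection group in dimension seven is divisible by `3 ^ 9 * 13`. -/
theorem dvd_card_projReflection_seven {X : Type*} [Group X] {μ c : ZMod 3} (hμ0 : μ ≠ 0) (hc : c ≠ 0)
    (hX : IsProjReflectionGroupModThree X 7 μ c) : 3 ^ 9 * 13 ∣ Nat.card X := by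
  obtain ⟨Q, hQ, hμ, ⟨e⟩⟩ := hX
  have h2 : (2 : ZMod 3) ≠ 0 := by decide
  have hidx : (reflectionSubgroup (⇑Q) c).index = 2 := by
    have h := index_closure_class_of_dim h2 hQ (by simp) (Or.inr (by simp))
      (fun h => by simp only [Fintype.card_fin] at h; omega) hc
    have ht : ∀ t : ZMod 3, t ≠ 0 → t ^ 2 = 1 := by decide
    rw [reflectionSubgroup]
    convert h using 3
    ext g
    constructor
    · rintro ⟨v, hv, hg⟩
      exact ⟨v, 1, one_ne_zero, by rw [hv]; ring, hg⟩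
    · rintro ⟨v, t, ht0, hv, hg⟩
      exact ⟨v, by rw [hv, ht t ht0, mul_one], hg⟩
  have hR : Nat.card ↥(reflectionSubgroup (⇑Q) c) = 3 ^ 9 * (8 * (80 * 728)) := by
    have h := Subgroup.index_mul_card (reflectionSubgroup (⇑Q) c)
    rw [hidx, card_isometryGroup_seven Q (hμ ▸ hμ0)] at h
    omega
  set Z := Subgroup.center ↥(reflectionSubgroup (⇑Q) c) with hZdef
  -- the centre has exponent two
  have hexp : ∀ z : Z, z ^ 2 = 1 := by
    rintro ⟨z, hz⟩
    set M := mat Q (z : ↥(isometryGroup (ZMod 3) ⇑Q)) with hMdef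
    have hpm : ∀ v, Q v = c → M *ᵥ v = v ∨ M *ᵥ v = -v := by
      intro v hv
      have hQz : Q (M *ᵥ v) = c := by rw [hMdef, quad_mulVec, hv]
      have h1 : z * classRefl hc v hv * z⁻¹ = classRefl hc (M *ᵥ v) hQz :=
        Subtype.ext (conj_reflIso Q _ v (hv ▸ hc))
      rw [← Subgroup.mem_center_iff.1 hz, mul_inv_cancel_right] at h1
      rcases (commute_classRefl_iff hc hv hQz).1 (h1 ▸ Commute.refl _) with h0 | h0
      · exact absurd h1 (classRefl_ne hc hv hQz h0)
      · exact h0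
    have hsq : ∀ v, Q v = c → (M * M) *ᵥ v = v := fun v hv => by
      rw [← mulVec_mulVec]
      rcases hpm v hv with h0 | h0
      · rw [h0, h0]
      · rw [h0, mulVec_neg, h0, neg_neg]
    obtain ⟨b, -, hb⟩ := exists_orthogonal_anisotropic_basis h2 hQ
    have hspan : ∀ i, (M * M) *ᵥ b i = b i := by
      intro i
      by_cases hbc : Q (b i) = c
      · exact hsq _ hbc
      have hbn : Q (b i) = -c := by
        have key : ∀ a x : ZMod 3, a ≠ 0 → x ≠ 0 → x ≠ a → x = -a := by decide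
        exact key c _ hc (hb i) hbc
      obtain ⟨g, hg⟩ := exists_quad_value h2 (Q.comp (perpSub Q ![b i]).subtype)
        (sep_perpSub Q hQ.1 ![b i] (by simpa [polar_self', hbn] using mul_ne_zero h2 hc))
        (by
          have := le_finrank_perpSub Q ![b i]
          have h7 : finrank (ZMod 3) (Fin 7 → ZMod 3) = 7 := by rw [finrank_fun_zmod, Fintype.card_fin]
          omega) (-c)
      have hpg : QuadraticMap.polar (⇑Q) (b i) (g : Fin 7 → ZMod 3) = 0 := mem_perpSub.1 g.2 0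
      have hg' : Q (g : Fin 7 → ZMod 3) = -c := hg
      have key2 : ∀ a : ZMod 3, -a + -a + 0 = a := by decide
      have h1 := hsq (b i + g) (by rw [QuadraticMap.map_add (⇑Q), hbn, hg', hpg, key2])
      have h2' := hsq (b i + -(g : Fin 7 → ZMod 3)) (by
        rw [QuadraticMap.map_add (⇑Q), hbn, QuadraticMap.map_neg, hg', QuadraticMap.polar_neg_right, hpg,
          neg_zero, key2])
      simp only [mulVec_add, mulVec_neg] at h1 h2'
      have h3 : (2 : ZMod 3) • (M * M) *ᵥ b i = (2 : ZMod 3) • b i := by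
        linear_combination (norm := module) h1 + h2'
      exact smul_right_injective _ h2 h3
    refine Subtype.ext (Subtype.ext (mat_ext Q ?_))
    have hM1 : M * M = 1 := by
      refine toLin'.injective (b.ext fun i => ?_)
      rw [toLin'_apply, toLin'_one, LinearMap.id_apply, hspan i]
    rw [_root_.pow_two]
    show mat Q ((z : ↥(isometryGroup (ZMod 3) ⇑Q)) * z) = mat Q 1
    rw [mat_mul, ← hMdef, hM1]
    rfl
  rw [Nat.card_congr e.toEquiv]
  show _ ∣ Nat.card (↥(reflectionSubgroup (⇑Q) c) ⧸ Z)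
  have hmul := Subgroup.card_eq_card_quotient_mul_card_subgroup Z
  rw [hR] at hmul
  have hp : ∀ p : ℕ, p.Prime → p ≠ 2 → ¬ p ∣ Nat.card Z := fun p hp hp2 hdvd => by
    haveI := Fact.mk hp
    obtain ⟨z, hz⟩ := exists_prime_orderOf_dvd_card' p hdvd
    have := orderOf_dvd_of_pow_eq_one (hexp z)
    rw [hz] at this
    exact hp2 ((Nat.prime_dvd_prime_iff_eq hp Nat.prime_two).1 this)
  have hco : Nat.Coprime (3 ^ 9 * 13) (Nat.card Z) :=
    Nat.Coprime.mul_left ((Nat.prime_three.coprime_iff_not_dvd.2 (hp 3 Nat.prime_three (by norm_num))).pow_left 9)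
      ((show Nat.Prime 13 by norm_num).coprime_iff_not_dvd.2 (hp 13 (by norm_num) (by norm_num)))
  exact hco.dvd_of_dvd_mul_right (hmul ▸ by norm_num)

end CfsgLib.Transpositions
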