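import Cfsg.Agent.Transpositions.Primitive

/-!
# Simple derived group, primitivity, and trivial cores with a connected commuting graph
-/

set_option autoImplicit false

namespace CfsgLib.Transpositions

open Cfsg
open CfsgLib.Components
open scoped commutatorElement

variable {G : Type*} [Group G] [Finite G] {D : Set G}

/-- A normal perfect subgroup of index at most two is the commutator subgroup. -/
theorem commutator_eq_of_index_le_two {L : Subgroup G} [L.Normal] (hperf : ⁅L, L⁆ = L)
    (hidx : L.index ≤ 2) : commutator G = L := by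
  refine le_antisymm ?_ ?_
  · rw [commutator_def, Subgroup.commutator_le]
    intro a _ b _
    rw [← QuotientGroup.eq_one_iff]
    have hcard : Nat.card (G ⧸ L) ≤ 2 := hidx
    have hab : Commute (a : G ⧸ L) (b : G ⧸ L) := by
      haveI : IsCyclic (G ⧸ L) := by
        rcases Nat.lt_or_ge (Nat.card (G ⧸ L)) 2 with h | h
        · haveI : Subsingleton (G ⧸ L) := by
            rw [← Finite.card_le_one_iff_subsingleton]; omega
          exact isCyclic_of_subsingleton
        · haveI : Fact (Nat.Prime 2) := ⟨Nat.prime_two⟩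
          exact isCyclic_of_prime_card (p := 2) (le_antisymm hcard h)
      obtain ⟨g, hg⟩ := IsCyclic.exists_generator (α := G ⧸ L)
      obtain ⟨i, hi⟩ := Subgroup.mem_zpowers_iff.1 (hg (a : G ⧸ L))
      obtain ⟨j, hj⟩ := Subgroup.mem_zpowers_iff.1 (hg (b : G ⧸ L))
      rw [← hi, ← hj]
      exact (Commute.refl g).zpow_zpow i j
    exact (map_commutatorElement (QuotientGroup.mk' L) a b).trans
      (commutatorElement_eq_one_iff_commute.2 hab)
  · conv_lhs => rw [← hperf]
    rw [commutator_def]
    exact Subgroup.commutator_mono le_top le_top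

theorem isSimpleGroup_commutator_of_primitive (hD : IsThreeTranspositionGroup D)
    (hp : IsPrimitiveUnderConj D) (hw : ∃ a ∈ D, ∃ b ∈ D, a ≠ b ∧ Commute a b)
    (hZ : Subgroup.center G = ⊥) : IsSimpleGroup (commutator G) := by
  obtain ⟨L, hn, hq, hidx, hF⟩ := exists_component_of_primitive hD hp hw
  haveI := hn
  have hperf : ⁅L, L⁆ = L := Subgroup.isPerfect_iff.mp hq.1
  rw [commutator_eq_of_index_le_two hperf hidx]
  have hC := centralizer_component_le_center (isThreeTranspositionClass_of_primitive hD hp)
    (pCore_two_le_center_of_primitive hD hp) (pCore_three_le_center_of_primitive hD hp hw) hF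
  have hzL : Subgroup.center L = ⊥ := by
    rw [eq_bot_iff]
    intro z hz
    have : (z : G) ∈ Subgroup.center G := hC (Subgroup.mem_centralizer_iff.2 fun l hl =>
      congrArg Subtype.val (Subgroup.mem_center_iff.1 hz ⟨l, hl⟩))
    rw [hZ, Subgroup.mem_bot] at this
    exact Subgroup.mem_bot.2 (Subtype.ext this)
  haveI := hq.2
  haveI : Nontrivial L := IsQuasisimple.nontrivial hq
  exact IsSimpleGroup.isSimpleGroup_of_surjective
    ((QuotientGroup.quotientMulEquivOfEq hzL).trans QuotientGroup.quotientBot).toMonoidHom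
    (MulEquiv.surjective _)

theorem not_exists_commuting_pair_of_odd {N : Subgroup G} [N.Normal] (hN : Odd (Nat.card N))
    (hidx : N.index ≤ 2) (hD : IsThreeTranspositionSet D) {a b : G} (ha : a ∈ D) (hb : b ∈ D)
    (hne : a ≠ b) (hc : Commute a b) : False := by
  have hout : ∀ x ∈ D, x ∉ N := by
    intro x hx hxN
    have h2 : orderOf (⟨x, hxN⟩ : N) = 2 := by rw [Subgroup.orderOf_mk]; exact hD.1 x hx
    have := orderOf_dvd_natCard (⟨x, hxN⟩ : N)
    rw [h2] at this
    exact absurd (even_iff_two_dvd.2 this) (Nat.not_even_iff_odd.2 hN)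
  have hab : a * b ∈ N := by
    have h := zpowers_sup_eq_top_of_index_le_two hidx (hout a ha)
    obtain ⟨z, hz, n, hn, hzn⟩ := Subgroup.mem_sup_of_normal_right.1
      (h.symm ▸ Subgroup.mem_top b : b ∈ Subgroup.zpowers a ⊔ N)
    obtain ⟨k, rfl⟩ := Subgroup.mem_zpowers_iff.1 hz
    rcases Int.even_or_odd' k with ⟨m, rfl | rfl⟩
    · rw [zpow_mul, zpow_two, sq hD ha, one_zpow, one_mul] at hzn
      exact absurd (hzn ▸ hn) (hout b hb)
    · rw [zpow_add_one, zpow_mul, zpow_two, sq hD ha, one_zpow, one_mul] at hzn
      rw [← hzn, mul_cancel_left hD ha]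
      exact hn
  have h2 : (a * b) ^ 2 = 1 := (commute_iff_sq_eq_one hD ha hb).1 hc
  have h1 : orderOf (⟨a * b, hab⟩ : N) ∣ 2 := by
    rw [Subgroup.orderOf_mk]; exact orderOf_dvd_of_pow_eq_one h2
  have h3 := orderOf_dvd_natCard (⟨a * b, hab⟩ : N)
  have h4 : orderOf (⟨a * b, hab⟩ : N) = 1 :=
    Nat.eq_one_of_dvd_coprimes ((Nat.coprime_two_left).2 hN) h1 h3
  rw [orderOf_eq_one_iff] at h4
  exact hne ((mul_eq_one_iff hD hb).1 (congrArg Subtype.val h4))

theorem primitive_of_isSimpleGroup_commutator (hD : IsThreeTranspositionClass D)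
    (hw : ∃ a ∈ D, ∃ b ∈ D, a ≠ b ∧ Commute a b) (hZ : Subgroup.center G = ⊥)
    (hs : IsSimpleGroup (commutator G)) : IsPrimitiveUnderConj D := by
  obtain ⟨a, ha, b, hb, hne, hc⟩ := hw
  have hD2 : ∃ a ∈ D, ∃ b ∈ D, a ≠ b := ⟨a, ha, b, hb, hne⟩
  set N := commutator G with hN
  have hidx : N.index ≤ 2 := by
    have hall : ∀ g : G, (g : G ⧸ N) = 1 ∨ (g : G ⧸ N) = (a : G ⧸ N) := by
      intro g
      have ha2 : (a : G ⧸ N) * (a : G ⧸ N) = 1 := by
        rw [← QuotientGroup.mk_mul, sq hD.1 ha]; rfl
      induction (hD.2.2 ▸ Subgroup.mem_top g : g ∈ Subgroup.closure D) using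
        Subgroup.closure_induction with
      | mem x hx =>
        obtain ⟨g, rfl⟩ := exists_conj_of_class hD ha hx
        refine Or.inr ?_
        rw [QuotientGroup.eq]
        have : ⁅g, a⁻¹⁆ ∈ N :=
          Subgroup.commutator_mem_commutator (Subgroup.mem_top g) (Subgroup.mem_top _)
        simpa [commutatorElement_def, mul_assoc] using this
      | one => exact Or.inl rfl
      | mul x y _ _ hx hy =>
        rcases hx with hx | hx <;> rcases hy with hy | hy <;>
          simp only [QuotientGroup.mk_mul, hx, hy, ha2, one_mul, mul_one] <;> simp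
      | inv x _ hx =>
        rcases hx with hx | hx <;> simp only [QuotientGroup.mk_inv, hx]
        · exact Or.inl inv_one
        · exact Or.inr (inv_eq_of_mul_eq_one_right ha2)
    rw [Subgroup.index_eq_card]
    have hsub : (Set.univ : Set (G ⧸ N)) ⊆ {1, (a : G ⧸ N)} := fun q _ => by
      obtain ⟨g, rfl⟩ := QuotientGroup.mk_surjective q
      exact (hall g).imp id id
    rw [← Set.ncard_univ]
    calc (Set.univ : Set (G ⧸ N)).ncard ≤ ({1, (a : G ⧸ N)} : Set (G ⧸ N)).ncard :=
          Set.ncard_le_ncard hsub (Set.toFinite _)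
      _ ≤ ({(a : G ⧸ N)} : Set (G ⧸ N)).ncard + 1 := Set.ncard_insert_le _ _
      _ = 2 := by rw [Set.ncard_singleton]
  by_cases hcomm : IsMulCommutative N
  · exfalso
    letI : CommGroup N := CommGroup.mk hcomm.is_comm.comm
    haveI : IsSimpleGroup N := hs
    haveI hp : Fact (Nat.card N).Prime := ⟨IsSimpleGroup.prime_card⟩
    rcases hp.out.eq_two_or_odd' with h2 | hodd
    · -- `G` has order at most four, hence is abelian
      have hcardG : Nat.card G ≤ 4 := by
        rw [← Subgroup.card_mul_index N, h2]; omega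
      have hab : ∀ x y : G, Commute x y := by
        intro x y
        have hdiv : Nat.card G ∣ 4 := by
          rw [← Subgroup.card_mul_index N, h2]
          have := Subgroup.index_ne_zero_of_finite (H := N)
          have hcases : N.index = 1 ∨ N.index = 2 := by omega
          rcases hcases with h | h <;> rw [h] <;> norm_num
        haveI : Fact (Nat.Prime 2) := ⟨Nat.prime_two⟩
        obtain ⟨k, hk, hk'⟩ := (Nat.dvd_prime_pow Nat.prime_two).1 (show Nat.card G ∣ 2 ^ 2 by simpa)
        interval_cases k
        · haveI : Subsingleton G := by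
            rw [← Finite.card_le_one_iff_subsingleton]; omega
          rw [Subsingleton.elim x y]
        · haveI : IsCyclic G := isCyclic_of_prime_card (p := 2) (by simpa using hk')
          obtain ⟨g, hg⟩ := IsCyclic.exists_generator (α := G)
          obtain ⟨i, rfl⟩ := Subgroup.mem_zpowers_iff.1 (hg x)
          obtain ⟨j, rfl⟩ := Subgroup.mem_zpowers_iff.1 (hg y)
          exact (Commute.refl g).zpow_zpow i j
        · exact (IsPGroup.isMulCommutative_of_card_eq_prime_sq (p := 2) hk').is_comm.comm x y
      exact not_commute_all hD hD2 hab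
    · exact not_exists_commuting_pair_of_odd hodd hidx hD.1 ha hb hne hc
  · -- the derived group is nonabelian simple: the cores are trivial
    haveI := hs
    have hperf : ⁅N, N⁆ = N := by
      refine Subgroup.isPerfect_iff.mp ((Group.isPerfect_def).2 ?_)
      rcases (inferInstance : (commutator N).Normal).eq_bot_or_eq_top with h | h
      · refine absurd ?_ hcomm
        refine ⟨⟨fun x y => commutatorElement_eq_one_iff_mul_comm.1 ?_⟩⟩
        exact (Subgroup.eq_bot_iff_forall _).1 h _
          (Subgroup.commutator_mem_commutator (Subgroup.mem_top x) (Subgroup.mem_top y))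
      · exact h
    have hsq : Cfsg.IsQuasisimple N := by
      haveI : Nontrivial N := inferInstance
      refine isQuasisimple_of_normal_le_center ?_ fun M hM hne => ?_
      · exact Group.isPerfect_def.1 (Subgroup.isPerfect_iff.mpr hperf)
      · rcases hM.eq_bot_or_eq_top with h | h
        · rw [h]; exact bot_le
        · exact absurd h hne
    have hcomp : IsComponent N := ⟨Subgroup.Normal.isSubnormal inferInstance, hsq⟩
    have hcore : ∀ p : ℕ, p.Prime → pCore p G = ⊥ := by
      intro p hp
      haveI : Fact p.Prime := ⟨hp⟩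
      rw [eq_bot_iff, ← hZ]
      intro x hx
      have hsub : (pCore p G).subgroupOf N = ⊥ := by
        rcases (inferInstance : ((pCore p G).subgroupOf N).Normal).eq_bot_or_eq_top with h | h
        · exact h
        · exfalso
          have hP : IsPGroup p (⊤ : Subgroup N) := h ▸ (CfsgLib.PLocal.isPGroup_pCore p G).comap_subtype
          exact IsQuasisimple.not_isSolvable hsq (by
            have := isSolvable_of_isPGroup hP
            exact Group.isSolvable_of_isSolvable_injective
              (f := (Subgroup.topEquiv (G := N)).symm.toMonoidHom) (MulEquiv.injective _))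
      rw [Subgroup.mem_center_iff]
      intro g
      have h1 : ⁅x, g⁆ ∈ pCore p G := by
        rw [commutatorElement_def, mul_assoc, mul_assoc, ← mul_assoc g]
        exact mul_mem hx (Subgroup.Normal.conj_mem inferInstance _ (inv_mem hx) g)
      have h2 : ⁅x, g⁆ ∈ N :=
        Subgroup.commutator_mem_commutator (Subgroup.mem_top x) (Subgroup.mem_top g)
      have h3 : (⟨⁅x, g⁆, h2⟩ : N) ∈ (pCore p G).subgroupOf N := h1
      rw [hsub, Subgroup.mem_bot] at h3
      exact (commutatorElement_eq_one_iff_commute.1 (congrArg Subtype.val h3)).eq.symm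
    have h2 : pCore 2 G ≤ Subgroup.center G := by rw [hcore 2 Nat.prime_two]; exact bot_le
    have h3 : pCore 3 G ≤ Subgroup.center G := by rw [hcore 3 Nat.prime_three]; exact bot_le
    obtain ⟨L, hL, -, -, hF⟩ := exists_component_of_central hD hD2 h2 h3
    obtain rfl := component_unique hD hL hcomp
    exact isPrimitiveUnderConj_of_index_le_two hD hD2 h2 h3 hcomp hF hidx

theorem cores_of_primitive (hD : IsThreeTranspositionGroup D) (hp : IsPrimitiveUnderConj D)
    (hw : ∃ a ∈ D, ∃ b ∈ D, a ≠ b ∧ Commute a b) (hZ : Subgroup.center G = ⊥) :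
    pCore 2 G = ⊥ ∧ pCore 3 G = ⊥ ∧ (commutingGraph D).Connected :=
  ⟨le_bot_iff.1 (hZ ▸ pCore_two_le_center_of_primitive hD hp),
    le_bot_iff.1 (hZ ▸ pCore_three_le_center_of_primitive hD hp hw),
    connected_of_primitive hD hp hw⟩

theorem primitive_of_cores (hD : IsThreeTranspositionClass D) (hne : ∃ a ∈ D, ∃ b ∈ D, a ≠ b)
    (h2 : pCore 2 G ≤ Subgroup.center G) (h3 : pCore 3 G ≤ Subgroup.center G)
    (hc : (commutingGraph D).Connected) : IsPrimitiveUnderConj D := by
  obtain ⟨L, hL, hn, -, hF⟩ := exists_component_of_central hD hne h2 h3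
  haveI := hn
  exact isPrimitiveUnderConj_of_index_le_two hD hne h2 h3 hL hF
    (index_le_two_of_connected hD hL hc)

end CfsgLib.Transpositions
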