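import Cfsg.Agent.FischerTypes.M22Involution
import Cfsg.Agent.FischerTypes.M22Mu
import Cfsg.Agent.FischerTypes.M22Clique
import Cfsg.Agent.FischerTypes.M23Pair
import Cfsg.Agent.Transpositions.Simplicity

/-!
# Groups of type M(22): simplicity and the subgroup `⟨D_d⟩`

The relation of length seven puts a member into the derived group of `⟨D_d⟩`, hence that subgroup is
quasisimple and the group itself is simple.
-/

set_option autoImplicit false

namespace CfsgLib.Transpositions.TypeM22

open Cfsg CfsgLib.FischerTypes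
open scoped commutatorElement

variable {G : Type*} [Group G] [Finite G] {D : Set G} (h : IsThreeTranspositionGroup D)
  (hp : IsPrimitiveUnderConj D) (h22 : IsOfTypeM22 G D)

include h hp h22

/-- A member lies in the derived group. -/
theorem mem_commutator {d : G} (hd : d ∈ D) : d ∈ commutator G := by
  obtain ⟨x, y, w, a, b, c, hx, hy, hw, ha, hb, hc, -, -, -, -, -, -, he⟩ := exists_seven h hp h22 hd
  have hs : ∀ u ∈ D, Abelianization.of u = Abelianization.of d := fun u hu => by
    obtain ⟨g, rfl⟩ := hp.1 d hd u hu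
    rw [map_mul, map_mul, map_inv, mul_comm (Abelianization.of g), mul_inv_cancel_right]
  have h7 := congrArg Abelianization.of he
  simp only [map_mul, hs _ hx.1, hs _ hy.1, hs _ hw.1, hs _ ha.1, hs _ hb.1, hs _ hc.1] at h7
  rw [← Abelianization.ker_of, MonoidHom.mem_ker]
  exact mul_eq_right.1 h7

/-- The group is perfect. -/
theorem commutator_eq_top : commutator G = ⊤ := by
  rw [eq_top_iff, ← h.2.2, Subgroup.closure_le]
  exact fun d hd => mem_commutator h hp h22 hd

/-- A group of type M(22) is simple. -/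
theorem isSimpleGroup : IsSimpleGroup G := by
  obtain ⟨d, hd, -⟩ := hp.2.1
  obtain ⟨e, f, he, -, -⟩ := exists_edge h h22 hd
  have hs := CfsgLib.Transpositions.isSimpleGroup_commutator_of_primitive h hp
    ⟨d, hd, e, he.1, fun hh => he.2.1 hh.symm, he.2.2⟩ h22.1
  rw [commutator_eq_top h hp h22] at hs
  haveI := hs
  haveI : Nontrivial G := ⟨⟨d, 1, ne_one h.1 hd⟩⟩
  exact IsSimpleGroup.isSimpleGroup_of_surjective (Subgroup.topEquiv (G := G)).toMonoidHom
    (Subgroup.topEquiv (G := G)).surjective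

/-- The centre of `⟨D_d⟩` is generated by `d`. -/
theorem center_closure {d : G} (hd : d ∈ D) :
    Subgroup.center ↥(Subgroup.closure (FischerTypes.perp D d)) =
      (Subgroup.zpowers d).subgroupOf (Subgroup.closure (FischerTypes.perp D d)) := by
  ext z
  refine mem_center_closure_iff.trans ((center_closure_perp h hp h22 hd z.2).trans ?_)
  rw [Subgroup.mem_subgroupOf]
  constructor
  · rintro (hz | hz) <;> rw [hz]
    · exact one_mem _
    · exact Subgroup.mem_zpowers d
  · intro hz
    obtain ⟨k, hk⟩ := Subgroup.mem_zpowers_iff.1 hz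
    have h2 : d ^ (2 : ℤ) = 1 := by rw [zpow_two]; exact CfsgLib.Transpositions.sq h.1 hd
    rcases Int.even_or_odd' k with ⟨j, rfl | rfl⟩
    · exact Or.inl (by rw [← hk, zpow_mul, h2, one_zpow])
    · exact Or.inr (by rw [← hk, zpow_add, zpow_mul, h2, one_zpow, one_mul, zpow_one])

/-- `⟨D_d⟩` is quasisimple. -/
theorem isQuasisimple_closure {d : G} (hd : d ∈ D) :
    IsQuasisimple ↥(Subgroup.closure (FischerTypes.perp D d)) := by
  obtain ⟨M⟩ := exists_perpModel h h22 hd
  obtain ⟨-, hsimple, hZ, -⟩ := M.exists_equiv_PSU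
  haveI : IsSimpleGroup (↥(Subgroup.closure (FischerTypes.perp D d)) ⧸ Subgroup.center ↥(Subgroup.closure (FischerTypes.perp D d))) := hsimple
  set H := Subgroup.closure (FischerTypes.perp D d) with hH
  have hdH : d ∈ H := mem_closure_perp_self h hp h22 hd
  refine ⟨?_, hsimple⟩
  set α := (Abelianization.of : ↥H →* Abelianization ↥H) with hα
  have hker : α.ker = commutator ↥H := Abelianization.ker_of _
  have hcomm : ∀ x y : ↥H, α (x * y * x⁻¹) = α y := fun x y => by
    rw [map_mul, map_mul, map_inv, mul_comm (α x), mul_inv_cancel_right]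
  obtain ⟨x, y, w, a, b, c, hx, hy, hw, ha, hb, hc, -, -, -, -, -, -, he⟩ := exists_seven h hp h22 hd
  have hs : ∀ u, ∀ hu : u ∈ FischerTypes.perp D d, α ⟨u, mem_perp_closure hu⟩ = α ⟨x, mem_perp_closure hx⟩ := by
    intro u hu
    obtain ⟨g, hg, hgu⟩ := M.exists_conj hx hu
    rw [← hcomm ⟨g, hg⟩ ⟨x, mem_perp_closure hx⟩]
    congr 1
    exact Subtype.ext hgu.symm
  have hd1 : (⟨d, hdH⟩ : ↥H) ∈ commutator ↥H := by
    have he' : (⟨d, hdH⟩ : ↥H) * (⟨x, mem_perp_closure hx⟩ * ⟨y, mem_perp_closure hy⟩ *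
        ⟨w, mem_perp_closure hw⟩) = ⟨a, mem_perp_closure ha⟩ * ⟨b, mem_perp_closure hb⟩ *
        ⟨c, mem_perp_closure hc⟩ := Subtype.ext he
    have h7 := congrArg α he'
    simp only [map_mul, hs _ hy, hs _ hw, hs _ ha, hs _ hb, hs _ hc] at h7
    rw [← hker, MonoidHom.mem_ker]
    exact mul_eq_right.1 h7
  have hle : Subgroup.center ↥H ≤ commutator ↥H := by
    intro z hz
    rcases (center_closure_perp h hp h22 hd z.2).1 (mem_center_closure_iff.1 hz) with h1 | h1
    · rw [show z = 1 from Subtype.ext h1]; exact one_mem _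
    · rw [show z = ⟨d, hdH⟩ from Subtype.ext h1]; exact hd1
  have htop : (commutator ↥H).map (QuotientGroup.mk' (Subgroup.center ↥H)) = ⊤ := by
    haveI : ((commutator ↥H).map (QuotientGroup.mk' (Subgroup.center ↥H))).Normal :=
      Subgroup.Normal.map inferInstance _ (QuotientGroup.mk'_surjective _)
    rcases Subgroup.Normal.eq_bot_or_eq_top (inferInstance :
      ((commutator ↥H).map (QuotientGroup.mk' (Subgroup.center ↥H))).Normal) with h0 | h0
    · exfalso
      have hab : ∀ p q : PerpQuot D d, p * q = q * p := by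
        intro p q
        obtain ⟨u, rfl⟩ := QuotientGroup.mk'_surjective _ p
        obtain ⟨v, rfl⟩ := QuotientGroup.mk'_surjective _ q
        have h1 : QuotientGroup.mk' (Subgroup.center ↥H) (@Bracket.bracket ↥H ↥H commutatorElement u v) ∈
            (commutator ↥H).map (QuotientGroup.mk' (Subgroup.center ↥H)) :=
          Subgroup.mem_map_of_mem _ (Subgroup.commutator_mem_commutator (Subgroup.mem_top u)
            (Subgroup.mem_top v))
        rw [h0, Subgroup.mem_bot] at h1
        have h2 : QuotientGroup.mk' (Subgroup.center ↥H) u * QuotientGroup.mk' (Subgroup.center ↥H) v *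
            (QuotientGroup.mk' (Subgroup.center ↥H) u)⁻¹ * (QuotientGroup.mk' (Subgroup.center ↥H) v)⁻¹ = 1 := h1
        exact mul_inv_eq_iff_eq_mul.1 (mul_inv_eq_one.1 h2)
      have hctop : Subgroup.center (PerpQuot D d) = ⊤ :=
        Subgroup.eq_top_iff' _ |>.2 fun p => Subgroup.mem_center_iff.2 fun q => hab q p
      exact bot_ne_top (hZ.symm.trans hctop)
    · exact h0
  refine Group.isPerfect_def.2 ?_
  rw [eq_top_iff]
  intro u _
  obtain ⟨v, hv, hvu⟩ := htop ▸ Subgroup.mem_top (QuotientGroup.mk' (Subgroup.center ↥H) u)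
  rw [QuotientGroup.mk'_apply, QuotientGroup.mk'_apply, QuotientGroup.eq] at hvu
  simpa using mul_mem hv (hle hvu)

/-- Every set of pairwise commuting members has at most 22 of them, and some has exactly 22. -/
theorem commutingWidth_eq : commutingWidth D = 22 := by
  have hmax : ∀ E : Set G, E ⊆ D → (∀ a ∈ E, ∀ b ∈ E, Commute a b) →
      ∃ M, E ⊆ M ∧ IsMaxClique D M := by
    intro E hE hEc
    obtain ⟨M, hEM, hM⟩ := (Set.toFinite {M : Set G | M ⊆ D ∧ ∀ a ∈ M, ∀ b ∈ M, Commute a b}).exists_le_maximal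
      (show E ∈ {M : Set G | M ⊆ D ∧ ∀ a ∈ M, ∀ b ∈ M, Commute a b} from ⟨hE, hEc⟩)
    refine ⟨M, hEM, hM.1.1, hM.1.2, fun y hy hym => ?_⟩
    refine hM.2 (y := insert y M) ⟨Set.insert_subset hy hM.1.1, ?_⟩ (Set.subset_insert y M)
      (Set.mem_insert y M)
    rintro a (rfl | ha) b (rfl | hb)
    exacts [Commute.refl _, hym b hb, (hym a ha).symm, hM.1.2 a ha b hb]
  obtain ⟨d, hd, -⟩ := hp.2.1
  refine le_antisymm (csSup_le' ?_) (le_csSup ?_ ?_)
  · rintro n ⟨E, hE, -, hEc, rfl⟩
    rcases E.eq_empty_or_nonempty with rfl | ⟨m, hm⟩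
    · simp
    obtain ⟨M, hEM, hM⟩ := hmax E hE hEc
    exact (Set.ncard_le_ncard hEM (Set.toFinite _)).trans_eq (ncard_clique h h22 hM (hEM hm)).2
  · exact ⟨Nat.card G, by
      rintro n ⟨E, -, -, -, rfl⟩
      exact Set.ncard_le_card E⟩
  · obtain ⟨M, hdM, hM⟩ := hmax {d} (Set.singleton_subset_iff.2 hd) (by
      rintro a rfl b rfl; exact Commute.refl _)
    exact ⟨M, hM.sub, Set.toFinite M, hM.comm, (ncard_clique h h22 hM (hdM rfl)).2⟩

end CfsgLib.Transpositions.TypeM22
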