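import Cfsg.Agent.FischerTypes.M22Triples
import Cfsg.Agent.Transpositions.Simplicity

/-!
# One step in the chain of Fischer types

Consequences of knowing `⟨D_d⟩`, its centre, and its quotient by the centre.
-/

set_option autoImplicit false

namespace CfsgLib.Transpositions.TypeStep

open Cfsg CfsgLib.FischerTypes

variable {G : Type*} [Group G] [Finite G] {D : Set G}

/-- Orbit and stabiliser for a member. -/
theorem card_group (h : IsThreeTranspositionGroup D) (hp : IsPrimitiveUnderConj D) {d : G} (hd : d ∈ D) :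
    Nat.card G = D.ncard * Nat.card (Subgroup.centralizer ({d} : Set G)) := by
  rw [← Subgroup.card_top (G := G)]
  refine card_eq_ncard_mul_card le_top (fun g => g * d * g⁻¹) (fun g _ => h.2.1 g d hd) ?_ ?_
  · intro z hz
    obtain ⟨g, hg⟩ := hp.1 d hd z hz
    exact ⟨g, Subgroup.mem_top g, hg⟩
  · intro g _ g' _
    rw [conj_eq_conj_iff, Subgroup.mem_centralizer_singleton_iff]
    rfl

/-- Orbit and stabiliser for the members not commuting with a given one. -/
theorem card_centralizer_pair (h : IsThreeTranspositionGroup D)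
    (htr : ∀ {d y d' y' : G}, d ∈ D → y ∈ D → ¬ Commute d y → d' ∈ D → y' ∈ D → ¬ Commute d' y' →
      ∃ g : G, g * d * g⁻¹ = d' ∧ g * y * g⁻¹ = y')
    {d y : G} (hd : d ∈ D) (hy : y ∈ D) (hdy : ¬ Commute d y) :
    Nat.card (Subgroup.centralizer ({d} : Set G)) =
      {z : G | z ∈ D ∧ ¬ Commute d z}.ncard * Nat.card (Subgroup.centralizer ({d, y} : Set G)) := by
  refine card_eq_ncard_mul_card (Subgroup.centralizer_le (by simp)) (fun g => g * y * g⁻¹) ?_ ?_ ?_
  · intro g hg
    have hgd : Commute g d := Subgroup.mem_centralizer_singleton_iff.1 hg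
    refine ⟨h.2.1 g y hy, fun hc => hdy ?_⟩
    rw [← commute_conj_iff' g, hgd.eq, mul_inv_cancel_right]
    exact hc
  · rintro z ⟨hz, hdz⟩
    obtain ⟨g, g1, g2⟩ := htr hd hy hdy hd hz hdz
    exact ⟨g, Subgroup.mem_centralizer_singleton_iff.2 (mul_inv_eq_iff_eq_mul.1 g1), g2⟩
  · intro g hg g' hg'
    rw [conj_eq_conj_iff, Subgroup.mem_centralizer_iff]
    constructor
    · rintro hc x (rfl | rfl)
      · exact ((show Commute g⁻¹ x from (show Commute g x from
          Subgroup.mem_centralizer_singleton_iff.1 hg).inv_left).mul_left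
            (Subgroup.mem_centralizer_singleton_iff.1 hg')).eq.symm
      · exact hc.eq.symm
    · exact fun h0 => (h0 y (by simp)).symm

omit [Finite G] in
/-- The number of members, split by a member. -/
theorem ncard_split [Finite G] {d : G} (hd : d ∈ D) :
    D.ncard = (FischerTypes.perp D d).ncard + 1 + {z : G | z ∈ D ∧ ¬ Commute d z}.ncard := by
  have hsplit : D = insert d (FischerTypes.perp D d) ∪ {z | z ∈ D ∧ ¬ Commute d z} := by
    ext z
    constructor
    · intro hz
      by_cases hzd : z = d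
      · exact Or.inl (Or.inl hzd)
      by_cases hc : Commute d z
      · exact Or.inl (Or.inr ⟨hz, hzd, hc⟩)
      · exact Or.inr ⟨hz, hc⟩
    · rintro ((rfl | hz) | hz)
      exacts [hd, hz.1, hz.1]
  conv_lhs => rw [hsplit]
  rw [Set.ncard_union_eq ?_ (Set.toFinite _) (Set.toFinite _),
    Set.ncard_insert_of_notMem (fun h0 => h0.2.1 rfl)]
  refine Set.disjoint_left.2 ?_
  rintro z (rfl | hz) hz'
  · exact hz'.2 (Commute.refl _)
  · exact hz'.2 hz.2.2

/-- The centre of `⟨D_d⟩`. -/
theorem center_closure (h : IsThreeTranspositionGroup D) {d : G} (hd : d ∈ D)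
    (hone : ∀ {w : G}, Commute w d → (∀ y ∈ FischerTypes.perp D d, Commute w y) → w = 1 ∨ w = d) :
    Subgroup.center ↥(Subgroup.closure (FischerTypes.perp D d)) =
      (Subgroup.zpowers d).subgroupOf (Subgroup.closure (FischerTypes.perp D d)) := by
  ext z
  refine mem_center_closure_iff.trans ?_
  rw [Subgroup.mem_subgroupOf]
  constructor
  · intro hz
    rcases hone (Subgroup.mem_centralizer_singleton_iff.1 (closure_le_centralizer d z.2)) hz with h0 | h0 <;>
      rw [h0]
    exacts [one_mem _, Subgroup.mem_zpowers d]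
  · intro hz y hy
    obtain ⟨k, hk⟩ := Subgroup.mem_zpowers_iff.1 hz
    rw [← hk]
    exact hy.2.2.zpow_left k

/-- The order of `⟨D_d⟩`. -/
theorem card_closure (h : IsThreeTranspositionGroup D) {d : G} (hd : d ∈ D)
    (hone : ∀ {w : G}, Commute w d → (∀ y ∈ FischerTypes.perp D d, Commute w y) → w = 1 ∨ w = d)
    (hmem : d ∈ Subgroup.closure (FischerTypes.perp D d)) :
    Nat.card ↥(Subgroup.closure (FischerTypes.perp D d)) = 2 * Nat.card (PerpQuot D d) := by
  rw [Subgroup.card_eq_card_quotient_mul_card_subgroup (Subgroup.center ↥(Subgroup.closure (FischerTypes.perp D d))),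
    mul_comm]
  congr 1
  rw [center_closure h hd hone,
    Nat.card_congr (Subgroup.subgroupOfEquivOfLe (Subgroup.zpowers_le.2 hmem)).toEquiv,
    Nat.card_zpowers, h.1.1 d hd]

/-- `⟨D_d⟩` is quasisimple. -/
theorem isQuasisimple_closure {d : G}
    (hsimple : IsSimpleGroup (PerpQuot D d)) (hZ : Subgroup.center (PerpQuot D d) = ⊥)
    (hone : ∀ {w : G}, Commute w d → (∀ y ∈ FischerTypes.perp D d, Commute w y) → w = 1 ∨ w = d)
    (hmem : d ∈ Subgroup.closure (FischerTypes.perp D d))
    (hd1 : (⟨d, hmem⟩ : ↥(Subgroup.closure (FischerTypes.perp D d))) ∈ commutator ↥(Subgroup.closure (FischerTypes.perp D d))) :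
    IsQuasisimple ↥(Subgroup.closure (FischerTypes.perp D d)) := by
  haveI : IsSimpleGroup (↥(Subgroup.closure (FischerTypes.perp D d)) ⧸
      Subgroup.center ↥(Subgroup.closure (FischerTypes.perp D d))) := hsimple
  refine ⟨?_, hsimple⟩
  set π := QuotientGroup.mk' (Subgroup.center ↥(Subgroup.closure (FischerTypes.perp D d))) with hπ
  have htop : (commutator ↥(Subgroup.closure (FischerTypes.perp D d))).map π = ⊤ := by
    haveI : ((commutator ↥(Subgroup.closure (FischerTypes.perp D d))).map π).Normal :=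
      Subgroup.Normal.map inferInstance _ (QuotientGroup.mk'_surjective _)
    rcases Subgroup.Normal.eq_bot_or_eq_top (inferInstance :
      ((commutator ↥(Subgroup.closure (FischerTypes.perp D d))).map π).Normal) with h0 | h0
    · exfalso
      have hctop : Subgroup.center (PerpQuot D d) = ⊤ := by
        refine (Subgroup.eq_top_iff' _).2 fun p => Subgroup.mem_center_iff.2 fun q => ?_
        obtain ⟨u, rfl⟩ := QuotientGroup.mk'_surjective _ p
        obtain ⟨v, rfl⟩ := QuotientGroup.mk'_surjective _ q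
        have h1 : π (v * u * v⁻¹ * u⁻¹) ∈ (commutator ↥(Subgroup.closure (FischerTypes.perp D d))).map π :=
          Subgroup.mem_map_of_mem _ (by
            rw [← commutatorElement_def]
            exact Subgroup.commutator_mem_commutator (Subgroup.mem_top v) (Subgroup.mem_top u))
        rw [h0, Subgroup.mem_bot] at h1
        have h2 : π v * π u * (π v)⁻¹ * (π u)⁻¹ = 1 := h1
        exact mul_inv_eq_iff_eq_mul.1 (mul_inv_eq_one.1 h2)
      exact bot_ne_top (hZ.symm.trans hctop)
    · exact h0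
  have hle : Subgroup.center ↥(Subgroup.closure (FischerTypes.perp D d)) ≤
      commutator ↥(Subgroup.closure (FischerTypes.perp D d)) := by
    intro z hz
    rcases hone (Subgroup.mem_centralizer_singleton_iff.1 (closure_le_centralizer d z.2))
      (mem_center_closure_iff.1 hz) with h1 | h1
    · rw [show z = 1 from Subtype.ext h1]; exact one_mem _
    · rw [show z = ⟨d, hmem⟩ from Subtype.ext h1]; exact hd1
  refine Group.isPerfect_def.2 ?_
  rw [eq_top_iff]
  intro u _
  obtain ⟨v, hv, hvu⟩ := htop ▸ Subgroup.mem_top (π u)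
  rw [hπ, QuotientGroup.mk'_apply, QuotientGroup.mk'_apply, QuotientGroup.eq] at hvu
  simpa using mul_mem hv (hle hvu)

/-- The width grows by one at each step. -/
theorem commutingWidth_succ (h : IsThreeTranspositionGroup D) (hne : D.Nonempty) {w : ℕ}
    (hinj : ∀ {d : G}, d ∈ D → ∀ {x y : G} (hx : x ∈ FischerTypes.perp D d) (hy : y ∈ FischerTypes.perp D d), bar hx = bar hy → x = y)
    (himg : ∀ {d : G}, d ∈ D → ∀ {x : G} (hx : x ∈ FischerTypes.perp D d), bar hx ∈ img D d)
    (hw : ∀ {d : G}, d ∈ D → commutingWidth (img D d) = w) : commutingWidth D = w + 1 := by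
  have hbdd : ∀ {K : Type _} [Group K] [Finite K] (S : Set K),
      BddAbove {n : ℕ | ∃ E : Set K, E ⊆ S ∧ E.Finite ∧ (∀ a ∈ E, ∀ b ∈ E, Commute a b) ∧ E.ncard = n} :=
    fun {K} _ _ S => ⟨Nat.card K, by
      rintro n ⟨E, -, -, -, rfl⟩
      exact Set.ncard_le_card E⟩
  refine le_antisymm (csSup_le' ?_) (le_csSup (hbdd D) ?_)
  · rintro n ⟨E, hE, -, hEc, rfl⟩
    rcases E.eq_empty_or_nonempty with rfl | ⟨m, hm⟩
    · simp
    have hmD := hE hm
    have hsub : E \ {m} ⊆ FischerTypes.perp D m := fun x hx => ⟨hE hx.1, hx.2, hEc m hm x hx.1⟩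
    set T : Set (PerpQuot D m) := {p | ∃ x, ∃ hx : x ∈ E \ {m}, bar (hsub hx) = p} with hT
    have hcard : T.ncard = (E \ {m}).ncard := by
      symm
      refine Set.ncard_congr (fun x hx => bar (hsub hx)) (fun x hx => ⟨x, hx, rfl⟩)
        (fun x y hx hy he => hinj hmD (hsub hx) (hsub hy) he) ?_
      rintro p ⟨x, hx, rfl⟩
      exact ⟨x, hx, rfl⟩
    have hle : T.ncard ≤ w := by
      rw [← hw hmD]
      refine le_csSup (hbdd (img D m)) ⟨T, ?_, Set.toFinite T, ?_, rfl⟩
      · rintro p ⟨x, hx, rfl⟩; exact himg hmD (hsub hx)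
      · rintro p ⟨x, hx, rfl⟩ q ⟨y, hy, rfl⟩
        exact (commute_mk_iff h (x := ⟨x, mem_perp_closure (hsub hx)⟩)
          (y := ⟨y, mem_perp_closure (hsub hy)⟩) (hsub hx) (hsub hy)).2 (hEc x hx.1 y hy.1)
    have h1 := Set.ncard_sdiff_singleton_add_one hm (Set.toFinite E)
    omega
  · obtain ⟨d, hd⟩ := hne
    obtain ⟨T, hT, -, hTc, hTn⟩ : w ∈ {n : ℕ | ∃ E : Set (PerpQuot D d), E ⊆ img D d ∧ E.Finite ∧
        (∀ a ∈ E, ∀ b ∈ E, Commute a b) ∧ E.ncard = n} := by
      rw [← hw hd]
      exact Nat.sSup_mem ⟨0, ∅, Set.empty_subset _, Set.finite_empty, by simp, Set.ncard_empty _⟩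
        (hbdd (img D d))
    set S : Set G := {x | ∃ hx : x ∈ FischerTypes.perp D d, bar hx ∈ T} with hS
    have hSn : S.ncard = w := by
      rw [← hTn]
      refine Set.ncard_congr (fun x hx => bar hx.1) (fun x hx => hx.2)
        (fun x y hx hy he => hinj hd hx.1 hy.1 he) ?_
      intro p hp
      obtain ⟨⟨⟨x, hx'⟩, hx, he⟩, -⟩ := hT hp
      exact ⟨x, ⟨hx, show bar hx ∈ T from (he.symm ▸ hp :)⟩, he⟩
    refine ⟨insert d S, Set.insert_subset hd fun x hx => hx.1.1, Set.toFinite _, ?_, ?_⟩
    · rintro a (rfl | ha) b (rfl | hb)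
      · exact Commute.refl _
      · exact hb.1.2.2
      · exact ha.1.2.2.symm
      · exact (commute_mk_iff h (x := ⟨a, mem_perp_closure ha.1⟩) (y := ⟨b, mem_perp_closure hb.1⟩)
          ha.1 hb.1).1 (hTc _ ha.2 _ hb.2)
    · rw [Set.ncard_insert_of_notMem (fun h0 => h0.1.2.1 rfl), hSn]

end CfsgLib.Transpositions.TypeStep
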