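import Cfsg.Agent.FischerTypes.M23Mu
import Cfsg.Agent.FischerTypes.M23Centralizer
import Cfsg.Agent.FischerTypes.M23Pair
import Cfsg.Agent.Transpositions.TypeM22Structure
import Cfsg.Agent.Transpositions.ReflectionSeven
import Cfsg.Agent.Transpositions.TypeStep

/-!
# Groups of type M(23): parameters, order, simplicity

The joint centralizer of two non-commuting members involves the projective reflection group of
dimension seven, which forces 351 common neighbours.
-/

set_option autoImplicit false

namespace CfsgLib.Transpositions.TypeM23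

open Cfsg CfsgLib.FischerTypes

variable {G : Type*} [Group G] [Finite G] {D : Set G} (H : M23.Hyp G D)

include H

/-- The order of the centralizer of a member. -/
theorem card_centralizer {d : G} (hd : d ∈ D) :
    Nat.card (Subgroup.centralizer ({d} : Set G)) = 129123503308800 := by
  rw [M23.centralizer_eq H.group H hd,
    TypeStep.card_closure H.group hd (fun hw h1 => M23.eq_one_or_eq_of_centralize H hd hw h1)
      (M23.mem_closure_perp_self H hd),
    FischerTypes.card_group (M23.quotGroup H.group d) (M23.quotPrim H hd) (M23.quot22 H hd)]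

/-- Two non-commuting members have 351 common neighbours, and a member has 28160 non-neighbours. -/
theorem mu_props {d y : G} (hd : d ∈ D) (hy : y ∈ D) (hdy : ¬ Commute d y) :
    (FischerTypes.perp D d ∩ FischerTypes.perp D y).ncard = 351 ∧ D.ncard = 31671 ∧
      Nat.card (Subgroup.centralizer ({d, y} : Set G)) = 4585351680 := by
  obtain ⟨hb1, hb2⟩ := M23.bounds_common H hd hy hdy
  obtain ⟨hcount, hle⟩ := M23.card_eq H hd hy hdy
  have hs := TypeStep.card_centralizer_pair H.group (M23.exists_conj_noncommute H) hd hy hdy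
  have hsplit := TypeStep.ncard_split (D := D) hd
  rw [M23.ncard_perp H hd] at hsplit
  rw [card_centralizer H hd] at hs
  -- the reflection group
  obtain ⟨-, d₀, hd₀, c₀, hc₀, hdc₀, -, c₃, hc₃, hL⟩ := id H.type
  obtain ⟨g, g1, g2⟩ := M23.exists_conj_noncommute H hd₀ hc₀ hdc₀ hd hy hdy
  have hdvd : 3 ^ 9 * 13 ∣ Nat.card (Subgroup.centralizer ({d, y} : Set G)) := by
    refine ((dvd_card_projReflection_seven (neg_ne_zero.2 hc₃) hc₃ hL).trans
      (Subgroup.card_quotient_dvd_card _)).trans ?_
    refine (Subgroup.card_dvd_of_le (K := Subgroup.centralizer ({d₀, c₀} : Set G)) ?_).trans (dvd_of_eq ?_)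
    · rw [Subgroup.closure_le]
      intro x hx
      rw [SetLike.mem_coe, Subgroup.mem_centralizer_iff]
      rintro z (rfl | rfl)
      exacts [hx.1.2.2.eq, hx.2.2.2.eq]
    · have hmap : (Subgroup.centralizer ({d₀, c₀} : Set G)).map (MulAut.conj g).toMonoidHom =
          Subgroup.centralizer ({d, y} : Set G) := by
        ext x
        simp only [Subgroup.mem_map, Subgroup.mem_centralizer_iff, MulEquiv.coe_toMonoidHom, MulAut.conj_apply,
          Set.mem_insert_iff, Set.mem_singleton_iff, forall_eq_or_imp, forall_eq]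
        constructor
        · rintro ⟨z, ⟨z1, z2⟩, rfl⟩
          exact ⟨g1 ▸ ((commute_conj_iff' g d₀ z).2 z1).eq, g2 ▸ ((commute_conj_iff' g c₀ z).2 z2).eq⟩
        · rintro ⟨x1, x2⟩
          refine ⟨g⁻¹ * x * g, ⟨?_, ?_⟩, by group⟩
          · refine ((commute_conj_iff' g d₀ _).1 ?_).eq
            rw [g1, show g * (g⁻¹ * x * g) * g⁻¹ = x by group]
            exact x1
          · refine ((commute_conj_iff' g c₀ _).1 ?_).eq
            rw [g2, show g * (g⁻¹ * x * g) * g⁻¹ = x by group]
            exact x2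
      rw [← hmap]
      exact Nat.card_congr (Subgroup.equivMapOfInjective _ _ (MulAut.conj g).injective).toEquiv
  set n := {z : G | z ∈ D ∧ ¬ Commute d z}.ncard with hn
  set m := (FischerTypes.perp D d ∩ FischerTypes.perp D y).ncard with hm
  set s := Nat.card (Subgroup.centralizer ({d, y} : Set G)) with hs'
  rw [hsplit, show 3510 + 1 + n - 3511 = n by omega] at hcount
  have hsm : s = 13063680 * m := by
    have h1 : 129123503308800 * m = 3510 * 2816 * s := by rw [hs, ← hcount]; ring
    omega
  rw [hsm] at hdvd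
  obtain ⟨t, ht⟩ := hdvd
  have hm351 : m = 351 := by omega
  rw [hm351] at hcount hsm
  exact ⟨hm351, by omega, by omega⟩

/-- The number of members. -/
theorem ncard_D : D.ncard = 31671 := by
  obtain ⟨-, d, hd, c, hc, hdc, -⟩ := id H.type
  exact (mu_props H hd hc hdc).2.1

/-- The order of the group. -/
theorem card_group : Nat.card G = 4089470473293004800 := by
  obtain ⟨d, hd, -⟩ := H.prim.2.1
  rw [TypeStep.card_group H.group H.prim hd, ncard_D H, card_centralizer H hd]

/-- A member lies in the derived group. -/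
theorem commutator_eq_top : commutator G = ⊤ := by
  obtain ⟨l, -, hlen, hl, -, hprod⟩ := M23.exists_seven H
  rw [eq_top_iff, ← H.group.2.2, Subgroup.closure_le]
  intro d hd
  have hs : ∀ u ∈ D, Abelianization.of u = Abelianization.of d := fun u hu => by
    obtain ⟨g, rfl⟩ := H.prim.1 d hd u hu
    rw [map_mul, map_mul, map_inv, mul_comm (Abelianization.of g), mul_inv_cancel_right]
  have h7 := congrArg Abelianization.of hprod
  rw [map_list_prod, map_one, List.prod_eq_pow_card _ (Abelianization.of d) (by
    intro x hx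
    obtain ⟨u, hu, rfl⟩ := List.mem_map.1 hx
    exact hs u (hl u hu)), List.length_map, hlen] at h7
  rw [SetLike.mem_coe, ← Abelianization.ker_of, MonoidHom.mem_ker]
  have h2 : Abelianization.of d * Abelianization.of d = 1 := by rw [← map_mul, sq H.group.1 hd, map_one]
  calc Abelianization.of d
      = Abelianization.of d * (Abelianization.of d * Abelianization.of d) ^ 3 := by rw [h2, one_pow, mul_one]
    _ = Abelianization.of d ^ 7 := by rw [← _root_.pow_two, ← pow_mul, ← pow_succ']
    _ = 1 := h7

/-- A group of type M(23) is simple. -/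
theorem isSimpleGroup : IsSimpleGroup G := by
  obtain ⟨d, hd, -⟩ := H.prim.2.1
  obtain ⟨e, he⟩ : (FischerTypes.perp D d).Nonempty := Set.nonempty_of_ncard_ne_zero (by rw [M23.ncard_perp H hd]; norm_num)
  have hs := isSimpleGroup_commutator_of_primitive H.group H.prim
    ⟨d, hd, e, he.1, fun hh => he.2.1 hh.symm, he.2.2⟩ H.type.1
  rw [commutator_eq_top H] at hs
  haveI := hs
  haveI : Nontrivial G := ⟨⟨d, 1, ne_one H.group.1 hd⟩⟩
  exact IsSimpleGroup.isSimpleGroup_of_surjective (Subgroup.topEquiv (G := G)).toMonoidHom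
    (Subgroup.topEquiv (G := G)).surjective

/-- `⟨D_d⟩` is quasisimple. -/
theorem isQuasisimple_closure {d : G} (hd : d ∈ D) : IsQuasisimple ↥(Subgroup.closure (FischerTypes.perp D d)) := by
  have h22 := M23.quot22 H hd
  refine TypeStep.isQuasisimple_closure (TypeM22.isSimpleGroup (M23.quotGroup H.group d) (M23.quotPrim H hd) h22)
    h22.1 (fun hw h1 => M23.eq_one_or_eq_of_centralize H hd hw h1) (M23.mem_closure_perp_self H hd) ?_
  obtain ⟨x, hx⟩ : (FischerTypes.perp D d).Nonempty := Set.nonempty_of_ncard_ne_zero (by rw [M23.ncard_perp H hd]; norm_num)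
  obtain ⟨e, f, g, a, b, c, hmem, he⟩ := M23.exists_six_common H hd hx
  set α := (Abelianization.of : ↥(Subgroup.closure (FischerTypes.perp D d)) →* _) with hα
  have hs : ∀ u, ∀ hu : u ∈ FischerTypes.perp D d, α ⟨u, mem_perp_closure hu⟩ = α ⟨x, mem_perp_closure hx⟩ := by
    intro u hu
    obtain ⟨k, hk, hku⟩ := M23.exists_conj H hd hx hu
    have e1 : (⟨u, mem_perp_closure hu⟩ : ↥(Subgroup.closure (FischerTypes.perp D d))) =
        ⟨k, hk⟩ * ⟨x, mem_perp_closure hx⟩ * (⟨k, hk⟩ : ↥(Subgroup.closure (FischerTypes.perp D d)))⁻¹ := Subtype.ext hku.symm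
    rw [e1, map_mul, map_mul, map_inv, mul_comm (α ⟨k, hk⟩), mul_inv_cancel_right]
  have p : ∀ u ∈ [e, f, g, a, b, c], u ∈ FischerTypes.perp D d := fun u hu => (hmem u hu).1
  have he' : (⟨e, mem_perp_closure (p e (by simp))⟩ * ⟨f, mem_perp_closure (p f (by simp))⟩ *
      ⟨g, mem_perp_closure (p g (by simp))⟩ * ⟨c, mem_perp_closure (p c (by simp))⟩ *
      ⟨b, mem_perp_closure (p b (by simp))⟩ * ⟨a, mem_perp_closure (p a (by simp))⟩ :
        ↥(Subgroup.closure (FischerTypes.perp D d))) = ⟨d, M23.mem_closure_perp_self H hd⟩ := Subtype.ext he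
  rw [← Abelianization.ker_of, MonoidHom.mem_ker, ← he']
  simp only [map_mul, ← hα]
  rw [hs e (p e (by simp)), hs f (p f (by simp)), hs g (p g (by simp)), hs c (p c (by simp)), hs b (p b (by simp)),
    hs a (p a (by simp))]
  have h2 : α ⟨x, mem_perp_closure hx⟩ * α ⟨x, mem_perp_closure hx⟩ = 1 := by
    rw [← map_mul, ← map_one α]
    exact congrArg α (Subtype.ext (sq H.group.1 hx.1))
  simp [mul_assoc, h2]

/-- The width. -/
theorem commutingWidth_eq : commutingWidth D = 23 := by
  obtain ⟨d, hd, -⟩ := H.prim.2.1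
  exact TypeStep.commutingWidth_succ H.group ⟨d, hd⟩ (fun hd' _ _ hx hy he => M23.bar_inj H hd' hx hy he)
    (fun hd' _ hx => M23.bar_mem H hd' hx)
    (fun hd' => TypeM22.commutingWidth_eq (M23.quotGroup H.group _) (M23.quotPrim H hd') (M23.quot22 H hd'))

end CfsgLib.Transpositions.TypeM23
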