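import Cfsg.Agent.Transpositions.Basic
import Mathlib.GroupTheory.Sylow
import Mathlib.GroupTheory.Nilpotent

/-!
# Four-generated sets of pairwise braiding involutions

If `a, b, c, d` are involutions in a conjugation closed set in which any two members `x`, `y`
satisfy `x y x = y x y`, then the orbit of `a, b, c, d` is an image of the Hall triple system of
order 81, on which products of two of them act as triangular maps; so `⟨a b, c d⟩` is a 3-group.

The equivariance is established by a coset-enumeration style certificate: every deduction scans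
the relation `y x y x y = x` for two of the points.
-/

set_option autoImplicit false
set_option linter.unusedSectionVars false

namespace CfsgLib.Transpositions

/-- The 81 points, as words: `(u, i)` stands for the conjugate of the `i`-th generator by `u`. -/
def htsPoints : List (List (Fin 4) × Fin 4) := [
  ([], 0), ([], 1), ([1], 0), ([], 2), ([0,2], 1), ([1,2], 0), ([2], 0), ([2,1], 0), ([2], 1),
  ([], 3), ([0,3], 1), ([1,3], 0), ([0,3], 2), ([1,2,1,3], 0), ([0,3,1,2], 0), ([2,3], 0),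
  ([0,3,2,1], 0), ([0,3,2], 1), ([3], 0), ([3,1], 0), ([3], 1), ([3,2], 0), ([3,2], 1),
  ([3,2,1], 0), ([3], 2), ([3,1,2], 0), ([3,0,2], 1), ([2,3,1,2,3,1], 0), ([3,2,0,3,2,1], 0),
  ([3,2,1,3,2], 0), ([0,3,1,2,3,1], 0), ([3,2,0,3], 1), ([3,0,1,3], 2), ([1,3,2,1,3], 0),
  ([3,1,2,3], 0), ([3,0,2,3,1], 0), ([1,2,0,3,2,1], 0), ([2,1,0,3], 2), ([2,3,1,2], 0),
  ([1,3,0,2], 1), ([1,3,1,2], 0), ([1,3], 2), ([1,0,2,3], 1), ([0,1,2,3], 0), ([2,3,1], 0),
  ([2,1,3,2,1], 0), ([2,0,3,2], 1), ([2,0,1,2,3], 0), ([1,2,3,1], 0), ([0,1,3,2], 0),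
  ([0,2,3], 1), ([1,0,3,1,2], 0), ([2,1,3], 0), ([1,0,3], 2), ([3,2,1,3,2,1], 0),
  ([2,3,0,2,3,1], 0), ([2,3,1,2,3], 0), ([1,3,0,2,3,1], 0), ([3,1,0,3], 2), ([3,2,1,3], 0),
  ([3,1,2,3,1], 0), ([3,0,2,3], 1), ([3,0,1,3,2], 0), ([0,2,1,3,2,1], 0), ([2,3,0,2], 1),
  ([2,0,1,3], 2), ([1,2,0,3], 1), ([2,3,2,1], 0), ([0,2,1,3], 0), ([1,3,2,1], 0), ([2,3], 1),
  ([1,3,2], 0), ([1,2,3,1,2], 0), ([2,1,3,2], 0), ([2,0,3,2,1], 0), ([1,0,3,2], 1),
  ([0,2,3,1], 0), ([1,2,3], 0), ([1,0,2,1,3], 0), ([0,1,3], 2), ([2,0,3], 1)]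

/-- The edges of the spanning forest. -/
def htsTree : List (Fin 81 × Fin 4 × Fin 81) := [
  (0, 1, 2), (0, 2, 6), (0, 3, 18), (1, 2, 8), (1, 3, 20), (3, 3, 24), (2, 2, 7), (2, 3, 19),
  (6, 1, 5), (6, 3, 21), (18, 1, 11), (18, 2, 15), (8, 0, 4), (8, 3, 22), (20, 0, 10),
  (20, 2, 70), (24, 0, 12), (24, 1, 41), (7, 3, 23), (19, 2, 44), (5, 3, 25), (21, 1, 71),
  (11, 2, 52), (15, 1, 77), (4, 3, 26), (22, 0, 17), (10, 2, 80), (70, 0, 50), (12, 1, 53),
  (41, 0, 79), (23, 0, 16), (23, 1, 69), (23, 2, 67), (44, 0, 76), (44, 1, 48), (25, 0, 14),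
  (25, 1, 40), (25, 2, 38), (71, 0, 49), (71, 2, 73), (52, 0, 68), (52, 1, 13), (52, 3, 59),
  (77, 0, 43), (77, 3, 34), (26, 1, 39), (26, 2, 64), (17, 1, 75), (17, 2, 46), (80, 1, 66),
  (80, 3, 31), (50, 1, 42), (50, 3, 61), (53, 2, 37), (53, 3, 58), (79, 2, 65), (79, 3, 32),
  (16, 2, 74), (69, 2, 45), (76, 3, 35), (48, 3, 60), (14, 1, 51), (38, 1, 72), (49, 3, 62),
  (73, 3, 29), (68, 1, 78), (59, 1, 33), (43, 2, 47), (34, 2, 56), (74, 1, 36), (74, 3, 28),
  (45, 0, 63), (45, 3, 54), (35, 1, 57), (35, 2, 55), (60, 0, 30), (60, 2, 27)]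

/-- The deductions: `(q, p, k, u, i, v)` deduces the edge `(u, i, v)`, which is the `k`-th edge on
the path from `q` to `p` given by the product of the words of the two points. -/
def htsSteps : List (Fin 81 × Fin 81 × ℕ × Fin 81 × Fin 4 × Fin 81) := [
  (0, 1, 1, 2, 0, 1), (0, 3, 1, 6, 0, 3), (0, 9, 1, 18, 0, 9), (1, 3, 1, 8, 1, 3),
  (1, 9, 1, 20, 1, 9), (3, 9, 1, 24, 2, 9), (0, 8, 2, 5, 2, 4), (0, 20, 2, 11, 3, 10),
  (0, 24, 2, 15, 3, 12), (1, 24, 2, 70, 3, 41), (3, 2, 2, 4, 1, 7), (9, 2, 2, 10, 1, 19),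
  (9, 6, 2, 12, 2, 21), (9, 8, 2, 41, 2, 22), (1, 4, 4, 5, 0, 7), (1, 10, 4, 11, 0, 19),
  (3, 11, 3, 17, 3, 13), (0, 22, 3, 77, 2, 13), (3, 12, 4, 15, 0, 21), (3, 41, 4, 70, 1, 22),
  (9, 7, 3, 79, 1, 67), (0, 41, 3, 44, 3, 67), (1, 12, 4, 67, 0, 53), (9, 5, 3, 50, 2, 40),
  (0, 70, 3, 71, 3, 40), (3, 10, 4, 40, 0, 80), (9, 4, 4, 13, 0, 26), (6, 22, 4, 37, 3, 65),
  (3, 71, 6, 37, 1, 73), (3, 17, 6, 65, 0, 46), (18, 70, 4, 58, 2, 32), (9, 77, 6, 58, 1, 34),
  (9, 50, 6, 32, 0, 61), (9, 53, 5, 59, 0, 34), (9, 80, 6, 59, 2, 31), (9, 52, 5, 61, 1, 31),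
  (0, 40, 7, 42, 3, 66), (1, 44, 6, 66, 2, 48), (1, 17, 6, 42, 0, 75), (0, 13, 7, 75, 2, 39),
  (1, 23, 6, 39, 3, 69), (1, 26, 5, 48, 0, 69), (1, 16, 9, 76, 1, 16), (0, 37, 9, 74, 0, 37),
  (0, 58, 9, 35, 0, 58), (1, 14, 8, 66, 0, 51), (0, 66, 7, 49, 2, 14), (0, 31, 9, 62, 0, 31),
  (1, 38, 8, 42, 2, 72), (1, 49, 9, 43, 1, 49), (0, 23, 6, 14, 3, 16), (0, 25, 4, 68, 2, 76),
  (0, 44, 5, 43, 3, 68), (0, 39, 9, 78, 0, 39), (0, 64, 9, 47, 0, 64), (1, 59, 8, 75, 3, 33),
  (1, 65, 9, 45, 1, 65), (1, 32, 9, 60, 1, 32), (3, 14, 4, 73, 0, 38), (3, 26, 6, 38, 3, 64),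
  (3, 25, 5, 46, 1, 64), (3, 34, 8, 46, 3, 56), (3, 61, 9, 29, 2, 61), (1, 74, 10, 78, 2, 36),
  (1, 35, 10, 51, 3, 57), (1, 29, 11, 54, 1, 29), (1, 56, 11, 27, 1, 56), (3, 35, 10, 47, 3, 55),
  (3, 60, 10, 72, 3, 27), (3, 62, 11, 28, 2, 62), (3, 33, 11, 54, 2, 33), (2, 65, 9, 47, 1, 63),
  (1, 47, 10, 51, 2, 63), (0, 45, 5, 72, 0, 36), (2, 32, 9, 62, 1, 30), (1, 62, 10, 78, 3, 30),
  (0, 60, 5, 33, 0, 57), (6, 61, 10, 55, 0, 29), (0, 29, 5, 56, 0, 28), (6, 54, 13, 30, 2, 57),
  (3, 57, 6, 27, 0, 54), (1, 28, 13, 55, 1, 28), (9, 36, 13, 63, 3, 36)]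

/-- The word whose action is conjugation by the point `(u, i)`. -/
def htsWord (x : List (Fin 4) × Fin 4) : List (Fin 4) := x.1 ++ x.2 :: x.1.reverse

/-- Put a letter in front, cancelling. -/
def htsCons (i : Fin 4) : List (Fin 4) → List (Fin 4)
  | [] => [i]
  | j :: l => if i = j then l else i :: j :: l

/-- Free reduction for involutive letters. -/
def htsReduce : List (Fin 4) → List (Fin 4)
  | [] => []
  | i :: l => htsCons i (htsReduce l)

/-- The word of a point. -/
def htsPoint (p : Fin 81) : List (Fin 4) × Fin 4 := htsPoints.getD p.1 ([], 0)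

/-- A proven edge at `p` labelled `i`, looked up in either direction. -/
def htsLookup (T : List (Fin 81 × Fin 4 × Fin 81)) (p : Fin 81) (i : Fin 4) : Option (Fin 81) :=
  match T with
  | [] => none
  | (u, j, v) :: T =>
    if i = j ∧ p = u then some v else if i = j ∧ p = v then some u else htsLookup T p i

/-- Follow proven edges. -/
def htsWalk (T : List (Fin 81 × Fin 4 × Fin 81)) : List (Fin 4) → Fin 81 → Option (Fin 81)
  | [], p => some p
  | i :: l, p => (htsLookup T p i).bind (htsWalk T l)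

/-- Whether a deduction is valid over the proven edges. -/
def htsValid (T : List (Fin 81 × Fin 4 × Fin 81))
    (st : Fin 81 × Fin 81 × ℕ × Fin 81 × Fin 4 × Fin 81) : Bool :=
  match st with
  | (q, p, k, u, i, v) =>
    let L := htsReduce (htsWord (htsPoint p) ++ htsWord (htsPoint q))
    (L == L.take k ++ i :: L.drop (k + 1)) && (htsWalk T (L.take k) q == some u) &&
      (htsWalk T (L.drop (k + 1)).reverse p == some v)

/-- Whether all deductions are valid. -/
def htsCheck : List (Fin 81 × Fin 81 × ℕ × Fin 81 × Fin 4 × Fin 81) →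
    List (Fin 81 × Fin 4 × Fin 81) → Bool
  | [], _ => true
  | st :: l, T => htsValid T st && htsCheck l (st.2.2.2 :: T)

/-- The initial edges: the forest, and a loop at each generator. -/
def htsInit : List (Fin 81 × Fin 4 × Fin 81) :=
  [(0, 0, 0), (1, 1, 1), (3, 2, 3), (9, 3, 9)] ++ htsTree

def htsTable : List (Fin 81 × Fin 4 × Fin 81) := htsSteps.map (fun st => st.2.2.2) ++ htsInit

theorem htsCheck_steps : htsCheck htsSteps htsInit = true := by
  decide +kernel

/-- The operation of the Hall triple system of order 81. -/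
def htsOp (x y : Fin 4 → ZMod 3) : Fin 4 → ZMod 3 :=
  ![-x 0 - y 0, -x 1 - y 1, -x 2 - y 2,
    -x 3 - y 3 - (x 2 - y 2) * (x 0 * y 1 - x 1 * y 0)]

/-- The four base points. -/
def htsBase : Fin 4 → (Fin 4 → ZMod 3) :=
  ![![0, 0, 0, 0], ![1, 0, 0, 0], ![0, 1, 0, 0], ![0, 0, 1, 0]]

/-- The number of a vector. -/
def htsCode (v : Fin 4 → ZMod 3) : Fin 81 :=
  Fin.ofNat 81 ((v 0).val + 3 * (v 1).val + 9 * (v 2).val + 27 * (v 3).val)

theorem htsTable_spec : ∀ (a b c e : ZMod 3) (i : Fin 4),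
    htsLookup htsTable (htsCode ![a, b, c, e]) i =
      some (htsCode (htsOp (htsBase i) ![a, b, c, e])) := by
  decide +kernel

theorem htsBase_spec : ∀ i : Fin 4, htsPoint (htsCode (htsBase i)) = ([], i) := by
  decide +kernel

/-- Whether an initial edge is a loop at a generator or an edge of the forest. -/
def htsInitEdge (e : Fin 81 × Fin 4 × Fin 81) : Bool :=
  (e.1 == e.2.2 && htsPoint e.1 == ([], e.2.1)) ||
    htsPoint e.2.2 == (e.2.1 :: (htsPoint e.1).1, (htsPoint e.1).2)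

theorem htsInit_check : htsInit.all htsInitEdge = true := by
  decide +kernel

theorem htsInit_spec (e : Fin 81 × Fin 4 × Fin 81) (he : e ∈ htsInit) :
    e.1 = e.2.2 ∧ htsPoint e.1 = ([], e.2.1) ∨
      htsPoint e.2.2 = (e.2.1 :: (htsPoint e.1).1, (htsPoint e.1).2) := by
  simpa [htsInitEdge] using List.all_eq_true.1 htsInit_check e he

variable {G : Type*} [Group G]

/-- Successive conjugation. -/
def htsAct (s : Fin 4 → G) (L : List (Fin 4)) (z : G) : G := L.foldl (fun w i => s i * w * s i) z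

/-- The element named by a point. -/
def htsVal (s : Fin 4 → G) (x : List (Fin 4) × Fin 4) : G :=
  x.1.foldr (fun i w => s i * w * s i) (s x.2)

section Sound

variable {D : Set G} {s : Fin 4 → G}

theorem htsVal_mem (hcl : ∀ x ∈ D, ∀ y ∈ D, x * y * x ∈ D) (hs : ∀ i, s i ∈ D)
    (x : List (Fin 4) × Fin 4) : htsVal s x ∈ D := by
  obtain ⟨u, i⟩ := x
  induction u with
  | nil => exact hs i
  | cons j u ih => exact hcl _ (hs j) _ ih

variable (hs2 : ∀ i, s i * s i = 1)
include hs2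

theorem htsAct_inv (i : Fin 4) (z : G) : s i * (s i * z * s i) * s i = z := by
  simp only [mul_assoc, hs2, mul_one]
  rw [← mul_assoc, hs2, one_mul]

theorem htsAct_cons_cons (i : Fin 4) (L : List (Fin 4)) (z : G) :
    htsAct s (i :: i :: L) z = htsAct s L z := by
  simp only [htsAct, List.foldl_cons, htsAct_inv hs2]

theorem htsAct_htsCons (i : Fin 4) (L : List (Fin 4)) (z : G) :
    htsAct s (htsCons i L) z = htsAct s (i :: L) z := by
  cases L with
  | nil => rfl
  | cons j L =>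
    rw [htsCons]
    split
    · next h => rw [h, htsAct_cons_cons hs2]
    · rfl

theorem htsAct_reduce (L : List (Fin 4)) (z : G) : htsAct s (htsReduce L) z = htsAct s L z := by
  induction L generalizing z with
  | nil => rfl
  | cons i L ih =>
    rw [htsReduce, htsAct_htsCons hs2]
    exact ih _

theorem htsAct_reverse (L : List (Fin 4)) (z : G) :
    htsAct s L.reverse (htsAct s L z) = z := by
  induction L generalizing z with
  | nil => rfl
  | cons i L ih =>
    have := ih (s i * z * s i)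
    simp only [htsAct, List.reverse_cons, List.foldl_append, List.foldl_cons, List.foldl_nil] at *
    rw [this, htsAct_inv hs2]

theorem htsAct_word (x : List (Fin 4) × Fin 4) (z : G) :
    htsAct s (htsWord x) z = htsVal s x * z * htsVal s x := by
  obtain ⟨u, i⟩ := x
  induction u generalizing z with
  | nil => rfl
  | cons j u ih =>
    have h : htsWord (j :: u, i) = j :: (htsWord (u, i) ++ [j]) := by simp [htsWord]
    rw [h]
    simp only [htsAct, List.foldl_cons, List.foldl_append, List.foldl_nil] at *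
    rw [ih]
    simp only [htsVal, List.foldr_cons, mul_assoc]

/-- A sound edge. -/
def HtsSound (s : Fin 4 → G) (e : Fin 81 × Fin 4 × Fin 81) : Prop :=
  s e.2.1 * htsVal s (htsPoint e.1) * s e.2.1 = htsVal s (htsPoint e.2.2)

theorem htsLookup_sound {T : List (Fin 81 × Fin 4 × Fin 81)} (hT : ∀ e ∈ T, HtsSound s e)
    {p q : Fin 81} {i : Fin 4} (h : htsLookup T p i = some q) :
    s i * htsVal s (htsPoint p) * s i = htsVal s (htsPoint q) := by
  induction T with
  | nil => simp [htsLookup] at h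
  | cons e T ih =>
    obtain ⟨u, j, v⟩ := e
    have he : s j * htsVal s (htsPoint u) * s j = htsVal s (htsPoint v) :=
      hT _ (List.mem_cons_self ..)
    rw [htsLookup] at h
    split at h
    · next hc =>
      obtain ⟨rfl, rfl⟩ := hc
      cases h
      exact he
    · split at h
      · next hc =>
        obtain ⟨rfl, rfl⟩ := hc
        cases h
        rw [← he, htsAct_inv hs2]
      · exact ih (fun e he => hT e (List.mem_cons_of_mem _ he)) h

theorem htsWalk_sound {T : List (Fin 81 × Fin 4 × Fin 81)} (hT : ∀ e ∈ T, HtsSound s e)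
    {L : List (Fin 4)} {p q : Fin 81} (h : htsWalk T L p = some q) :
    htsAct s L (htsVal s (htsPoint p)) = htsVal s (htsPoint q) := by
  induction L generalizing p with
  | nil => cases h; rfl
  | cons i L ih =>
    rw [htsWalk, Option.bind_eq_some_iff] at h
    obtain ⟨r, hr, h⟩ := h
    show htsAct s L (s i * htsVal s (htsPoint p) * s i) = _
    rw [htsLookup_sound hs2 hT hr]
    exact ih h

variable (hcl : ∀ x ∈ D, ∀ y ∈ D, x * y * x ∈ D) (hbr : ∀ x ∈ D, ∀ y ∈ D, x * y * x = y * x * y)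
  (hD2 : ∀ x ∈ D, x * x = 1) (hs : ∀ i, s i ∈ D)
include hcl hbr hD2 hs

theorem htsValid_sound {T : List (Fin 81 × Fin 4 × Fin 81)} (hT : ∀ e ∈ T, HtsSound s e)
    {st : Fin 81 × Fin 81 × ℕ × Fin 81 × Fin 4 × Fin 81} (h : htsValid T st = true) :
    HtsSound s st.2.2.2 := by
  obtain ⟨q, p, k, u, i, v⟩ := st
  simp only [htsValid, Bool.and_eq_true, beq_iff_eq] at h
  obtain ⟨⟨hsplit, hu⟩, hv⟩ := h
  set L := htsReduce (htsWord (htsPoint p) ++ htsWord (htsPoint q)) with hL
  have key : htsAct s L (htsVal s (htsPoint q)) = htsVal s (htsPoint p) := by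
    have hp := htsVal_mem hcl hs (htsPoint p)
    have hq := htsVal_mem hcl hs (htsPoint q)
    rw [hL, htsAct_reduce hs2]
    simp only [htsAct, List.foldl_append]
    show htsAct s _ (htsAct s _ _) = _
    rw [htsAct_word hs2, htsAct_word hs2, hbr _ hp _ hq]
    simp only [← mul_assoc, hD2 _ hq, one_mul]
    rw [mul_assoc, hD2 _ hq, mul_one]
  have hu' := htsWalk_sound hs2 hT hu
  have hv' := htsWalk_sound hs2 hT hv
  rw [hsplit] at key
  simp only [htsAct, List.foldl_append, List.foldl_cons] at key hu'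
  rw [hu'] at key
  show s i * _ * s i = _
  rw [← hv', ← key]
  exact (htsAct_reverse hs2 _ _).symm

theorem htsTable_sound : ∀ e ∈ htsTable, HtsSound s e := by
  have h0 : ∀ e ∈ htsInit, HtsSound s e := by
    intro e he
    rcases htsInit_spec e he with ⟨h1, h2⟩ | h
    · unfold HtsSound
      rw [← h1, h2]
      show s e.2.1 * s e.2.1 * s e.2.1 = s e.2.1
      rw [hs2, one_mul]
    · unfold HtsSound
      rw [h]
      rfl
  suffices ∀ (l : List (Fin 81 × Fin 81 × ℕ × Fin 81 × Fin 4 × Fin 81))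
      (T : List (Fin 81 × Fin 4 × Fin 81)), (∀ e ∈ T, HtsSound s e) → htsCheck l T = true →
      ∀ e ∈ l.map (fun st => st.2.2.2) ++ T, HtsSound s e from this _ _ h0 htsCheck_steps
  intro l
  induction l with
  | nil => exact fun T hT _ => hT
  | cons st l ih =>
    intro T hT hc e he
    rw [htsCheck, Bool.and_eq_true] at hc
    have hst := htsValid_sound hs2 hcl hbr hD2 hs hT hc.1
    have hT' : ∀ e ∈ st.2.2.2 :: T, HtsSound s e := fun e he =>
      (List.mem_cons.1 he).elim (fun h => h ▸ hst) (hT e)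
    refine ih _ hT' hc.2 e ?_
    simp only [List.map_cons, List.mem_append, List.mem_cons] at he ⊢
    tauto

/-- Conjugation by the generators is the Hall triple system operation. -/
theorem hts_equivariant (i : Fin 4) (v : Fin 4 → ZMod 3) :
    s i * htsVal s (htsPoint (htsCode v)) * s i =
      htsVal s (htsPoint (htsCode (htsOp (htsBase i) v))) := by
  have hv : v = ![v 0, v 1, v 2, v 3] := by funext k; fin_cases k <;> rfl
  rw [hv]
  exact htsLookup_sound hs2 (htsTable_sound hs2 hcl hbr hD2 hs) (htsTable_spec _ _ _ _ i)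

end Sound

/-- A triangular map `(v, w) ↦ (v + t, w + q v)`. -/
def htsTri (t : Fin 3 → ZMod 3) (q : (Fin 3 → ZMod 3) → ZMod 3) (v : Fin 4 → ZMod 3) :
    Fin 4 → ZMod 3 :=
  ![v 0 + t 0, v 1 + t 1, v 2 + t 2, v 3 + q ![v 0, v 1, v 2]]

theorem htsTri_comp (t t' : Fin 3 → ZMod 3) (q q' : (Fin 3 → ZMod 3) → ZMod 3)
    (v : Fin 4 → ZMod 3) :
    htsTri t q (htsTri t' q' v) = htsTri (t' + t) (fun u => q' u + q (u + t')) v := by
  have : (![v 0, v 1, v 2] : Fin 3 → ZMod 3) + t' = ![v 0 + t' 0, v 1 + t' 1, v 2 + t' 2] := by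
    funext k; fin_cases k <;> rfl
  funext k
  fin_cases k <;> simp [htsTri, this] <;> ring

theorem htsTri_zero (v : Fin 4 → ZMod 3) : htsTri 0 0 v = v := by
  funext k; fin_cases k <;> simp [htsTri]

theorem htsTri_iterate_nine (t : Fin 3 → ZMod 3) (q : (Fin 3 → ZMod 3) → ZMod 3)
    (v : Fin 4 → ZMod 3) : (htsTri t q)^[9] v = v := by
  have h3 : ∀ a : ZMod 3, a + a + a = 0 := by decide
  have cube : ∀ v, ∀ t' q', (htsTri t' q')^[3] v =
      htsTri 0 (fun u => q' u + q' (u + t') + q' (u + (t' + t'))) v := by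
    intro v t' q'
    show htsTri t' q' (htsTri t' q' (htsTri t' q' v)) = _
    rw [htsTri_comp, htsTri_comp]
    have : t' + (t' + t') = 0 := by funext k; simpa [add_assoc] using h3 (t' k)
    rw [this]
    simp only [← add_assoc]
  rw [show 9 = 3 * 3 from rfl, Function.iterate_mul,
    show (htsTri t q)^[3] = htsTri 0 _ from funext fun v => cube v t q, cube]
  conv_rhs => rw [← htsTri_zero v]
  congr 1
  funext u
  simp only [add_zero]
  exact h3 _

theorem htsOp_htsOp (x y : Fin 4 → ZMod 3) :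
    ∃ t q, ∀ v, htsOp x (htsOp y v) = htsTri t q v := by
  refine ⟨![y 0 - x 0, y 1 - x 1, y 2 - x 2], fun u => y 3 - x 3
      + (y 2 - u 2) * (y 0 * u 1 - y 1 * u 0)
      - (x 2 + y 2 + u 2) * (x 1 * (y 0 + u 0) - x 0 * (y 1 + u 1)), fun v => ?_⟩
  funext k
  fin_cases k <;> simp [htsOp, htsTri] <;> ring

theorem hts_pGroup_of_pairs [Finite G] {D : Set G} (hcl : ∀ x ∈ D, ∀ y ∈ D, x * y * x ∈ D)
    (hbr : ∀ x ∈ D, ∀ y ∈ D, x * y * x = y * x * y) (hD2 : ∀ x ∈ D, x * x = 1) {a b c d : G}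
    (ha : a ∈ D) (hb : b ∈ D) (hc : c ∈ D) (hd : d ∈ D) :
    IsPGroup 3 ↥(Subgroup.closure ({a * b, c * d} : Set G)) := by
  set s : Fin 4 → G := ![a, b, c, d] with hs_def
  have hs : ∀ i, s i ∈ D := by intro i; fin_cases i <;> assumption
  have hs2 : ∀ i, s i * s i = 1 := fun i => hD2 _ (hs i)
  set f : (Fin 4 → ZMod 3) → G := fun v => htsVal s (htsPoint (htsCode v))
  have heq := hts_equivariant hs2 hcl hbr hD2 hs
  have hinv : ∀ i, (s i)⁻¹ = s i := fun i => inv_eq_of_mul_eq_one_right (hs2 i)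
  set P := Subgroup.closure ({a * b, c * d} : Set G) with hP
  have hpair : ∀ i j, ∃ t q, ∀ v, (s i * s j) * f v * (s i * s j)⁻¹ = f (htsTri t q v) := by
    intro i j
    obtain ⟨t, q, h⟩ := htsOp_htsOp (htsBase i) (htsBase j)
    refine ⟨t, q, fun v => ?_⟩
    rw [← h, mul_inv_rev, hinv, hinv]
    show _ = f _
    simp only [f, ← heq, mul_assoc]
  have hall : ∀ g ∈ P, ∃ t q, ∀ v, g * f v * g⁻¹ = f (htsTri t q v) := by
    intro g hg
    induction hg using Subgroup.closure_induction with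
    | mem x hx =>
      rcases hx with rfl | rfl
      · exact hpair 0 1
      · exact hpair 2 3
    | one => exact ⟨0, 0, fun v => by rw [htsTri_zero]; simp⟩
    | mul x y _ _ hx hy =>
      obtain ⟨t, q, hx⟩ := hx
      obtain ⟨t', q', hy⟩ := hy
      refine ⟨t' + t, fun u => q' u + q (u + t'), fun v => ?_⟩
      rw [← htsTri_comp, ← hx, ← hy]
      group
    | inv x _ hx =>
      obtain ⟨t, q, hx⟩ := hx
      refine ⟨-t, fun u => -q (u + -t), fun v => ?_⟩
      have h0 : htsTri t q (htsTri (-t) (fun u => -q (u + -t)) v) = v := by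
        rw [htsTri_comp]
        conv_rhs => rw [← htsTri_zero v]
        congr 1
        · simp
        · funext u; simp
      conv_lhs => rw [← h0, ← hx]
      group
  have hnine : ∀ g : P, g ^ 9 ∈ Subgroup.center P := by
    intro g
    obtain ⟨t, q, hg⟩ := hall g g.2
    have hpow : ∀ (n : ℕ) v, (g : G) ^ n * f v * ((g : G) ^ n)⁻¹ = f ((htsTri t q)^[n] v) := by
      intro n
      induction n with
      | zero => intro v; simp
      | succ n ih =>
        intro v
        rw [Function.iterate_succ', Function.comp_apply, ← hg, ← ih, pow_succ']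
        group
    have hfix : ∀ i, Commute ((g : G) ^ 9) (s i) := by
      intro i
      have h := hpow 9 (htsBase i)
      rw [htsTri_iterate_nine] at h
      have hb' : f (htsBase i) = s i := by
        show htsVal s (htsPoint _) = _
        rw [htsBase_spec]
        rfl
      rw [hb', mul_inv_eq_iff_eq_mul] at h
      exact h
    rw [Subgroup.mem_center_iff]
    intro x
    apply Subtype.ext
    obtain ⟨x, hx⟩ := x
    show x * ((g : G) ^ 9) = ((g : G) ^ 9) * x
    induction hx using Subgroup.closure_induction with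
    | mem y hy =>
      rcases hy with rfl | rfl
      · exact ((hfix 0).mul_right (hfix 1)).symm.eq
      · exact ((hfix 2).mul_right (hfix 3)).symm.eq
    | one => simp
    | mul y z _ _ hy hz =>
      exact ((Commute.mul_left (show Commute y _ from hy) (show Commute z _ from hz))).eq
    | inv y _ hy => exact (show Commute y _ from hy).inv_left.eq
  have hq : IsPGroup 3 (P ⧸ Subgroup.center P) := by
    intro x
    obtain ⟨g, rfl⟩ := QuotientGroup.mk_surjective x
    refine ⟨2, ?_⟩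
    rw [← QuotientGroup.mk_pow, QuotientGroup.eq_one_iff]
    exact hnine g
  haveI : Fact (Nat.Prime 3) := ⟨Nat.prime_three⟩
  haveI : Group.IsNilpotent (P ⧸ Subgroup.center P) := hq.isNilpotent
  haveI : Group.IsNilpotent P := Group.of_quotient_center_nilpotent inferInstance
  obtain ⟨Q⟩ : Nonempty (Sylow 3 P) := inferInstance
  haveI hQn : (Q : Subgroup P).Normal :=
    Sylow.normal_of_normalizerCondition Group.normalizerCondition_of_isNilpotent Q
  have horder : ∀ x ∈ D, ∀ y ∈ D, (x * y) ^ 3 = 1 := by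
    intro x hx y hy
    calc (x * y) ^ 3 = (x * y * x) * (y * x * y) := by simp [pow_succ, mul_assoc]
      _ = (x * y * x) * (x * y * x) := by rw [hbr x hx y hy]
      _ = 1 := hD2 _ (hcl x hx y hy)
  have hmemQ : ∀ g : P, (g : G) ^ 3 = 1 → g ∈ (Q : Subgroup P) := by
    intro g hg
    have hz : IsPGroup 3 (Subgroup.zpowers g) := by
      intro z
      obtain ⟨n, hn⟩ := Subgroup.mem_zpowers_iff.1 z.2
      refine ⟨1, Subtype.ext ?_⟩
      show (z : P) ^ (3 : ℕ) = 1
      have hg' : g ^ 3 = 1 := Subtype.ext hg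
      rw [← hn, ← zpow_natCast, ← zpow_mul, mul_comm, zpow_mul, zpow_natCast, hg', one_zpow]
    obtain ⟨R, hR⟩ := hz.exists_le_sylow
    letI := Sylow.unique_of_normal Q hQn
    rw [Subsingleton.elim Q R]
    exact hR (Subgroup.mem_zpowers g)
  have htop : (Q : Subgroup P) = ⊤ := by
    rw [eq_top_iff]
    rintro g -
    have hg : (g : G) ∈ ((Q : Subgroup P).map P.subtype) := by
      have hle : P ≤ (Q : Subgroup P).map P.subtype := by
        refine (Subgroup.closure_le _).2 ?_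
        rintro x (rfl | rfl)
        · exact ⟨⟨a * b, Subgroup.subset_closure (Or.inl rfl)⟩, hmemQ _ (horder a ha b hb), rfl⟩
        · exact ⟨⟨c * d, Subgroup.subset_closure (Or.inr rfl)⟩, hmemQ _ (horder c hc d hd), rfl⟩
      exact hle g.2
    obtain ⟨g', hg', he⟩ := hg
    rwa [← Subtype.ext he]
  intro g
  obtain ⟨k, hk⟩ := Q.isPGroup' ⟨g, htop ▸ Subgroup.mem_top g⟩
  exact ⟨k, congrArg Subtype.val hk⟩

end CfsgLib.Transpositions
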