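import Cfsg.Prelude.Def_FischerSpaces
import Cfsg.Agent.Transpositions.FourGenerated
import Cfsg.Agent.Small.BaerSuzuki
import Cfsg.Agent.PLocal.Cores

/-!
# Width one: pairwise non-commuting 3-transpositions generate a 3-group extended by an involution
-/

set_option autoImplicit false

namespace CfsgLib.Transpositions

open Cfsg
open scoped Pointwise

variable {G : Type*} [Group G]

/-- The subgroup generated by the products of two members of `D`. -/
def productsSubgroup (D : Set G) : Subgroup G :=
  Subgroup.closure {x | ∃ a ∈ D, ∃ b ∈ D, a * b = x}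

theorem mul_mem_productsSubgroup {D : Set G} {a b : G} (ha : a ∈ D) (hb : b ∈ D) :
    a * b ∈ productsSubgroup D :=
  Subgroup.subset_closure ⟨a, ha, b, hb, rfl⟩

theorem productsSubgroup_normal {D : Set G} (hconj : ∀ g : G, ∀ x ∈ D, g * x * g⁻¹ ∈ D) :
    (productsSubgroup D).Normal := by
  refine ⟨fun n hn g => ?_⟩
  induction hn using Subgroup.closure_induction with
  | mem x hx =>
    obtain ⟨a, ha, b, hb, rfl⟩ := hx
    refine Subgroup.subset_closure ⟨_, hconj g a ha, _, hconj g b hb, ?_⟩
    group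
  | one => simp
  | mul x y _ _ hx hy => simpa [conj_mul] using mul_mem hx hy
  | inv x _ hx => rw [← conj_inv]; exact inv_mem hx

variable [Finite G]

theorem isPGroup_productsSubgroup_of_braid_aux {D : Set G}
    (hgen : Subgroup.closure D = ⊤) (hcl : ∀ x ∈ D, ∀ y ∈ D, x * y * x ∈ D)
    (hbr : ∀ x ∈ D, ∀ y ∈ D, x * y * x = y * x * y) (hD2 : ∀ x ∈ D, x * x = 1) :
    IsPGroup 3 (productsSubgroup D) := by
  haveI : Fact (Nat.Prime 3) := ⟨Nat.prime_three⟩
  have hinv : ∀ x ∈ D, x⁻¹ = x := fun x hx => inv_eq_of_mul_eq_one_right (hD2 x hx)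
  have hconj : ∀ g : G, ∀ x ∈ D, g * x * g⁻¹ ∈ D := by
    intro g
    have hg : g ∈ Subgroup.closure D := hgen ▸ Subgroup.mem_top g
    induction hg using Subgroup.closure_induction_right with
    | one => intro x hx; simpa using hx
    | mul_right z _ y hy ih =>
      intro x hx
      have := ih _ (hcl y hy x hx)
      simpa [mul_assoc, hinv y hy] using this
    | mul_inv_cancel z _ y hy ih =>
      intro x hx
      have := ih _ (hcl y hy x hx)
      simpa [mul_assoc, hinv y hy] using this
  refine (CfsgLib.PLocal.isPGroup_pCore 3 G).to_le ((Subgroup.closure_le _).2 ?_)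
  rintro _ ⟨a, ha, b, hb, rfl⟩
  obtain ⟨N, hN, hNp, hle⟩ := CfsgLib.Small.baerSuzuki_subgroup (p := 3)
    (Subgroup.zpowers (a * b)) (fun g => by
      have hsm : MulAut.conj g • Subgroup.zpowers (a * b) =
          Subgroup.zpowers ((g * a * g⁻¹) * (g * b * g⁻¹)) := by
        have hc : g * a * g⁻¹ * (g * b * g⁻¹) = MulAut.conj g (a * b) := by
          simp [MulAut.conj_apply, mul_assoc]
        rw [hc]
        exact MonoidHom.map_zpowers (MulAut.conj g).toMonoidHom (a * b)
      rw [hsm, Subgroup.zpowers_eq_closure, Subgroup.zpowers_eq_closure, ← Subgroup.closure_union,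
        Set.singleton_union]
      exact hts_pGroup_of_pairs hcl hbr hD2 ha hb (hconj g a ha) (hconj g b hb))
  haveI := hN
  exact CfsgLib.PLocal.le_pCore hNp (hle (Subgroup.mem_zpowers _))

/-- If any two members of a set of involutions closed under mutual conjugation satisfy the braid
relation, then their products generate a 3-group. -/
theorem isPGroup_productsSubgroup_of_braid {D : Set G} (hcl : ∀ x ∈ D, ∀ y ∈ D, x * y * x ∈ D)
    (hbr : ∀ x ∈ D, ∀ y ∈ D, x * y * x = y * x * y) (hD2 : ∀ x ∈ D, x * x = 1) :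
    IsPGroup 3 (productsSubgroup D) := by
  set H := Subgroup.closure D
  set D' : Set H := Subtype.val ⁻¹' D with hD'
  have hmap : (productsSubgroup D').map H.subtype = productsSubgroup D := by
    rw [productsSubgroup, MonoidHom.map_closure, productsSubgroup]
    congr 1
    ext x
    constructor
    · rintro ⟨_, ⟨a, ha, b, hb, rfl⟩, rfl⟩
      exact ⟨a, ha, b, hb, rfl⟩
    · rintro ⟨a, ha, b, hb, rfl⟩
      exact ⟨⟨a, Subgroup.subset_closure ha⟩ * ⟨b, Subgroup.subset_closure hb⟩,
        ⟨_, ha, _, hb, rfl⟩, rfl⟩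
  rw [← hmap]
  refine IsPGroup.map (isPGroup_productsSubgroup_of_braid_aux
    (Subgroup.closure_closure_coe_preimage) ?_ ?_ ?_) _
  · exact fun x hx y hy => hcl _ hx _ hy
  · exact fun x hx y hy => Subtype.ext (hbr _ hx _ hy)
  · exact fun x hx => Subtype.ext (hD2 _ hx)

/-- Pairwise non-commuting 3-transpositions closed under mutual conjugation: the products generate
a 3-group. -/
theorem isPGroup_productsSubgroup {D : Set G} (hD : IsThreeTranspositionSet D)
    (hcl : ∀ x ∈ D, ∀ y ∈ D, x * y * x ∈ D)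
    (hw : ∀ x ∈ D, ∀ y ∈ D, Commute x y → x = y) : IsPGroup 3 (productsSubgroup D) := by
  refine isPGroup_productsSubgroup_of_braid hcl (fun x hx y hy => ?_) (fun x hx => sq hD hx)
  by_cases h : Commute x y
  · rw [hw x hx y hy h]
  · exact braid hD hx hy h

/-- In a 3-transposition group of width one, `G = ⟨d⟩ O₃(G)`. -/
theorem sup_pCore_three_eq_top {D : Set G} (hD : IsThreeTranspositionGroup D)
    (hw : ∀ x ∈ D, ∀ y ∈ D, Commute x y → x = y) {d : G} (hd : d ∈ D) :
    Subgroup.zpowers d ⊔ pCore 3 G = ⊤ := by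
  obtain ⟨hD, hconj, hgen⟩ := hD
  rw [eq_top_iff, ← hgen, Subgroup.closure_le]
  intro a ha
  have hN := isPGroup_productsSubgroup hD (fun x hx y hy => conj_mem_of_mem hD hconj hx hy) hw
  haveI := productsSubgroup_normal hconj
  have h : d * a ∈ pCore 3 G := CfsgLib.PLocal.le_pCore hN (mul_mem_productsSubgroup hd ha)
  have := mul_mem (Subgroup.mem_sup_left (T := pCore 3 G) (Subgroup.mem_zpowers d))
    (Subgroup.mem_sup_right (S := Subgroup.zpowers d) h)
  simpa [mul_cancel_left hD hd] using this

theorem le_commutingWidth {D E : Set G} (hE : E ⊆ D)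
    (hc : ∀ a ∈ E, ∀ b ∈ E, Commute a b) : E.ncard ≤ commutingWidth D := by
  refine le_csSup ⟨Nat.card G, ?_⟩ ⟨E, hE, Set.toFinite E, hc, rfl⟩
  rintro n ⟨F, -, -, -, rfl⟩
  exact Set.ncard_le_card F

theorem commutingWidth_le {D : Set G} {n : ℕ}
    (h : ∀ E ⊆ D, (∀ a ∈ E, ∀ b ∈ E, Commute a b) → E.ncard ≤ n) : commutingWidth D ≤ n := by
  refine csSup_le ⟨0, ∅, Set.empty_subset _, Set.finite_empty, by simp, by simp⟩ ?_
  rintro m ⟨E, hE, -, hc, rfl⟩
  exact h E hE hc

/-- Width one means that distinct members never commute. -/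
theorem commutingWidth_eq_one_iff {D : Set G} {d : G} (hd : d ∈ D) :
    commutingWidth D = 1 ↔ ∀ x ∈ D, ∀ y ∈ D, Commute x y → x = y := by
  constructor
  · intro h x hx y hy hc
    by_contra hne
    have := le_commutingWidth (D := D) (E := {x, y}) (Set.insert_subset hx (by simpa using hy)) (by
      rintro a (rfl | rfl) b (rfl | rfl)
      exacts [Commute.refl _, hc, hc.symm, Commute.refl _])
    rw [Set.ncard_pair hne, h] at this
    omega
  · intro h
    refine le_antisymm (commutingWidth_le fun E hE hc => ?_) ?_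
    · exact Set.ncard_le_one (Set.toFinite E) |>.2 fun a ha b hb =>
        h a (hE ha) b (hE hb) (hc a ha b hb)
    · simpa using le_commutingWidth (D := D) (E := {d}) (by simpa using hd) (by
        rintro a rfl b rfl
        exact Commute.refl _)

/-- The converse: a transposition group `⟨d⟩ O₃(G)` has width one. -/
theorem eq_of_commute_of_sup_pCore_three {D : Set G} (hD : IsThreeTranspositionSet D) {d : G}
    (hd : d ∈ D) (htop : Subgroup.zpowers d ⊔ pCore 3 G = ⊤) :
    ∀ x ∈ D, ∀ y ∈ D, Commute x y → x = y := by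
  have hP := CfsgLib.PLocal.isPGroup_pCore 3 G
  have key : ∀ a ∈ D, d * a ∈ pCore 3 G := by
    intro a ha
    obtain ⟨z, hz, n, hn, hzn⟩ :=
      Subgroup.mem_sup_of_normal_right.1 (htop.symm ▸ Subgroup.mem_top a : a ∈ _ ⊔ pCore 3 G)
    obtain ⟨k, rfl⟩ := Subgroup.mem_zpowers_iff.1 hz
    rcases Int.even_or_odd' k with ⟨m, rfl | rfl⟩
    · rw [zpow_mul, zpow_two, sq hD hd, one_zpow, one_mul] at hzn
      exact absurd (hzn ▸ hn) (not_mem_of_isPGroup hD ha Nat.prime_three (by norm_num) hP)
    · rw [zpow_add_one, zpow_mul, zpow_two, sq hD hd, one_zpow, one_mul] at hzn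
      rw [← hzn, mul_cancel_left hD hd]
      exact hn
  intro x hx y hy hc
  refine eq_of_commute_of_isPGroup hD hx hy Nat.prime_three (by norm_num) hP ?_ hc
  have := mul_mem (inv_mem (key x hx)) (key y hy)
  rwa [mul_inv_rev, inv_eq hD hd, inv_eq hD hx, mul_assoc, mul_cancel_left hD hd] at this

end CfsgLib.Transpositions
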