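import Cfsg.Agent.FischerTypes.M24Graph
import Cfsg.Agent.FischerTypes.M24Centralizer
import Cfsg.Agent.Transpositions.TypeM23Structure
import Cfsg.Agent.Forms4.POmegaOrders

/-!
# The parameters of a group of type M(24)

Two non-commuting members have 3240 common neighbours: the joint centralizer involves `PΩ⁺(8,3):S₃`,
and the connectedness argument bounds their number by 3240.
-/

set_option autoImplicit false

namespace CfsgLib.Transpositions.TypeM24

open Cfsg CfsgLib.FischerTypes

variable {G : Type*} [Group G] [Finite G] {D : Set G} (H : M24.Hyp G D)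

include H

/-- A member has 31671 neighbours. -/
theorem ncard_perp {d : G} (hd : d ∈ D) : (FischerTypes.perp D d).ncard = 31671 := by
  rw [M24.ncard_perp H hd]
  exact TypeM23.ncard_D (M24.quot H hd)

/-- Three commuting members have 693 common neighbours; two neighbours of a member which do not
commute have 351 common neighbours with it. -/
theorem ncard_perp_not_commute {d x y : G} (hd : d ∈ D) (hx : x ∈ FischerTypes.perp D d)
    (hy : y ∈ FischerTypes.perp D d) (hc : ¬ Commute x y) :
    (FischerTypes.perp D d ∩ (FischerTypes.perp D x ∩ FischerTypes.perp D y)).ncard = 351 := by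
  rw [M24.ncard_perp_pair H hd hx hy]
  exact (TypeM23.mu_props (M24.quot H hd) (M24.bar_mem H hd hx) (M24.bar_mem H hd hy)
    (fun h0 => hc ((M24.bar_commute H hx hy).1 h0))).1

/-- The parameters used for the connectedness bound. -/
theorem param : M24.Param D 31671 351 := by
  obtain ⟨N, m, P⟩ := M24.exists_param H
  obtain ⟨d, hd, -⟩ := H.prim.2.1
  have hN : N = 31671 := (P.perp_card hd).symm.trans (ncard_perp H hd)
  obtain ⟨x, hx⟩ := M24.perp_nonempty H hd
  obtain ⟨y, hy, hxy⟩ := M24.noCentral H hd x hx
  have hm : m = 351 := (P.pair_card hd hx hy hxy).symm.trans (ncard_perp_not_commute H hd hx hy hxy)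
  rwa [hN, hm] at P

/-- The order of the centralizer of a member. -/
theorem card_centralizer {d : G} (hd : d ∈ D) :
    Nat.card (Subgroup.centralizer ({d} : Set G)) = 8178940946586009600 := by
  rw [M24.centralizer_eq H.group H hd,
    TypeStep.card_closure H.group hd (fun hw h1 => M24.eq_one_or_eq_of_centralize H hd hw h1)
      (M24.mem_closure_perp_self H hd),
    TypeM23.card_group (M24.quot H hd)]

/-- The number of members not commuting with a given one, times the number of common neighbours. -/
theorem count {d y : G} (hd : d ∈ D) (hy : y ∈ D) (hdy : ¬ Commute d y) :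
    {z : G | z ∈ D ∧ ¬ Commute d z}.ncard * (FischerTypes.perp D d ∩ FischerTypes.perp D y).ncard =
      31671 * 28160 := by
  classical
  have := Fintype.ofFinite G
  set S : Finset G := (FischerTypes.perp D d).toFinset with hS
  set T : Finset G := ({z | z ∈ D ∧ ¬ Commute d z} : Set G).toFinset with hT
  have hmS : ∀ {x}, x ∈ S ↔ x ∈ FischerTypes.perp D d := fun {x} => Set.mem_toFinset
  have hmT : ∀ {z}, z ∈ T ↔ z ∈ D ∧ ¬ Commute d z := fun {z} => Set.mem_toFinset
  have hrow : ∀ x ∈ S, (T.filter fun z => z ∈ FischerTypes.perp D x).card = 28160 := by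
    intro x hx
    have hxd := hmS.1 hx
    have hdx : d ∈ FischerTypes.perp D x := perp_symm hd hxd
    have hset : (T.filter fun z => z ∈ FischerTypes.perp D x) =
        (FischerTypes.perp D x \ insert d (FischerTypes.perp D d ∩ FischerTypes.perp D x)).toFinset := by
      ext z
      simp only [Finset.mem_filter, hmT, Set.mem_toFinset, Set.mem_sdiff, Set.mem_insert_iff,
        Set.mem_inter_iff, not_or, not_and]
      exact ⟨fun ⟨⟨_, hdz⟩, hz⟩ => ⟨hz, fun he => hdz (he ▸ Commute.refl _),
          fun hz' => absurd hz'.2.2 hdz⟩,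
        fun ⟨hz, hzd, hz'⟩ => ⟨⟨hz.1, fun hc => hz' ⟨hz.1, hzd, hc⟩ hz⟩, hz⟩⟩
    rw [hset, ← Set.ncard_eq_toFinset_card', Set.ncard_sdiff
      (Set.insert_subset hdx Set.inter_subset_right), ncard_perp H hxd.1,
      Set.ncard_insert_of_notMem (fun h0 => h0.1.2.1 rfl), M24.ncard_perp_perp H hd hxd]
  have hcol : ∀ z ∈ T, (S.filter fun x => z ∈ FischerTypes.perp D x).card =
      (FischerTypes.perp D d ∩ FischerTypes.perp D y).ncard := by
    intro z hz
    rw [← M24.ncard_common_eq H hd hy hdy hd (hmT.1 hz).1 (hmT.1 hz).2, Set.ncard_eq_toFinset_card']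
    congr 1
    ext x
    simp only [Set.mem_toFinset, Finset.mem_filter, hmS, Set.mem_inter_iff]
    exact ⟨fun ⟨a, b⟩ => ⟨a, perp_symm a.1 b⟩, fun ⟨a, b⟩ => ⟨a, perp_symm (hmT.1 hz).1 b⟩⟩
  have hcount := Finset.sum_comm (s := S) (t := T)
    (f := fun x z => if z ∈ FischerTypes.perp D x then (1 : ℕ) else 0)
  simp only [Finset.sum_boole, Nat.cast_id] at hcount
  rw [Finset.sum_congr rfl hrow, Finset.sum_congr rfl hcol, Finset.sum_const, Finset.sum_const, smul_eq_mul,
    smul_eq_mul, hS, ← Set.ncard_eq_toFinset_card', ncard_perp H hd, hT,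
    ← Set.ncard_eq_toFinset_card'] at hcount
  exact hcount.symm

/-- Two non-commuting members have at most 3240 common neighbours. -/
theorem ncard_common_le {d y : G} (hd : d ∈ D) (hy : y ∈ D) (hdy : ¬ Commute d y) :
    (FischerTypes.perp D d ∩ FischerTypes.perp D y).ncard ≤ 3240 := by
  classical
  have := Fintype.ofFinite G
  set X : Finset G := (FischerTypes.perp D d ∩ FischerTypes.perp D y).toFinset with hX
  have hm : ∀ {q}, q ∈ X ↔ q ∈ FischerTypes.perp D d ∧ q ∈ FischerTypes.perp D y := fun {q} =>
    Set.mem_toFinset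
  have hb := M24.component_bound H hd (param H) X ∅ (fun q hq => (hm.1 hq).1) (fun q hq => by
      rw [hX, Set.coe_toFinset]
      exact M24.Param.deg H hd (param H) hy hdy (hm.1 hq).1 (hm.1 hq).2)
    (by rw [hX, Set.toFinset_nonempty]; exact M24.common_nonempty H hd hy hdy)
    (fun p hp => absurd hp (Finset.notMem_empty p))
  rw [Set.ncard_eq_toFinset_card', ← hX]
  simp only [Finset.card_empty, Nat.cast_zero, sub_zero] at hb
  norm_num at hb
  have hpos : 0 < X.card := Finset.card_pos.2
    (by rw [hX, Set.toFinset_nonempty]; exact M24.common_nonempty H hd hy hdy)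
  nlinarith [hb, hpos]

/-- Two non-commuting members have 3240 common neighbours; there are 306936 members. -/
theorem mu_props {d y : G} (hd : d ∈ D) (hy : y ∈ D) (hdy : ¬ Commute d y) :
    (FischerTypes.perp D d ∩ FischerTypes.perp D y).ncard = 3240 ∧ D.ncard = 306936 := by
  have hle := ncard_common_le H hd hy hdy
  have hpos : 0 < (FischerTypes.perp D d ∩ FischerTypes.perp D y).ncard :=
    (Set.ncard_pos (Set.toFinite _)).2 (M24.common_nonempty H hd hy hdy)
  have hc := count H hd hy hdy
  have hsplit := TypeStep.ncard_split (D := D) hd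
  rw [ncard_perp H hd] at hsplit
  have hs := TypeStep.card_centralizer_pair H.group (M24.exists_conj_noncommute H) hd hy hdy
  rw [card_centralizer H hd] at hs
  obtain ⟨-, d₀, hd₀, c₀, hc₀, hdc₀, -, N, hN, ⟨e⟩, ⟨f⟩⟩ := id H.type
  obtain ⟨g, g1, g2⟩ := M24.exists_conj_noncommute H hd₀ hc₀ hdc₀ hd hy hdy
  have hP : Nat.card (POmega (ZMod 3) (quadFormPlus 4 (ZMod 3))) = 4952179814400 := by
    have h := Forms4.card_pOmegaPlus (q := 3) (ZMod.card 3) 4 le_rfl
    norm_num [Finset.prod_range_succ] at h
    omega
  have hL : 29713078886400 ∣ Nat.card (Subgroup.centralizer ({d, y} : Set G)) := by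
    have h1 := Subgroup.card_eq_card_quotient_mul_card_subgroup N
    rw [Nat.card_congr e.toEquiv, Nat.card_congr f.toEquiv, Nat.card_perm,
      Nat.card_fin, hP] at h1
    norm_num [Nat.factorial] at h1
    refine (dvd_of_eq h1.symm).trans ((Subgroup.card_quotient_dvd_card _).trans ?_)
    refine (Subgroup.card_dvd_of_le (K := Subgroup.centralizer ({d₀, c₀} : Set G)) ?_).trans (dvd_of_eq ?_)
    · rw [Subgroup.closure_le]
      intro x hx
      rw [SetLike.mem_coe, Subgroup.mem_centralizer_iff]
      rintro z (rfl | rfl)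
      exacts [hx.1.2.2.eq, hx.2.2.2.eq]
    · have hmap : (Subgroup.centralizer ({d₀, c₀} : Set G)).map (MulAut.conj g).toMonoidHom =
          Subgroup.centralizer ({d, y} : Set G) := by
        ext x
        simp only [Subgroup.mem_map, Subgroup.mem_centralizer_iff, MulEquiv.coe_toMonoidHom, MulAut.conj_apply,
          Set.mem_insert_iff, Set.mem_singleton_iff, forall_eq_or_imp, forall_eq]
        constructor
        · rintro ⟨z, ⟨z1, z2⟩, rfl⟩
          exact ⟨g1 ▸ ((commute_conj_iff' g d₀ z).2 z1).eq, g2 ▸ ((commute_conj_iff' g c₀ z).2 z2).eq⟩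
        · rintro ⟨x1, x2⟩
          refine ⟨g⁻¹ * x * g, ⟨?_, ?_⟩, by group⟩
          · refine ((commute_conj_iff' g d₀ _).1 ?_).eq
            rw [g1, show g * (g⁻¹ * x * g) * g⁻¹ = x by group]
            exact x1
          · refine ((commute_conj_iff' g c₀ _).1 ?_).eq
            rw [g2, show g * (g⁻¹ * x * g) * g⁻¹ = x by group]
            exact x2
      rw [← hmap]
      exact Nat.card_congr (Subgroup.equivMapOfInjective _ _ (MulAut.conj g).injective).toEquiv
  set n := {z : G | z ∈ D ∧ ¬ Commute d z}.ncard with hn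
  set m := (FischerTypes.perp D d ∩ FischerTypes.perp D y).ncard with hm
  set s := Nat.card (Subgroup.centralizer ({d, y} : Set G)) with hs'
  have hsm : s = 9170703360 * m := by
    have h1 : 8178940946586009600 * m = 31671 * 28160 * s := by rw [hs, ← hc]; ring
    omega
  rw [hsm] at hL
  obtain ⟨t, ht⟩ := hL
  have hm3240 : m = 3240 := by omega
  rw [hm3240] at hc
  exact ⟨hm3240, by omega⟩

/-- The number of members. -/
theorem ncard_D : D.ncard = 306936 := by
  obtain ⟨-, d, hd, c, hc, hdc, -⟩ := id H.type
  exact (mu_props H hd hc hdc).2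

/-- The order of the group. -/
theorem card_group : Nat.card G = 306936 * 8178940946586009600 := by
  obtain ⟨d, hd, -⟩ := H.prim.2.1
  rw [TypeStep.card_group H.group H.prim hd, ncard_D H, card_centralizer H hd]

/-- The width. -/
theorem commutingWidth_eq : commutingWidth D = 24 := by
  obtain ⟨d, hd, -⟩ := H.prim.2.1
  exact TypeStep.commutingWidth_succ H.group ⟨d, hd⟩ (fun hd' _ _ hx hy he => M24.bar_inj H hd' hx hy he)
    (fun hd' _ hx => M24.bar_mem H hd' hx)
    (fun hd' => TypeM23.commutingWidth_eq (M24.quot H hd'))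

end CfsgLib.Transpositions.TypeM24
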