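import Cfsg.Agent.Transpositions.Primitive
import Cfsg.Agent.Transpositions.Simplicity
import Cfsg.Agent.Forms.OrthPerp
import Cfsg.Agent.Spinor.Reflection
import Cfsg.Agent.Forms.OrthIndex

/-!
# Reflections of one norm over the field with three elements

The reflections in the vectors of a fixed nonzero norm `c` are 3-transpositions: two of them commute
exactly when their centres are orthogonal, and otherwise they satisfy the braid relation.
-/

set_option autoImplicit false

namespace CfsgLib.Transpositions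

open Cfsg Matrix Module CfsgLib.Spinor CfsgLib.Forms

variable {ι : Type} [Fintype ι] [DecidableEq ι] {Q : QuadraticForm (ZMod 3) (ι → ZMod 3)}

theorem two_ne_zero_zmod_three : (2 : ZMod 3) ≠ 0 := by decide

theorem zmod_three_cases (x : ZMod 3) : x = 0 ∨ x = 1 ∨ x = -1 := by revert x; decide

/-- Two reflections commute exactly when their centres are orthogonal or proportional. -/
theorem commute_reflectionMatrix_iff {u v : ι → ZMod 3} (hu : Q u ≠ 0) (hv : Q v ≠ 0) :
    Commute (reflectionMatrix (⇑Q) u) (reflectionMatrix (⇑Q) v) ↔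
      QuadraticMap.polar (⇑Q) u v = 0 ∨ v = u ∨ v = -u := by
  constructor
  · intro h
    by_cases hf : QuadraticMap.polar (⇑Q) u v = 0
    · exact Or.inl hf
    refine Or.inr ?_
    have he := congrArg (fun M => M *ᵥ u) h.eq
    simp only [← mulVec_mulVec, reflectionMatrix_mulVec, refl_apply, QuadraticMap.polar_comm (⇑Q) v u,
      QuadraticMap.polar_sub_right, QuadraticMap.polar_smul_right, polar_self', smul_eq_mul] at he
    obtain ⟨t, ht0, ht⟩ : ∃ t : ZMod 3, t ≠ 0 ∧ v = t • u := by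
      obtain ⟨a, ha, ha0⟩ : ∃ a, a = (Q v)⁻¹ * QuadraticMap.polar (⇑Q) u v ∧ a ≠ 0 :=
        ⟨_, rfl, mul_ne_zero (inv_ne_zero hv) hf⟩
      obtain ⟨b, hb, hb0⟩ : ∃ b, b = (Q u)⁻¹ * QuadraticMap.polar (⇑Q) u v ∧ b ≠ 0 :=
        ⟨_, rfl, mul_ne_zero (inv_ne_zero hu) hf⟩
      have e1 : (Q u)⁻¹ * (2 * Q u) = 2 := by field_simp
      have e2 : (Q u)⁻¹ * (2 * Q u - (Q v)⁻¹ * QuadraticMap.polar (⇑Q) u v *
          QuadraticMap.polar (⇑Q) u v) = 2 - a * b := by
        rw [ha, hb]; field_simp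
      have e3 : (Q v)⁻¹ * (QuadraticMap.polar (⇑Q) u v - 2 * QuadraticMap.polar (⇑Q) u v) = -a := by
        rw [ha]; ring
      rw [e1, e2, e3, ← ha] at he
      have hvu : (2 * a) • v = (a * b) • u := by
        rw [← sub_eq_zero] at he ⊢
        linear_combination (norm := module) -he
      refine ⟨(2 * a)⁻¹ * (a * b), mul_ne_zero (inv_ne_zero (mul_ne_zero two_ne_zero_zmod_three ha0))
        (mul_ne_zero ha0 hb0), ?_⟩
      rw [mul_smul, ← hvu, inv_smul_smul₀ (mul_ne_zero two_ne_zero_zmod_three ha0)]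
    rcases zmod_three_cases t with rfl | rfl | rfl
    · exact absurd rfl ht0
    · exact Or.inl (by rw [ht, one_smul])
    · exact Or.inr (by rw [ht, neg_one_smul])
  · intro h
    rcases h with h | h | h
    · refine Matrix.ext_iff_mulVec.2 fun x => ?_
      simp only [← mulVec_mulVec, reflectionMatrix_mulVec, refl_apply,
        QuadraticMap.polar_comm (⇑Q) v u, QuadraticMap.polar_sub_right,
        QuadraticMap.polar_smul_right, h, smul_zero, sub_zero]
      abel
    · rw [h]
    · subst h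
      have : reflectionMatrix (⇑Q) (-u) = reflectionMatrix (⇑Q) u := by
        refine Matrix.ext_iff_mulVec.2 fun x => ?_
        rw [reflectionMatrix_mulVec, reflectionMatrix_mulVec, ← neg_one_smul (ZMod 3) u,
          refl_smul Q (neg_ne_zero.2 one_ne_zero)]
      rw [this]

/-- Proportional centres give the same reflection. -/
theorem reflectionMatrix_neg (u : ι → ZMod 3) :
    reflectionMatrix (⇑Q) (-u) = reflectionMatrix (⇑Q) u := by
  refine Matrix.ext_iff_mulVec.2 fun x => ?_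
  rw [reflectionMatrix_mulVec, reflectionMatrix_mulVec, ← neg_one_smul (ZMod 3) u,
    refl_smul Q (neg_ne_zero.2 one_ne_zero)]

variable {c : ZMod 3}

/-- A member of `reflectionsOfNorm` is `reflIso` of a vector of norm `c`. -/
theorem exists_eq_reflIso (hc : c ≠ 0) {g : ↥(isometryGroup (ZMod 3) ⇑Q)}
    (hg : g ∈ reflectionsOfNorm (⇑Q) c) :
    ∃ (v : ι → ZMod 3) (hv : Q v = c), g = reflIso Q v (hv ▸ hc) := by
  obtain ⟨v, hv, h⟩ := hg
  exact ⟨v, hv, mat_ext Q h⟩

theorem reflIso_mem (hc : c ≠ 0) {v : ι → ZMod 3} (hv : Q v = c) :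
    reflIso Q v (hv ▸ hc) ∈ reflectionsOfNorm (⇑Q) c := ⟨v, hv, rfl⟩

theorem commute_reflIso_iff (hc : c ≠ 0) {u v : ι → ZMod 3} (hu : Q u = c) (hv : Q v = c) :
    Commute (reflIso Q u (hu ▸ hc)) (reflIso Q v (hv ▸ hc)) ↔
      QuadraticMap.polar (⇑Q) u v = 0 ∨ v = u ∨ v = -u := by
  rw [← commute_reflectionMatrix_iff (hu ▸ hc : Q u ≠ 0) (hv ▸ hc : Q v ≠ 0)]
  exact ⟨fun h => congrArg (mat Q) h.eq, fun h => mat_ext Q h.eq⟩

theorem reflIso_ne_of_polar_eq_zero (hc : c ≠ 0) {u v : ι → ZMod 3} (hu : Q u = c) (hv : Q v = c)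
    (h : QuadraticMap.polar (⇑Q) u v = 0) : reflIso Q u (hu ▸ hc) ≠ reflIso Q v (hv ▸ hc) := by
  intro e
  have e' := congrArg (fun g => mat Q g *ᵥ u) e
  simp only [mat_reflIso, reflectionMatrix_mulVec, refl_apply, polar_self',
    QuadraticMap.polar_comm (⇑Q) v u, h, mul_zero, zero_smul, sub_zero] at e'
  have e2 : (Q u)⁻¹ * (2 * Q u) = 2 := by rw [hu]; field_simp
  rw [e2] at e'
  have h0 : (2 : ZMod 3) • u = 0 := by linear_combination (norm := module) -e'
  have : u = 0 := (smul_eq_zero.1 h0).resolve_left two_ne_zero_zmod_three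
  exact hc (by rw [← hu, this, QuadraticMap.map_zero])

theorem polar_self_ne_zero (hc : c ≠ 0) {u : ι → ZMod 3} (hu : Q u = c) :
    QuadraticMap.polar (⇑Q) u u ≠ 0 := by
  rw [polar_self', hu]; exact mul_ne_zero two_ne_zero_zmod_three hc

/-- Noncommuting reflections of one norm satisfy the braid relation. -/
theorem braid_reflIso (hc : c ≠ 0) {u v : ι → ZMod 3} (hu : Q u = c) (hv : Q v = c)
    (h : QuadraticMap.polar (⇑Q) u v ≠ 0) :
    reflIso Q u (hu ▸ hc) * reflIso Q v (hv ▸ hc) * (reflIso Q u (hu ▸ hc))⁻¹ =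
      reflIso Q v (hv ▸ hc) * reflIso Q u (hu ▸ hc) * (reflIso Q v (hv ▸ hc))⁻¹ := by
  rw [conj_reflIso, conj_reflIso]
  refine mat_ext Q ?_
  simp only [mat_reflIso, reflectionMatrix_mulVec, refl_apply, hu, hv,
    QuadraticMap.polar_comm (⇑Q) v u]
  obtain ⟨k, hk, hk1⟩ : ∃ k, k = c⁻¹ * QuadraticMap.polar (⇑Q) u v ∧ (k = 1 ∨ k = -1) :=
    ⟨_, rfl, (zmod_three_cases _).resolve_left (mul_ne_zero (inv_ne_zero hc) h)⟩
  rw [← hk]
  rcases hk1 with rfl | rfl
  · rw [one_smul, one_smul, ← neg_sub u v, reflectionMatrix_neg]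
  · rw [neg_one_smul, neg_one_smul, sub_neg_eq_add, sub_neg_eq_add, add_comm]

/-- The reflections of norm `c` inside the group they generate. -/
def reflClass (Q : QuadraticForm (ZMod 3) (ι → ZMod 3)) (c : ZMod 3) :
    Set ↥(reflectionSubgroup (⇑Q) c) :=
  {g | (g : ↥(isometryGroup (ZMod 3) ⇑Q)) ∈ reflectionsOfNorm (⇑Q) c}

/-- The reflection in a vector of norm `c`, as a member of the group they generate. -/
def classRefl (hc : c ≠ 0) (v : ι → ZMod 3) (hv : Q v = c) : ↥(reflectionSubgroup (⇑Q) c) :=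
  ⟨reflIso Q v (hv ▸ hc), Subgroup.subset_closure (reflIso_mem hc hv)⟩

theorem classRefl_mem (hc : c ≠ 0) (v : ι → ZMod 3) (hv : Q v = c) :
    classRefl hc v hv ∈ reflClass Q c := reflIso_mem hc hv

theorem exists_eq_classRefl (hc : c ≠ 0) {g : ↥(reflectionSubgroup (⇑Q) c)}
    (hg : g ∈ reflClass Q c) : ∃ (v : ι → ZMod 3) (hv : Q v = c), g = classRefl hc v hv := by
  obtain ⟨v, hv, h⟩ := exists_eq_reflIso hc hg
  exact ⟨v, hv, Subtype.ext h⟩

theorem commute_classRefl_iff (hc : c ≠ 0) {u v : ι → ZMod 3} (hu : Q u = c) (hv : Q v = c) :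
    Commute (classRefl hc u hu) (classRefl hc v hv) ↔
      QuadraticMap.polar (⇑Q) u v = 0 ∨ v = u ∨ v = -u := by
  rw [← commute_reflIso_iff hc hu hv]
  exact ⟨fun h => congrArg Subtype.val h.eq, fun h => Subtype.ext h.eq⟩

theorem classRefl_ne (hc : c ≠ 0) {u v : ι → ZMod 3} (hu : Q u = c) (hv : Q v = c)
    (h : QuadraticMap.polar (⇑Q) u v = 0) : classRefl hc u hu ≠ classRefl hc v hv :=
  fun e => reflIso_ne_of_polar_eq_zero hc hu hv h (congrArg Subtype.val e)

theorem classRefl_eq_of_polar_ne {u v : ι → ZMod 3} (hc : c ≠ 0) (hu : Q u = c) (hv : Q v = c)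
    (h : v = u ∨ v = -u) : classRefl hc v hv = classRefl hc u hu := by
  refine Subtype.ext (mat_ext Q ?_)
  rcases h with rfl | rfl
  · rfl
  · exact reflectionMatrix_neg u

theorem reflClass_isThreeTranspositionSet (hc : c ≠ 0) :
    IsThreeTranspositionSet (reflClass Q c) := by
  have hsq : ∀ g ∈ reflClass Q c, g * g = 1 := fun g hg => by
    obtain ⟨v, hv, rfl⟩ := exists_eq_classRefl hc hg
    exact Subtype.ext (mat_ext Q (reflectionMatrix_mul_self Q (hv ▸ hc)))
  refine ⟨fun g hg => orderOf_eq_prime (by rw [pow_two, hsq g hg]) fun h1 => ?_, fun g hg k hk => ?_⟩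
  · obtain ⟨v, hv, rfl⟩ := exists_eq_classRefl hc hg
    have e : reflectionMatrix (⇑Q) v *ᵥ v = (1 : Matrix ι ι (ZMod 3)) *ᵥ v :=
      congrArg (fun g : ↥(reflectionSubgroup (⇑Q) c) => mat Q g.1 *ᵥ v) h1
    rw [reflectionMatrix_mulVec, refl_apply, one_mulVec, sub_eq_self, smul_eq_zero] at e
    rcases e with e | e
    · exact mul_ne_zero (inv_ne_zero (hv ▸ hc)) (polar_self_ne_zero hc hv) e
    · exact hc (by rw [← hv, e, QuadraticMap.map_zero])
  · obtain ⟨u, hu, rfl⟩ := exists_eq_classRefl hc hg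
    obtain ⟨v, hv, rfl⟩ := exists_eq_classRefl hc hk
    by_cases hf : QuadraticMap.polar (⇑Q) u v = 0
    · refine Or.inl ?_
      rw [((commute_classRefl_iff hc hu hv).2 (Or.inl hf)).mul_pow, pow_two, pow_two, hsq _ hg,
        hsq _ hk, one_mul]
    · refine Or.inr ?_
      have hb : classRefl hc u hu * classRefl hc v hv * classRefl hc u hu =
          classRefl hc v hv * classRefl hc u hu * classRefl hc v hv := by
        have h := braid_reflIso hc hu hv hf
        have e1 : reflIso Q u (hu ▸ hc) * reflIso Q u (hu ▸ hc) = 1 :=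
          mat_ext Q (reflectionMatrix_mul_self Q (hu ▸ hc))
        have e2 : reflIso Q v (hv ▸ hc) * reflIso Q v (hv ▸ hc) = 1 :=
          mat_ext Q (reflectionMatrix_mul_self Q (hv ▸ hc))
        rw [inv_eq_of_mul_eq_one_right e1, inv_eq_of_mul_eq_one_right e2] at h
        exact Subtype.ext h
      calc (classRefl hc u hu * classRefl hc v hv) ^ 3
          = (classRefl hc u hu * classRefl hc v hv * classRefl hc u hu) *
            (classRefl hc v hv * classRefl hc u hu * classRefl hc v hv) := by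
            simp [pow_succ, mul_assoc]
        _ = (classRefl hc u hu * classRefl hc v hv * classRefl hc u hu) *
            (classRefl hc u hu * classRefl hc v hv * classRefl hc u hu) := by rw [hb]
        _ = 1 := by
          have h1 := hsq _ hg; have h2 := hsq _ hk
          simp only [mul_assoc]
          rw [← mul_assoc (classRefl hc u hu) (classRefl hc u hu), h1, one_mul,
            ← mul_assoc (classRefl hc v hv) (classRefl hc v hv), h2, one_mul, h1]

theorem finrank_fun_zmod : finrank (ZMod 3) (ι → ZMod 3) = Fintype.card ι := Module.finrank_pi _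

/-- A vector of norm `c` orthogonal to one or two given orthogonal vectors of norm `c`. -/
theorem exists_orth_norm (hQ : (QuadraticMap.polarBilin Q).Nondegenerate) (hn : 5 ≤ Fintype.card ι)
    (hc : c ≠ 0) (a : ZMod 3) {u v : ι → ZMod 3} (hu : Q u = c) (hv : Q v = c)
    (h : QuadraticMap.polar (⇑Q) u v = 0) :
    ∃ z, Q z = a ∧ (a = 0 → z ≠ 0) ∧ QuadraticMap.polar (⇑Q) u z = 0 ∧
      QuadraticMap.polar (⇑Q) v z = 0 := by
  have hvu : QuadraticMap.polar (⇑Q) v u = 0 := by rw [QuadraticMap.polar_comm, h]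
  have hsep := sep_perpSub Q hQ.1 ![u, v] (by
    simp [det_fin_two, h, hvu, hu, hv, two_ne_zero_zmod_three, hc])
  have hd : 3 ≤ finrank (ZMod 3) (perpSub Q ![u, v]) := by
    have := le_finrank_perpSub Q ![u, v]
    rw [finrank_fun_zmod] at this
    omega
  by_cases ha : a = 0
  · obtain ⟨z, hz0, hz⟩ := exists_quad_isotropic two_ne_zero_zmod_three
      (Q.comp (perpSub Q ![u, v]).subtype) hsep hd
    exact ⟨z.1, hz.trans ha.symm, fun _ e => hz0 (Subtype.ext e), mem_perpSub.1 z.2 0,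
      mem_perpSub.1 z.2 1⟩
  · obtain ⟨z, hz⟩ := exists_quad_value two_ne_zero_zmod_three
      (Q.comp (perpSub Q ![u, v]).subtype) hsep (by omega) a
    exact ⟨z.1, hz, fun e => absurd e ha, mem_perpSub.1 z.2 0, mem_perpSub.1 z.2 1⟩

theorem exists_orth_one (hQ : (QuadraticMap.polarBilin Q).Nondegenerate) (hn : 5 ≤ Fintype.card ι)
    (hc : c ≠ 0) {u : ι → ZMod 3} (hu : Q u = c) :
    ∃ z, Q z = c ∧ QuadraticMap.polar (⇑Q) u z = 0 := by
  obtain ⟨z, hz⟩ := exists_quad_value two_ne_zero_zmod_three (Q.comp (perpSub Q ![u]).subtype)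
    (sep_perpSub Q hQ.1 ![u] (by simpa using polar_self_ne_zero hc hu))
    (by have := le_finrank_perpSub Q ![u]; rw [finrank_fun_zmod] at this; omega) c
  exact ⟨z.1, hz, mem_perpSub.1 z.2 0⟩

/-- Two vectors of norm `c` have a common orthogonal vector of norm `c`. -/
theorem exists_common_orth (hQ : (QuadraticMap.polarBilin Q).Nondegenerate)
    (hn : 5 ≤ Fintype.card ι) (hc : c ≠ 0) {u v : ι → ZMod 3} (hu : Q u = c) (hv : Q v = c) :
    ∃ z, Q z = c ∧ QuadraticMap.polar (⇑Q) u z = 0 ∧ QuadraticMap.polar (⇑Q) v z = 0 := by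
  by_cases h : QuadraticMap.polar (⇑Q) u v = 0
  · obtain ⟨z, hz, -, h1, h2⟩ := exists_orth_norm hQ hn hc c hu hv h
    exact ⟨z, hz, h1, h2⟩
  obtain ⟨t, ht, htc⟩ : ∃ t, t * (2 * c) = QuadraticMap.polar (⇑Q) u v ∧ t * t = 1 := by
    have key : ∀ a f : ZMod 3, a ≠ 0 → f ≠ 0 → ∃ t, t * (2 * a) = f ∧ t * t = 1 := by decide
    exact key c _ hc h
  obtain ⟨s, hs⟩ : ∃ s, s = v - t • u := ⟨_, rfl⟩
  have hus : QuadraticMap.polar (⇑Q) u s = 0 := by
    rw [hs, QuadraticMap.polar_sub_right, QuadraticMap.polar_smul_right, polar_self', hu,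
      smul_eq_mul, ht, sub_self]
  have hvs : v = t • u + s := by rw [hs]; abel
  have hQs : Q s = 0 := by
    have := hv
    rw [hvs, QuadraticMap.map_add (⇑Q), QuadraticMap.map_smul, QuadraticMap.polar_smul_left, hus,
      hu, smul_zero, add_zero, smul_eq_mul, htc, one_mul, add_eq_left] at this
    exact this
  have hvz : ∀ z, QuadraticMap.polar (⇑Q) v z =
      t * QuadraticMap.polar (⇑Q) u z + QuadraticMap.polar (⇑Q) s z := fun z => by
    rw [hvs, QuadraticMap.polar_add_left, QuadraticMap.polar_smul_left, smul_eq_mul]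
  by_cases hs0 : s = 0
  · obtain ⟨z, hz, h1⟩ := exists_orth_one hQ hn hc hu
    exact ⟨z, hz, h1, by rw [hvz, h1, hs0, QuadraticMap.polar_zero_left, mul_zero, add_zero]⟩
  have hsu : s ∈ perpSub Q ![u] := mem_perpSub.2 fun i => by
    rw [Subsingleton.elim i 0]; exact hus
  obtain ⟨s', hs'0, hs'1⟩ := exists_hyperbolic_partner (Q.comp (perpSub Q ![u]).subtype)
    (sep_perpSub Q hQ.1 ![u] (by simpa using polar_self_ne_zero hc hu)) (a := ⟨s, hsu⟩)
    (fun e => hs0 (congrArg Subtype.val e)) hQs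
  have hus' : QuadraticMap.polar (⇑Q) u (s' : ι → ZMod 3) = 0 := mem_perpSub.1 s'.2 0
  have hss' : QuadraticMap.polar (⇑Q) s (s' : ι → ZMod 3) = 1 := hs'1
  have hQs' : Q (s' : ι → ZMod 3) = 0 := hs'0
  obtain ⟨z, hz⟩ := exists_quad_value two_ne_zero_zmod_three
    (Q.comp (perpSub Q ![u, s, (s' : ι → ZMod 3)]).subtype)
    (sep_perpSub Q hQ.1 _ (by
      simp [det_fin_three, hu, hQs, hQs', hus, hus', hss',
        QuadraticMap.polar_comm (⇑Q) s u, QuadraticMap.polar_comm (⇑Q) (s' : ι → ZMod 3) u,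
        QuadraticMap.polar_comm (⇑Q) (s' : ι → ZMod 3) s, two_ne_zero_zmod_three, hc]))
    (by
      have := le_finrank_perpSub Q ![u, s, (s' : ι → ZMod 3)]
      rw [finrank_fun_zmod] at this; omega) c
  have h1 : QuadraticMap.polar (⇑Q) u (z : ι → ZMod 3) = 0 := mem_perpSub.1 z.2 0
  refine ⟨z.1, hz, h1, ?_⟩
  rw [hvz, h1, show QuadraticMap.polar (⇑Q) s (z : ι → ZMod 3) = 0 from mem_perpSub.1 z.2 1,
    mul_zero, add_zero]

theorem reflClass_isThreeTranspositionClass (hQ : (QuadraticMap.polarBilin Q).Nondegenerate)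
    (hn : 5 ≤ Fintype.card ι) (hc : c ≠ 0) : IsThreeTranspositionClass (reflClass Q c) := by
  obtain ⟨u, hu⟩ := exists_value two_ne_zero_zmod_three hQ (by omega) c
  refine ⟨reflClass_isThreeTranspositionSet hc, ⟨_, classRefl_mem hc u hu, ?_⟩,
    Subgroup.closure_closure_coe_preimage⟩
  ext g
  rw [show (g ∈ conjugatesOf (classRefl hc u hu)) ↔ IsConj (classRefl hc u hu) g from Iff.rfl, isConj_iff]
  constructor
  · intro hg
    obtain ⟨w, hw, rfl⟩ := exists_eq_classRefl hc hg
    have step : ∀ (a b : ι → ZMod 3) (ha : Q a = c) (hb : Q b = c),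
        QuadraticMap.polar (⇑Q) a b ≠ 0 →
        ∃ k, k * classRefl hc a ha * k⁻¹ = classRefl hc b hb := fun a b ha hb h => by
      refine ⟨classRefl hc a ha * classRefl hc b hb, Subtype.ext ?_⟩
      have h' := braid_reflIso hc hb ha (by rwa [QuadraticMap.polar_comm])
      show reflIso Q a (ha ▸ hc) * reflIso Q b (hb ▸ hc) * reflIso Q a (ha ▸ hc) *
          (reflIso Q a (ha ▸ hc) * reflIso Q b (hb ▸ hc))⁻¹ = reflIso Q b (hb ▸ hc)
      rw [_root_.mul_inv_rev]
      calc reflIso Q a (ha ▸ hc) * reflIso Q b (hb ▸ hc) * reflIso Q a (ha ▸ hc) *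
            ((reflIso Q b (hb ▸ hc))⁻¹ * (reflIso Q a (ha ▸ hc))⁻¹)
          = reflIso Q a (ha ▸ hc) * (reflIso Q b (hb ▸ hc) * reflIso Q a (ha ▸ hc) *
            (reflIso Q b (hb ▸ hc))⁻¹) * (reflIso Q a (ha ▸ hc))⁻¹ := by group
        _ = reflIso Q b (hb ▸ hc) := by
          rw [h']
          have e : reflIso Q a (ha ▸ hc) * reflIso Q a (ha ▸ hc) = 1 :=
            mat_ext Q (reflectionMatrix_mul_self Q (ha ▸ hc))
          rw [inv_eq_of_mul_eq_one_right e]
          simp only [mul_assoc, e, mul_one]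
          rw [← mul_assoc, e, one_mul]
    by_cases hf : QuadraticMap.polar (⇑Q) u w = 0
    · obtain ⟨z, hz, -, h1, h2⟩ := exists_orth_norm hQ hn hc (2 * c) hu hw hf
      have hwu : QuadraticMap.polar (⇑Q) w u = 0 := by rw [QuadraticMap.polar_comm, hf]
      have hv : Q (u + w + z) = c := by
        rw [QuadraticMap.map_add (⇑Q), QuadraticMap.map_add (⇑Q) u w, hu, hw, hz,
          QuadraticMap.polar_add_left, hf, h1, h2]
        clear * -
        revert c; decide
      obtain ⟨k, hk⟩ := step u (u + w + z) hu hv (by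
        rw [QuadraticMap.polar_add_right, QuadraticMap.polar_add_right, hf, h1, add_zero, add_zero]
        exact polar_self_ne_zero hc hu)
      obtain ⟨l, hl⟩ := step (u + w + z) w hv hw (by
        rw [QuadraticMap.polar_comm, QuadraticMap.polar_add_right, QuadraticMap.polar_add_right,
          hwu, h2, add_zero, zero_add]
        exact polar_self_ne_zero hc hw)
      exact ⟨l * k, by rw [← hl, ← hk]; group⟩
    · exact step u w hu hw hf
  · rintro ⟨k, rfl⟩
    show ((k : ↥(isometryGroup (ZMod 3) ⇑Q)) * reflIso Q u (hu ▸ hc) *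
      (k : ↥(isometryGroup (ZMod 3) ⇑Q))⁻¹) ∈ reflectionsOfNorm (⇑Q) c
    rw [conj_reflIso]
    exact reflIso_mem hc (by rw [quad_mulVec, hu])

theorem reflClass_two (hQ : (QuadraticMap.polarBilin Q).Nondegenerate) (hn : 5 ≤ Fintype.card ι)
    (hc : c ≠ 0) : ∃ a ∈ reflClass Q c, ∃ b ∈ reflClass Q c, a ≠ b := by
  obtain ⟨u, hu⟩ := exists_value two_ne_zero_zmod_three hQ (by omega) c
  obtain ⟨z, hz, h⟩ := exists_orth_one hQ hn hc hu
  exact ⟨_, classRefl_mem hc u hu, _, classRefl_mem hc z hz, classRefl_ne hc hu hz h⟩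

theorem reflClass_connected (hQ : (QuadraticMap.polarBilin Q).Nondegenerate)
    (hn : 5 ≤ Fintype.card ι) (hc : c ≠ 0) : (commutingGraph (reflClass Q c)).Connected := by
  obtain ⟨a, ha, -⟩ := reflClass_two hQ hn hc
  haveI : Nonempty (reflClass Q c) := ⟨⟨a, ha⟩⟩
  refine ⟨?_⟩
  intro x y
  obtain ⟨u, hu, hx⟩ := exists_eq_classRefl hc x.2
  obtain ⟨v, hv, hy⟩ := exists_eq_classRefl hc y.2
  obtain ⟨z, hz, h1, h2⟩ := exists_common_orth hQ hn hc hu hv
  have adj : ∀ (w : reflClass Q c) (p : ι → ZMod 3) (hp : Q p = c),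
      (w : ↥(reflectionSubgroup (⇑Q) c)) = classRefl hc p hp → QuadraticMap.polar (⇑Q) p z = 0 →
      (commutingGraph (reflClass Q c)).Adj w ⟨_, classRefl_mem hc z hz⟩ := by
    intro w p hp hw h
    refine ⟨fun e => classRefl_ne hc hp hz h (hw.symm.trans (congrArg Subtype.val e)), Or.inl ?_⟩
    show Commute (w : ↥(reflectionSubgroup (⇑Q) c)) (classRefl hc z hz)
    rw [hw]
    exact (commute_classRefl_iff hc hp hz).2 (Or.inl h)
  exact (adj x u hu hx h1).reachable.trans (adj y v hv hy h2).reachable.symm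

theorem pCore_two_le_center (hQ : (QuadraticMap.polarBilin Q).Nondegenerate)
    (hn : 5 ≤ Fintype.card ι) (hc : c ≠ 0) :
    pCore 2 ↥(reflectionSubgroup (⇑Q) c) ≤ Subgroup.center ↥(reflectionSubgroup (⇑Q) c) := by
  by_contra h
  obtain ⟨u, hu⟩ := exists_value two_ne_zero_zmod_three hQ (by omega) c
  obtain ⟨y, ⟨hy, hrel⟩, hne⟩ := exists_vRel_of_not_central
    (reflClass_isThreeTranspositionClass hQ hn hc) h _ (classRefl_mem hc u hu)
  obtain ⟨v, hv, rfl⟩ := exists_eq_classRefl hc hy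
  rcases (commute_classRefl_iff hc hu hv).1
    ((hrel _ (classRefl_mem hc v hv)).1 (Commute.refl _)) with hf | hf
  swap
  · exact hne (classRefl_eq_of_polar_ne hc hu hv hf)
  obtain ⟨z, hz, hz0, h1, h2⟩ := exists_orth_norm hQ hn hc 0 hu hv hf
  have hw : Q (v + z) = c := by rw [QuadraticMap.map_add (⇑Q), hv, hz, h2, add_zero, add_zero]
  have hvv : QuadraticMap.polar (⇑Q) v (v + z) ≠ 0 := by
    rw [QuadraticMap.polar_add_right, h2, add_zero]; exact polar_self_ne_zero hc hv
  rcases (commute_classRefl_iff hc hv hw).1 ((hrel _ (classRefl_mem hc _ hw)).2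
      ((commute_classRefl_iff hc hu hw).2
        (Or.inl (by rw [QuadraticMap.polar_add_right, hf, h1, add_zero])))) with e | e | e
  · exact hvv e
  · exact hz0 rfl (by simpa using e)
  · have hz' : z = (-2 : ZMod 3) • v := by linear_combination (norm := module) e
    rw [hz', QuadraticMap.polar_smul_right, smul_eq_mul] at h2
    exact mul_ne_zero (neg_ne_zero.2 two_ne_zero_zmod_three) (polar_self_ne_zero hc hv) h2

theorem pCore_three_le_center (hQ : (QuadraticMap.polarBilin Q).Nondegenerate)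
    (hn : 5 ≤ Fintype.card ι) (hc : c ≠ 0) :
    pCore 3 ↥(reflectionSubgroup (⇑Q) c) ≤ Subgroup.center ↥(reflectionSubgroup (⇑Q) c) := by
  by_contra h
  obtain ⟨u, hu⟩ := exists_value two_ne_zero_zmod_three hQ (by omega) c
  obtain ⟨y, ⟨hy, hrel⟩, hne⟩ := exists_wRel_of_not_central
    (reflClass_isThreeTranspositionClass hQ hn hc) h _ (classRefl_mem hc u hu)
  obtain ⟨v, hv, rfl⟩ := exists_eq_classRefl hc hy
  -- a vector of norm `c` orthogonal to `u` commutes with the second reflection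
  have hperp : ∀ z (hz : Q z = c), QuadraticMap.polar (⇑Q) u z = 0 →
      QuadraticMap.polar (⇑Q) v z = 0 := fun z hz huz => by
    have hm : classRefl hc z hz ∈ perp (reflClass Q c) (classRefl hc u hu) :=
      ⟨classRefl_mem hc z hz, (classRefl_ne hc hu hz huz).symm,
        (commute_classRefl_iff hc hu hz).2 (Or.inl huz)⟩
    rw [hrel] at hm
    rcases (commute_classRefl_iff hc hv hz).1 hm.2.2 with e | e
    · exact e
    · exact absurd (classRefl_eq_of_polar_ne hc hv hz e) hm.2.1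
  obtain ⟨t, ht⟩ : ∃ t, t = (2 * c)⁻¹ * QuadraticMap.polar (⇑Q) u v := ⟨_, rfl⟩
  obtain ⟨s, hs⟩ : ∃ s, s = v - t • u := ⟨_, rfl⟩
  have hus : QuadraticMap.polar (⇑Q) u s = 0 := by
    rw [hs, QuadraticMap.polar_sub_right, QuadraticMap.polar_smul_right, polar_self', hu, ht,
      smul_eq_mul]
    have h20 := mul_ne_zero two_ne_zero_zmod_three hc
    rw [mul_comm, ← mul_assoc, mul_inv_cancel₀ h20, one_mul, sub_self]
  have hvs : v = t • u + s := by rw [hs]; abel
  have hsep := sep_perpSub Q hQ.1 ![u] (by simpa using polar_self_ne_zero hc hu)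
  have hperp' : ∀ z (hz : Q z = c), QuadraticMap.polar (⇑Q) u z = 0 →
      QuadraticMap.polar (⇑Q) s z = 0 := fun z hz huz => by
    have := hperp z hz huz
    rwa [hvs, QuadraticMap.polar_add_left, QuadraticMap.polar_smul_left, huz, smul_zero,
      zero_add] at this
  by_cases hs0 : s = 0
  · rw [hs0, add_zero] at hvs
    refine hne (classRefl_eq_of_polar_ne hc hu hv ?_)
    rcases zmod_three_cases t with e | e | e <;> rw [e] at hvs
    · exact absurd (by rw [← hv, hvs, zero_smul, QuadraticMap.map_zero]) hc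
    · exact Or.inl (by rw [hvs, one_smul])
    · exact Or.inr (by rw [hvs, neg_one_smul])
  by_cases hQs : Q s = 0
  · have hsu : s ∈ perpSub Q ![u] := mem_perpSub.2 fun i => by
      rw [Subsingleton.elim i 0]; exact hus
    obtain ⟨s', hs'0, hs'1⟩ := exists_hyperbolic_partner (Q.comp (perpSub Q ![u]).subtype) hsep
      (a := ⟨s, hsu⟩) (fun e => hs0 (congrArg Subtype.val e)) hQs
    have hus' : QuadraticMap.polar (⇑Q) u (s' : ι → ZMod 3) = 0 := mem_perpSub.1 s'.2 0
    have hss' : QuadraticMap.polar (⇑Q) s (s' : ι → ZMod 3) = 1 := hs'1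
    have hQs' : Q (s' : ι → ZMod 3) = 0 := hs'0
    have e := hperp' (c • (s' : ι → ZMod 3) + s) (by
      rw [QuadraticMap.map_add (⇑Q), QuadraticMap.map_smul, QuadraticMap.polar_smul_left, hQs, hQs',
        QuadraticMap.polar_comm, hss']
      simp)
      (by rw [QuadraticMap.polar_add_right, QuadraticMap.polar_smul_right, hus, hus']; simp)
    rw [QuadraticMap.polar_add_right, QuadraticMap.polar_smul_right, hss', polar_self', hQs,
      smul_eq_mul, mul_one, mul_zero, add_zero] at e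
    exact hc e
  · have hsu : QuadraticMap.polar (⇑Q) s u = 0 := by rw [QuadraticMap.polar_comm, hus]
    have hss : QuadraticMap.polar (⇑Q) s s ≠ 0 := by
      rw [polar_self']; exact mul_ne_zero two_ne_zero_zmod_three hQs
    obtain ⟨z, hz⟩ := exists_quad_value two_ne_zero_zmod_three
      (Q.comp (perpSub Q ![u, s]).subtype)
      (sep_perpSub Q hQ.1 ![u, s] (by
        simp [det_fin_two, hus, hsu, hu, hQs, two_ne_zero_zmod_three, hc]))
      (by
        have := le_finrank_perpSub Q ![u, s]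
        rw [finrank_fun_zmod] at this; omega) (c - Q s)
    have h1 : QuadraticMap.polar (⇑Q) u (z : ι → ZMod 3) = 0 := mem_perpSub.1 z.2 0
    have h2 : QuadraticMap.polar (⇑Q) s (z : ι → ZMod 3) = 0 := mem_perpSub.1 z.2 1
    have hz' : Q (z : ι → ZMod 3) = c - Q s := hz
    have e := hperp' (s + (z : ι → ZMod 3))
      (by rw [QuadraticMap.map_add (⇑Q), hz', h2]; ring)
      (by rw [QuadraticMap.polar_add_right, hus, h1, add_zero])
    rw [QuadraticMap.polar_add_right, h2, add_zero] at e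
    exact hss e

theorem reflClass_structure (hQ : (QuadraticMap.polarBilin Q).Nondegenerate)
    (hn : 5 ≤ Fintype.card ι) (hc : c ≠ 0) :
    IsQuasisimple (commutator ↥(reflectionSubgroup (⇑Q) c)) ∧
      (commutator ↥(reflectionSubgroup (⇑Q) c)).index ≤ 2 ∧
      generalizedFittingSubgroup ↥(reflectionSubgroup (⇑Q) c) =
        Subgroup.center ↥(reflectionSubgroup (⇑Q) c) ⊔
          commutator ↥(reflectionSubgroup (⇑Q) c) ∧
      IsPrimitiveUnderConj (reflClass Q c) := by
  have hD := reflClass_isThreeTranspositionClass hQ hn hc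
  have hne := reflClass_two hQ hn hc
  have h2 := pCore_two_le_center hQ hn hc
  have h3 := pCore_three_le_center hQ hn hc
  have hcon := reflClass_connected hQ hn hc
  obtain ⟨L, hL, hn', -, hF⟩ := exists_component_of_central hD hne h2 h3
  haveI := hn'
  have hidx := index_le_two_of_connected hD hL hcon
  have hcomm := commutator_eq_of_index_le_two (Subgroup.isPerfect_iff.mp hL.2.1) hidx
  rw [hcomm, sup_comm]
  exact ⟨hL.2, hidx, hF, primitive_of_cores hD hne h2 h3 hcon⟩

end CfsgLib.Transpositions
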