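import Cfsg.Agent.FischerTypes.U62Geometry

/-!
# Transvections orthogonal to given points in unitary spaces over the field with four elements

Generation by the transvections orthogonal to one of two non-orthogonal points, generation of the
stabiliser of an isotropic vector, and the parity of the number of transvections.
-/

set_option autoImplicit false

namespace CfsgLib.Transpositions.UnitaryPerp

open Matrix CfsgLib.RepBounds.Unit CfsgLib.U62

variable {F : Type*} [Field F] [Fintype F] (C : ConjField F)
variable {κ : Type*} [Fintype κ] [DecidableEq κ]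

local notation "ee" => vE C κ
local notation "ff" => vF C κ

variable (hC : C.q = 2)
include hC

/-- An isotropic vector with prescribed product. -/
theorem exists_isotropic_eq [Nontrivial κ] {w : κ → F} (hw : w ≠ 0) (c : F) :
    ∃ z : κ → F, herm C z z = 0 ∧ herm C z w = c := by
  obtain ⟨z, hz, hzw⟩ : ∃ z, herm C z z = 0 ∧ herm C z w ≠ 0 := by
    by_contra hall
    push Not at hall
    obtain ⟨y, hy⟩ := exists_herm_eq C hw 1
    let L : (κ → F) →ₗ[F] (Unit → F) :=
      { toFun := fun v _ => herm C v w
        map_add' := fun a b => funext fun _ => herm_add_left C a b w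
        map_smul' := fun a b => funext fun _ => herm_smul_left C a b w }
    have h := LinearMap.congr_fun
      (eq_of_eq_on_isotropic C hC L 0 (fun v hv => funext fun _ => hall v hv)) y
    have h' := congrFun h ()
    simp [L, hy] at h'
  refine ⟨(c / herm C z w) • z, ?_, ?_⟩
  · rw [herm_smul_left, herm_smul_right, hz, mul_zero, mul_zero]
  · rw [herm_smul_left, div_mul_cancel₀ c hzw]

/-- Coordinates adapted to two non-orthogonal isotropic vectors. -/
theorem exists_frame [Nonempty κ] {u v : Fin 2 ⊕ κ → F} (hu : herm C u u = 0) (hv : herm C v v = 0)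
    (hu0 : u ≠ 0) (huv : herm C v u ≠ 0) :
    ∃ (g : suG C (Fin 2 ⊕ κ)) (b : F), b ≠ 0 ∧ app C g u = ee ∧ app C g v = b • ff := by
  obtain ⟨g, -, hg⟩ := exists_to_vE C hu hu0
  have hx : herm C (app C g v) ee ≠ 0 := by rw [← hg, herm_app]; exact huv
  obtain ⟨k, hk, hk'⟩ := CfsgLib.Forms4.exists_translate C (x := app C g v) (by rw [herm_app, hv]) hx
  refine ⟨k⁻¹ * g, herm C (app C g v) ee, hx, ?_, ?_⟩
  · rw [app_mul, hg]
    conv_lhs => rw [← hk, app_inv_app]
  · rw [app_mul]
    conv_lhs => rw [hk', app_smul, app_inv_app]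

/-- The transvections orthogonal to one of two non-orthogonal points give all transvections. -/
theorem tv_mem_of_nonorth_pair [Nontrivial κ] (M : Subgroup (suG C (Fin 2 ⊕ κ)))
    {u v : Fin 2 ⊕ κ → F} (hu : herm C u u = 0) (hv : herm C v v = 0) (huv : herm C v u ≠ 0)
    (hM : ∀ x, herm C x x = 0 → x ≠ 0 → (herm C x u = 0 ∨ herm C x v = 0) → tv C x ∈ M)
    {x : Fin 2 ⊕ κ → F} (hx : herm C x x = 0) (hx0 : x ≠ 0) : tv C x ∈ M := by
  have hu0 : u ≠ 0 := fun h => huv (by rw [h, herm_zero_right])
  obtain ⟨g, b, hb, hgu, hgv⟩ := exists_frame C hC hu hv hu0 huv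
  by_cases h1 : herm C x u = 0
  · exact hM x hx hx0 (Or.inl h1)
  by_cases h2 : herm C x v = 0
  · exact hM x hx hx0 (Or.inr h2)
  set x' := app C g x with hx'
  set A := herm C x' ff with hA
  set B := herm C x' ee with hB
  set w : κ → F := x' ∘ Sum.inr with hw
  have hB0 : B ≠ 0 := by rw [hB, hx', ← hgu, herm_app]; exact h1
  have hA0 : A ≠ 0 := fun h => h2 (by
    rw [← herm_app C g, hgv, herm_smul_right, ← hx', ← hA, h, mul_zero])
  have hd : x' = A • ee + B • ff + inW w := decomp C x'
  have hiso : A * C.σ B + B * C.σ A + herm C w w = 0 := by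
    have h0 : herm C x' x' = 0 := by rw [hx', herm_app, hx]
    rw [hd] at h0
    simp only [herm_add_left, herm_add_right, herm_smul_left, herm_smul_right, herm_vE_vE,
      herm_vE_vF, herm_vF_vE, herm_vF_vF, herm_vE_inW, herm_vF_inW, herm_inW_vE, herm_inW_vF,
      herm_inW] at h0
    linear_combination h0
  obtain ⟨z, hz, hzw⟩ : ∃ z : κ → F, herm C z z = 0 ∧ herm C z w = 1 + A * C.σ B := by
    by_cases hw0 : w = 0
    · refine ⟨0, herm_zero_left C _, ?_⟩
      have hfix : A * C.σ B = 1 := by
        refine eq_one_of_fixed C hC ?_ (mul_ne_zero hA0 ((map_ne_zero C.σ).2 hB0))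
        rw [hw0, herm_zero_left, add_zero] at hiso
        rw [map_mul, C.invol]
        linear_combination hiso - (A * C.σ B) * two_eq_zero C hC
      rw [herm_zero_left, hfix, add_self C hC]
    · exact exists_isotropic_eq C hC hw0 _
  set r : Fin 2 ⊕ κ → F := A • ee + inW z with hr
  set s : Fin 2 ⊕ κ → F := B • ff + inW (w + z) with hs
  have hwz : herm C w z = 1 + B * C.σ A := by
    rw [← conj_herm, hzw, map_add, map_one, map_mul, C.invol, mul_comm]
  have hrr : herm C r r = 0 := by
    simp [hr, herm_add_left, herm_add_right, herm_smul_left, herm_smul_right, herm_vE_vE,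
      herm_vE_inW, herm_inW_vE, herm_inW, hz]
  have hss : herm C s s = 0 := by
    simp only [hs, herm_add_left, herm_add_right, herm_smul_left, herm_smul_right, herm_vF_vF,
      herm_vF_inW, herm_inW_vF, herm_inW, hz, hzw, hwz]
    linear_combination hiso + two_eq_zero C hC
  have hrs : herm C r s = 1 := by
    simp only [hr, hs, herm_add_left, herm_add_right, herm_smul_left, herm_smul_right, herm_vE_vF,
      herm_vE_inW, herm_inW_vF, herm_inW, hz, hzw]
    linear_combination (A * C.σ B) * two_eq_zero C hC
  have hre : herm C r ee = 0 := by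
    simp [hr, herm_add_left, herm_smul_left, herm_vE_vE, herm_inW_vE]
  have hsf : herm C s ff = 0 := by
    simp [hs, herm_add_left, herm_smul_left, herm_vF_vF, herm_inW_vF]
  have hsum : r + s = x' := by
    rw [hd, hr, hs, inW_add]
    linear_combination (norm := module) vec_add_self C hC (inW z : Fin 2 ⊕ κ → F)
  set r' := app C g⁻¹ r with hr'
  set s' := app C g⁻¹ s with hs'
  have hs'' : herm C s' s' = 0 := by rw [hs', herm_app, hss]
  have hr'' : herm C r' r' = 0 := by rw [hr', herm_app, hrr]
  have hne : ∀ {y : Fin 2 ⊕ κ → F}, herm C r s = 1 → (y = r ∨ y = s) → app C g⁻¹ y ≠ 0 := by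
    intro y h hy h0
    have : y = 0 := by rw [← app_app_inv C g y, h0]; simp [app]
    rcases hy with rfl | rfl
    · rw [this, herm_zero_left] at h; exact zero_ne_one h
    · rw [this, herm_zero_right] at h; exact zero_ne_one h
  have hrm : tv C r' ∈ M := hM r' hr'' (hne hrs (Or.inl rfl))
    (Or.inl (by rw [hr', herm_app_left, hgu, hre]))
  have hsm : tv C s' ∈ M := hM s' hs'' (hne hrs (Or.inr rfl))
    (Or.inr (by rw [hs', herm_app_left, hgv, herm_smul_right, hsf, mul_zero]))
  have hx_eq : app C (tv C s') r' = x := by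
    rw [app_tv C hC hs'', hr', hs', herm_app, hrs, one_smul, ← app_add, hsum, hx', app_inv_app]
  rw [← hx_eq, ← conj_tv C hC _ hr'']
  exact mul_mem (mul_mem hsm hrm) (inv_mem hsm)

/-- The subgroup generated by the transvections orthogonal to `v`. -/
noncomputable def perp {ι : Type*} [Fintype ι] [DecidableEq ι] (v : ι → F) : Subgroup (suG C ι) :=
  Subgroup.closure {g | ∃ x, herm C x x = 0 ∧ x ≠ 0 ∧ herm C x v = 0 ∧ g = tv C x}

omit hC in
theorem tv_mem_perp {ι : Type*} [Fintype ι] [DecidableEq ι] {v x : ι → F} (hx : herm C x x = 0)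
    (h : herm C x v = 0) (hx0 : x ≠ 0) : tv C x ∈ perp C v :=
  Subgroup.subset_closure ⟨x, hx, hx0, h, rfl⟩

theorem tv_zero {ι : Type*} [Fintype ι] [DecidableEq ι] : tv C (0 : ι → F) = 1 :=
  suG_ext C fun y => by
    rw [app_tv C hC (herm_zero_left C 0), smul_zero, add_zero, app_one]

/-- The Heisenberg elements at `e` are products of transvections orthogonal to `e`. -/
theorem uniEl_mem_perp [Nontrivial κ] (w : κ → F) (c : F) (hc : c + C.σ c + herm C w w = 0) :
    uniEl C w c hc ∈ perp C ee := by
  have htv : ∀ x, herm C x x = 0 → herm C x ee = 0 → tv C x ∈ perp C ee := fun x hx h => by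
    by_cases hx0 : x = 0
    · rw [hx0, tv_zero C hC]; exact one_mem _
    · exact tv_mem_perp C hx h hx0
  have hcentral : ∀ {d : F} (hd : d ∈ C.skew), uniEl C (0 : κ → F) d (skew_valid C hd) ∈ perp C ee := by
    intro d hd
    by_cases hd0 : d = 0
    · subst hd0; rw [uniEl_zero]; exact one_mem _
    have hd1 : d = 1 := eq_one_of_fixed C hC (by rw [C.skew_eq hd, neg_eq C hC]) hd0
    have h := isTransv_central C (κ := κ) hd
    subst hd1
    rw [h.unique C (isTransv_tv C hC (herm_vE_vE C))]
    exact htv _ (herm_vE_vE C) (herm_vE_vE C)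
  let S : AddSubgroup (κ → F) :=
    { carrier := {w | ∃ (c : F) (hc : c + C.σ c + herm C w w = 0), uniEl C w c hc ∈ perp C ee}
      zero_mem' := ⟨0, by simp [herm_zero_left], by rw [uniEl_zero]; exact one_mem _⟩
      add_mem' := by
        rintro a b ⟨c, hc, h⟩ ⟨c', hc', h'⟩
        exact ⟨_, uniEl_valid_mul C hc hc', by rw [← uniEl_mul C hc hc']; exact mul_mem h h'⟩
      neg_mem' := by
        rintro a ⟨c, hc, h⟩
        have e : -a = a := by funext i; exact neg_eq C hC (a i)
        rw [e]; exact ⟨c, hc, h⟩ }
  have hiso : ∀ w : κ → F, herm C w w = 0 → w ∈ S := by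
    intro w hw
    have h1 : (1 : F) ∈ C.skew := one_mem_skew C hC
    have hc : (1 : F) + C.σ 1 + herm C w w = 0 := by rw [hw, map_one, add_zero, add_self C hC]
    have hv : herm C ((ee : Fin 2 ⊕ κ → F) + inW w) (ee + inW w) = 0 := by
      simp [herm_add_left, herm_add_right, herm_vE_vE, herm_vE_inW, herm_inW_vE, herm_inW, hw]
    have hw' : herm C (inW w) (inW w) = 0 := by rw [herm_inW, hw]
    refine ⟨1, hc, ?_⟩
    have e : uniEl C w 1 hc = tv C (ee + inW w) * tv C (inW w) := suG_ext C fun x => by
      rw [app_mul, app_tv C hC hw', app_tv C hC hv, app_uniEl]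
      simp only [herm_add_left, herm_smul_left, herm_inW_vE, herm_inW, hw, mul_zero, add_zero,
        herm_add_right]
      match_scalars <;> first
        | ring1
        | linear_combination (-herm C x (inW w)) * two_eq_zero C hC
        | linear_combination (herm C x (inW w)) * two_eq_zero C hC
    rw [e]
    exact mul_mem (htv _ hv (by simp [herm_add_left, herm_vE_vE, herm_inW_vE]))
      (htv _ hw' (herm_inW_vE C w))
  have hall : ∀ w : κ → F, w ∈ S := by
    intro w
    rw [← Finset.univ_sum_single w]
    refine AddSubgroup.sum_mem _ fun j _ => ?_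
    obtain ⟨i, hij⟩ := exists_ne j
    obtain ⟨ω, hω0, hω1, -⟩ := exists_omega C hC
    have hz : ∀ a c : F, a ≠ 0 →
        herm C (c • ((Pi.single i 1 : κ → F) + a • Pi.single j 1))
          (c • ((Pi.single i 1 : κ → F) + a • Pi.single j 1)) = 0 := by
      intro a c ha
      rw [herm_smul_left, herm_smul_right]
      have : herm C ((Pi.single i 1 : κ → F) + a • Pi.single j 1)
          ((Pi.single i 1 : κ → F) + a • Pi.single j 1) = 0 := by
        simp only [herm_add_left, herm_add_right, herm_smul_left, herm_smul_right]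
        simp [herm, Pi.single_apply, hij, hij.symm]
        linear_combination norm_eq_one C hC ha + two_eq_zero C hC
      rw [this, mul_zero, mul_zero]
    have h1 : (1 + ω : F) ≠ 0 := fun h => hω1 (by linear_combination h - two_eq_zero C hC)
    have hsum : (Pi.single j (w j) : κ → F)
        = (w j / (1 + ω)) • ((Pi.single i 1 : κ → F) + (1 : F) • Pi.single j 1)
          + (w j / (1 + ω)) • ((Pi.single i 1 : κ → F) + ω • Pi.single j 1) := by
      set c := w j / (1 + ω) with hc
      have : c • ((Pi.single i 1 : κ → F) + (1 : F) • Pi.single j 1)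
          + c • ((Pi.single i 1 : κ → F) + ω • Pi.single j 1)
          = (c + c) • (Pi.single i 1 : κ → F) + (c * (1 + ω)) • (Pi.single j 1 : κ → F) := by
        module
      rw [this, add_self C hC, zero_smul, zero_add, hc, div_mul_cancel₀ _ h1, ← Pi.single_smul,
        smul_eq_mul, mul_one]
    rw [hsum]
    exact add_mem (hiso _ (hz 1 _ one_ne_zero)) (hiso _ (hz ω _ hω0))
  obtain ⟨c', hc', h⟩ := hall w
  have hd : c - c' ∈ C.skew := by rw [C.mem_skew, map_sub]; linear_combination hc - hc'
  have e : uniEl C w c hc = uniEl C w c' hc' * uniEl C 0 (c - c') (skew_valid C hd) := by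
    rw [uniEl_mul]
    exact uniEl_congr C _ _ (add_zero w).symm (by rw [herm_zero_left]; ring)
  rw [e]
  exact mul_mem h (hcentral hd)

/-- The stabiliser of the vector `e` is generated by the transvections orthogonal to it. -/
theorem mem_perp_of_fix [Nontrivial κ] (hκ : Fintype.card κ ≠ 3) {g : suG C (Fin 2 ⊕ κ)}
    (hg : app C g ee = ee) : g ∈ perp C ee := by
  have htv : ∀ x, herm C x x = 0 → herm C x ee = 0 → tv C x ∈ perp C ee := fun x hx h => by
    by_cases hx0 : x = 0
    · rw [hx0, tv_zero C hC]; exact one_mem _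
    · exact tv_mem_perp C hx h hx0
  have hblock : ∀ g' : suG C κ, blockHom C κ g' ∈ perp C ee := by
    intro g'
    have h : transvs C κ ≤ (perp C (ee : Fin 2 ⊕ κ → F)).comap (blockHom C κ) := by
      rw [transvs, Subgroup.closure_le]
      rintro k ⟨v, c, hv, hc, hk⟩
      show blockHom C κ k ∈ perp C ee
      by_cases hc0 : c = 0
      · rw [show k = 1 from suG_ext C fun y => by rw [hk y, hc0, zero_mul, zero_smul, add_zero, app_one],
          map_one]
        exact one_mem _
      have hc1 : c = 1 := eq_one_of_fixed C hC (by rw [C.skew_eq hc, neg_eq C hC]) hc0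
      rw [hc1] at hk
      rw [(hk.blockHom C).unique C (isTransv_tv C hC (by rw [herm_inW, hv]))]
      exact htv _ (by rw [herm_inW, hv]) (herm_inW_vE C v)
    exact h (by rw [transvs_eq_top C (fun h => hκ h.1)]; exact Subgroup.mem_top _)
  obtain ⟨w, c, hc, g', rfl⟩ := exists_eq_uniEl_mul C g hg
  exact mul_mem (uniEl_mem_perp C hC w c hc) (hblock g')

/-- The number of non-zero isotropic vectors is odd. -/
theorem odd_card_isotropic : Odd (Nat.card {v : Fin 2 ⊕ κ → F // herm C v v = 0 ∧ v ≠ 0}) := by
  classical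
  let e : Fin 2 ⊕ κ → F := ee
  have he : herm C e e = 0 := herm_vE_vE C
  have he0 : e ≠ 0 := CfsgLib.Forms4.vE_ne_zero C
  let f : (Fin 2 ⊕ κ → F) → (Fin 2 ⊕ κ → F) := fun v =>
    if herm C v e ≠ 0 then app C (tv C e) v else if ∃ a : F, v = a • e then v else v + e
  have hne : ∀ v, herm C v e = 0 → (¬ ∃ a : F, v = a • e) → ¬ ∃ a : F, v + e = a • e := by
    rintro v - h ⟨a, ha⟩
    refine h ⟨a + 1, ?_⟩
    rw [add_smul, one_smul, ← ha, add_assoc, vec_add_self C hC, add_zero]
  have hf : ∀ v, herm C v v = 0 → v ≠ 0 → herm C (f v) (f v) = 0 ∧ f v ≠ 0 ∧ f (f v) = v := by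
    intro v hv hv0
    by_cases h1 : herm C v e = 0
    · by_cases h2 : ∃ a : F, v = a • e
      · have : f v = v := by simp [f, h1, h2]
        simp [this, hv, hv0]
      · have e1 : f v = v + e := by simp [f, h1, h2]
        have e2 : herm C (v + e) e = 0 := by rw [herm_add_left, h1, he, add_zero]
        have h3 : herm C e v = 0 := by rw [← conj_herm, h1, map_zero]
        refine ⟨by simp [e1, herm_add_left, herm_add_right, hv, he, h1, h3],
          fun h => h2 ⟨1, by rw [one_smul]; calc v = v + e + e := by
                                                    rw [add_assoc, vec_add_self C hC, add_zero]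
                                               _ = e := by rw [← e1, h, zero_add]⟩, ?_⟩
        rw [e1]
        simp only [f, e2, ne_eq, not_true_eq_false, if_false, hne v h1 h2]
        rw [add_assoc, vec_add_self C hC, add_zero]
    · have e1 : f v = app C (tv C e) v := by simp [f, h1]
      have e2 : herm C (app C (tv C e) v) e = herm C v e := by
        rw [app_tv C hC he, herm_add_left, herm_smul_left, he, mul_zero, add_zero]
      refine ⟨by rw [e1, herm_app, hv], fun h => hv0 ?_, ?_⟩
      · rw [← app_inv_app C (tv C e) v, ← e1, h]; simp [app]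
      · rw [e1]
        simp only [f, e2, ne_eq, h1, not_false_eq_true, if_true]
        rw [← app_mul, tv_mul_self C hC he, app_one]
  let X := {v : Fin 2 ⊕ κ → F // herm C v v = 0 ∧ v ≠ 0}
  let σ : Equiv.Perm X := Function.Involutive.toPerm
    (fun v => ⟨f v.1, (hf v.1 v.2.1 v.2.2).1, (hf v.1 v.2.1 v.2.2).2.1⟩)
    (fun v => Subtype.ext (hf v.1 v.2.1 v.2.2).2.2)
  have hσ : σ ^ (2 ^ 1) = 1 := by
    rw [pow_one, pow_two]
    exact Equiv.ext fun v => Subtype.ext (hf v.1 v.2.1 v.2.2).2.2
  have hmod := Equiv.Perm.card_compl_support_modEq (p := 2) hσ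
  have hfixed : σ.supportᶜ.card = 3 := by
    have himg : σ.supportᶜ = (Finset.univ : Finset Fˣ).image
        (fun a : Fˣ => (⟨(a : F) • e, by rw [herm_smul_left, herm_smul_right, he, mul_zero, mul_zero],
          smul_ne_zero a.ne_zero he0⟩ : X)) := by
      ext v
      simp only [Finset.mem_compl, Equiv.Perm.mem_support, ne_eq, not_not, Finset.mem_image,
        Finset.mem_univ, true_and]
      constructor
      · intro h
        have h' : f v.1 = v.1 := congrArg Subtype.val h
        by_cases h1 : herm C v.1 e = 0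
        · by_cases h2 : ∃ a : F, v.1 = a • e
          · obtain ⟨a, ha⟩ := h2
            refine ⟨Units.mk0 a fun h0 => v.2.2 (by rw [ha, h0, zero_smul]), Subtype.ext ?_⟩
            exact ha.symm
          · simp [f, h1, h2] at h'
            exact absurd h' he0
        · exfalso
          simp [f, h1, app_tv C hC he, he0] at h'
      · rintro ⟨a, rfl⟩
        apply Subtype.ext
        show f ((a : F) • e) = (a : F) • e
        have h2 : ∃ b : F, (a : F) • e = b • e := ⟨a, rfl⟩
        simp only [f, herm_smul_left, he, mul_zero, ne_eq, not_true_eq_false, if_false, if_pos h2]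
    rw [himg, Finset.card_image_of_injective, Finset.card_univ, Fintype.card_units, C.card, hC]
    all_goals first
      | rfl
      | intro a b hab; exact Units.ext (smul_left_injective F he0 (congrArg Subtype.val hab))
  rw [Nat.card_eq_fintype_card, Nat.odd_iff]
  rw [hfixed] at hmod
  exact hmod.symm

/-- The number of transvections is odd. -/
theorem odd_card_tv : Odd (Nat.card {g : suG C (Fin 2 ⊕ κ) // ∃ v, herm C v v = 0 ∧ v ≠ 0 ∧ g = tv C v}) := by
  classical
  have h := odd_card_isotropic C (κ := κ) hC
  rw [Nat.card_eq_fintype_card] at h ⊢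
  set X := {v : Fin 2 ⊕ κ → F // herm C v v = 0 ∧ v ≠ 0}
  let p : X → {g : suG C (Fin 2 ⊕ κ) // ∃ v, herm C v v = 0 ∧ v ≠ 0 ∧ g = tv C v} :=
    fun v => ⟨tv C v.1, v.1, v.2.1, v.2.2, rfl⟩
  have hsum := Finset.card_eq_sum_card_fiberwise (f := p) (s := (Finset.univ : Finset X))
    (t := Finset.univ) (fun _ _ => Finset.mem_univ _)
  have hfib : ∀ t, ((Finset.univ : Finset X).filter (fun v => p v = t)).card = 3 := by
    rintro ⟨g, v, hv, hv0, rfl⟩
    have himg : (Finset.univ : Finset X).filter
        (fun u => p u = ⟨tv C v, v, hv, hv0, rfl⟩) = (Finset.univ : Finset Fˣ).image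
        (fun a : Fˣ => (⟨(a : F) • v, by rw [herm_smul_left, herm_smul_right, hv, mul_zero, mul_zero],
          smul_ne_zero a.ne_zero hv0⟩ : X)) := by
      ext u
      simp only [Finset.mem_filter, Finset.mem_univ, true_and, Finset.mem_image]
      constructor
      · intro h
        obtain ⟨a, ha⟩ := eq_smul_of_tv_eq C hC hv u.2.1 u.2.2 (congrArg Subtype.val h).symm
        exact ⟨Units.mk0 a fun h0 => u.2.2 (by rw [ha, h0, zero_smul]), Subtype.ext ha.symm⟩
      · rintro ⟨a, rfl⟩
        exact Subtype.ext (tv_smul C hC a.ne_zero hv)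
    rw [himg, Finset.card_image_of_injective, Finset.card_univ, Fintype.card_units, C.card, hC]
    all_goals first
      | rfl
      | intro a b hab; exact Units.ext (smul_left_injective F hv0 (congrArg Subtype.val hab))
  rw [Finset.sum_congr rfl (fun t _ => hfib t), Finset.sum_const, Finset.card_univ,
    Finset.card_univ, smul_eq_mul] at hsum
  rw [hsum] at h
  exact (Nat.odd_mul.1 h).1

end CfsgLib.Transpositions.UnitaryPerp
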