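import Cfsg.Agent.Transpositions.Classes
import Cfsg.Agent.Components.FStar
import Cfsg.Agent.FischerTransitivity.SqOrCube

/-!
# Components of a 3-transposition group

Every component is normal, there is at most one, no transposition centralises it, and the three
possibilities `O₂` non-central, `O₃` non-central, layer non-trivial exclude each other.
-/

set_option autoImplicit false

namespace CfsgLib.Transpositions

open Cfsg
open CfsgLib.Components

variable {G : Type*} [Group G] [Finite G] {D : Set G} {d : G}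

theorem isSolvable_of_isPGroup {p : ℕ} [Fact p.Prime] {H : Subgroup G} (h : IsPGroup p H) :
    Group.IsSolvable H :=
  haveI := h.isNilpotent
  inferInstance

theorem mem_center_of_commute_generators (hgen : Subgroup.closure D = ⊤) {g : G}
    (h : ∀ x ∈ D, Commute x g) : g ∈ Subgroup.center G := by
  rw [Subgroup.mem_center_iff]
  intro y
  have : ∀ y ∈ Subgroup.closure D, Commute y g := by
    intro y hy
    induction hy using Subgroup.closure_induction with
    | mem x hx => exact h x hx
    | one => exact Commute.one_left g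
    | mul x z _ _ hx hz => exact hx.mul_left hz
    | inv x _ hx => exact hx.inv_left
  exact (this y (hgen ▸ Subgroup.mem_top y)).eq

theorem not_commute_all (hD : IsThreeTranspositionClass D) (h2 : ∃ a ∈ D, ∃ b ∈ D, a ≠ b) :
    ¬ ∀ a b : G, Commute a b := fun h => by
  obtain ⟨a, ha, b, hb, hne⟩ := h2
  obtain ⟨g, rfl⟩ := exists_conj_of_class hD ha hb
  exact hne (by rw [(h g a).eq, mul_inv_cancel_right])

/-- For a prime `p > 3` the `p`-core is central. -/
theorem pCore_le_center_of_three_lt (hD : IsThreeTranspositionGroup D) {p : ℕ} (hp : p.Prime)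
    (h3 : 3 < p) : pCore p G ≤ Subgroup.center G := by
  intro x hx
  refine mem_center_of_commute_generators hD.2.2 fun d hd => ?_
  have hP := CfsgLib.PLocal.isPGroup_pCore p G
  have hxd : x * d * x⁻¹ ∈ D := hD.2.1 x d hd
  have hmem : x * d * x⁻¹ * d ∈ pCore p G := by
    have h : d * x⁻¹ * d⁻¹ ∈ pCore p G :=
      Subgroup.Normal.conj_mem inferInstance _ (inv_mem hx) d
    rw [inv_eq hD.1 hd] at h
    simpa [mul_assoc] using mul_mem hx h
  have hc := commute_of_isPGroup hD.1 hxd hd hp (by omega) hP hmem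
  have heq := eq_of_commute_of_isPGroup hD.1 hxd hd hp (by omega) hP hmem hc
  exact (mul_inv_eq_iff_eq_mul.1 heq).symm

theorem fittingSubgroup_le_center (h : ∀ p : ℕ, p.Prime → pCore p G ≤ Subgroup.center G) :
    fittingSubgroup G ≤ Subgroup.center G := by
  refine sSup_le fun N ⟨hN, hnil⟩ => ?_
  have htop : (Subgroup.center G).subgroupOf N = ⊤ := by
    rw [← Subgroup.index_eq_one]
    by_contra hne
    obtain ⟨q, hq, hdvd⟩ := Nat.exists_prime_and_dvd hne
    haveI : Fact q.Prime := ⟨hq⟩
    obtain ⟨S⟩ : Nonempty (Sylow q N) := inferInstance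
    haveI hSn : (S : Subgroup N).Normal :=
      Sylow.normal_of_normalizerCondition Group.normalizerCondition_of_isNilpotent S
    haveI := Sylow.characteristic_of_normal S hSn
    have hn : ((S : Subgroup N).map N.subtype).Normal :=
      CfsgLib.PLocal.normal_map_subtype N _
    haveI := hn
    have hle : (S : Subgroup N).map N.subtype ≤ Subgroup.center G :=
      (CfsgLib.PLocal.le_pCore (S.2.map _)).trans (h q hq)
    have hle' : (S : Subgroup N) ≤ (Subgroup.center G).subgroupOf N := fun x hx =>
      hle ⟨x, hx, rfl⟩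
    exact S.not_dvd_index (dvd_trans hdvd (Subgroup.index_dvd_of_le hle'))
  intro x hx
  have : (⟨x, hx⟩ : N) ∈ (Subgroup.center G).subgroupOf N := htop ▸ Subgroup.mem_top _
  exact this

/-- The conjugates of `d` by elements of a subgroup. -/
def orbitUnder (K : Subgroup G) (d : G) : Set G := {e | ∃ k ∈ K, k * d * k⁻¹ = e}

theorem conj_mem_component_of_mem (hD : IsThreeTranspositionGroup D) (hd : d ∈ D)
    {K : Subgroup G} (hK : IsComponent K) {k : G} (hk : k ∈ K) : d * k * d ∈ K := by
  set K' := K.map (MulAut.conj d).toMonoidHom with hK'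
  have hK'c : IsComponent K' := IsComponent.map_equiv hK (MulAut.conj d)
  by_cases hKK : K' = K
  · have : d * k * d⁻¹ ∈ K' := ⟨k, hk, rfl⟩
    rwa [hKK, inv_eq hD.1 hd] at this
  exfalso
  have hcomm : ∀ a ∈ K, ∀ b ∈ K', Commute a b := fun a ha b hb =>
    ((commutatorElement_eq_one_iff_commute).1 ((Subgroup.eq_bot_iff_forall _).1
      (IsComponent.commutator_eq_bot_of_ne hK hK'c (Ne.symm hKK)) _
      (Subgroup.commutator_mem_commutator ha hb)))
  refine IsComponent.not_isSolvable hK ?_
  have hq : ∀ q : K ⧸ Subgroup.center K, q ^ 2 = 1 ∨ q ^ 3 = 1 := by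
    intro q
    obtain ⟨a, rfl⟩ := QuotientGroup.mk_surjective q
    have ha' : d * (a : G) * d⁻¹ ∈ K' := ⟨a, a.2, rfl⟩
    have key : ∀ n : ℕ, ((d * (a : G) * d⁻¹) * (a : G)⁻¹) ^ n = 1 →
        (a ^ n : K) ∈ Subgroup.center K := by
      intro n hn
      rw [((hcomm _ (inv_mem a.2) _ ha').symm).mul_pow, inv_pow, mul_inv_eq_one] at hn
      have hm : (a : G) ^ n ∈ K' := hn ▸ pow_mem ha' n
      rw [Subgroup.mem_center_iff]
      intro b
      exact Subtype.ext (hcomm b b.2 _ hm).eq
    have hx : (d * (a : G) * d⁻¹) * (a : G)⁻¹ = d * ((a : G) * d * (a : G)⁻¹) := by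
      rw [inv_eq hD.1 hd]; simp only [mul_assoc]
    rcases hD.1.2 d hd _ (hD.2.1 a d hd) with h | h
    · exact Or.inl (by
        rw [← QuotientGroup.mk_pow, QuotientGroup.eq_one_iff]; exact key 2 (hx ▸ h))
    · exact Or.inr (by
        rw [← QuotientGroup.mk_pow, QuotientGroup.eq_one_iff]; exact key 3 (hx ▸ h))
  haveI := CfsgLib.FischerTransitivity.isSolvable_of_sq_or_cube hq
  haveI : Group.IsSolvable (Subgroup.center K) :=
    Group.isSolvable_of_comm fun a b => Subtype.ext (Subgroup.mem_center_iff.1 b.2 a)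
  exact Group.isSolvable_of_ker_le_range (Subgroup.center K).subtype
    (QuotientGroup.mk' (Subgroup.center K))
    (by rw [QuotientGroup.ker_mk', Subgroup.range_subtype])

theorem component_normal (hD : IsThreeTranspositionGroup D) {K : Subgroup G}
    (hK : IsComponent K) : K.Normal := by
  rw [← Subgroup.normalizer_eq_top_iff, eq_top_iff, ← hD.2.2, Subgroup.closure_le]
  intro y hy
  rw [SetLike.mem_coe, Subgroup.mem_normalizer_iff]
  intro x
  rw [inv_eq hD.1 hy]
  refine ⟨fun hx => conj_mem_component_of_mem hD hy hK hx, fun hx => ?_⟩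
  simpa [mul_assoc, mul_cancel_left hD.1 hy, sq hD.1 hy] using
    conj_mem_component_of_mem hD hy hK hx

theorem orbitUnder_subset (hD : IsThreeTranspositionGroup D) (hd : d ∈ D) (K : Subgroup G) :
    orbitUnder K d ⊆ D := by
  rintro _ ⟨k, -, rfl⟩
  exact hD.2.1 k d hd

theorem orbitUnder_closed (hD : IsThreeTranspositionGroup D) (hd : d ∈ D) {K : Subgroup G}
    [K.Normal] : ∀ x ∈ orbitUnder K d, ∀ y ∈ orbitUnder K d, x * y * x ∈ orbitUnder K d := by
  rintro _ ⟨k, hk, rfl⟩ _ ⟨l, hl, rfl⟩
  refine ⟨k * (d * (k⁻¹ * l) * d⁻¹),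
    mul_mem hk (Subgroup.Normal.conj_mem inferInstance _ (mul_mem (inv_mem hk) hl) d), ?_⟩
  rw [inv_eq hD.1 hd]
  simp only [mul_inv_rev, inv_inv, inv_eq hD.1 hd, mul_assoc, mul_cancel_left hD.1 hd]

/-- If all products `d d^k` centralise `K`, then `d` centralises `K`. -/
theorem commute_of_products_central (hD : IsThreeTranspositionGroup D) (hd : d ∈ D)
    {K : Subgroup G} (hK : IsComponent K)
    (hcomm : ∀ a ∈ K, ∀ k ∈ K, Commute a (d * (k * d * k⁻¹))) : ∀ k ∈ K, Commute d k := by
  haveI := component_normal hD hK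
  have hmemK : ∀ k ∈ K, d * (k * d * k⁻¹) ∈ K := by
    intro k hk
    have := mul_mem (Subgroup.Normal.conj_mem inferInstance k hk d) (inv_mem hk)
    simpa [mul_assoc, inv_eq hD.1 hd] using this
  let c : K →* Subgroup.center K := MonoidHom.mk' (fun k => ⟨⟨d * (k * d * (k : G)⁻¹), hmemK k k.2⟩,
    Subgroup.mem_center_iff.2 fun b => Subtype.ext (hcomm b b.2 k k.2).eq⟩) (by
      intro g h
      apply Subtype.ext
      apply Subtype.ext
      show d * ((g : G) * h * d * ((g : G) * h)⁻¹) = d * (g * d * (g : G)⁻¹) * (d * (h * d * (h : G)⁻¹))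
      calc d * ((g : G) * h * d * ((g : G) * h)⁻¹)
          = d * (g * d) * (d * (h * d * (h : G)⁻¹) * (g : G)⁻¹) := by
            simp only [mul_inv_rev, mul_assoc, mul_cancel_left hD.1 hd]
        _ = d * (g * d) * ((g : G)⁻¹ * (d * (h * d * (h : G)⁻¹))) := by
            rw [((hcomm g g.2 h h.2).inv_left).eq]
        _ = _ := by simp only [mul_assoc])
  have hker : c.ker = ⊤ := by
    rw [eq_top_iff, ← IsQuasisimple.perfect hK.2, Subgroup.commutator_le]
    intro a _ b _
    rw [MonoidHom.mem_ker, map_commutatorElement, commutatorElement_eq_one_iff_commute]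
    exact Subtype.ext (Subgroup.mem_center_iff.1 (c b).2 _)
  intro k hk
  have h1 : (⟨k, hk⟩ : K) ∈ c.ker := hker ▸ Subgroup.mem_top _
  have h2 : d * (k * d * k⁻¹) = 1 :=
    congrArg (fun z : Subgroup.center K => ((z : K) : G)) (MonoidHom.mem_ker.1 h1)
  rw [mul_eq_one_iff hD.1 (hD.2.1 k d hd), eq_mul_inv_iff_mul_eq] at h2
  exact h2

/-- If the products along a `K`-orbit generate a solvable group, `K` fixes `d`. -/
theorem commute_of_orbit_solvable (hD : IsThreeTranspositionGroup D) (hd : d ∈ D)
    {K : Subgroup G} (hK : IsComponent K) (hs : Group.IsSolvable (productsSubgroup (orbitUnder K d))) :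
    ∀ k ∈ K, Commute d k := by
  haveI := component_normal hD hK
  set P := productsSubgroup (orbitUnder K d) with hP
  have hnorm : K ≤ Subgroup.normalizer (P : Set G) := by
    intro g hg
    have h1 : ∀ g ∈ K, ∀ x ∈ P, g * x * g⁻¹ ∈ P := by
      intro g hg x hx
      induction hx using Subgroup.closure_induction with
      | mem x hx =>
        obtain ⟨_, ⟨a, ha, rfl⟩, _, ⟨b, hb, rfl⟩, rfl⟩ := hx
        have hprod : g * (a * d * a⁻¹ * (b * d * b⁻¹)) * g⁻¹ =
            (g * a) * d * (g * a)⁻¹ * ((g * b) * d * (g * b)⁻¹) := by group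
        rw [hprod]
        exact mul_mem_productsSubgroup ⟨_, mul_mem hg ha, rfl⟩ ⟨_, mul_mem hg hb, rfl⟩
      | one => simp
      | mul x y _ _ hx hy => simpa [conj_mul] using mul_mem hx hy
      | inv x _ hx => rw [← conj_inv]; exact inv_mem hx
    rw [Subgroup.mem_normalizer_iff]
    refine fun x => ⟨h1 g hg x, fun hx => ?_⟩
    simpa [mul_assoc] using h1 g⁻¹ (inv_mem hg) _ hx
  have hKP := IsComponent.commutator_eq_bot_of_isSolvable hK hs hnorm
  have hcomm : ∀ a ∈ K, ∀ b ∈ P, Commute a b := fun a ha b hb =>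
    ((commutatorElement_eq_one_iff_commute).1 ((Subgroup.eq_bot_iff_forall _).1 hKP _
      (Subgroup.commutator_mem_commutator ha hb)))
  exact commute_of_products_central hD hd hK fun a ha k hk =>
    hcomm a ha _ (mul_mem_productsSubgroup ⟨1, one_mem _, by simp⟩ ⟨k, hk, rfl⟩)

theorem commute_of_orbit_commute (hD : IsThreeTranspositionGroup D) (hd : d ∈ D)
    {K : Subgroup G} (hK : IsComponent K) (h : ∀ k ∈ K, Commute d (k * d * k⁻¹)) :
    ∀ k ∈ K, Commute d k := by
  haveI : Fact (Nat.Prime 2) := ⟨Nat.prime_two⟩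
  have hc : ∀ x ∈ orbitUnder K d, ∀ y ∈ orbitUnder K d, Commute x y := by
    rintro _ ⟨k, hk, rfl⟩ _ ⟨l, hl, rfl⟩
    have := (commute_conj_iff k d _).2 (h (k⁻¹ * l) (mul_mem (inv_mem hk) hl))
    simpa [mul_assoc] using this
  refine commute_of_orbit_solvable hD hd hK (isSolvable_of_isPGroup (p := 2) ?_)
  refine isPGroup_two_closure ?_ ?_
  · rintro _ ⟨a, ha, b, hb, rfl⟩ _ ⟨x, hx, y, hy, rfl⟩
    exact ((hc a ha x hx).mul_right (hc a ha y hy)).mul_left
      ((hc b hb x hx).mul_right (hc b hb y hy))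
  · rintro _ ⟨a, ha, b, hb, rfl⟩
    rw [← pow_two]
    exact (commute_iff_sq_eq_one hD.1 (orbitUnder_subset hD hd K ha)
      (orbitUnder_subset hD hd K hb)).1 (hc a ha b hb)

theorem commute_of_orbit_not_commute (hD : IsThreeTranspositionGroup D) (hd : d ∈ D)
    {K : Subgroup G} (hK : IsComponent K)
    (h : ∀ k ∈ K, Commute d (k * d * k⁻¹) → k * d * k⁻¹ = d) :
    ∀ k ∈ K, Commute d k := by
  haveI := component_normal hD hK
  haveI : Fact (Nat.Prime 3) := ⟨Nat.prime_three⟩
  refine commute_of_orbit_solvable hD hd hK (isSolvable_of_isPGroup (p := 3) ?_)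
  refine isPGroup_productsSubgroup ⟨fun x hx => hD.1.1 x (orbitUnder_subset hD hd K hx),
    fun x hx y hy => hD.1.2 x (orbitUnder_subset hD hd K hx) y (orbitUnder_subset hD hd K hy)⟩
    (orbitUnder_closed hD hd) ?_
  rintro _ ⟨k, hk, rfl⟩ _ ⟨l, hl, rfl⟩ hc
  have := h (k⁻¹ * l) (mul_mem (inv_mem hk) hl) (by
    rw [← commute_conj_iff k]; simpa [mul_assoc] using hc)
  have h2 := congrArg (fun z => k * z * k⁻¹) this
  simpa [mul_assoc] using h2.symm

theorem not_forall_commute_component (hD : IsThreeTranspositionClass D) (hd : d ∈ D)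
    {K : Subgroup G} (hK : IsComponent K) : ¬ ∀ k ∈ K, Commute d k := by
  intro h
  have hG := isThreeTranspositionGroup_of_class hD
  haveI := component_normal hG hK
  apply IsComponent.not_commute hK
  rw [Subgroup.commutator_eq_bot_iff_le_centralizer]
  intro a ha
  rw [Subgroup.mem_centralizer_iff]
  intro b hb
  refine ((mem_center_of_commute_generators hG.2.2 fun x hx => ?_ : a ∈ Subgroup.center G) |>
    Subgroup.mem_center_iff.1) b
  obtain ⟨g, rfl⟩ := exists_conj_of_class hD hd hx
  have := h _ (Subgroup.Normal.conj_mem inferInstance a ha g⁻¹)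
  rw [← commute_conj_iff g] at this
  simpa [mul_assoc] using this

/-- There is at most one component. -/
theorem component_unique (hD : IsThreeTranspositionClass D) {K L : Subgroup G}
    (hK : IsComponent K) (hL : IsComponent L) : K = L := by
  by_contra hne
  have hG := isThreeTranspositionGroup_of_class hD
  have hD' := hD.1
  haveI := component_normal hG hK
  haveI := component_normal hG hL
  obtain ⟨d, hd, -⟩ := hD.2.1
  have hKL : ∀ a ∈ K, ∀ b ∈ L, Commute a b := fun a ha b hb =>
    ((commutatorElement_eq_one_iff_commute).1 ((Subgroup.eq_bot_iff_forall _).1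
      (IsComponent.commutator_eq_bot_of_ne hK hL hne) _
      (Subgroup.commutator_mem_commutator ha hb)))
  obtain ⟨k, hk, hkn⟩ : ∃ k ∈ K, ¬ Commute d (k * d * k⁻¹) := by
    by_contra h
    push Not at h
    exact not_forall_commute_component hD hd hK (commute_of_orbit_commute hG hd hK h)
  obtain ⟨l, hl, hlc, hln⟩ : ∃ l ∈ L, Commute d (l * d * l⁻¹) ∧ l * d * l⁻¹ ≠ d := by
    by_contra h
    push Not at h
    exact not_forall_commute_component hD hd hL (commute_of_orbit_not_commute hG hd hL h)
  set x := d * (k * d * k⁻¹) with hx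
  set y := d * (l * d * l⁻¹) with hy
  have hxK : x ∈ K := by
    have := mul_mem (Subgroup.Normal.conj_mem inferInstance k hk d) (inv_mem hk)
    simpa [hx, mul_assoc, inv_eq hD' hd] using this
  have hyL : y ∈ L := by
    have := mul_mem (Subgroup.Normal.conj_mem inferInstance l hl d) (inv_mem hl)
    simpa [hy, mul_assoc, inv_eq hD' hd] using this
  have hxy : d * ((k * l) * d * (k * l)⁻¹) = x * y := by
    calc d * ((k * l) * d * (k * l)⁻¹) = d * k * d * (y * k⁻¹) := by
          simp only [hy, mul_inv_rev, mul_assoc, mul_cancel_left hD' hd]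
      _ = d * k * d * (k⁻¹ * y) := by rw [((hKL k hk y hyL).inv_left).eq]
      _ = x * y := by simp only [hx, mul_assoc]
  have hc : Commute x y := hKL x hxK y hyL
  have hx3 : x ^ 3 = 1 := cube_eq_one hD' hd (hG.2.1 k d hd) hkn
  have hy2 : y ^ 2 = 1 := (commute_iff_sq_eq_one hD' hd (hG.2.1 l d hd)).1 hlc
  rcases hD'.2 d hd _ (hG.2.1 (k * l) d hd) with h | h
  · rw [hxy, hc.mul_pow, hy2, mul_one] at h
    exact hkn ((commute_iff_sq_eq_one hD' hd (hG.2.1 k d hd)).2 h)
  · rw [hxy, hc.mul_pow, hx3, one_mul, pow_succ, hy2, one_mul] at h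
    exact hln ((mul_eq_one_iff hD' (hG.2.1 l d hd)).1 h).symm

theorem commute_pCore_of_component {p : ℕ} [Fact p.Prime] {K : Subgroup G} (hK : IsComponent K)
    {k x : G} (hk : k ∈ K) (hx : x ∈ pCore p G) : Commute k x := by
  have h1 := layer_le_centralizer_fittingSubgroup (IsComponent.le_layer hK hk)
  exact (Subgroup.mem_centralizer_iff.1 h1 x (pCore_le_fittingSubgroup p hx)).symm

theorem exists_vRel_of_not_central (hD : IsThreeTranspositionClass D)
    (h : ¬ pCore 2 G ≤ Subgroup.center G) : ∀ d ∈ D, ∃ v, VRel D d v ∧ v ≠ d := by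
  have hG := isThreeTranspositionGroup_of_class hD
  obtain ⟨g, hg, hgc⟩ := SetLike.not_le_iff_exists.1 h
  obtain ⟨a, ha, hag⟩ : ∃ a ∈ D, ¬ Commute a g := by
    by_contra h'
    push Not at h'
    exact hgc (mem_center_of_commute_generators hG.2.2 h')
  intro d hd
  obtain ⟨t, rfl⟩ := exists_conj_of_class hD ha hd
  have hv : VRel D a (g * a * g⁻¹) :=
    (vRel_iff_of_class hD ha).2 ⟨hG.2.1 g a ha, conj_mem_coset hg a⟩
  refine ⟨_, hv.conj hG.2.1 t, fun heq => hag ?_⟩
  have := mul_left_cancel (mul_right_cancel heq)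
  exact (mul_inv_eq_iff_eq_mul.1 this).symm

theorem exists_wRel_of_not_central (hD : IsThreeTranspositionClass D)
    (h : ¬ pCore 3 G ≤ Subgroup.center G) : ∀ d ∈ D, ∃ w, WRel D d w ∧ w ≠ d := by
  have hG := isThreeTranspositionGroup_of_class hD
  obtain ⟨g, hg, hgc⟩ := SetLike.not_le_iff_exists.1 h
  obtain ⟨a, ha, hag⟩ : ∃ a ∈ D, ¬ Commute a g := by
    by_contra h'
    push Not at h'
    exact hgc (mem_center_of_commute_generators hG.2.2 h')
  intro d hd
  obtain ⟨t, rfl⟩ := exists_conj_of_class hD ha hd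
  have hv : WRel D a (g * a * g⁻¹) :=
    (wRel_iff_of_class hD ha).2 ⟨hG.2.1 g a ha, conj_mem_coset hg a⟩
  refine ⟨_, hv.conj hG.2.1 t, fun heq => hag ?_⟩
  have := mul_left_cancel (mul_right_cancel heq)
  exact (mul_inv_eq_iff_eq_mul.1 this).symm

theorem eq_of_vRel_of_central (hD : IsThreeTranspositionClass D) (h2 : ∃ a ∈ D, ∃ b ∈ D, a ≠ b)
    (hc : pCore 2 G ≤ Subgroup.center G) (hd : d ∈ D) {v : G} (h : VRel D d v) : v = d := by
  obtain ⟨g, hg, rfl⟩ := exists_conj_of_vRel hD h2 hd h
  rw [← (Subgroup.mem_center_iff.1 (hc hg) d), mul_inv_cancel_right]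

theorem eq_of_wRel_of_central (hD : IsThreeTranspositionClass D)
    (hc : pCore 3 G ≤ Subgroup.center G) (hd : d ∈ D) {w : G} (h : WRel D d w) : w = d := by
  have hg := mul_mem_pCore_three_of_wRel (isThreeTranspositionGroup_of_class hD) hd h
  rw [wRel_conj_self hD.1 hd h, ← (Subgroup.mem_center_iff.1 (hc hg) d), mul_inv_cancel_right]

theorem layer_eq_bot_of_vRel (hD : IsThreeTranspositionClass D) (hd : d ∈ D) {v : G}
    (h : VRel D d v) (hne : v ≠ d) : layer G = ⊥ := by
  rw [layer_eq_bot_iff]
  intro K hK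
  have hG := isThreeTranspositionGroup_of_class hD
  haveI : Fact (Nat.Prime 2) := ⟨Nat.prime_two⟩
  refine not_forall_commute_component hD hd hK (commute_of_orbit_commute hG hd hK fun k hk => ?_)
  set e := k * d * k⁻¹
  have he : e ∈ D := hG.2.1 k d hd
  have hprod : e * (k * v * k⁻¹) = d * v := by
    have hc := commute_pCore_of_component hK hk (mul_mem_pCore_two_of_vRel hG hd h)
    rw [show e * (k * v * k⁻¹) = k * (d * v) * k⁻¹ by simp only [e]; group, hc.eq,
      mul_inv_cancel_right]
  have hcomm : Commute e (e * (k * v * k⁻¹)) :=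
    (Commute.refl e).mul_right (h.conj hG.2.1 k).commute
  rw [hprod] at hcomm
  exact (CfsgLib.SporB.ttPairCentral hD.1 hd h.1 he (Ne.symm hne) hcomm).1.symm

theorem layer_eq_bot_of_wRel (hD : IsThreeTranspositionClass D) (hd : d ∈ D) {w : G}
    (h : WRel D d w) (hne : w ≠ d) : layer G = ⊥ := by
  rw [layer_eq_bot_iff]
  intro K hK
  have hG := isThreeTranspositionGroup_of_class hD
  have hD' := hD.1
  haveI : Fact (Nat.Prime 3) := ⟨Nat.prime_three⟩
  refine not_forall_commute_component hD hd hK
    (commute_of_orbit_not_commute hG hd hK fun k hk hc => ?_)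
  by_contra hek
  set e := k * d * k⁻¹
  have he : e ∈ D := hG.2.1 k d hd
  have hprod : e * (k * w * k⁻¹) = d * w := by
    have hcx := commute_pCore_of_component hK hk (mul_mem_pCore_three_of_wRel hG hd h)
    rw [show e * (k * w * k⁻¹) = k * (d * w) * k⁻¹ by simp only [e]; group, hcx.eq,
      mul_inv_cancel_right]
  have hew : e ∈ perp D w := h.2 ▸ ⟨he, hek, hc⟩
  have h1 : Commute e (e * (k * w * k⁻¹)) := by
    rw [hprod]; exact hc.symm.mul_right hew.2.2.symm
  have h2 : Commute e (k * w * k⁻¹) := by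
    have := ((Commute.refl e).inv_right).mul_right h1
    rwa [inv_mul_cancel_left] at this
  exact hne ((h.eq_of_commute ((commute_conj_iff k d w).1 h2)).symm)

theorem generalizedFitting_eq_center_sup_of_central (hD : IsThreeTranspositionClass D)
    (h2 : pCore 2 G ≤ Subgroup.center G) (h3 : pCore 3 G ≤ Subgroup.center G) :
    fittingSubgroup G = Subgroup.center G := by
  have hG := isThreeTranspositionGroup_of_class hD
  refine le_antisymm (fittingSubgroup_le_center fun p hp => ?_)
    (le_fittingSubgroup (isNilpotent_of_commutator_commutator_eq_bot ?_))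
  rcases Nat.lt_or_ge 3 p with h | h
  · exact pCore_le_center_of_three_lt hG hp h
  · interval_cases p <;> first | exact h2 | exact h3 | exact absurd hp (by norm_num)
  · rw [Subgroup.commutator_eq_bot_iff_le_centralizer]
    intro z hz
    refine Subgroup.mem_centralizer_iff.2 fun w hw => ?_
    exact (Subgroup.mem_center_iff.1 hw z).symm

theorem exists_component_of_central (hD : IsThreeTranspositionClass D)
    (hne : ∃ a ∈ D, ∃ b ∈ D, a ≠ b) (h2 : pCore 2 G ≤ Subgroup.center G)
    (h3 : pCore 3 G ≤ Subgroup.center G) : ∃ L : Subgroup G, IsComponent L ∧ L.Normal ∧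
      layer G = L ∧ generalizedFittingSubgroup G = L ⊔ Subgroup.center G := by
  have hF := generalizedFitting_eq_center_sup_of_central hD h2 h3
  obtain ⟨L, hL⟩ : ∃ L : Subgroup G, IsComponent L := by
    by_contra h
    push Not at h
    have hbot := layer_eq_bot_iff.2 h
    have hc := centralizer_generalizedFitting_le (G := G)
    rw [generalizedFittingSubgroup, hbot, bot_sup_eq, hF] at hc
    have hall : ∀ g : G, g ∈ Subgroup.center G := fun g =>
      hc (Subgroup.mem_centralizer_iff.2 fun z hz => (Subgroup.mem_center_iff.1 hz g).symm)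
    exact not_commute_all hD hne fun a b => (Subgroup.mem_center_iff.1 (hall a) b).symm
  have hlayer : layer G = L :=
    le_antisymm (sSup_le fun K hK => (component_unique hD hK hL).le) (IsComponent.le_layer hL)
  refine ⟨L, hL, component_normal (isThreeTranspositionGroup_of_class hD) hL, hlayer, ?_⟩
  rw [generalizedFittingSubgroup, hlayer, hF]

/-- Two members commuting modulo the component agree modulo it. -/
theorem inv_mul_mem_component (hD : IsThreeTranspositionClass D) {L : Subgroup G}
    (hL : IsComponent L) {a b : G} (ha : a ∈ D) (hb : b ∈ D)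
    (h : a * b * a⁻¹ * b⁻¹ ∈ L) : a⁻¹ * b ∈ L := by
  have hG := isThreeTranspositionGroup_of_class hD
  have hD' := hD.1
  haveI := component_normal hG hL
  rw [inv_eq hD' ha]
  rw [inv_eq hD' ha, inv_eq hD' hb] at h
  have h2 : (a * b) ^ 2 ∈ L := by simpa [pow_two, mul_assoc] using h
  by_contra hn
  have hall : ∀ l ∈ L, Commute a (l * b * l⁻¹) := by
    intro l hl
    by_contra hc
    have h3 := cube_eq_one hD' ha (hG.2.1 l b hb) hc
    have hm : ((a * (l * b * l⁻¹) : G) : G ⧸ L) = ((a * b : G) : G ⧸ L) := by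
      simp only [QuotientGroup.mk_mul, QuotientGroup.mk_inv, (QuotientGroup.eq_one_iff l).2 hl]
      simp
    have h4 := congrArg (fun z : G => (z : G ⧸ L)) h3
    simp only [QuotientGroup.mk_pow, hm] at h4
    apply hn
    rw [← QuotientGroup.eq_one_iff]
    have h5 : ((a * b : G) : G ⧸ L) ^ 2 = 1 := by
      rw [← QuotientGroup.mk_pow, QuotientGroup.eq_one_iff]; exact h2
    rw [pow_succ, h5, one_mul] at h4
    exact h4
  set N := Subgroup.closure {x | ∃ l ∈ L, b * (l * b * l⁻¹) = x} with hN
  have hmem : ∀ l ∈ L, b * (l * b * l⁻¹) ∈ L := by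
    intro l hl
    have := mul_mem (Subgroup.Normal.conj_mem inferInstance l hl b) (inv_mem hl)
    simpa [mul_assoc, inv_eq hD' hb] using this
  have hNL : N ≤ L := (Subgroup.closure_le _).2 fun x ⟨l, hl, hx⟩ => hx ▸ hmem l hl
  haveI : (N.subgroupOf L).Normal := by
    refine ⟨fun x hx g => ?_⟩
    show (g : G) * (x : G) * (g : G)⁻¹ ∈ N
    have hx' : (x : G) ∈ N := hx
    clear hx
    generalize (x : G) = y at hx'
    induction hx' using Subgroup.closure_induction with
    | mem y hy =>
      obtain ⟨l, hl, rfl⟩ := hy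
      have : (g : G) * (b * (l * b * l⁻¹)) * (g : G)⁻¹ =
          (b * ((g : G) * b * (g : G)⁻¹))⁻¹ * (b * (((g : G) * l) * b * ((g : G) * l)⁻¹)) := by
        simp only [mul_inv_rev, inv_inv, inv_eq hD' hb, mul_assoc, mul_cancel_left hD' hb,
          inv_mul_cancel_left]
      rw [this]
      exact mul_mem (inv_mem (Subgroup.subset_closure ⟨g, g.2, rfl⟩))
        (Subgroup.subset_closure ⟨_, mul_mem g.2 hl, rfl⟩)
    | one => simp
    | mul p q _ _ hp hq => simpa [conj_mul] using mul_mem hp hq
    | inv p _ hp => rw [← conj_inv]; exact inv_mem hp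
  rcases IsQuasisimple.normal_eq_top_or_le_center hL.2 (N.subgroupOf L) with ht | hz
  · refine not_forall_commute_component hD ha hL fun k hk => ?_
    have hkN : k ∈ N := by
      have : (⟨k, hk⟩ : L) ∈ N.subgroupOf L := ht ▸ Subgroup.mem_top _
      exact this
    clear hk
    induction hkN using Subgroup.closure_induction with
    | mem y hy =>
      obtain ⟨l, hl, rfl⟩ := hy
      exact (by simpa using hall 1 (one_mem _) : Commute a b).mul_right (hall l hl)
    | one => exact Commute.one_right a
    | mul p q _ _ hp hq => exact hp.mul_right hq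
    | inv p _ hp => exact hp.inv_right
  · refine not_forall_commute_component hD hb hL
      (commute_of_products_central hG hb hL fun x hx l hl => ?_)
    have := hz (show (⟨_, hmem l hl⟩ : L) ∈ N.subgroupOf L from
      Subgroup.subset_closure ⟨l, hl, rfl⟩)
    exact congrArg Subtype.val (Subgroup.mem_center_iff.1 this ⟨x, hx⟩)

end CfsgLib.Transpositions
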