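import Cfsg.Agent.Transpositions.Components

/-!
# Primitivity of 3-transposition groups

If the cores are central and the component has index at most two, the group acts primitively on
its transpositions; conversely a primitive group of width at least two has central cores, a
connected commuting graph, and `⟨D_d⟩` is a maximal `D`-subgroup.
-/

set_option autoImplicit false

namespace CfsgLib.Transpositions

open Cfsg
open CfsgLib.Components

variable {G : Type*} [Group G] [Finite G] {D : Set G} {d : G}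

theorem centralizer_component_le_center (hD : IsThreeTranspositionClass D)
    (h2 : pCore 2 G ≤ Subgroup.center G) (h3 : pCore 3 G ≤ Subgroup.center G) {L : Subgroup G}
    (hF : generalizedFittingSubgroup G = L ⊔ Subgroup.center G) :
    Subgroup.centralizer (L : Set G) ≤ Subgroup.center G := by
  refine le_trans ?_ (centralizer_generalizedFitting_le.trans
    (generalizedFitting_eq_center_sup_of_central hD h2 h3).le)
  rw [hF]
  intro c hc
  rw [Subgroup.mem_centralizer_iff]
  intro z hz
  have hle : L ⊔ Subgroup.center G ≤ Subgroup.centralizer ({c} : Set G) := by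
    refine sup_le (fun l hl => ?_) (fun l hl => ?_) <;> rw [Subgroup.mem_centralizer_singleton_iff]
    · exact ((Subgroup.mem_centralizer_iff.1 hc) l hl)
    · exact ((Subgroup.mem_center_iff.1 hl) c).symm
  exact Subgroup.mem_centralizer_singleton_iff.1 (hle hz)

theorem inv_mul_mem_of_reachable (hD : IsThreeTranspositionClass D) {L : Subgroup G}
    (hL : IsComponent L) {a b : D} (h : (commutingGraph D).Reachable a b) :
    (a : G)⁻¹ * b ∈ L := by
  obtain ⟨w⟩ := h
  induction w with
  | nil => simp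
  | @cons u v w hadj _ ih =>
    have hc : Commute (u : G) (v : G) := by
      simp only [commutingGraph, SimpleGraph.fromRel_adj] at hadj
      exact hadj.2.elim id Commute.symm
    have h1 : (u : G)⁻¹ * v ∈ L := inv_mul_mem_component hD hL u.2 v.2 (by
      rw [hc.eq, mul_inv_cancel_right, mul_inv_cancel]; exact one_mem L)
    simpa [mul_assoc] using mul_mem h1 ih

theorem index_le_two_of_connected (hD : IsThreeTranspositionClass D) {L : Subgroup G}
    [L.Normal] (hL : IsComponent L) (hc : (commutingGraph D).Connected) : L.index ≤ 2 := by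
  obtain ⟨d, hd, -⟩ := hD.2.1
  have hall : ∀ g : G, (g : G ⧸ L) = 1 ∨ (g : G ⧸ L) = (d : G ⧸ L) := by
    intro g
    have hd2 : (d : G ⧸ L) * (d : G ⧸ L) = 1 := by
      rw [← QuotientGroup.mk_mul, sq hD.1 hd]; rfl
    induction (hD.2.2 ▸ Subgroup.mem_top g : g ∈ Subgroup.closure D) using
      Subgroup.closure_induction with
    | mem x hx =>
      exact Or.inr ((QuotientGroup.eq.2
        (inv_mul_mem_of_reachable hD hL (hc.preconnected ⟨d, hd⟩ ⟨x, hx⟩))).symm)
    | one => exact Or.inl rfl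
    | mul x y _ _ hx hy =>
      rcases hx with hx | hx <;> rcases hy with hy | hy <;>
        simp only [QuotientGroup.mk_mul, hx, hy, hd2, one_mul, mul_one] <;> simp
    | inv x _ hx =>
      rcases hx with hx | hx <;> simp only [QuotientGroup.mk_inv, hx]
      · exact Or.inl inv_one
      · exact Or.inr (inv_eq_of_mul_eq_one_right hd2)
  rw [Subgroup.index_eq_card]
  have hsub : (Set.univ : Set (G ⧸ L)) ⊆ {1, (d : G ⧸ L)} := fun q _ => by
    obtain ⟨g, rfl⟩ := QuotientGroup.mk_surjective q
    exact (hall g).imp id id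
  rw [← Set.ncard_univ]
  calc (Set.univ : Set (G ⧸ L)).ncard ≤ ({1, (d : G ⧸ L)} : Set (G ⧸ L)).ncard :=
        Set.ncard_le_ncard hsub (Set.toFinite _)
    _ ≤ ({(d : G ⧸ L)} : Set (G ⧸ L)).ncard + 1 := Set.ncard_insert_le _ _
    _ = 2 := by rw [Set.ncard_singleton]

theorem zpowers_sup_eq_top_of_index_le_two {L : Subgroup G} [L.Normal] (hidx : L.index ≤ 2)
    {b : G} (hb : b ∉ L) : Subgroup.zpowers b ⊔ L = ⊤ := by
  have hlt : L < Subgroup.zpowers b ⊔ L :=
    lt_of_le_of_ne le_sup_right fun h =>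
      hb (h.symm ▸ Subgroup.mem_sup_left (Subgroup.mem_zpowers b))
  rw [← Subgroup.index_eq_one]
  have h1 := Subgroup.index_strictAnti hlt
  have h0 : (Subgroup.zpowers b ⊔ L).index ≠ 0 := Subgroup.index_ne_zero_of_finite
  omega

/-- A component of index at most two forces primitivity. -/
theorem isPrimitiveUnderConj_of_index_le_two (hD : IsThreeTranspositionClass D)
    (hne : ∃ a ∈ D, ∃ b ∈ D, a ≠ b) (h2 : pCore 2 G ≤ Subgroup.center G)
    (h3 : pCore 3 G ≤ Subgroup.center G) {L : Subgroup G} [L.Normal] (hL : IsComponent L)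
    (hF : generalizedFittingSubgroup G = L ⊔ Subgroup.center G) (hidx : L.index ≤ 2) :
    IsPrimitiveUnderConj D := by
  have hG := isThreeTranspositionGroup_of_class hD
  have hD' := hD.1
  refine ⟨fun a ha b hb => exists_conj_of_class hD ha hb, hne, fun B hBD hblock => ?_⟩
  by_contra hcon
  rw [not_or, Set.not_subsingleton_iff] at hcon
  obtain ⟨⟨b, hb, b', hb', hbb⟩, hBne⟩ := hcon
  -- blocks: translates of `B`
  let blk : G → Set G := fun g => (fun x => g * x * g⁻¹) '' B
  have hmem : ∀ g x : G, x ∈ blk g ↔ g⁻¹ * x * g ∈ B := by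
    intro g x
    refine ⟨?_, fun h => ⟨_, h, by group⟩⟩
    rintro ⟨y, hy, rfl⟩
    simpa [mul_assoc] using hy
  have hfix : ∀ {g x : G}, x ∈ B → g * x * g⁻¹ ∈ B → ∀ y ∈ B, g * y * g⁻¹ ∈ B := by
    intro g x hx hgx y hy
    rcases hblock g with h | h
    · exact h ▸ ⟨y, hy, rfl⟩
    · exact absurd hgx fun hgx => Set.disjoint_left.1 h ⟨x, hx, rfl⟩ hgx
  have hblk : ∀ g : G, ∀ {c x : G}, x ∈ blk g → c * x * c⁻¹ ∈ blk g →
      ∀ y ∈ blk g, c * y * c⁻¹ ∈ blk g := by
    intro g c x hx hcx y hy
    rw [hmem] at hx hcx hy ⊢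
    have h := hfix (g := g⁻¹ * c * g) hx (by simpa [mul_assoc] using hcx) _ hy
    simpa [mul_assoc] using h
  have hBblk : ∀ g : G, ∀ {x : G}, x ∈ B → x ∈ blk g → ∀ y ∈ blk g, y ∈ B := by
    intro g x hx hxg y hy
    rw [hmem] at hxg hy
    have := hfix (g := g) hxg (by simpa [mul_assoc] using hx) _ hy
    simpa [mul_assoc] using this
  have hBblk' : ∀ g : G, ∀ {x : G}, x ∈ B → x ∈ blk g → ∀ y ∈ B, y ∈ blk g := by
    intro g x hx hxg y hy
    rw [hmem] at hxg ⊢
    have := hfix (g := g⁻¹) hx (by simpa [mul_assoc] using hxg) y hy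
    simpa [mul_assoc] using this
  have hblkD : ∀ g : G, ∀ x ∈ blk g, x ∈ D := by
    rintro g _ ⟨x, hx, rfl⟩; exact hG.2.1 g x (hBD hx)
  have hconj : ∀ {y : G}, y ∈ D → ∀ x : G, y * x * y⁻¹ = y * x * y := fun hy x => by
    rw [inv_eq hD' hy]
  -- (i), (ii): a member fixing a block either lies in it or centralises it
  have hself : ∀ g : G, ∀ y ∈ blk g, ∀ x ∈ blk g, y * x * y ∈ blk g := by
    intro g y hy x hx
    have := hblk g (c := y) hy (by rw [hconj (hblkD g y hy), sq hD' (hblkD g y hy), one_mul]; exact hy) x hx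
    rwa [hconj (hblkD g y hy)] at this
  have hout : ∀ g : G, ∀ y ∈ D, y ∉ blk g → (∀ x ∈ blk g, Commute y x) ∨
      (∀ x ∈ blk g, ¬ Commute y x) := by
    intro g y hy hyn
    by_cases h : ∃ x ∈ blk g, Commute y x
    · obtain ⟨x, hx, hc⟩ := h
      refine Or.inl fun z hz => ?_
      by_contra hn
      have hzD := hblkD g z hz
      have h1 := hblk g (c := y) hx (by rw [hc.eq, mul_inv_cancel_right]; exact hx) z hz
      rw [hconj hy, braid hD' hy hzD hn] at h1
      have h3 := hself g z hz _ h1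
      simp only [mul_assoc, mul_cancel_left hD' hzD, sq hD' hzD, mul_one] at h3
      exact hyn h3
    · push Not at h
      exact Or.inr h
  -- two members of one block move any member inside its own block
  have key : ∀ g : G, ∀ c ∈ blk g, ∀ c' ∈ blk g, ∀ y ∈ B,
      (c * c') * y * (c * c')⁻¹ ∈ B := by
    intro g c hc c' hc' y hy
    have hcD := hblkD g c hc
    have hc'D := hblkD g c' hc'
    have hyD := hBD hy
    rw [mul_inv_rev, inv_eq hD' hcD, inv_eq hD' hc'D]
    by_cases hyg : y ∈ blk g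
    · refine hBblk g hy hyg _ ?_
      have := hself g c hc _ (hself g c' hc' y hyg)
      simpa [mul_assoc] using this
    rcases hout g y hyD hyg with h | h
    · have e : c * c' * y * (c' * c) = y := by
        calc c * c' * y * (c' * c) = c * (c' * y * c') * c := by simp only [mul_assoc]
          _ = y := by
            rw [(commute_iff_conj_eq hD' hc'D).1 (h c' hc').symm,
              (commute_iff_conj_eq hD' hcD).1 (h c hc).symm]
      rw [e]; exact hy
    · -- `y` and both `c`, `c'` do not commute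
      have hbc := braid hD' hyD hcD (h c hc)
      have hbc' := braid hD' hyD hc'D (h c' hc')
      -- the block `y (blk g) y`, carried back by `c`
      have hm1 : c * y * c ∈ blk (y * g) := by
        rw [hmem, ← hbc]
        have hc0 := (hmem g c).1 hc
        simpa [mul_assoc, inv_eq hD' hyD, mul_cancel_left hD' hyD] using hc0
      have hm2 : c' * y * c' ∈ blk (y * g) := by
        rw [hmem, ← hbc']
        have hc0 := (hmem g c').1 hc'
        simpa [mul_assoc, inv_eq hD' hyD, mul_cancel_left hD' hyD] using hc0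
      have hy' : y ∈ blk (c * (y * g)) := by
        have h0 := (hmem (y * g) _).1 hm1
        rw [hmem]
        simpa [mul_assoc, inv_eq hD' hcD] using h0
      have hy'' : c * (c' * y * c') * c ∈ blk (c * (y * g)) := by
        have h0 := (hmem (y * g) _).1 hm2
        rw [hmem]
        simpa [mul_assoc, inv_eq hD' hcD, mul_cancel_left hD' hcD] using h0
      have := hBblk _ hy hy' _ hy''
      simpa [mul_assoc] using this
  -- the product of two members of `B` lies in the normal core of the stabiliser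
  let S : Subgroup G :=
    { carrier := {g | ∀ y ∈ B, g * y * g⁻¹ ∈ B}
      one_mem' := fun y hy => by simpa using hy
      mul_mem' := fun {p q} hp hq y hy => by simpa [mul_assoc] using hp _ (hq y hy)
      inv_mem' := fun {p} hp y hy => by
        rcases hblock p⁻¹ with h | h
        · exact h ▸ ⟨y, hy, rfl⟩
        · exfalso
          have := hp y hy
          exact Set.disjoint_left.1 h ⟨_, this, rfl⟩ (by simpa [mul_assoc] using hy) }
  have hcore : b * b' ∈ S.normalCore := by
    intro g y hy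
    have := key g (g * b * g⁻¹) ⟨b, hb, rfl⟩ (g * b' * g⁻¹) ⟨b', hb', rfl⟩ y hy
    simpa [mul_assoc] using this
  rcases IsComponent.le_or_commutator_eq_bot_of_normal hL S.normalCore with hle | hbot
  · have hbS : b ∈ S := fun y hy => by
      refine hfix (g := b) hb ?_ y hy
      rw [mul_inv_cancel_right]; exact hb
    have hS : S = ⊤ := by
      by_cases hbL : b ∈ L
      · rw [eq_top_iff, ← hD.2.2, Subgroup.closure_le]
        intro x hx
        obtain ⟨g, rfl⟩ := exists_conj_of_class hD (hBD hb) hx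
        exact Subgroup.normalCore_le S (hle (Subgroup.Normal.conj_mem inferInstance b hbL g))
      · rw [eq_top_iff, ← zpowers_sup_eq_top_of_index_le_two hidx hbL, sup_le_iff,
          Subgroup.zpowers_le]
        exact ⟨hbS, hle.trans (Subgroup.normalCore_le S)⟩
    apply hBne
    refine Set.Subset.antisymm hBD fun x hx => ?_
    obtain ⟨g, rfl⟩ := exists_conj_of_class hD (hBD hb) hx
    exact (hS.symm ▸ Subgroup.mem_top g : g ∈ S) b hb
  · have hz : b * b' ∈ Subgroup.center G := by
      refine centralizer_component_le_center hD h2 h3 hF ?_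
      rw [Subgroup.mem_centralizer_iff]
      intro l hl
      exact (commutatorElement_eq_one_iff_commute.1 ((Subgroup.eq_bot_iff_forall _).1 hbot _
        (Subgroup.commutator_mem_commutator hl hcore))).eq
    have hv : VRel D b b' := by
      refine ⟨hBD hb', fun e _ => ?_⟩
      have hb'' : b' = b * (b * b') := (mul_cancel_left hD' (hBD hb) b').symm
      have hze : Commute (b * b') e := (Subgroup.mem_center_iff.1 hz e).symm
      refine ⟨fun h => ?_, fun h => ?_⟩
      · have := hze.mul_left h.inv_left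
        rwa [mul_inv_cancel_right] at this
      · rw [hb'']; exact h.mul_left hze
    exact hbb (eq_of_vRel_of_central hD hne h2 (hBD hb) hv).symm

/-! ### The converse -/

theorem isThreeTranspositionClass_of_primitive (hD : IsThreeTranspositionGroup D)
    (hp : IsPrimitiveUnderConj D) : IsThreeTranspositionClass D := by
  obtain ⟨a, ha, -⟩ := hp.2.1
  refine ⟨hD.1, ⟨a, ha, Set.ext fun x => ⟨fun hx => ?_, fun hx => ?_⟩⟩, hD.2.2⟩
  · exact isConj_iff.2 (hp.1 a ha x hx)
  · obtain ⟨g, rfl⟩ := isConj_iff.1 (show IsConj a x from hx)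
    exact hD.2.1 g a ha

theorem eq_of_primitive_relation (hp : IsPrimitiveUnderConj D) (R : G → G → Prop)
    (hrefl : ∀ x ∈ D, R x x) (hsymm : ∀ x ∈ D, ∀ y ∈ D, R x y → R y x)
    (htrans : ∀ x ∈ D, ∀ y ∈ D, ∀ z ∈ D, R x y → R y z → R x z)
    (hconjD : ∀ g : G, ∀ x ∈ D, g * x * g⁻¹ ∈ D)
    (hconj : ∀ g : G, ∀ x ∈ D, ∀ y ∈ D, R x y → R (g * x * g⁻¹) (g * y * g⁻¹)) {d v : G}
    (hd : d ∈ D) (hv : v ∈ D) (h : R d v) (hne : v ≠ d) : ∀ x ∈ D, R d x := by
  have hblock : ∀ g : G, (fun x => g * x * g⁻¹) '' {x | x ∈ D ∧ R d x} = {x | x ∈ D ∧ R d x} ∨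
      Disjoint ((fun x => g * x * g⁻¹) '' {x | x ∈ D ∧ R d x}) {x | x ∈ D ∧ R d x} := by
    intro g
    by_cases hmove : R d (g * d * g⁻¹)
    · left
      ext x
      constructor
      · rintro ⟨y, ⟨hy, hdy⟩, rfl⟩
        exact ⟨hconjD g y hy, htrans _ hd _ (hconjD g d hd) _ (hconjD g y hy) hmove
          (hconj g d hd y hy hdy)⟩
      · rintro ⟨hx, hdx⟩
        refine ⟨g⁻¹ * x * g, ⟨by simpa using hconjD g⁻¹ x hx, ?_⟩, by group⟩
        have h1 := htrans _ (hconjD g d hd) _ hd _ hx (hsymm _ hd _ (hconjD g d hd) hmove) hdx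
        simpa [mul_assoc] using hconj g⁻¹ _ (hconjD g d hd) _ hx h1
    · right
      rw [Set.disjoint_left]
      rintro _ ⟨y, ⟨hy, hdy⟩, rfl⟩ ⟨-, h'⟩
      exact hmove (htrans _ hd _ (hconjD g y hy) _ (hconjD g d hd) h'
        (hsymm _ (hconjD g d hd) _ (hconjD g y hy) (hconj g d hd y hy hdy)))
  rcases hp.2.2 {x | x ∈ D ∧ R d x} (fun x hx => hx.1) hblock with hs | hs
  · exact absurd (hs ⟨hv, h⟩ ⟨hd, hrefl d hd⟩) hne
  · exact fun x hx => (hs.symm ▸ hx : x ∈ {x | x ∈ D ∧ R d x}).2

theorem pCore_two_le_center_of_primitive (hD : IsThreeTranspositionGroup D)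
    (hp : IsPrimitiveUnderConj D) : pCore 2 G ≤ Subgroup.center G := by
  by_contra h
  have hC := isThreeTranspositionClass_of_primitive hD hp
  obtain ⟨a, ha, -⟩ := hp.2.1
  obtain ⟨v, hv, hne⟩ := exists_vRel_of_not_central hC h a ha
  have hall := eq_of_primitive_relation hp (VRel D) (fun x hx => VRel.refl hx)
    (fun x hx y _ h => h.symm hx) (fun x _ y _ z _ h h' => h.trans h') hD.2.1
    (fun g x _ y _ h => h.conj hD.2.1 g) ha hv.1 hv hne
  obtain ⟨e, he, hn⟩ := exists_not_commute_of_class hC hp.2.1 ha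
  exact hn (hall e he).commute

theorem pCore_three_le_center_of_primitive (hD : IsThreeTranspositionGroup D)
    (hp : IsPrimitiveUnderConj D) (hw : ∃ a ∈ D, ∃ b ∈ D, a ≠ b ∧ Commute a b) :
    pCore 3 G ≤ Subgroup.center G := by
  by_contra h
  have hC := isThreeTranspositionClass_of_primitive hD hp
  obtain ⟨a, ha, b, hb, hab, hc⟩ := hw
  obtain ⟨w, hww, hne⟩ := exists_wRel_of_not_central hC h a ha
  have hall := eq_of_primitive_relation hp (WRel D) (fun x hx => WRel.refl hx)
    (fun x hx y _ h => h.symm hx) (fun x _ y _ z _ h h' => h.trans h') hD.2.1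
    (fun g x _ y _ h => h.conj hD.2.1 g) ha hww.1 hww hne
  exact hab ((hall b hb).eq_of_commute hc)

theorem connected_of_primitive (hD : IsThreeTranspositionGroup D)
    (hp : IsPrimitiveUnderConj D) (hw : ∃ a ∈ D, ∃ b ∈ D, a ≠ b ∧ Commute a b) :
    (commutingGraph D).Connected := by
  obtain ⟨a, ha, b, hb, hab, hc⟩ := hw
  let R : G → G → Prop := fun x y =>
    ∀ hx : x ∈ D, ∀ hy : y ∈ D, (commutingGraph D).Reachable ⟨x, hx⟩ ⟨y, hy⟩
  have hall := eq_of_primitive_relation hp R
    (fun x _ _ _ => SimpleGraph.Reachable.refl _)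
    (fun x hx y hy h _ _ => (h hx hy).symm)
    (fun x hx y hy z hz h h' _ _ => (h hx hy).trans (h' hy hz)) hD.2.1
    (fun g x hx y hy h _ _ => by
      let f : commutingGraph D →g commutingGraph D :=
        { toFun := fun z => ⟨g * z.1 * g⁻¹, hD.2.1 g z.1 z.2⟩
          map_rel' := fun {p q} hpq => by
            simp only [commutingGraph, SimpleGraph.fromRel_adj] at hpq ⊢
            refine ⟨fun he => hpq.1 (Subtype.ext ?_), ?_⟩
            · exact mul_left_cancel (mul_right_cancel (congrArg Subtype.val he))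
            · simpa [commute_conj_iff] using hpq.2 }
      exact (h hx hy).map f)
    ha hb (fun _ _ => SimpleGraph.Adj.reachable (by
      simp only [commutingGraph, SimpleGraph.fromRel_adj]
      exact ⟨fun he => hab (congrArg Subtype.val he), Or.inl hc⟩)) (Ne.symm hab)
  exact (SimpleGraph.connected_iff_exists_forall_reachable _).2
    ⟨⟨a, ha⟩, fun x => hall x.1 x.2 ha x.2⟩

/-- Primitive of width at least two: the component has index at most two. -/
theorem exists_component_of_primitive (hD : IsThreeTranspositionGroup D)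
    (hp : IsPrimitiveUnderConj D) (hw : ∃ a ∈ D, ∃ b ∈ D, a ≠ b ∧ Commute a b) :
    ∃ L : Subgroup G, L.Normal ∧ IsQuasisimple L ∧ L.index ≤ 2 ∧
      generalizedFittingSubgroup G = L ⊔ Subgroup.center G := by
  have hC := isThreeTranspositionClass_of_primitive hD hp
  obtain ⟨L, hL, hn, -, hF⟩ := exists_component_of_central hC hp.2.1
    (pCore_two_le_center_of_primitive hD hp) (pCore_three_le_center_of_primitive hD hp hw)
  haveI := hn
  exact ⟨L, hn, hL.2, index_le_two_of_connected hC hL (connected_of_primitive hD hp hw), hF⟩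

/-! ### `⟨D_d⟩` is a maximal `D`-subgroup -/

/-- The orbit of `d` in a subgroup. -/
theorem conj_mem_orbitUnder {H : Subgroup G} {x g : G} (hg : g ∈ H) (hx : x ∈ orbitUnder H d) :
    g * x * g⁻¹ ∈ orbitUnder H d := by
  obtain ⟨k, hk, rfl⟩ := hx
  exact ⟨g * k, mul_mem hg hk, by group⟩

theorem commute_of_mem_of_not_mem_orbit (hD : IsThreeTranspositionGroup D) (hd : d ∈ D)
    {H : Subgroup G} {r o : G} (hr : r ∈ D) (hrH : r ∈ H) (hro : r ∉ orbitUnder H d)
    (ho : o ∈ orbitUnder H d) (hdH : d ∈ H) : Commute r o := by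
  by_contra h
  have hoD := orbitUnder_subset hD hd H ho
  have hoH : o ∈ H := by
    obtain ⟨k, hk, rfl⟩ := ho
    exact mul_mem (mul_mem hk hdH) (inv_mem hk)
  apply hro
  have h1 := conj_mem_orbitUnder (mul_mem (mul_mem hrH hoH) hrH) ho
  rw [inv_eq hD.1 (conj_mem_of_mem hD.1 hD.2.1 hr hoD), conj_third hD.1 hr hoD h] at h1
  exact h1

theorem isDSubgroup_map_conj (hconj : ∀ g : G, ∀ x ∈ D, g * x * g⁻¹ ∈ D) {H : Subgroup G}
    (hH : IsDSubgroup D H) (c : G) : IsDSubgroup D (H.map (MulAut.conj c).toMonoidHom) := by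
  show Subgroup.closure _ = _
  refine le_antisymm ((Subgroup.closure_le _).2 fun x hx => hx.2) ?_
  conv_lhs => rw [← (show Subgroup.closure {x : G | x ∈ D ∧ x ∈ H} = H from hH)]
  rw [MonoidHom.map_closure, Subgroup.closure_le]
  rintro _ ⟨x, hx, rfl⟩
  exact Subgroup.subset_closure ⟨hconj c x hx.1, x, hx.2, rfl⟩

theorem mem_map_conj_iff {H : Subgroup G} {c x : G} :
    x ∈ H.map (MulAut.conj c).toMonoidHom ↔ c⁻¹ * x * c ∈ H := by
  constructor
  · rintro ⟨y, hy, rfl⟩
    simpa [mul_assoc] using hy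
  · intro h
    exact ⟨_, h, by simp [mul_assoc]⟩

/-- No maximal proper `D`-subgroup contains `⟨D_d, d⟩` properly. -/
theorem no_larger_maximal_dSubgroup (hD : IsThreeTranspositionGroup D)
    (hp : IsPrimitiveUnderConj D) (hw : ∃ a ∈ D, ∃ b ∈ D, a ≠ b ∧ Commute a b) (hd : d ∈ D)
    {H : Subgroup G} (hH : IsDSubgroup D H) (hsub : ∀ y ∈ D, Commute d y → y ∈ H) (htop : H ≠ ⊤)
    (hmax : ∀ K : Subgroup G, IsDSubgroup D K → H < K → K = ⊤) :
    ∀ y ∈ D, y ∈ H → Commute d y := by
  intro f hfD hfH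
  by_contra hf
  have hC := isThreeTranspositionClass_of_primitive hD hp
  have hD' := hD.1
  have hconn := connected_of_primitive hD hp hw
  have h3 := pCore_three_le_center_of_primitive hD hp hw
  have hdH : d ∈ H := hsub d hd (Commute.refl d)
  set O := orbitUnder H d with hO
  have hdO : d ∈ O := ⟨1, one_mem _, by simp⟩
  have hOD : ∀ x ∈ O, x ∈ D := fun x hx => orbitUnder_subset hD hd H hx
  have hOH : ∀ x ∈ O, x ∈ H := by
    rintro _ ⟨k, hk, rfl⟩; exact mul_mem (mul_mem hk hdH) (inv_mem hk)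
  have hperpO : ∀ o ∈ O, ∀ y ∈ D, Commute o y → y ∈ H := by
    rintro _ ⟨k, hk, rfl⟩ y hy hc
    have h1 : Commute d (k⁻¹ * y * k) := by
      rw [← commute_conj_iff k]; simpa [mul_assoc] using hc
    have h2 := hsub _ (by simpa using hD.2.1 k⁻¹ y hy) h1
    simpa [mul_assoc] using mul_mem (mul_mem hk h2) (inv_mem hk)
  have hRO : ∀ r ∈ D, r ∈ H → r ∉ O → ∀ o ∈ O, Commute r o :=
    fun r hr hrH hrO o ho => commute_of_mem_of_not_mem_orbit hD hd hr hrH hrO ho hdH
  have hfO : f ∈ O := by
    by_contra h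
    exact hf (hRO f hfD hfH h d hdO).symm
  obtain ⟨r₀, hr₀D, hr₀H, hr₀O⟩ : ∃ r ∈ D, r ∈ H ∧ r ∉ O := by
    by_contra h
    push Not at h
    apply htop
    rw [eq_top_iff, ← hD.2.2, Subgroup.closure_le]
    intro x hx
    obtain ⟨w⟩ := hconn.preconnected ⟨d, hd⟩ ⟨x, hx⟩
    suffices ∀ {u v : D}, (commutingGraph D).Walk u v → (u : G) ∈ O → (v : G) ∈ O from
      hOH _ (this w hdO)
    intro u v w
    induction w with
    | nil => exact id
    | @cons u v w hadj _ ih =>
      intro hu
      refine ih (h v.1 v.2 (hperpO _ hu v.1 v.2 ?_))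
      simp only [commutingGraph, SimpleGraph.fromRel_adj] at hadj
      exact hadj.2.elim id Commute.symm
  obtain ⟨p₀, hp₀, hp₀O⟩ : ∃ y ∈ perp D d, y ∈ O := by
    by_contra h
    push Not at h
    obtain ⟨k, hk, hkf⟩ := hfO
    -- `perp D d` is the set of members of `H` outside `O`, which `k` preserves
    have hA : ∀ y, y ∈ perp D d ↔ y ∈ D ∧ y ∈ H ∧ y ∉ O := fun y =>
      ⟨fun hy => ⟨hy.1, hsub y hy.1 hy.2.2, h y hy⟩, fun hy =>
        ⟨hy.1, fun e => hy.2.2 (e.symm ▸ hdO), (hRO y hy.1 hy.2.1 hy.2.2 d hdO).symm⟩⟩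
    have hinv : ∀ g ∈ H, ∀ y, y ∈ perp D d → g * y * g⁻¹ ∈ perp D d := by
      intro g hg y hy
      rw [hA] at hy ⊢
      refine ⟨hD.2.1 g y hy.1, mul_mem (mul_mem hg hy.2.1) (inv_mem hg), fun ho => hy.2.2 ?_⟩
      simpa [mul_assoc] using conj_mem_orbitUnder (inv_mem hg) ho
    have hW : WRel D d f := by
      refine ⟨hfD, Set.ext fun z => ?_⟩
      have hz : z = k * (k⁻¹ * z * k) * k⁻¹ := by group
      constructor
      · intro hzA
        rw [hz, ← hkf, mem_perp_conj_iff hD.2.1]
        simpa using hinv k⁻¹ (inv_mem hk) z hzA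
      · intro hzA
        rw [hz, ← hkf, mem_perp_conj_iff hD.2.1] at hzA
        rw [hz]
        exact hinv k hk _ hzA
    exact hf (by rw [eq_of_wRel_of_central hC h3 hd hW])
  -- the members outside `O` centralising all of `R` form nothing
  have hperpR : ∀ x ∈ D, (∀ r ∈ D, r ∈ H → r ∉ O → Commute r x) → x ∈ H := by
    intro x hx hcx
    by_contra hxH
    set K := Subgroup.closure {y : G | y ∈ D ∧ (y ∈ H ∨ y = x)} with hK
    have hKD : IsDSubgroup D K :=
      le_antisymm ((Subgroup.closure_le _).2 fun y hy => hy.2)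
        ((Subgroup.closure_le _).2 fun y hy =>
          Subgroup.subset_closure ⟨hy.1, Subgroup.subset_closure hy⟩)
    have hHK : H ≤ K := by
      conv_lhs => rw [← (show Subgroup.closure {x : G | x ∈ D ∧ x ∈ H} = H from hH)]
      exact Subgroup.closure_mono fun y hy => ⟨hy.1, Or.inl hy.2⟩
    have hKtop : K = ⊤ := hmax K hKD (lt_of_le_of_ne hHK fun h =>
      hxH (h.symm ▸ Subgroup.subset_closure ⟨hx, Or.inr rfl⟩))
    set M := Subgroup.closure (O ∪ {x}) with hM
    have hr : ∀ r ∈ D, r ∈ H → r ∉ O → ∀ m ∈ M, Commute r m := by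
      intro r hr hrH hrO m hm
      induction hm using Subgroup.closure_induction with
      | mem y hy =>
        rcases hy with hy | rfl
        · exact hRO r hr hrH hrO y hy
        · exact hcx r hr hrH hrO
      | one => exact Commute.one_right r
      | mul a b _ _ ha hb => exact ha.mul_right hb
      | inv a _ ha => exact ha.inv_right
    haveI hMn : M.Normal := by
      rw [← Subgroup.normalizer_eq_top_iff, eq_top_iff, ← hKtop, hK, Subgroup.closure_le]
      intro y hy
      rw [SetLike.mem_coe, Subgroup.mem_normalizer_iff]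
      rcases hy with ⟨hyD, hyH | rfl⟩
      · by_cases hyO : y ∈ O
        · have hyM : y ∈ M := Subgroup.subset_closure (Or.inl hyO)
          intro z
          refine ⟨fun hz => mul_mem (mul_mem hyM hz) (inv_mem hyM), fun hz => ?_⟩
          simpa [mul_assoc] using mul_mem (mul_mem (inv_mem hyM) hz) hyM
        · intro z
          refine ⟨fun hz => ?_, fun hz => ?_⟩
          · rw [(hr y hyD hyH hyO z hz).eq, mul_inv_cancel_right]; exact hz
          · have := (hr y hyD hyH hyO _ hz).eq
            rw [mul_assoc y z y⁻¹] at this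
            have h2 := mul_left_cancel (this.trans (by simp [mul_assoc] : y * (z * y⁻¹) * y = y * z))
            rw [← h2, ← mul_assoc]; exact hz
      · have hyM : y ∈ M := Subgroup.subset_closure (Or.inr rfl)
        intro z
        refine ⟨fun hz => mul_mem (mul_mem hyM hz) (inv_mem hyM), fun hz => ?_⟩
        simpa [mul_assoc] using mul_mem (mul_mem (inv_mem hyM) hz) hyM
    obtain ⟨e, he, hne⟩ := exists_not_commute_of_class hC hp.2.1 hr₀D
    obtain ⟨g, rfl⟩ := hp.1 d hd e he
    exact hne (hr r₀ hr₀D hr₀H hr₀O _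
      (Subgroup.Normal.conj_mem hMn d (Subgroup.subset_closure (Or.inl hdO)) g))
  -- the centraliser of `d` stabilises `O`
  have hstab : ∀ c : G, Commute c d → ∀ x ∈ O, c * x * c⁻¹ ∈ O := by
    intro c hc x hx
    by_contra hxO
    have hcd : c * d * c⁻¹ = d := by rw [hc.eq, mul_inv_cancel_right]
    have hciv : c⁻¹ * d * c = d := by rw [mul_assoc, ← hc.eq, inv_mul_cancel_left]
    -- members commuting with `d` lie in both `H` and its conjugate
    have hsub' : ∀ y ∈ D, Commute d y → c⁻¹ * y * c ∈ H := by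
      intro y hy hdy
      refine hsub _ (by simpa using hD.2.1 c⁻¹ y hy) ?_
      have := (commute_conj_iff c⁻¹ d y).2 hdy
      rwa [inv_inv, hciv] at this
    -- the members of the conjugate of `R` lie in `R`
    have hR : ∀ (a : G), Commute a d → (∃ z ∈ O, a * z * a⁻¹ ∉ H) → ∀ r ∈ D, r ∈ H → r ∉ O →
        a * r * a⁻¹ ∈ H ∧ a * r * a⁻¹ ∉ O := by
      rintro a ha ⟨z, hz, hzH⟩ r hr hrH hrO
      have had : a * d * a⁻¹ = d := by rw [ha.eq, mul_inv_cancel_right]
      have h1 : Commute d (a * r * a⁻¹) := by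
        have := (commute_conj_iff a d r).2 (hRO r hr hrH hrO d hdO).symm
        rwa [had] at this
      refine ⟨hsub _ (hD.2.1 a r hr) h1, fun hoO => hzH ?_⟩
      exact hperpO _ hoO _ (hD.2.1 a z (hOD z hz))
        ((commute_conj_iff a r z).2 (hRO r hr hrH hrO z hz))
    by_cases hsubH : ∀ z ∈ O, c * z * c⁻¹ ∈ H
    · -- then `c` normalises `H`
      apply hxO
      have hle : H.map (MulAut.conj c).toMonoidHom ≤ H := by
        conv_lhs => rw [← (show Subgroup.closure {x : G | x ∈ D ∧ x ∈ H} = H from hH)]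
        rw [MonoidHom.map_closure, Subgroup.closure_le]
        rintro _ ⟨z, ⟨hzD, hzH⟩, rfl⟩
        by_cases hzO : z ∈ O
        · exact hsubH z hzO
        · refine hsub _ (hD.2.1 c z hzD) ?_
          have := (commute_conj_iff c d z).2 (hRO z hzD hzH hzO d hdO).symm
          rwa [hcd] at this
      have heq := Subgroup.eq_of_le_of_card_ge hle
        (Subgroup.card_map_of_injective (MulAut.conj c).injective).ge
      obtain ⟨k, hk, rfl⟩ := hx
      have hck : c * k * c⁻¹ ∈ H := heq ▸ ⟨k, hk, rfl⟩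
      refine ⟨_, hck, ?_⟩
      conv_lhs => rw [← hcd]
      group
    · push Not at hsubH
      obtain ⟨z₁, hz₁, hz₁H⟩ := hsubH
      -- `c` maps `R` into, hence onto, `R`
      set R : Set G := {r | r ∈ D ∧ r ∈ H ∧ r ∉ O} with hRdef
      have hmaps : (fun r => c * r * c⁻¹) '' R ⊆ R := by
        rintro _ ⟨r, ⟨hr, hrH, hrO⟩, rfl⟩
        exact ⟨hD.2.1 c r hr, hR c hc ⟨z₁, hz₁, hz₁H⟩ r hr hrH hrO⟩
      have honto := Set.eq_of_subset_of_ncard_le hmaps
        (by rw [Set.ncard_image_of_injective R (fun u v huv => by simpa using huv)])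
        (Set.toFinite R)
      apply hz₁H
      refine hperpR _ (hD.2.1 c z₁ (hOD z₁ hz₁)) fun r hr hrH hrO => ?_
      obtain ⟨r', ⟨hr', hr'H, hr'O⟩, rfl⟩ : r ∈ (fun r => c * r * c⁻¹) '' R :=
        honto.symm ▸ ⟨hr, hrH, hrO⟩
      exact (commute_conj_iff c r' z₁).2 (hRO r' hr' hr'H hr'O z₁ hz₁)
  -- so `O` is a block
  have hblock : ∀ g : G, (fun x => g * x * g⁻¹) '' O = O ∨
      Disjoint ((fun x => g * x * g⁻¹) '' O) O := by
    intro g
    by_cases hint : Disjoint ((fun x => g * x * g⁻¹) '' O) O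
    · exact Or.inr hint
    · left
      rw [Set.not_disjoint_iff] at hint
      obtain ⟨_, ⟨_, ⟨h₁, hh₁, rfl⟩, rfl⟩, h₂, hh₂, heq⟩ := hint
      set c := h₂⁻¹ * g * h₁ with hc'
      have hc : Commute c d := by
        rw [Commute, SemiconjBy, ← mul_inv_eq_iff_eq_mul]
        calc c * d * c⁻¹ = h₂⁻¹ * (g * (h₁ * d * h₁⁻¹) * g⁻¹) * h₂ := by rw [hc']; group
          _ = d := by simp only at heq; rw [← heq]; group
      have hmaps : ∀ y ∈ O, g * y * g⁻¹ ∈ O := by
        intro y hy
        have h1 := conj_mem_orbitUnder hh₂ (hstab c hc _ (conj_mem_orbitUnder (inv_mem hh₁) hy))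
        rw [hc'] at h1
        simpa [mul_assoc] using h1
      exact Set.eq_of_subset_of_ncard_le (Set.image_subset_iff.2 hmaps)
        (by rw [Set.ncard_image_of_injective O (fun u v huv => by simpa using huv)]) (Set.toFinite O)
  rcases hp.2.2 O (fun y hy => hOD y hy) hblock with hs | hs
  · exact hf (by rw [hs hfO hdO])
  · exact hr₀O (hs.symm ▸ hr₀D)

/-- `⟨D_d, d⟩` is proper and is a maximal `D`-subgroup. -/
theorem maximal_dSubgroup_of_primitive (hD : IsThreeTranspositionGroup D)
    (hp : IsPrimitiveUnderConj D) (hw : ∃ a ∈ D, ∃ b ∈ D, a ≠ b ∧ Commute a b) (hd : d ∈ D) :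
    Subgroup.closure {y : G | y ∈ D ∧ Commute d y} ≠ ⊤ ∧ ∀ H : Subgroup G, IsDSubgroup D H →
      Subgroup.closure {y : G | y ∈ D ∧ Commute d y} ≤ H →
      H = Subgroup.closure {y : G | y ∈ D ∧ Commute d y} ∨ H = ⊤ := by
  have hC := isThreeTranspositionClass_of_primitive hD hp
  refine ⟨fun htop => ?_, fun H hH hle => ?_⟩
  · obtain ⟨e, he, hn⟩ := exists_not_commute_of_class hC hp.2.1 hd
    have : e ∈ Subgroup.centralizer ({d} : Set G) := by
      have h : Subgroup.closure {y : G | y ∈ D ∧ Commute d y} ≤ Subgroup.centralizer {d} :=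
        (Subgroup.closure_le _).2 fun y hy =>
          Subgroup.mem_centralizer_singleton_iff.2 hy.2.symm
      exact h (htop.symm ▸ Subgroup.mem_top e)
    exact hn (Subgroup.mem_centralizer_singleton_iff.1 this).symm
  · by_contra hcon
    rw [not_or] at hcon
    obtain ⟨K, ⟨hKD, hHK, hKtop⟩, hmax⟩ := wellFounded_gt.has_min
      {K : Subgroup G | IsDSubgroup D K ∧ H ≤ K ∧ K ≠ ⊤} ⟨H, hH, le_rfl, hcon.2⟩
    apply hcon.1
    refine le_antisymm ?_ hle
    conv_lhs => rw [← (show Subgroup.closure {x : G | x ∈ D ∧ x ∈ H} = H from hH)]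
    refine Subgroup.closure_mono fun y hy => ⟨hy.1, ?_⟩
    refine no_larger_maximal_dSubgroup hD hp hw hd hKD
      (fun z hz hdz => hHK (hle (Subgroup.subset_closure ⟨hz, hdz⟩))) hKtop
      (fun K' hK' hlt => ?_) y hy.1 (hHK hy.2)
    by_contra hne'
    exact hmax K' ⟨hK', hHK.trans hlt.le, hne'⟩ hlt

end CfsgLib.Transpositions
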