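import Mathlib

/-!
# Orbits of subgroups on finite subsets under conjugation, and signs of free involutions

The orbit of a finite set of elements under a subgroup acting by conjugation, its cardinality, and its
behaviour under conjugation of subgroup and set together.
-/

set_option autoImplicit false
set_option linter.unusedSectionVars false
set_option linter.unusedDecidableInType false

namespace CfsgLib.Transpositions.SetOrbits

variable {G : Type*} [Group G]

attribute [local instance] Classical.propDecidable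

/-- The conjugate of a finite set. -/
noncomputable def cjS (g : G) (p : Finset G) : Finset G := p.image fun x => g * x * g⁻¹

theorem mem_cjS {g : G} {p : Finset G} {x : G} : x ∈ cjS g p ↔ ∃ y ∈ p, g * y * g⁻¹ = x :=
  Finset.mem_image

theorem conj_mem_cjS (g : G) {p : Finset G} {y : G} : g * y * g⁻¹ ∈ cjS g p ↔ y ∈ p := by
  rw [mem_cjS]
  exact ⟨fun ⟨z, hz, he⟩ => mul_left_cancel (mul_right_cancel he) ▸ hz, fun h => ⟨y, h, rfl⟩⟩

theorem cjS_one (p : Finset G) : cjS 1 p = p := by
  simp [cjS]

theorem cjS_mul (g h : G) (p : Finset G) : cjS (g * h) p = cjS g (cjS h p) := by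
  simp only [cjS, Finset.image_image]
  refine Finset.image_congr fun x _ => ?_
  simp [mul_assoc]

theorem cjS_inv_cancel (g : G) (p : Finset G) : cjS g⁻¹ (cjS g p) = p := by
  rw [← cjS_mul, inv_mul_cancel, cjS_one]

theorem cjS_injective (g : G) : Function.Injective (cjS g) :=
  Function.LeftInverse.injective (cjS_inv_cancel g)

theorem card_cjS (g : G) (p : Finset G) : (cjS g p).card = p.card :=
  Finset.card_image_of_injective _ fun _ _ he => mul_left_cancel (mul_right_cancel he)

theorem cjS_eq_self_of_commute {g : G} {p : Finset G} (h : ∀ x ∈ p, Commute g x) : cjS g p = p := by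
  conv_rhs => rw [← Finset.image_id (s := p)]
  refine Finset.image_congr fun x hx => ?_
  rw [(h x hx).eq, mul_inv_cancel_right]; rfl

theorem cjS_pair (g a b : G) : cjS g {a, b} = {g * a * g⁻¹, g * b * g⁻¹} := by
  simp [cjS, Finset.image_insert]

theorem closure_cjS (g : G) (M : Finset G) :
    Subgroup.closure (cjS g M : Set G) = (Subgroup.closure (M : Set G)).map (MulAut.conj g).toMonoidHom := by
  rw [MonoidHom.map_closure, cjS, Finset.coe_image]
  rfl

variable [Finite G]

/-- The orbit of a finite set under a subgroup. -/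
noncomputable def orb (K : Subgroup G) (p : Finset G) : Finset (Finset G) :=
  ((Set.toFinite (K : Set G)).toFinset).image fun k => cjS k p

theorem mem_orb {K : Subgroup G} {p q : Finset G} : q ∈ orb K p ↔ ∃ k ∈ K, cjS k p = q := by
  simp [orb]

theorem self_mem_orb (K : Subgroup G) (p : Finset G) : p ∈ orb K p :=
  mem_orb.2 ⟨1, one_mem K, cjS_one p⟩

theorem orb_eq {K : Subgroup G} {p q : Finset G} (hq : q ∈ orb K p) : orb K q = orb K p := by
  obtain ⟨k, hk, rfl⟩ := mem_orb.1 hq
  ext r
  simp only [mem_orb]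
  constructor
  · rintro ⟨j, hj, rfl⟩
    exact ⟨j * k, mul_mem hj hk, cjS_mul j k p⟩
  · rintro ⟨j, hj, rfl⟩
    exact ⟨j * k⁻¹, mul_mem hj (inv_mem hk), by rw [← cjS_mul, inv_mul_cancel_right]⟩

theorem orb_mono {K L : Subgroup G} (h : K ≤ L) (p : Finset G) : orb K p ⊆ orb L p := fun q hq => by
  obtain ⟨k, hk, rfl⟩ := mem_orb.1 hq
  exact mem_orb.2 ⟨k, h hk, rfl⟩

theorem image_orb (g : G) (K : Subgroup G) (p : Finset G) :
    (orb K p).image (cjS g) = orb (K.map (MulAut.conj g).toMonoidHom) (cjS g p) := by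
  ext r
  simp only [Finset.mem_image, mem_orb, Subgroup.mem_map]
  constructor
  · rintro ⟨_, ⟨k, hk, rfl⟩, rfl⟩
    refine ⟨g * k * g⁻¹, ⟨k, hk, rfl⟩, ?_⟩
    rw [← cjS_mul, ← cjS_mul]
    simp
  · rintro ⟨_, ⟨k, hk, rfl⟩, rfl⟩
    refine ⟨cjS k p, ⟨k, hk, rfl⟩, ?_⟩
    rw [← cjS_mul, ← cjS_mul]
    simp

/-- The orbit times the stabiliser. -/
theorem card_orb_mul {K : Subgroup G} {p : Finset G} {S : Subgroup G} (hS : S ≤ K)
    (hstab : ∀ k ∈ K, cjS k p = p ↔ k ∈ S) : (orb K p).card * Nat.card S = Nat.card K := by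
  set F := (Set.toFinite (K : Set G)).toFinset with hF
  have hmem : ∀ {k}, k ∈ F ↔ k ∈ K := fun {k} => by simp [hF]
  have h := Finset.card_eq_sum_card_image (fun k => cjS k p) F
  have hfib : ∀ q ∈ F.image fun k => cjS k p, (F.filter fun k => cjS k p = q).card = Nat.card S := by
    intro q hq
    obtain ⟨a, ha, rfl⟩ := Finset.mem_image.1 hq
    rw [show (F.filter fun k => cjS k p = cjS a p) = ((Set.toFinite (S : Set G)).toFinset).image (a * ·) from ?_,
      Finset.card_image_of_injective _ (mul_right_injective a), ← Set.ncard_eq_toFinset_card,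
      ← Nat.card_coe_set_eq]
    · rfl
    ext k
    simp only [Finset.mem_filter, hmem, Finset.mem_image, Set.Finite.mem_toFinset, SetLike.mem_coe]
    constructor
    · rintro ⟨hk, he⟩
      refine ⟨a⁻¹ * k, (hstab _ (mul_mem (inv_mem (hmem.1 ha)) hk)).1 ?_, mul_inv_cancel_left a k⟩
      rw [cjS_mul, he, cjS_inv_cancel]
    · rintro ⟨s, hs, rfl⟩
      exact ⟨mul_mem (hmem.1 ha) (hS hs), by rw [cjS_mul, (hstab s (hS hs)).2 hs]⟩
  rw [Finset.sum_congr rfl hfib, Finset.sum_const, smul_eq_mul] at h
  rw [orb, ← h, hF, ← Set.ncard_eq_toFinset_card, ← Nat.card_coe_set_eq]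
  rfl

/-- A free involution on a set of size twice an odd number is odd. -/
theorem sign_free_involution {α : Type*} [Fintype α] [DecidableEq α] {σ : Equiv.Perm α}
    (h2 : σ ^ 2 = 1) (hfree : ∀ x, σ x ≠ x) {k : ℕ} (hk : Odd k) (hα : Fintype.card α = 2 * k) :
    Equiv.Perm.sign σ = -1 := by
  have h3 : ∀ n ∈ σ.cycleType, n = 2 := fun n hn => by
    have := Nat.le_of_dvd (by norm_num) ((Equiv.Perm.dvd_of_mem_cycleType hn).trans (orderOf_dvd_of_pow_eq_one h2))
    have := Equiv.Perm.two_le_of_mem_cycleType hn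
    omega
  have hsupp : σ.support = Finset.univ := Finset.eq_univ_iff_forall.2 fun x => by simp [hfree x]
  have hsum := Equiv.Perm.sum_cycleType σ
  rw [hsupp, Finset.card_univ, hα, Multiset.eq_replicate_of_mem h3, Multiset.sum_replicate, smul_eq_mul] at hsum
  rw [Equiv.Perm.sign_of_cycleType, Multiset.eq_replicate_of_mem h3, Multiset.sum_replicate,
    Multiset.card_replicate, smul_eq_mul, show Multiset.card σ.cycleType = k by omega]
  refine Odd.neg_one_pow ?_
  rw [Nat.odd_iff] at hk ⊢
  omega

end CfsgLib.Transpositions.SetOrbits
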