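import Cfsg.Agent.Transpositions.TypeM24Counts
import Cfsg.Agent.Transpositions.SetOrbits
import Cfsg.Agent.Transpositions.Simplicity

/-!
# The derived group in type M(24) is proper

For a maximal commuting set `M`, the pairs of commuting outside members with disjoint blocks form
`11385 · 512` items; the orbits of `⟨M⟩` of length 512 are odd in number and each splits into two under
the even products. Over the odd number of maximal commuting sets this gives twice an odd number of
objects, each moved by every member, which is thus an odd permutation of them.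
-/

set_option autoImplicit false
set_option linter.unusedSectionVars false
set_option linter.unusedDecidableInType false
set_option linter.unusedFintypeInType false

open scoped symmDiff

namespace CfsgLib.Transpositions.TypeM24

open Cfsg CfsgLib.FischerTypes
open CfsgLib.Transpositions.CliqueAlgebra (val evenSub)
open CfsgLib.Transpositions.SetOrbits

attribute [local instance] Classical.propDecidable

variable {G : Type*} [Group G] [Finite G] {D : Set G}

/-- The members outside `M` with eight neighbours inside. -/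
noncomputable def outEight (D : Set G) (M : Finset G) : Finset G :=
  (commonF D (∅ : Finset G) \ M).filter fun z => (adj D M z).card = 8

theorem mem_outEight {M : Finset G} {z : G} :
    z ∈ outEight D M ↔ z ∈ D ∧ z ∉ M ∧ (adj D M z).card = 8 := by
  simp [outEight, mem_commonF, and_assoc]

/-- Commuting pairs outside `M` with disjoint blocks. -/
noncomputable def pairs (D : Set G) (M : Finset G) : Finset (Finset G) :=
  ((outEight D M).powersetCard 2).filter fun p =>
    ∀ a ∈ p, ∀ b ∈ p, a ≠ b → Commute a b ∧ Disjoint (adj D M a) (adj D M b)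

theorem mem_pairs {M : Finset G} {p : Finset G} :
    p ∈ pairs D M ↔ ((∀ a ∈ p, a ∈ outEight D M) ∧ p.card = 2) ∧
      ∀ a ∈ p, ∀ b ∈ p, a ≠ b → Commute a b ∧ Disjoint (adj D M a) (adj D M b) := by
  simp [pairs, Finset.mem_powersetCard, Finset.subset_iff]

/-- Products of two members. -/
def two (M : Finset G) : Subgroup G :=
  Subgroup.closure {z | ∃ a ∈ M, ∃ b ∈ M, z = a * b}

theorem two_le (M : Finset G) : two M ≤ Subgroup.closure (M : Set G) := by
  rw [two, Subgroup.closure_le]
  rintro _ ⟨a, ha, b, hb, rfl⟩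
  exact mul_mem (Subgroup.subset_closure ha) (Subgroup.subset_closure hb)

theorem two_cjS (g : G) (M : Finset G) :
    two (cjS g M) = (two M).map (MulAut.conj g).toMonoidHom := by
  rw [two, two, MonoidHom.map_closure]
  congr 1
  ext z
  simp only [Set.mem_image, Set.mem_setOf_eq]
  constructor
  · rintro ⟨a', ha', b', hb', rfl⟩
    obtain ⟨a, ha, rfl⟩ := mem_cjS.1 ha'
    obtain ⟨b, hb, rfl⟩ := mem_cjS.1 hb'
    exact ⟨a * b, ⟨a, ha, b, hb, rfl⟩, by simp [mul_assoc]⟩
  · rintro ⟨_, ⟨a, ha, b, hb, rfl⟩, rfl⟩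
    exact ⟨g * a * g⁻¹, (conj_mem_cjS g).2 ha, g * b * g⁻¹, (conj_mem_cjS g).2 hb, by simp [mul_assoc]⟩

/-- The orbits of even products inside the short orbits of `⟨M⟩`. -/
noncomputable def halves (D : Set G) (M : Finset G) : Finset (Finset (Finset G)) :=
  ((pairs D M).filter fun p => (orb (Subgroup.closure (M : Set G)) p).card = 512).image fun p =>
    orb (two M) p

theorem mem_halves {M : Finset G} {o : Finset (Finset G)} :
    o ∈ halves D M ↔ ∃ p ∈ pairs D M,
      (orb (Subgroup.closure (M : Set G)) p).card = 512 ∧ orb (two M) p = o := by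
  simp [halves, and_assoc]

variable (H : M24.Hyp G D)

include H

theorem conj_mem_D (g : G) {x : G} : g * x * g⁻¹ ∈ D ↔ x ∈ D :=
  ⟨fun h => by simpa [mul_assoc] using H.group.2.1 g⁻¹ _ h, H.group.2.1 g x⟩

theorem adj_cjS (g : G) (M : Finset G) (z : G) :
    adj D (cjS g M) (g * z * g⁻¹) = cjS g (adj D M z) := by
  ext x
  rw [mem_adj]
  constructor
  · rintro ⟨hx, hp⟩
    obtain ⟨y, hy, rfl⟩ := mem_cjS.1 hx
    exact (conj_mem_cjS g).2 (mem_adj.2 ⟨hy, (M24.perp_conj H).1 hp⟩)
  · intro hx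
    obtain ⟨y, hy, rfl⟩ := mem_cjS.1 hx
    exact ⟨(conj_mem_cjS g).2 (mem_adj.1 hy).1, (M24.perp_conj H).2 (mem_adj.1 hy).2⟩

theorem isMaxClique_cjS (g : G) {M : Finset G} (hM : IsMaxClique D (M : Set G)) :
    IsMaxClique D (cjS g M : Set G) := by
  refine ⟨fun x hx => ?_, fun x hx y hy => ?_, fun z hz hc => ?_⟩
  · obtain ⟨y, hy, rfl⟩ := mem_cjS.1 hx
    exact (conj_mem_D H g).2 (hM.sub hy)
  · obtain ⟨a, ha, rfl⟩ := mem_cjS.1 hx
    obtain ⟨b, hb, rfl⟩ := mem_cjS.1 hy
    exact (commute_conj_iff' g a b).2 (hM.comm a ha b hb)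
  · have hz' : g * (g⁻¹ * z * g) * g⁻¹ = z := by simp [mul_assoc]
    have hmem := hM.max (g⁻¹ * z * g) ((conj_mem_D H g).1 (hz'.symm ▸ hz)) fun m hm =>
      (commute_conj_iff' g _ m).1 (hz'.symm ▸ hc _ ((conj_mem_cjS g).2 hm))
    exact hz' ▸ (conj_mem_cjS g).2 hmem

theorem pairs_cjS (g : G) {M p : Finset G} (hp : p ∈ pairs D M) :
    cjS g p ∈ pairs D (cjS g M) := by
  obtain ⟨⟨h1, h2⟩, h3⟩ := mem_pairs.1 hp
  refine mem_pairs.2 ⟨⟨fun a ha => ?_, by rw [card_cjS, h2]⟩, fun a ha b hb hne => ?_⟩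
  · obtain ⟨x, hx, rfl⟩ := mem_cjS.1 ha
    obtain ⟨h4, h5, h6⟩ := mem_outEight.1 (h1 x hx)
    exact mem_outEight.2 ⟨(conj_mem_D H g).2 h4, fun h => h5 ((conj_mem_cjS g).1 h),
      by rw [adj_cjS H, card_cjS, h6]⟩
  · obtain ⟨x, hx, rfl⟩ := mem_cjS.1 ha
    obtain ⟨y, hy, rfl⟩ := mem_cjS.1 hb
    obtain ⟨h4, h5⟩ := h3 x hx y hy fun he => hne (by rw [he])
    refine ⟨(commute_conj_iff' g x y).2 h4, ?_⟩
    rw [adj_cjS H, adj_cjS H, Finset.disjoint_left]
    intro a ha hb
    obtain ⟨c, hc, rfl⟩ := mem_cjS.1 ha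
    exact Finset.disjoint_left.1 h5 hc ((conj_mem_cjS g).1 hb)

theorem halves_cjS (g : G) {M : Finset G} {o : Finset (Finset G)} (ho : o ∈ halves D M) :
    o.image (cjS g) ∈ halves D (cjS g M) := by
  obtain ⟨p, hp, h512, rfl⟩ := mem_halves.1 ho
  refine mem_halves.2 ⟨cjS g p, pairs_cjS H g hp, ?_, ?_⟩
  · rw [closure_cjS, ← image_orb, Finset.card_image_of_injective _ (cjS_injective g), h512]
  · rw [image_orb, two_cjS]

variable {M : Finset G} (hM : IsMaxClique D (M : Set G))

include hM

theorem two_le_evenSub : two M ≤ evenSub (commM H hM) := by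
  rw [two, Subgroup.closure_le]
  rintro _ ⟨a, ha, b, hb, rfl⟩
  by_cases hab : a = b
  · rw [hab, (commM H hM).sq b hb]
    exact one_mem _
  · refine ⟨{a, b}, Finset.insert_subset ha (Finset.singleton_subset_iff.2 hb), ?_, ?_⟩
    · rw [Finset.card_pair hab]; exact even_two
    · rw [CliqueAlgebra.val_insert (commM H hM) (Finset.singleton_subset_iff.2 hb) ha (by simpa using hab),
        CliqueAlgebra.val_singleton (commM H hM) hb]

theorem not_mem_two {m : G} (hm : m ∈ M) : m ∉ two M := fun h =>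
  not_mem_evenSub H hM hm (two_le_evenSub H hM h)

omit H hM in
/-- Each element of `⟨M⟩` is an even product or a member times one. -/
theorem mem_or_mul_mem (hc : CliqueAlgebra.Comm M) {m : G} (hm : m ∈ M) {a : G}
    (ha : a ∈ Subgroup.closure (M : Set G)) : a ∈ two M ∨ m * a ∈ two M := by
  obtain ⟨T, hT, rfl⟩ := (CliqueAlgebra.mem_closure_iff hc).1 ha
  induction T using Finset.induction_on with
  | empty => left; rw [CliqueAlgebra.val_empty]; exact one_mem _
  | @insert b T hbT ih =>
    obtain ⟨hb, hT'⟩ := Finset.insert_subset_iff.1 hT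
    have hmb : m * b ∈ two M := Subgroup.subset_closure ⟨m, hm, b, hb, rfl⟩
    have hbm : b * m ∈ two M := Subgroup.subset_closure ⟨b, hb, m, hm, rfl⟩
    rw [CliqueAlgebra.val_insert hc hT' hb hbT]
    rcases ih hT' ((CliqueAlgebra.mem_closure_iff hc).2 ⟨T, hT', rfl⟩) with h | h
    · right; rw [← mul_assoc]; exact mul_mem hmb h
    · left
      have := mul_mem hbm h
      rwa [mul_assoc, ← mul_assoc m m, hc.sq m hm, one_mul] at this

theorem mem_two_of_even {T : Finset G} (hT : T ⊆ M) (he : Even T.card) : val M T ∈ two M := by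
  obtain ⟨m, hm⟩ : ∃ m, m ∈ M := Finset.card_pos.1 (by rw [(card_clique H hM).1]; norm_num)
  rcases mem_or_mul_mem (commM H hM) hm ((CliqueAlgebra.mem_closure_iff (commM H hM)).2 ⟨T, hT, rfl⟩)
    with h | h
  · exact h
  · refine absurd ?_ (not_mem_evenSub H hM hm)
    have := mul_mem (two_le_evenSub H hM h) (show val M T ∈ evenSub (commM H hM) from ⟨T, hT, he, rfl⟩)
    rwa [mul_assoc, CliqueAlgebra.val_mul_self (commM H hM) hT, mul_one] at this

theorem isPGroup_two : IsPGroup 2 (Subgroup.closure (M : Set G)) := by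
  intro a
  obtain ⟨T, hT, he⟩ := (CliqueAlgebra.mem_closure_iff (commM H hM)).1 a.2
  exact ⟨1, Subtype.ext (by
    rw [pow_one, SubmonoidClass.coe_pow, Subgroup.coe_one, pow_two, ← he,
      CliqueAlgebra.val_mul_self (commM H hM) hT])⟩

/-- `⟨M⟩` has at least `2 ^ 12` elements. -/
theorem exists_card_closure : ∃ a, 12 ≤ a ∧ Nat.card (Subgroup.closure (M : Set G)) = 2 ^ a := by
  obtain ⟨a, ha⟩ := IsPGroup.iff_card.1 (isPGroup_two H hM)
  refine ⟨a, ?_, ha⟩
  set S := M.powerset.filter fun T => T.card ≤ 3 with hS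
  have hScard : S.card = 2325 := by
    have e : S = M.powersetCard 0 ∪ M.powersetCard 1 ∪ M.powersetCard 2 ∪ M.powersetCard 3 := by
      ext T
      simp only [hS, Finset.mem_filter, Finset.mem_powerset, Finset.mem_union, Finset.mem_powersetCard]
      grind
    rw [e, Finset.card_union_of_disjoint, Finset.card_union_of_disjoint, Finset.card_union_of_disjoint,
      Finset.card_powersetCard, Finset.card_powersetCard, Finset.card_powersetCard, Finset.card_powersetCard,
      (card_clique H hM).1]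
    · rfl
    all_goals
      rw [Finset.disjoint_left]
      simp only [Finset.mem_union, Finset.mem_powersetCard]
      grind
  have hle : S.card ≤ Nat.card (Subgroup.closure (M : Set G)) := by
    rw [← Finset.card_image_of_injOn (f := val M)]
    · change _ ≤ Nat.card ((Subgroup.closure (M : Set G) : Subgroup G) : Set G)
      rw [Nat.card_coe_set_eq, ← Set.ncard_coe_finset]
      refine Set.ncard_le_ncard (fun x hx => ?_) (Set.toFinite _)
      obtain ⟨T, hT, rfl⟩ := Finset.mem_image.1 hx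
      exact (CliqueAlgebra.mem_closure_iff (commM H hM)).2
        ⟨T, Finset.mem_powerset.1 (Finset.mem_filter.1 hT).1, rfl⟩
    · intro T hT U hU he
      simp only [hS, Finset.coe_filter, Set.mem_setOf_eq, Finset.mem_powerset] at hT hU
      have hsub : T ∆ U ⊆ M := fun x hx => by
        rcases Finset.mem_symmDiff.1 hx with ⟨h, -⟩ | ⟨h, -⟩
        exacts [hT.1 h, hU.1 h]
      have h6 : (T ∆ U).card ≤ 7 := by
        refine (Finset.card_le_card (show T ∆ U ⊆ T ∪ U from symmDiff_le_sup)).trans ?_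
        have := Finset.card_union_le T U
        omega
      have h0 := eq_empty_of_val H hM hsub
        (by rw [CliqueAlgebra.val_symmDiff (commM H hM) hT.1 hU.1, he,
          CliqueAlgebra.val_mul_self (commM H hM) hU.1]) h6
      rwa [← Finset.bot_eq_empty, symmDiff_eq_bot] at h0
  rw [hScard, ha] at hle
  by_contra hlt
  have := Nat.pow_le_pow_right (show 1 ≤ 2 by norm_num) (show a ≤ 11 by omega)
  omega

/-- The stabiliser of a pair consists of even products, at most eight of them. -/
theorem orb_pair {p : Finset G} (hp : p ∈ pairs D M) :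
    (∀ k ∈ Subgroup.closure (M : Set G), cjS k p = p → k ∈ two M) ∧
      ∃ j, 9 ≤ j ∧ (orb (Subgroup.closure (M : Set G)) p).card = 2 ^ j := by
  obtain ⟨⟨hout, h2⟩, hpair⟩ := mem_pairs.1 hp
  obtain ⟨y, y', hne, rfl⟩ := Finset.card_eq_two.1 h2
  obtain ⟨hcy, hdisj⟩ := hpair y (by simp) y' (by simp) hne
  obtain ⟨hy, hyM, hy8⟩ := mem_outEight.1 (hout y (by simp))
  obtain ⟨hy', hy'M, hy'8⟩ := mem_outEight.1 (hout y' (by simp))
  set A := Subgroup.closure (M : Set G) with hA
  have hc := commM H hM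
  set S := A ⊓ Subgroup.centralizer ({y, y'} : Set G) with hSdef
  have hmemS : ∀ {k}, k ∈ S ↔ k ∈ A ∧ Commute k y ∧ Commute k y' := fun {k} => by
    rw [hSdef, Subgroup.mem_inf, Subgroup.mem_centralizer_iff]
    simp only [Set.mem_insert_iff, Set.mem_singleton_iff, forall_eq_or_imp, forall_eq]
    exact ⟨fun ⟨h1, h2, h3⟩ => ⟨h1, h2.symm, h3.symm⟩, fun ⟨h1, h2, h3⟩ => ⟨h1, h2.eq.symm, h3.eq.symm⟩⟩
  have hstab : ∀ k ∈ A, cjS k ({y, y'} : Finset G) = {y, y'} ↔ k ∈ S := by
    intro k hk
    constructor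
    · intro he
      rw [hmemS]
      have h1 : k * y * k⁻¹ ∈ ({y, y'} : Finset G) := he ▸ (conj_mem_cjS k).2 (by simp)
      have h2 : k * y' * k⁻¹ ∈ ({y, y'} : Finset G) := he ▸ (conj_mem_cjS k).2 (by simp)
      simp only [Finset.mem_insert, Finset.mem_singleton] at h1 h2
      rcases h1 with h1 | h1
      · rcases h2 with h2 | h2
        · exact absurd (mul_left_cancel (mul_right_cancel (h2.trans h1.symm))) (Ne.symm hne)
        · exact ⟨hk, mul_inv_eq_iff_eq_mul.1 h1, mul_inv_eq_iff_eq_mul.1 h2⟩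
      · exfalso
        obtain ⟨x, hx⟩ : (adj D M y).Nonempty := Finset.card_pos.1 (by omega)
        obtain ⟨hxM, hxy⟩ := mem_adj.1 hx
        have hkx : Commute k x := by
          obtain ⟨T, hT, rfl⟩ := (CliqueAlgebra.mem_closure_iff hc).1 hk
          exact (CliqueAlgebra.val_comm hc hxM hT).symm
        refine Finset.disjoint_left.1 hdisj hx (mem_adj.2 ⟨hxM, hM.sub hxM, fun he => hy'M (he ▸ hxM), ?_⟩)
        rw [← h1]
        have := (commute_conj_iff' k y x).2 hxy.2.2
        rwa [show k * x * k⁻¹ = x by rw [hkx.eq, mul_inv_cancel_right]] at this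
    · intro hk'
      obtain ⟨-, h1, h2⟩ := hmemS.1 hk'
      exact cjS_eq_self_of_commute fun x hx => by
        rcases Finset.mem_insert.1 hx with rfl | hx
        · exact h1
        · rw [Finset.mem_singleton.1 hx]; exact h2
  -- the stabiliser as small even products of neighbours
  have hrep : ∀ k ∈ S, ∃ U ⊆ adj D M y, ∃ U' ⊆ adj D M y', U.card ≤ 4 ∧ U'.card ≤ 4 ∧
      val M U = k ∧ val M U' = k ∧ Even U.card := by
    intro k hk
    obtain ⟨hkA, hky, hky'⟩ := hmemS.1 hk
    obtain ⟨T, hT, rfl⟩ := (CliqueAlgebra.mem_closure_iff hc).1 hkA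
    have hsmall : ∀ {z}, z ∈ D → z ∉ M → (adj D M z).card = 8 → Commute z (val M T) →
        ∃ U ⊆ adj D M z, U.card ≤ 4 ∧ val M U = val M T := by
      intro z hz hzM h8 hcz
      obtain ⟨U, hU, hUv⟩ := exists_adj_val H hM hz hzM (Finset.card_pos.1 (by omega)) hT hcz
      by_cases h4 : U.card ≤ 4
      · exact ⟨U, hU, h4, hUv⟩
      · have hOM : adj D M z ⊆ M := Finset.filter_subset _ _
        refine ⟨adj D M z \ U, Finset.sdiff_subset, by rw [Finset.card_sdiff_of_subset hU]; omega, ?_⟩
        have e : adj D M z \ U = adj D M z ∆ U := by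
          ext x
          simp only [Finset.mem_sdiff, Finset.mem_symmDiff]
          exact ⟨fun h => Or.inl h, fun h => h.elim id fun h => absurd (hU h.1) h.2⟩
        rw [e, CliqueAlgebra.val_symmDiff hc hOM (hU.trans hOM), val_adj H hM hz hzM h8, one_mul, hUv]
    obtain ⟨U, hU, hU4, hUv⟩ := hsmall hy hyM hy8 hky.symm
    obtain ⟨U', hU', hU'4, hU'v⟩ := hsmall hy' hy'M hy'8 hky'.symm
    refine ⟨U, hU, U', hU', hU4, hU'4, hUv, hU'v, ?_⟩
    have hd : Disjoint U U' := Finset.disjoint_of_subset_left hU (Finset.disjoint_of_subset_right hU' hdisj)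
    have hUM : U ⊆ M := hU.trans (Finset.filter_subset _ _)
    have hU'M : U' ⊆ M := hU'.trans (Finset.filter_subset _ _)
    have hcard : (U ∆ U').card = U.card + U'.card := by
      rw [show U ∆ U' = U ∪ U' from hd.symmDiff_eq_sup, Finset.card_union_of_disjoint hd]
    by_cases h8 : U.card + U'.card = 8
    · rw [show U.card = 4 by omega]; decide
    · have h0 := eq_empty_of_val H hM (T := U ∆ U') (fun x hx => by
          rcases Finset.mem_symmDiff.1 hx with ⟨h, -⟩ | ⟨h, -⟩
          exacts [hUM h, hU'M h])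
        (by rw [CliqueAlgebra.val_symmDiff hc hUM hU'M, hUv, hU'v, CliqueAlgebra.val_mul_self hc hT]) (by omega)
      rw [h0, Finset.card_empty] at hcard
      rw [show U.card = 0 by omega]; decide
  have hStwo : ∀ k ∈ S, k ∈ two M := fun k hk => by
    obtain ⟨U, hU, -, -, -, -, rfl, -, he⟩ := hrep k hk
    exact mem_two_of_even H hM (hU.trans (Finset.filter_subset _ _)) he
  refine ⟨fun k hk he => hStwo k ((hstab k hk).1 he), ?_⟩
  -- at most eight of them
  have hOM : adj D M y ⊆ M := Finset.filter_subset _ _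
  obtain ⟨x₀, hx₀⟩ : (adj D M y).Nonempty := Finset.card_pos.1 (by omega)
  have hS14 : 9 * Nat.card S ≤ 128 := by
    set F := (Set.toFinite (S : Set G)).toFinset with hF
    have hFcard : F.card = Nat.card S := by
      rw [hF, ← Set.ncard_eq_toFinset_card, ← Nat.card_coe_set_eq]; rfl
    have hmemF : ∀ {k}, k ∈ F ↔ k ∈ S := fun {k} => by simp [hF]
    have h1O : (1 : G) ∉ adj D M y := fun h => FischerTypes.ne_one H.group.1 (hM.sub (hOM h)) rfl
    have hpair : ∀ a ∈ adj D M y, ∀ b ∈ adj D M y, a ≠ b → a * b ∉ S := by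
      intro a ha b hb hab hS'
      obtain ⟨-, -, U', hU', -, hU'4, -, hU'v, -⟩ := hrep _ hS'
      have hsub : ({a, b} : Finset G) ⊆ adj D M y := Finset.insert_subset ha (Finset.singleton_subset_iff.2 hb)
      have hd : Disjoint ({a, b} : Finset G) U' :=
        Finset.disjoint_of_subset_left hsub (Finset.disjoint_of_subset_right hU' hdisj)
      have hU'M : U' ⊆ M := hU'.trans (Finset.filter_subset _ _)
      have hv : val M ({a, b} : Finset G) = a * b := by
        rw [CliqueAlgebra.val_insert hc (Finset.singleton_subset_iff.2 (hOM hb)) (hOM ha) (by simpa using hab),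
          CliqueAlgebra.val_singleton hc (hOM hb)]
      have hu : ({a, b} : Finset G) ∆ U' = {a, b} ∪ U' := hd.symmDiff_eq_sup
      have h0 := eq_empty_of_val H hM (T := {a, b} ∆ U')
        (by rw [hu]; exact Finset.union_subset (hsub.trans hOM) hU'M)
        (by rw [CliqueAlgebra.val_symmDiff hc (hsub.trans hOM) hU'M, hv, ← hU'v,
          CliqueAlgebra.val_mul_self hc hU'M])
        (by rw [hu, Finset.card_union_of_disjoint hd, Finset.card_pair hab]; omega)
      rw [hu] at h0
      simp at h0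
    have hone : ∀ a ∈ adj D M y, a ∉ S := fun a ha hS' => not_mem_two H hM (hOM ha) (hStwo a hS')
    have hinj : ∀ q ∈ insert 1 (adj D M y) ×ˢ F, ∀ r ∈ insert 1 (adj D M y) ×ˢ F,
        q.1 * q.2 = r.1 * r.2 → q = r := by
      rintro ⟨a, s⟩ hq ⟨b, t⟩ hr he
      simp only [Finset.mem_product, hmemF] at hq hr
      simp only at he
      have hab : a⁻¹ * b ∈ S := by
        rw [show a⁻¹ * b = s * t⁻¹ by rw [eq_mul_inv_iff_mul_eq, mul_assoc, ← he, inv_mul_cancel_left]]
        exact mul_mem hq.2 (inv_mem hr.2)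
      obtain rfl : a = b := by
        by_contra hab'
        rcases Finset.mem_insert.1 hq.1 with rfl | ha <;> rcases Finset.mem_insert.1 hr.1 with hb' | hb
        · exact hab' hb'.symm
        · exact hone b hb (by simpa using hab)
        · rw [hb', mul_one, FischerTypes.inv_eq H.group.1 (hM.sub (hOM ha))] at hab
          exact hone a ha hab
        · rw [FischerTypes.inv_eq H.group.1 (hM.sub (hOM ha))] at hab
          exact hpair a ha b hb hab' hab
      rw [mul_left_cancel he]
    have hP : ∀ T ⊆ adj D M y, ∃ T' ⊆ (adj D M y).erase x₀, val M T' = val M T := by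
      intro T hT
      by_cases hx : x₀ ∈ T
      · refine ⟨adj D M y \ T, fun z hz => ?_, ?_⟩
        · obtain ⟨h1, h2⟩ := Finset.mem_sdiff.1 hz
          exact Finset.mem_erase.2 ⟨fun he => h2 (he ▸ hx), h1⟩
        have e : adj D M y \ T = adj D M y ∆ T := by
          ext x
          simp only [Finset.mem_sdiff, Finset.mem_symmDiff]
          exact ⟨fun h => Or.inl h, fun h => h.elim id fun h => absurd (hT h.1) h.2⟩
        rw [e, CliqueAlgebra.val_symmDiff hc hOM (hT.trans hOM), val_adj H hM hy hyM hy8, one_mul]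
      · exact ⟨T, fun z hz => Finset.mem_erase.2 ⟨fun he => hx (he ▸ hz), hT hz⟩, rfl⟩
    have hle := Finset.card_le_card_of_injOn (fun q : G × G => q.1 * q.2)
      (s := insert 1 (adj D M y) ×ˢ F) (t := ((adj D M y).erase x₀).powerset.image (val M))
      (fun q hq => ?_) (fun q hq r hr => hinj q hq r hr)
    · rw [Finset.card_product, Finset.card_insert_of_notMem h1O, hy8, hFcard] at hle
      refine hle.trans (Finset.card_image_le.trans ?_)
      rw [Finset.card_powerset, Finset.card_erase_of_mem hx₀, hy8]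
      norm_num
    · simp only [Finset.mem_coe, Finset.mem_product, hmemF] at hq
      obtain ⟨U, hU, -, -, -, -, hUv, -, -⟩ := hrep _ hq.2
      obtain ⟨T, hT, hTv⟩ : ∃ T ⊆ adj D M y, val M T = q.1 * q.2 := by
        rcases Finset.mem_insert.1 hq.1 with h | h
        · exact ⟨U, hU, by rw [h, one_mul, hUv]⟩
        · refine ⟨{q.1} ∆ U, fun z hz => ?_, ?_⟩
          · rcases Finset.mem_symmDiff.1 hz with ⟨hz, -⟩ | ⟨hz, -⟩
            exacts [Finset.mem_singleton.1 hz ▸ h, hU hz]
          · rw [CliqueAlgebra.val_symmDiff hc (Finset.singleton_subset_iff.2 (hOM h)) (hU.trans hOM),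
              CliqueAlgebra.val_singleton hc (hOM h), hUv]
      obtain ⟨T', hT', hT'v⟩ := hP T hT
      rw [Finset.mem_coe, Finset.mem_image]
      exact ⟨T', Finset.mem_powerset.2 hT', hT'v.trans hTv⟩
  obtain ⟨a, ha12, ha⟩ := exists_card_closure H hM
  have hmul := card_orb_mul (p := ({y, y'} : Finset G)) (inf_le_left : S ≤ A) hstab
  rw [ha] at hmul
  obtain ⟨i, hi, hSi⟩ := (Nat.dvd_prime_pow Nat.prime_two).1 (Dvd.intro_left _ hmul)
  rw [hSi] at hmul hS14
  have hi3 : i ≤ 3 := by
    by_contra hlt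
    have := Nat.pow_le_pow_right (show 1 ≤ 2 by norm_num) (show 4 ≤ i by omega)
    omega
  refine ⟨a - i, by omega, ?_⟩
  rw [← Nat.sub_add_cancel (show i ≤ a by omega), pow_add] at hmul
  exact Nat.eq_of_mul_eq_mul_right (Nat.two_pow_pos i) hmul

/-- The pairs number `11385 · 512`. -/
theorem card_pairs : (pairs D M).card = 5829120 := by
  have h := Finset.sum_card_bipartiteAbove_eq_sum_card_bipartiteBelow
    (fun (p : Finset G) (y : G) => y ∈ p) (s := pairs D M) (t := outEight D M)
  have e1 : ∀ p ∈ pairs D M, ((outEight D M).bipartiteAbove (fun (p : Finset G) (y : G) => y ∈ p) p).card = 2 := by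
    intro p hp
    obtain ⟨⟨h1, h2⟩, -⟩ := mem_pairs.1 hp
    rw [← h2]
    congr 1
    ext y
    simp only [Finset.bipartiteAbove, Finset.mem_filter]
    exact ⟨fun h => h.2, fun h => ⟨h1 y h, h⟩⟩
  have e2 : ∀ y ∈ outEight D M,
      ((pairs D M).bipartiteBelow (fun (p : Finset G) (y : G) => y ∈ p) y).card = 480 := by
    intro y hy
    obtain ⟨hyD, hyM, hy8⟩ := mem_outEight.1 hy
    rw [← card_disjoint_partners H hM hyD hyM hy8]
    symm
    refine Finset.card_bij (fun z _ => {y, z}) (fun z hz => ?_) (fun z hz w hw he => ?_) (fun p hp => ?_)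
    · obtain ⟨hz', h8, hd⟩ := Finset.mem_filter.1 hz
      obtain ⟨hzc, hzM⟩ := Finset.mem_sdiff.1 hz'
      obtain ⟨hzD, hzy⟩ := mem_commonF.1 hzc
      obtain ⟨-, hne, hcom⟩ := hzy y (Finset.mem_singleton_self y)
      refine Finset.mem_filter.2 ⟨mem_pairs.2 ⟨⟨fun a ha => ?_, Finset.card_pair (Ne.symm hne)⟩, ?_⟩, by simp⟩
      · rcases Finset.mem_insert.1 ha with rfl | ha
        · exact hy
        · rw [Finset.mem_singleton.1 ha]; exact mem_outEight.2 ⟨hzD, hzM, h8⟩
      · intro a ha b hb hab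
        simp only [Finset.mem_insert, Finset.mem_singleton] at ha hb
        rcases ha with rfl | rfl <;> rcases hb with rfl | rfl
        exacts [absurd rfl hab, ⟨hcom, hd⟩, ⟨hcom.symm, hd.symm⟩, absurd rfl hab]
    · have hne := ((mem_commonF.1 (Finset.mem_sdiff.1 (Finset.mem_filter.1 hz).1).1).2 y
        (Finset.mem_singleton_self y)).2.1
      have hzm : z ∈ ({y, w} : Finset G) := he ▸ Finset.mem_insert_of_mem (Finset.mem_singleton_self z)
      exact Finset.mem_singleton.1 ((Finset.mem_insert.1 hzm).resolve_left hne)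
    · obtain ⟨hp', hyp⟩ := Finset.mem_filter.1 hp
      obtain ⟨⟨h1, h2⟩, h3⟩ := mem_pairs.1 hp'
      obtain ⟨z, hz, hzy⟩ := Finset.exists_mem_ne (by omega : 1 < p.card) y
      obtain ⟨hzD, hzM, hz8⟩ := mem_outEight.1 (h1 z hz)
      obtain ⟨hcom, hd⟩ := h3 y hyp z hz (Ne.symm hzy)
      refine ⟨z, Finset.mem_filter.2 ⟨Finset.mem_sdiff.2 ⟨mem_commonF.2 ⟨hzD, fun x hx => ?_⟩, hzM⟩, hz8, hd⟩,
        Finset.eq_of_subset_of_card_le (Finset.insert_subset hyp (Finset.singleton_subset_iff.2 hz))
          (by rw [h2, Finset.card_pair (Ne.symm hzy)])⟩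
      rw [Finset.mem_singleton.1 hx]
      exact ⟨hzD, hzy, hcom⟩
  rw [Finset.sum_congr rfl e1, Finset.sum_congr rfl e2, Finset.sum_const, Finset.sum_const, smul_eq_mul,
    smul_eq_mul, show (outEight D M).card = 24288 from (outside_types H hM).2] at h
  omega

/-- The halves: twice an odd number, each member of `M` moving every one. -/
theorem halves_props : (∃ k, Odd k ∧ (halves D M).card = 2 * k) ∧
    ∀ m ∈ M, ∀ o ∈ halves D M, o.image (cjS m) ≠ o := by
  set A := Subgroup.closure (M : Set G) with hA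
  have hc := commM H hM
  have hAm : ∀ g ∈ M, g ∈ A := fun g hg => Subgroup.subset_closure hg
  have hclosed : ∀ p ∈ pairs D M, ∀ k ∈ A, cjS k p ∈ pairs D M := by
    intro p hp k hk
    have := pairs_cjS H k hp
    rwa [cjS_eq_self_of_commute (p := M) fun x hx => by
      obtain ⟨T, hT, rfl⟩ := (CliqueAlgebra.mem_closure_iff hc).1 hk
      exact (CliqueAlgebra.val_comm hc hx hT).symm] at this
  have hfree : ∀ m ∈ M, ∀ p ∈ pairs D M, cjS m p ∉ orb (two M) p := by
    intro m hm p hp hmem
    obtain ⟨e, he, hep⟩ := mem_orb.1 hmem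
    have hfix : cjS (e⁻¹ * m) p = p := by rw [cjS_mul, ← hep, cjS_inv_cancel]
    have h2 := (orb_pair H hM hp).1 _ (mul_mem (inv_mem (two_le M he)) (hAm m hm)) hfix
    exact not_mem_two H hM hm (by simpa using mul_mem he h2)
  have hmove : ∀ m ∈ M, ∀ p, (orb (two M) p).image (cjS m) = orb (two M) (cjS m p) := by
    intro m hm p
    rw [image_orb, ← two_cjS, cjS_eq_self_of_commute (p := M) fun x hx => hM.comm m hm x hx]
  refine ⟨?_, fun m hm o ho => ?_⟩
  swap
  · obtain ⟨p, hp, -, rfl⟩ := mem_halves.1 ho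
    rw [hmove m hm]
    exact fun he => hfree m hm p hp (he ▸ self_mem_orb _ _)
  set 𝒪 := (pairs D M).image (orb A) with h𝒪
  have hfib : ∀ o ∈ 𝒪, ((pairs D M).filter fun p => orb A p = o) = o := by
    intro o ho
    obtain ⟨p, hp, rfl⟩ := Finset.mem_image.1 ho
    ext q
    simp only [Finset.mem_filter]
    refine ⟨fun ⟨_, h⟩ => h ▸ self_mem_orb A q, fun hq => ⟨?_, orb_eq hq⟩⟩
    obtain ⟨k, hk, rfl⟩ := mem_orb.1 hq
    exact hclosed p hp k hk
  have hsum := Finset.card_eq_sum_card_image (orb A) (pairs D M)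
  rw [← h𝒪, Finset.sum_congr rfl (fun o ho => by rw [hfib o ho]), card_pairs H hM,
    ← Finset.sum_filter_add_sum_filter_not 𝒪 (fun o => o.card = 512),
    Finset.sum_congr rfl (fun o ho => (Finset.mem_filter.1 ho).2), Finset.sum_const, smul_eq_mul] at hsum
  have hbig : 1024 ∣ ∑ o ∈ 𝒪.filter (fun o => ¬ o.card = 512), o.card := Finset.dvd_sum fun o ho => by
    obtain ⟨ho', hne⟩ := Finset.mem_filter.1 ho
    obtain ⟨p, hp, rfl⟩ := Finset.mem_image.1 ho'
    obtain ⟨j, hj, hjc⟩ := (orb_pair H hM hp).2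
    rw [hjc] at hne ⊢
    rcases Nat.eq_or_lt_of_le hj with rfl | hlt
    · exact absurd (by norm_num) hne
    · exact (show (1024 : ℕ) = 2 ^ 10 by norm_num) ▸ pow_dvd_pow 2 (show 10 ≤ j by omega)
  obtain ⟨c, hcb⟩ := hbig
  rw [hcb] at hsum
  refine ⟨(𝒪.filter fun o => o.card = 512).card, by rw [Nat.odd_iff]; omega, ?_⟩
  -- two halves in each
  have e := Finset.card_eq_sum_card_fiberwise (s := halves D M) (t := 𝒪.filter fun o => o.card = 512)
    (f := fun o => if h : o.Nonempty then orb A h.choose else ∅) ?_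
  · rw [e, Finset.sum_congr rfl (g := fun _ => 2) fun o ho => ?_, Finset.sum_const, smul_eq_mul, mul_comm]
    obtain ⟨ho', h512⟩ := Finset.mem_filter.1 ho
    obtain ⟨p, hp, rfl⟩ := Finset.mem_image.1 ho'
    obtain ⟨m, hm⟩ : ∃ m, m ∈ M := Finset.card_pos.1 (by rw [(card_clique H hM).1]; norm_num)
    rw [Finset.card_eq_two]
    refine ⟨orb (two M) p, orb (two M) (cjS m p), fun he => hfree m hm p hp (he ▸ self_mem_orb _ _), ?_⟩
    have hkey : ∀ q, q ∈ orb A p → orb (two M) q = orb (two M) p ∨ orb (two M) q = orb (two M) (cjS m p) := by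
      intro q hq
      obtain ⟨k, hk, rfl⟩ := mem_orb.1 hq
      rcases mem_or_mul_mem hc hm hk with h | h
      · exact Or.inl (orb_eq (mem_orb.2 ⟨k, h, rfl⟩))
      · refine Or.inr (orb_eq (mem_orb.2 ⟨m * k, h, ?_⟩))
        have hmk : Commute m k := by
          obtain ⟨T, hT, rfl⟩ := (CliqueAlgebra.mem_closure_iff hc).1 hk
          exact CliqueAlgebra.val_comm hc hm hT
        rw [← cjS_mul, mul_assoc, ← hmk.eq, ← mul_assoc, hc.sq m hm, one_mul]
    have hval : ∀ q, (if h : (orb (two M) q).Nonempty then orb A h.choose else ∅) = orb A q := by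
      intro q
      have hne : (orb (two M) q).Nonempty := ⟨q, self_mem_orb _ _⟩
      rw [dif_pos hne]
      exact orb_eq (orb_mono (two_le M) q hne.choose_spec)
    ext o
    simp only [Finset.mem_filter, Finset.mem_insert, Finset.mem_singleton]
    constructor
    · rintro ⟨ho, he⟩
      obtain ⟨q, hq, -, rfl⟩ := mem_halves.1 ho
      rw [hval] at he
      exact hkey q (he ▸ self_mem_orb A q)
    · rintro (rfl | rfl)
      · exact ⟨mem_halves.2 ⟨p, hp, h512, rfl⟩, hval p⟩
      · have hmp : cjS m p ∈ orb A p := mem_orb.2 ⟨m, hAm m hm, rfl⟩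
        exact ⟨mem_halves.2 ⟨_, hclosed p hp m (hAm m hm), by rw [orb_eq hmp, h512], rfl⟩,
          (hval _).trans (orb_eq hmp)⟩
  · intro o ho
    obtain ⟨p, hp, h512, rfl⟩ := mem_halves.1 ho
    have hne : (orb (two M) p).Nonempty := ⟨p, self_mem_orb _ _⟩
    show (if h : (orb (two M) p).Nonempty then orb A h.choose else ∅) ∈ 𝒪.filter fun o => o.card = 512
    rw [dif_pos hne, orb_eq (orb_mono (two_le M) p hne.choose_spec)]
    exact Finset.mem_filter.2 ⟨Finset.mem_image.2 ⟨p, hp, rfl⟩, h512⟩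

omit hM

/-- A homomorphism onto the units of the integers, not trivial on members. -/
theorem exists_sign : ∃ χ : G →* ℤˣ, ∀ d ∈ D, χ d = -1 := by
  set X : Finset ((_ : Finset G) × Finset (Finset G)) := (cliques D).sigma (halves D) with hX
  have hmem : ∀ {q : (_ : Finset G) × Finset (Finset G)}, q ∈ X ↔ IsMaxClique D (q.1 : Set G) ∧ q.2 ∈ halves D q.1 :=
    fun {q} => by simp [hX, mem_cliques H]
  letI act : MulAction G ↥X :=
    { smul := fun g q => ⟨⟨cjS g q.1.1, q.1.2.image (cjS g)⟩,
        hmem.2 ⟨isMaxClique_cjS H g (hmem.1 q.2).1, halves_cjS H g (hmem.1 q.2).2⟩⟩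
      one_smul := fun q => Subtype.ext (show (⟨cjS 1 q.1.1, q.1.2.image (cjS 1)⟩ : (_ : Finset G) × Finset (Finset G)) = q.1 by
        rw [cjS_one, show cjS (1 : G) = id from funext cjS_one, Finset.image_id])
      mul_smul := fun g k q => Subtype.ext (show (⟨cjS (g * k) q.1.1, q.1.2.image (cjS (g * k))⟩ : (_ : Finset G) × Finset (Finset G)) =
          ⟨cjS g (cjS k q.1.1), (q.1.2.image (cjS k)).image (cjS g)⟩ by
        rw [cjS_mul, Finset.image_image, show cjS (g * k) = cjS g ∘ cjS k from funext (cjS_mul g k)]) }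
  refine ⟨Equiv.Perm.sign.comp (MulAction.toPermHom G ↥X), fun d hd => ?_⟩
  choose k hk hkc using fun (M : Finset G) (hM : IsMaxClique D (M : Set G)) => (halves_props H hM).1
  have hcard : ∃ n, Odd n ∧ Fintype.card ↥X = 2 * n := by
    refine ⟨∑ M ∈ (cliques D).attach, k M.1 ((mem_cliques H).1 M.2), ?_, ?_⟩
    · rw [Finset.odd_sum_iff_odd_card_odd, Finset.filter_true_of_mem fun M _ => hk _ _, Finset.card_attach]
      exact odd_card_cliques H
    · rw [Fintype.card_coe, hX, Finset.card_sigma, ← Finset.sum_attach, Finset.mul_sum]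
      exact Finset.sum_congr rfl fun M _ => hkc _ _
  obtain ⟨n, hn, hnc⟩ := hcard
  refine sign_free_involution (σ := MulAction.toPermHom G ↥X d) ?_ ?_ hn hnc
  · rw [← map_pow, pow_two, FischerTypes.mul_self H.group.1 hd, map_one]
  intro q hq
  have hq' : (⟨cjS d q.1.1, q.1.2.image (cjS d)⟩ : (_ : Finset G) × Finset (Finset G)) = q.1 :=
    congrArg Subtype.val hq
  obtain ⟨hM, ho⟩ := hmem.1 q.2
  have h1 : cjS d q.1.1 = q.1.1 := congrArg Sigma.fst hq'
  have h2 : q.1.2.image (cjS d) = q.1.2 := congrArg Sigma.snd hq'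
  have hdM : d ∈ q.1.1 := hM.max d hd fun m hm => by
    by_contra hnc
    refine FischerTypes.not_commute_conj H.group.1 hd (hM.sub hm) hnc ?_
    have := (conj_mem_cjS (p := q.1.1) d).2 hm
    rw [h1, FischerTypes.inv_eq H.group.1 hd] at this
    exact hM.comm _ this m hm
  exact (halves_props H hM).2 d hdM _ ho h2

/-- The layer has index two. -/
theorem layer_index : (layer G).index = 2 := by
  have hw : ∃ a ∈ D, ∃ b ∈ D, a ≠ b ∧ Commute a b := by
    obtain ⟨d, hd, -⟩ := H.prim.2.1
    obtain ⟨x, hx⟩ := M24.perp_nonempty H hd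
    exact ⟨d, hd, x, hx.1, fun he => hx.2.1 he.symm, hx.2.2⟩
  obtain ⟨L, hn, hq, hidx, -⟩ := exists_component_of_primitive H.group H.prim hw
  haveI := hn
  have hL : IsComponent L := ⟨Subgroup.Normal.isSubnormal hn, hq⟩
  have hlay : layer G = L := le_antisymm
    (sSup_le fun K hK => (component_unique (isThreeTranspositionClass_of_primitive H.group H.prim) hK hL).le)
    (le_sSup hL)
  rw [hlay]
  have hcomm : commutator G = L := commutator_eq_of_index_le_two (Subgroup.isPerfect_iff.mp hq.1) hidx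
  obtain ⟨χ, hχ⟩ := exists_sign H
  obtain ⟨d, hd, -⟩ := H.prim.2.1
  have hne : L ≠ ⊤ := by
    intro htop
    have hdk : d ∈ χ.ker := Abelianization.commutator_subset_ker χ (hcomm.symm ▸ htop.symm ▸ Subgroup.mem_top d)
    rw [MonoidHom.mem_ker, hχ d hd] at hdk
    exact absurd hdk (by decide)
  have h0 := Subgroup.index_ne_zero_of_finite (H := L)
  have h1 : L.index ≠ 1 := fun h => hne (Subgroup.index_eq_one.1 h)
  omega

end CfsgLib.Transpositions.TypeM24
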