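import Cfsg.Agent.Transpositions.BraidWords

/-!
# A word identity for type M(23) (generated)

`theta1'` is the image of `theta1` under the exchange of the long arms.
-/

set_option autoImplicit false
set_option maxRecDepth 100000

namespace CfsgLib.Transpositions.Braid.Words

open CfsgLib.Transpositions.Braid

def theta1' : List ℕ := [1, 2, 3, 7, 4, 3, 2, 5, 4, 3, 7, 1, 2, 3, 4, 5, 6, 5, 4, 3, 2, 1, 7, 3, 4, 5, 2, 3, 4, 7, 3, 2, 1]

/-- The conjugating part of `theta1'`. -/
def theta1Left : List ℕ := theta1'.take 16

theorem theta1'_eq : theta1' = theta1Left ++ [6] ++ theta1Left.reverse := by decide +kernel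

theorem theta1Left_ne : ∀ s ∈ theta1Left, s < 9 ∧ s ≠ 6 := by decide +kernel

theorem theta1'_comm_6 :
    check 131
      0x300700600a00900d00c01000f01301201601501901801b01e02102402802b02e03103402702a02d03003303603b04004304604904c04f05305803903d04104604904c04f05305805b03c04004304704c04f05305805b05e03f04304604904d05305805b05e06104f04204604904c04f05204504904c04f05305805c06106406704804c04f05305805b05e06206706a04b04f05305805b05e06106406806d04e05305805b05e06106406706a06e05105505405805705b05a05e05d061060064063067
      (6 :: theta1' ++ 6 :: theta1') = true := by
  decide +kernel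

end CfsgLib.Transpositions.Braid.Words
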