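import Cfsg.Agent.Transpositions.M23Config
import Cfsg.Agent.Transpositions.M23Words
import Cfsg.Agent.Transpositions.M22Unique
import Cfsg.Agent.FischerTypes.M22PairCent

/-!
# Facts on a configuration in type M(23)

The nine generate `⟨D_x⟩`, the relations of `Fi₂₂` hold in them up to the centre, and `C(x, y)` is
transitive on the members commuting with `y` and not with `x`, one of which is a conjugate of `y` by a
word in the nine.
-/

set_option autoImplicit false
set_option linter.unusedSectionVars false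

namespace CfsgLib.Transpositions.M23Unique

open Cfsg CfsgLib.FischerTypes
open CfsgLib.Transpositions.Braid
open CfsgLib.Transpositions.M22Unique (letter)

variable {G : Type*} [Group G] {D : Set G} {x y : G} {F : ℕ → G}

/-- The conjugating word for a member commuting with `y` and not with `x`. -/
def stepWord : List ℕ := [6] ++ Words.theta1Left ++ [6]

theorem stepWord_lt : ∀ s ∈ stepWord, s < 9 := by decide +kernel

theorem letters_lt : (∀ s ∈ Words.z1, s < 9 ∧ s ≠ 6) ∧ (∀ s ∈ Words.spider, s < 9 ∧ s ≠ 6) ∧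
    (∀ s ∈ Words.z2, s < 9) ∧ (∀ s ∈ Words.theta1', s < 9) := by decide +kernel

variable (hF : Conf D x y F)

include hF

theorem Conf.pw_mem {l : List ℕ} (hl : ∀ s ∈ l, s < 9) : pw F l ∈ Subgroup.closure (FischerTypes.perp D x) :=
  Subgroup.list_prod_mem _ fun u hu => by
    obtain ⟨s, hs, rfl⟩ := List.mem_map.1 hu
    exact mem_perp_closure (hF.mem s (hl s hs))

theorem Conf.bar_pw : ∀ {l : List ℕ} (hl : ∀ s ∈ l, s < 9),
    pw (barF D x F) l = QuotientGroup.mk (⟨pw F l, hF.pw_mem hl⟩ : ↥(Subgroup.closure (FischerTypes.perp D x))) := by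
  intro l
  induction l with
  | nil => intro _; rfl
  | cons s l ih =>
    intro hl
    rw [pw_cons, ih (fun t ht => hl t (List.mem_cons_of_mem _ ht)),
      barF_eq (hF.mem s (hl s List.mem_cons_self))]
    exact (QuotientGroup.mk_mul _ _ _).symm

theorem Conf.commute_y_pw {l : List ℕ} (hl : ∀ s ∈ l, s < 9 ∧ s ≠ 6) : Commute y (pw F l) :=
  commute_pw fun s hs => hF.comm_y s (hl s hs).1 (hl s hs).2

variable [Finite G] (H : M23.Hyp G D)

include H

/-- A word trivial modulo the centre is `1` or `x`. -/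
theorem Conf.pw_cases {l : List ℕ} (hl : ∀ s ∈ l, s < 9) (h1 : pw (barF D x F) l = 1) :
    pw F l = 1 ∨ pw F l = x := by
  rw [hF.bar_pw hl] at h1
  exact M23.eq_one_or_eq_of_centralize H hF.memx
    (Subgroup.mem_centralizer_singleton_iff.1 (closure_le_centralizer x (hF.pw_mem hl)))
    (mem_center_closure_iff.1 ((QuotientGroup.eq_one_iff _).1 h1))

/-- Such a word in letters commuting with `y` is trivial. -/
theorem Conf.pw_eq_one {l : List ℕ} (hl : ∀ s ∈ l, s < 9 ∧ s ≠ 6) (h1 : pw (barF D x F) l = 1) :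
    pw F l = 1 :=
  (hF.pw_cases H (fun s hs => (hl s hs).1) h1).resolve_right fun he =>
    hF.nxy (he ▸ hF.commute_y_pw hl).symm

theorem Conf.pw_z1 : pw F Words.z1 = 1 :=
  hF.pw_eq_one H letters_lt.1
    (M22Unique.pw_z1 (M23.quotGroup H.group x) (M23.quotPrim H hF.memx) (M23.quot22 H hF.memx) hF.config)

theorem Conf.pw_spider : pw F Words.spider = 1 :=
  hF.pw_eq_one H letters_lt.2.1
    (M22Unique.pw_spider (M23.quotGroup H.group x) (M23.quotPrim H hF.memx) (M23.quot22 H hF.memx) hF.config)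

theorem Conf.pw_z2 : pw F Words.z2 = 1 ∨ pw F Words.z2 = x :=
  hF.pw_cases H letters_lt.2.2.1
    (M22Unique.pw_z2 (M23.quotGroup H.group x) (M23.quotPrim H hF.memx) (M23.quot22 H hF.memx) hF.config)

theorem Conf.card_H : Nat.card ↥(Subgroup.closure (FischerTypes.perp D x)) = 2 * Nat.card Spor.Fi22 := by
  rw [← M23.centralizer_eq H.group H hF.memx, TypeM23.card_centralizer H hF.memx,
    CfsgLib.CosetEnum.Fi22.card_Fi22]

/-- The nine generate modulo the centre. -/
theorem Conf.quot_closure : Subgroup.closure (barF D x F '' Set.Iio 9) = ⊤ := by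
  set hq := M23.quotGroup H.group x
  set hpq := M23.quotPrim H hF.memx
  set h22 := M23.quot22 H hF.memx
  obtain ⟨φ, hφ⟩ := M22Unique.exists_hom hq hpq h22 hF.config
  have := CfsgLib.CosetEnum.Fi22.isSimpleGroup_Fi22
  have hinj : Function.Injective φ := by
    rw [← MonoidHom.ker_eq_bot_iff]
    rcases (inferInstance : φ.ker.Normal).eq_bot_or_eq_top with hb | hb
    · exact hb
    · exfalso
      have ha : φ (PresentedGroup.of Spor.Fi22.Gen.a) = 1 := MonoidHom.mem_ker.1 (hb ▸ Subgroup.mem_top _)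
      rw [hφ] at ha
      exact FischerTypes.ne_one hq.1 (hF.config.mem 0 (by norm_num)) ha
  have hcard : Nat.card Spor.Fi22 = Nat.card (PerpQuot D x) := by
    rw [CfsgLib.CosetEnum.Fi22.card_Fi22, FischerTypes.card_group hq hpq h22]
  have hsurj := ((Nat.bijective_iff_injective_and_card φ).2 ⟨hinj, hcard⟩).2
  rw [eq_top_iff]
  intro q _
  obtain ⟨p, rfl⟩ := hsurj q
  refine (?_ : (⊤ : Subgroup Spor.Fi22) ≤ (Subgroup.closure (barF D x F '' Set.Iio 9)).comap φ)
    (Subgroup.mem_top p)
  rw [← PresentedGroup.closure_range_of, Subgroup.closure_le]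
  rintro _ ⟨g, rfl⟩
  rw [SetLike.mem_coe, Subgroup.mem_comap, hφ]
  exact Subgroup.subset_closure ⟨_, by cases g <;> simp [letter], rfl⟩

/-- The nine generate `⟨D_x⟩`. -/
theorem Conf.closure_nine : Subgroup.closure (F '' Set.Iio 9) = Subgroup.closure (FischerTypes.perp D x) := by
  set K := Subgroup.closure (F '' Set.Iio 9) with hK
  set C := Subgroup.closure (FischerTypes.perp D x) with hC
  have hKC : K ≤ C := by
    rw [hK, Subgroup.closure_le]
    rintro _ ⟨s, hs, rfl⟩
    exact mem_perp_closure (hF.mem s hs)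
  refine le_antisymm hKC ?_
  have hlift : ∀ p : ↥C, ∃ k ∈ K.subgroupOf C, k⁻¹ * p ∈ Subgroup.center ↥C := by
    intro p
    have hp : (QuotientGroup.mk p : PerpQuot D x) ∈ (K.subgroupOf C).map (QuotientGroup.mk' _) := by
      have hle : Subgroup.closure (barF D x F '' Set.Iio 9) ≤ (K.subgroupOf C).map (QuotientGroup.mk' _) := by
        rw [Subgroup.closure_le]
        rintro _ ⟨s, hs, rfl⟩
        rw [barF_eq (hF.mem s hs)]
        exact ⟨⟨F s, mem_perp_closure (hF.mem s hs)⟩, Subgroup.subset_closure ⟨s, hs, rfl⟩, rfl⟩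
      exact hle ((hF.quot_closure H).symm ▸ Subgroup.mem_top _)
    obtain ⟨k, hk, he⟩ := hp
    exact ⟨k, hk, QuotientGroup.eq.1 he⟩
  have hcomm : commutator ↥C ≤ K.subgroupOf C := by
    rw [commutator_eq_closure, Subgroup.closure_le]
    rintro _ ⟨p, q, rfl⟩
    obtain ⟨k, hk, hkc⟩ := hlift p
    obtain ⟨l, hl, hlc⟩ := hlift q
    have e1 : p = k * (k⁻¹ * p) := by group
    have e2 : q = l * (l⁻¹ * q) := by group
    rw [e1, e2]
    generalize k⁻¹ * p = u at hkc
    generalize l⁻¹ * q = v at hlc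
    have key : k * u * (l * v) * (k * u)⁻¹ * (l * v)⁻¹ = k * l * k⁻¹ * l⁻¹ := by
      have cu := fun g => Subgroup.mem_center_iff.1 hkc g
      have cv := fun g => Subgroup.mem_center_iff.1 hlc g
      rw [_root_.mul_inv_rev, _root_.mul_inv_rev]
      calc k * u * (l * v) * (u⁻¹ * k⁻¹) * (v⁻¹ * l⁻¹)
          = k * (u * (l * v) * u⁻¹) * (k⁻¹ * v⁻¹) * l⁻¹ := by group
        _ = k * (l * v) * (k⁻¹ * v⁻¹) * l⁻¹ := by rw [← cu, mul_inv_cancel_right]
        _ = k * l * (v * k⁻¹ * v⁻¹) * l⁻¹ := by group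
        _ = k * l * k⁻¹ * l⁻¹ := by rw [← cv, mul_inv_cancel_right]
    show k * u * (l * v) * (k * u)⁻¹ * (l * v)⁻¹ ∈ K.subgroupOf C
    rw [key]
    exact mul_mem (mul_mem (mul_mem hk hl) (inv_mem hk)) (inv_mem hl)
  intro g hg
  have h1 : (⟨g, hg⟩ : ↥C) ∈ K.subgroupOf C :=
    hcomm (Group.isPerfect_def.1 (TypeM23.isQuasisimple_closure H hF.memx).1 ▸ Subgroup.mem_top _)
  exact h1

/-- `y` does not commute with the end of the long arm. -/
theorem Conf.not_comm_y : ¬ Commute y (F 6) := by
  intro h6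
  have hle : Subgroup.closure (FischerTypes.perp D x) ≤ Subgroup.centralizer ({y} : Set G) := by
    rw [← hF.closure_nine H, Subgroup.closure_le]
    rintro _ ⟨s, hs, rfl⟩
    refine Subgroup.mem_centralizer_singleton_iff.2 ?_
    by_cases hs6 : s = 6
    · exact hs6 ▸ h6.eq.symm
    · exact (hF.comm_y s hs hs6).eq.symm
  exact hF.nxy (Subgroup.mem_centralizer_singleton_iff.1 (hle (M23.mem_closure_perp_self H hF.memx)))

/-- A member commuting with `y` and not with `x`, as a conjugate of `y` by a word. -/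
theorem Conf.step_props : Commute y (pw F stepWord * y * (pw F stepWord)⁻¹) ∧
    pw F stepWord * y * (pw F stepWord)⁻¹ ≠ y ∧ ¬ Commute x (pw F stepWord * y * (pw F stepWord)⁻¹) := by
  have hb := hF.braided
  set g := F 6 with hg
  set u := pw F Words.theta1Left with hu
  set W := pw F stepWord with hW
  set θ := u * g * u⁻¹ with hθ
  have hgg : g * g = 1 := hb.sq 6
  have hgy : g * y * g = y * g * y := FischerTypes.braid H.group.1 (hF.mem 6 (by norm_num)).1 hF.memy
    fun hh => hF.not_comm_y H hh.symm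
  have hyu : Commute y u := hF.commute_y_pw Words.theta1Left_ne
  have hyy : y * y = 1 := FischerTypes.mul_self H.group.1 hF.memy
  have hyi : y⁻¹ = y := inv_eq_of_mul_eq_one_right hyy
  have hgi : g⁻¹ = g := inv_eq_of_mul_eq_one_right hgg
  have hWe : W = g * u * g := by rw [hW, stepWord, pw_append, pw_append, pw_singleton, hu, hg]
  have hθw : pw F Words.theta1' = θ := by
    rw [Words.theta1'_eq, pw_append, pw_append, pw_singleton, pw_reverse hb]
  have hz : W * y * W⁻¹ = g * (y * θ * y) * g := by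
    rw [hWe, hθ, _root_.mul_inv_rev, _root_.mul_inv_rev, hgi]
    calc g * u * g * y * (g * (u⁻¹ * g)) = g * u * (g * y * g) * u⁻¹ * g := by simp only [mul_assoc]
      _ = g * (u * y) * g * (y * u⁻¹) * g := by rw [hgy]; simp only [mul_assoc]
      _ = g * (y * u) * g * (u⁻¹ * y) * g := by rw [← hyu.eq, ← hyu.inv_right.eq]
      _ = g * (y * (u * g * u⁻¹) * y) * g := by simp only [mul_assoc]
  have hgθ : Commute g θ := by
    have hsq : θ * θ = 1 := by
      rw [hθ, show u * g * u⁻¹ * (u * g * u⁻¹) = u * (g * g) * u⁻¹ by group, hgg, mul_one, mul_inv_cancel]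
    have := M22Unique.commute_of_cert hb (l := Words.theta1') (by rw [hθw]; exact hsq)
      (pw_of_check hb Words.theta1'_comm_6)
    rwa [hθw] at this
  have hne : θ ≠ g := by
    intro he
    have h22 := M22Unique.theta1_props (M23.quotGroup H.group x) (M23.quotPrim H hF.memx)
      (M23.quot22 H hF.memx) (M22Unique.Config.flip_config hF.config)
    rw [M22Unique.pw_map, show Words.theta1.map M22Unique.flip = Words.theta1' by decide +kernel] at h22
    refine h22.2 ?_
    rw [hF.bar_pw letters_lt.2.2.2]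
    simp only [hθw, he, Function.comp_apply, show M22Unique.flip 5 = 1 from rfl]
    rw [show (QuotientGroup.mk (⟨g, mem_perp_closure (hF.mem 6 (by norm_num))⟩ :
      ↥(Subgroup.closure (FischerTypes.perp D x))) : PerpQuot D x) = barF D x F 6 from
        (barF_eq (hF.mem 6 (by norm_num))).symm]
    exact hF.config.braided.comm 6 1 (by decide)
  have hx : Commute x W := (Subgroup.mem_centralizer_singleton_iff.1
    (closure_le_centralizer x (hF.pw_mem stepWord_lt))).symm
  refine ⟨?_, fun he => hne ?_, fun hc => hF.nxy ?_⟩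
  · rw [hz]
    have h1 : Commute (y * g * y⁻¹) (y * θ * y⁻¹) := (commute_conj_iff' y g θ).2 hgθ
    rw [hyi, ← hgy] at h1
    have h2 := (commute_conj_iff' g _ _).2 h1
    rw [hgi, show g * (g * y * g) * g = y by simp only [← mul_assoc, hgg, one_mul]; rw [mul_assoc, hgg, mul_one]]
      at h2
    exact h2
  · rw [hz] at he
    have h1 := congrArg (fun t => g * t * g) he
    simp only [← mul_assoc, hgg, one_mul] at h1
    rw [mul_assoc _ g g, hgg, mul_one, hgy] at h1
    exact mul_left_cancel (mul_right_cancel h1)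
  · rw [← commute_conj_iff' W x y, ← hx.eq, mul_inv_cancel_right]
    exact hc

/-- `C(x, y)` is transitive on the members commuting with `y` and not with `x`. -/
theorem Conf.exists_conj_outer {z z' : G} (hz : z ∈ D) (hzy : Commute y z) (hne : z ≠ y) (hxz : ¬ Commute x z)
    (hz' : z' ∈ D) (hzy' : Commute y z') (hne' : z' ≠ y) (hxz' : ¬ Commute x z') :
    ∃ k ∈ Subgroup.centralizer ({x, y} : Set G), k * z * k⁻¹ = z' := by
  have h := H.group
  have hyx : ¬ Commute y x := fun hh => hF.nxy hh.symm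
  obtain ⟨u, hu, huz⟩ := M23.exists_commute_common H hF.memy hF.memx hyx
    (M23.common_nonempty H hF.memy hF.memx hyx) (p := z) ⟨hz, hne, hzy⟩ hxz
  obtain ⟨u', hu', huz'⟩ := M23.exists_commute_common H hF.memy hF.memx hyx
    (M23.common_nonempty H hF.memy hF.memx hyx) (p := z') ⟨hz', hne', hzy'⟩ hxz'
  obtain ⟨k₁, hk₁, e₁⟩ := hF.eight_conj u ⟨hu.2, hu.1⟩
  obtain ⟨k₂, hk₂, e₂⟩ := hF.eight_conj u' ⟨hu'.2, hu'.1⟩
  set k := k₂ * k₁⁻¹ with hk
  have hkC : k ∈ Subgroup.centralizer ({x, y} : Set G) := mul_mem hk₂ (inv_mem hk₁)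
  have hkx : Commute k x := ((Subgroup.mem_centralizer_iff.1 hkC) x (by simp)).symm
  have hky : Commute k y := ((Subgroup.mem_centralizer_iff.1 hkC) y (by simp)).symm
  have hku : k * u * k⁻¹ = u' := by rw [hk, ← e₁, ← e₂]; group
  set z₁ := k * z * k⁻¹ with hz₁
  have hu'D := hu'.1.1
  have qy : y ∈ FischerTypes.perp D u' := perp_symm hF.memy hu'.1
  have qx : x ∈ FischerTypes.perp D u' := perp_symm hF.memx hu'.2
  have qz : z₁ ∈ FischerTypes.perp D u' := by
    have := perp_symm hz huz
    refine ⟨h.2.1 k z hz, fun he => this.2.1 (mul_left_cancel (mul_right_cancel (he.trans hku.symm))), ?_⟩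
    rw [← hku, hz₁, commute_conj_iff']
    exact this.2.2
  have qz' : z' ∈ FischerTypes.perp D u' := perp_symm hz' huz'
  have c1 : Commute z₁ y := by
    have := (commute_conj_iff' k z y).2 hzy.symm
    rwa [hky.eq, mul_inv_cancel_right] at this
  have n1 : ¬ Commute z₁ x := fun hc => hxz (by
    have := (commute_conj_iff' k z x).1 (by rw [hkx.eq, mul_inv_cancel_right]; exact hc)
    exact this.symm)
  have d1 : z₁ ≠ y := fun he => hne (by
    have : k * z * k⁻¹ = k * y * k⁻¹ := by rw [hky.eq, mul_inv_cancel_right]; exact he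
    exact mul_left_cancel (mul_right_cancel this))
  have bne : ∀ {p q : G} (hp : p ∈ FischerTypes.perp D u') (hq : q ∈ FischerTypes.perp D u'), p ≠ q →
      bar hp ≠ bar hq := fun hp hq hpq he => hpq (M23.bar_inj H hu'D hp hq he)
  obtain ⟨γ, g1, g2, g3⟩ := FischerTypes.exists_conj_path (M23.quotGroup h u') (M23.quotPrim H hu'D)
    (M23.quot22 H hu'D) (M23.bar_mem H hu'D qz) (M23.bar_mem H hu'D qx) (M23.bar_mem H hu'D qy)
    (M23.bar_mem H hu'D qz') (M23.bar_mem H hu'D qx) (M23.bar_mem H hu'D qy)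
    (fun hc => n1 ((M23.bar_commute H qz qx).1 hc)) (fun hc => hF.nxy ((M23.bar_commute H qx qy).1 hc))
    ((M23.bar_commute H qz qy).2 c1) (bne qz qy d1)
    (fun hc => hxz' ((M23.bar_commute H qz' qx).1 hc).symm) (fun hc => hF.nxy ((M23.bar_commute H qx qy).1 hc))
    ((M23.bar_commute H qz' qy).2 hzy'.symm) (bne qz' qy hne')
  obtain ⟨m, hm⟩ := QuotientGroup.mk_surjective γ
  have move : ∀ {p q : G} (hp : p ∈ FischerTypes.perp D u') (hq : q ∈ FischerTypes.perp D u'),
      γ * bar hp * γ⁻¹ = bar hq → (m : G) * p * (m : G)⁻¹ = q := fun {p q} hp hq he =>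
    M23.bar_inj H hu'D (conj_mem_perp' h m.2 hp) hq (by rw [← he, ← hm]; rfl)
  have mx := move qx qx g2
  have my := move qy qy g3
  have hmC : (m : G) ∈ Subgroup.centralizer ({x, y} : Set G) := by
    rw [Subgroup.mem_centralizer_iff]
    rintro t (rfl | rfl)
    · exact (mul_inv_eq_iff_eq_mul.1 mx).symm
    · exact (mul_inv_eq_iff_eq_mul.1 my).symm
  refine ⟨m * k, mul_mem hmC hkC, ?_⟩
  rw [← move qz qz' g1, hz₁]
  group

end CfsgLib.Transpositions.M23Unique
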