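import Cfsg.Agent.Transpositions.TypeM24Parameters

/-!
# Commuting tuples in type M(24)

The numbers of common neighbours of small sets of members, the absence of relations of length at
most seven, and the relations of length eight through five commuting members.
-/

set_option autoImplicit false

namespace CfsgLib.Transpositions.TypeM24

open Cfsg CfsgLib.FischerTypes

variable {G : Type*} [Group G]

/-- The members commuting with, and different from, every element of `X`. -/
def common (D : Set G) (X : Finset G) : Set G :=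
  {z | z ∈ D ∧ ∀ x ∈ X, z ∈ FischerTypes.perp D x}

/-- Every list of `k` pairwise commuting members extends by three to a relation. -/
def Extends (D : Set G) (k : ℕ) : Prop :=
  ∀ l : List G, l.Nodup → l.length = k → (∀ a ∈ l, a ∈ D) → (∀ a ∈ l, ∀ b ∈ l, Commute a b) →
    ∃ t : List G, t.length = 3 ∧ (l ++ t).Nodup ∧ (∀ a ∈ l ++ t, a ∈ D) ∧
      (∀ a ∈ l ++ t, ∀ b ∈ l ++ t, Commute a b) ∧ (l ++ t).prod = 1

theorem noRel_one {D : Set G} (h : IsThreeTranspositionSet D) : NoRel D 1 := by
  intro l _ hlen hD _ hp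
  obtain ⟨a, rfl⟩ := List.length_eq_one_iff.1 hlen
  rw [List.prod_singleton] at hp
  exact FischerTypes.ne_one h (hD a (by simp)) hp

theorem noRel_two {D : Set G} (h : IsThreeTranspositionSet D) : NoRel D 2 := by
  intro l hnd hlen hD _ hp
  obtain ⟨a, b, rfl⟩ := List.length_eq_two.1 hlen
  simp only [List.prod_cons, List.prod_nil, mul_one] at hp
  simp only [List.nodup_cons, List.mem_singleton, List.not_mem_nil, not_false_iff, List.nodup_nil,
    and_true] at hnd
  exact hnd ((Transpositions.mul_eq_one_iff h (hD b (by simp))).1 hp)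

theorem extends_succ [Finite G] {D : Set G} (h : IsThreeTranspositionGroup D)
    (hinj : ∀ {d : G}, d ∈ D → ∀ {x y : G} (hx : x ∈ FischerTypes.perp D d) (hy : y ∈ FischerTypes.perp D d),
      bar hx = bar hy → x = y)
    (himg : ∀ {d : G}, d ∈ D → ∀ {x : G} (hx : x ∈ FischerTypes.perp D d), bar hx ∈ img D d)
    (hone : ∀ {d : G}, d ∈ D → ∀ {w : G}, Commute w d → (∀ y ∈ FischerTypes.perp D d, Commute w y) →
      w = 1 ∨ w = d)
    {k : ℕ} (hrel : NoRel D (k + 3)) (hext : ∀ d ∈ D, Extends (img D d) k) : Extends D (k + 1) := by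
  intro l hnd hlen hD hc
  obtain ⟨d, r, rfl⟩ := List.exists_cons_of_length_eq_add_one hlen
  have hd : d ∈ D := hD d (by simp)
  rw [List.nodup_cons] at hnd
  have hr : ∀ x ∈ r, x ∈ FischerTypes.perp D d := fun x hx =>
    ⟨hD x (by simp [hx]), fun he => hnd.1 (he ▸ hx), hc d (by simp) x (by simp [hx])⟩
  set H' := Subgroup.closure (FischerTypes.perp D d) with hH'
  set r' : List ↥H' := r.attach.map fun x => ⟨x.1, mem_perp_closure (hr x.1 x.2)⟩ with hr'
  have hrv : r'.map Subtype.val = r := by simp [hr', List.map_map, Function.comp_def]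
  have hr'm : ∀ x ∈ r', (x : G) ∈ FischerTypes.perp D d := fun x hx =>
    hr x (hrv ▸ List.mem_map_of_mem hx)
  have hbar : ∀ {x : ↥H'} (hx : (x : G) ∈ FischerTypes.perp D d),
      (QuotientGroup.mk x : PerpQuot D d) = bar hx := fun {x} hx => rfl
  obtain ⟨tq, htlen, htnd, htD, htc, htp⟩ := hext d hd (r'.map QuotientGroup.mk)
    ((List.Nodup.of_map Subtype.val (hrv.symm ▸ hnd.2)).map_on fun x hx y hy he =>
      Subtype.ext (hinj hd (hr'm x hx) (hr'm y hy) he))
    (by rw [List.length_map, hr', List.length_map, List.length_attach]; simpa using hlen)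
    (fun q hq => by
      obtain ⟨x, hx, rfl⟩ := List.mem_map.1 hq
      exact himg hd (hr'm x hx))
    (fun p hp q hq => by
      obtain ⟨x, hx, rfl⟩ := List.mem_map.1 hp
      obtain ⟨y, hy, rfl⟩ := List.mem_map.1 hq
      rw [commute_mk_iff h (hr'm x hx) (hr'm y hy)]
      have hx' : (x : G) ∈ r := hrv ▸ List.mem_map_of_mem hx
      have hy' : (y : G) ∈ r := hrv ▸ List.mem_map_of_mem hy
      exact hc _ (by simp [hx']) _ (by simp [hy']))
  have hlift : ∀ q ∈ tq, ∃ x : ↥H', (x : G) ∈ FischerTypes.perp D d ∧
      (QuotientGroup.mk x : PerpQuot D d) = q := fun q hq => by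
    obtain ⟨⟨x, hx, he⟩, -⟩ := htD q (List.mem_append_right _ hq)
    exact ⟨x, hx, he⟩
  choose f hf hfq using hlift
  set t' : List ↥H' := tq.attach.map fun q => f q.1 q.2 with ht'
  have ht'q : t'.map QuotientGroup.mk = tq := by simp [ht', List.map_map, Function.comp_def, hfq]
  have ht'm : ∀ x ∈ t', (x : G) ∈ FischerTypes.perp D d := fun x hx => by
    obtain ⟨q, -, rfl⟩ := List.mem_map.1 hx
    exact hf q.1 q.2
  set t : List G := t'.map Subtype.val with ht
  have hall' : ∀ x ∈ r' ++ t', (x : G) ∈ FischerTypes.perp D d := fun x hx =>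
    (List.mem_append.1 hx).elim (hr'm x) (ht'm x)
  have hnd' : (r' ++ t').Nodup := by
    refine List.Nodup.of_map (QuotientGroup.mk : ↥H' → PerpQuot D d) ?_
    rw [List.map_append, ht'q]
    exact htnd
  have hcomm' : ∀ x ∈ r' ++ t', ∀ y ∈ r' ++ t', Commute (x : G) (y : G) := by
    intro x hx y hy
    rw [← commute_mk_iff h (hall' x hx) (hall' y hy)]
    refine htc _ ?_ _ ?_
    · have := List.mem_map_of_mem (f := (QuotientGroup.mk : ↥H' → PerpQuot D d)) hx
      rwa [List.map_append, ht'q] at this
    · have := List.mem_map_of_mem (f := (QuotientGroup.mk : ↥H' → PerpQuot D d)) hy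
      rwa [List.map_append, ht'q] at this
  have hcoe : ((r' ++ t').map Subtype.val) = r ++ t := by rw [List.map_append, hrv, ← ht]
  have hmemG : ∀ x ∈ r ++ t, x ∈ FischerTypes.perp D d := fun x hx => by
    rw [← hcoe] at hx
    obtain ⟨z, hz, rfl⟩ := List.mem_map.1 hx
    exact hall' z hz
  have hcommG : ∀ x ∈ r ++ t, ∀ y ∈ r ++ t, Commute x y := fun x hx y hy => by
    rw [← hcoe] at hx hy
    obtain ⟨z, hz, rfl⟩ := List.mem_map.1 hx
    obtain ⟨w, hw, rfl⟩ := List.mem_map.1 hy
    exact hcomm' z hz w hw
  have hndG : (r ++ t).Nodup := hcoe ▸ hnd'.map Subtype.val_injective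
  have htl : t.length = 3 := by rw [ht, List.length_map, ht', List.length_map, List.length_attach, htlen]
  have hcen : ∀ y ∈ FischerTypes.perp D d, Commute ((r ++ t).prod) y := by
    have h1 : ((r' ++ t').prod : ↥H') ∈ Subgroup.center ↥H' := by
      rw [← QuotientGroup.eq_one_iff]
      show QuotientGroup.mk' (Subgroup.center ↥H') (r' ++ t').prod = 1
      rw [map_list_prod]
      show ((r' ++ t').map QuotientGroup.mk).prod = 1
      rw [List.map_append, ht'q]
      exact htp
    have h2 := mem_center_closure_iff.1 h1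
    rw [SubmonoidClass.coe_list_prod, hcoe] at h2
    exact h2
  have hprod : (r ++ t).prod = d := by
    refine (hone hd (Commute.list_prod_left _ _ fun x hx => (hmemG x hx).2.2.symm) hcen).resolve_left ?_
    refine hrel (r ++ t) hndG ?_ (fun x hx => (hmemG x hx).1) hcommG
    rw [List.length_append, htl]
    simp only [List.length_cons, Nat.succ.injEq] at hlen
    omega
  refine ⟨t, htl, ?_, ?_, ?_, ?_⟩
  · rw [List.cons_append, List.nodup_cons]
    exact ⟨fun hdm => (hmemG d hdm).2.1 rfl, hndG⟩
  · intro x hx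
    rcases List.mem_cons.1 hx with rfl | hx
    exacts [hd, (hmemG x hx).1]
  · intro x hx y hy
    rcases List.mem_cons.1 hx with rfl | hx <;> rcases List.mem_cons.1 hy with rfl | hy
    exacts [Commute.refl _, (hmemG y hy).2.2, (hmemG x hx).2.2.symm, hcommG x hx y hy]
  · rw [List.cons_append, List.prod_cons, hprod, FischerTypes.mul_self h.1 hd]

variable [Finite G] {D : Set G}

omit [Finite G] in
theorem common_empty : common D (∅ : Finset G) = D := by ext z; simp [common]

omit [Finite G] in
theorem common_insert [DecidableEq G] (a : G) (X : Finset G) :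
    common D (insert a X) = FischerTypes.perp D a ∩ common D X := by
  ext z
  simp only [common, Finset.mem_insert, Set.mem_ofPred_eq, Set.mem_inter_iff, forall_eq_or_imp]
  tauto

/-- Four commuting members of a group of type M(23) have 51 common neighbours. -/
theorem ncard_four (H : M23.Hyp G D) {d x y w : G} (hd : d ∈ D) (hx : x ∈ FischerTypes.perp D d)
    (hy : y ∈ FischerTypes.perp D d) (hw : w ∈ FischerTypes.perp D d) (hxy : y ∈ FischerTypes.perp D x)
    (hxw : w ∈ FischerTypes.perp D x) (hyw : w ∈ FischerTypes.perp D y) :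
    (FischerTypes.perp D d ∩
      (FischerTypes.perp D x ∩ (FischerTypes.perp D y ∩ FischerTypes.perp D w))).ncard = 51 := by
  rw [M23.ncard_bar H hd (T := FischerTypes.perp (img D d) (bar hx) ∩
      (FischerTypes.perp (img D d) (bar hy) ∩ FischerTypes.perp (img D d) (bar hw)))
    Set.inter_subset_left (fun p hp => hp.1.1)
    (fun z hz => by
      rw [Set.mem_inter_iff, Set.mem_inter_iff, Set.mem_inter_iff, Set.mem_inter_iff, Set.mem_inter_iff,
        M23.mem_perp_bar H hd hx hz, M23.mem_perp_bar H hd hy hz, M23.mem_perp_bar H hd hw hz]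
      exact and_iff_right hz)]
  obtain ⟨M⟩ := exists_perpModel (M23.quotGroup H.group d) (M23.quot22 H hd) (M23.bar_mem H hd hx)
  exact M.ncard_perp_commute ((M23.mem_perp_bar H hd hx hy).2 hxy) ((M23.mem_perp_bar H hd hx hw).2 hxw)
    (fun he => hyw.2.1 (M23.bar_inj H hd hy hw he).symm) ((M23.bar_commute H hy hw).2 hyw.2.2)

/-- Relations in type M(22) have length at least four. -/
theorem noRel_M22_three (h : IsThreeTranspositionGroup D) (hp : IsPrimitiveUnderConj D)
    (h22 : IsOfTypeM22 G D) : NoRel D 3 := by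
  obtain ⟨d, hd, -⟩ := hp.2.1
  obtain ⟨M⟩ := exists_perpModel h h22 hd
  exact noRel_succ h hd (fun a ha => hp.1 a ha d hd) M.noCentral
    (noRel_two (isThreeTranspositionGroup_img h d).1)

variable (H : M24.Hyp G D)

include H

/-- There are no relations of length at most seven. -/
theorem noRel_le {n : ℕ} (h1 : 1 ≤ n) (h7 : n ≤ 7) : NoRel D n := by
  obtain ⟨d, hd, -⟩ := H.prim.2.1
  have Q := M24.quot H hd
  obtain ⟨x, hx⟩ := M24.perp_nonempty H hd
  have hq : bar hx ∈ img D d := M24.bar_mem H hd hx
  have up : ∀ {k}, NoRel (img D d) k → NoRel D (k + 1) := fun {k} hk =>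
    noRel_succ H.group hd (fun a ha => H.prim.1 a ha d hd) (M24.noCentral H hd) hk
  have up23 : ∀ {k}, NoRel (img (img D d) (bar hx)) k → NoRel (img D d) (k + 1) := fun {k} hk =>
    noRel_succ Q.group hq (fun a ha => Q.prim.1 a ha _ hq) (M23.noCentral Q hq) hk
  have h56 := noRel_of_M23 psu62Facts Q.group Q.type
  interval_cases n
  · exact noRel_one H.group.1
  · exact noRel_two H.group.1
  · exact up (noRel_two Q.group.1)
  · exact up (up23 (noRel_two (isThreeTranspositionGroup_img Q.group _).1))
  · exact up (up23 (noRel_M22_three (M23.quotGroup Q.group _) (M23.quotPrim Q hq) (M23.quot22 Q hq)))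
  · exact up h56.1
  · exact up h56.2

/-- Five commuting members lie in a relation of length eight. -/
theorem extends_five : Extends D 5 := by
  refine extends_succ H.group (fun hd _ _ hx hy he => M24.bar_inj H hd hx hy he)
    (fun hd _ hx => M24.bar_mem H hd hx) (fun hd _ hw h1 => M24.eq_one_or_eq_of_centralize H hd hw h1)
    (noRel_le H (by norm_num) le_rfl) fun d hd => ?_
  have Q := M24.quot H hd
  refine extends_succ Q.group (fun hd _ _ hx hy he => M23.bar_inj Q hd hx hy he)
    (fun hd _ hx => M23.bar_mem Q hd hx) (fun hd _ hw h1 => M23.eq_one_or_eq_of_centralize Q hd hw h1)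
    (noRel_of_M23 psu62Facts Q.group Q.type).2 fun q hq => ?_
  intro l hnd hlen hD hc
  obtain ⟨e₀, e₁, e₂, rfl⟩ := List.length_eq_three.1 hlen
  simp only [List.nodup_cons, List.mem_cons, List.not_mem_nil, not_false_iff, List.nodup_nil, and_true,
    or_false, not_or] at hnd
  have he₁ : e₁ ∈ FischerTypes.perp (img (img D d) q) e₀ :=
    ⟨hD _ (by simp), fun h0 => hnd.1.1 h0.symm, hc _ (by simp) _ (by simp)⟩
  have he₂ : e₂ ∈ FischerTypes.perp (img (img D d) q) e₀ :=
    ⟨hD _ (by simp), fun h0 => hnd.1.2 h0.symm, hc _ (by simp) _ (by simp)⟩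
  obtain ⟨a, b, c, hn, hDD, hcc, he, -⟩ := exists_six (M23.quotGroup Q.group q) (M23.quotPrim Q hq)
    (M23.quot22 Q hq) (hD e₀ (by simp)) he₁ he₂ hnd.2 (hc _ (by simp) _ (by simp))
  refine ⟨[a, b, c], rfl, hn, hDD, hcc, ?_⟩
  have h3 := (M23.quotGroup Q.group q).1
  have cab : Commute a b := hcc a (by simp) b (by simp)
  have cac : Commute a c := hcc a (by simp) c (by simp)
  have cbc : Commute b c := hcc b (by simp) c (by simp)
  have ha := FischerTypes.mul_self h3 (hDD a (by simp))
  have hb := FischerTypes.mul_self h3 (hDD b (by simp))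
  have hcs := FischerTypes.mul_self h3 (hDD c (by simp))
  show e₀ * (e₁ * (e₂ * (a * (b * (c * 1))))) = 1
  rw [mul_one, ← mul_assoc e₀, ← mul_assoc (e₀ * e₁), he]
  calc a * b * c * (a * (b * c)) = a * ((b * c) * a) * (b * c) := by group
    _ = a * (a * (b * c)) * (b * c) := by rw [(cab.symm.mul_left cac.symm).eq]
    _ = b * (c * b) * c := by rw [← mul_assoc a a, ha, one_mul]; group
    _ = b * (b * c) * c := by rw [cbc.symm.eq]
    _ = 1 := by rw [← mul_assoc b b, hb, one_mul, hcs]

open Classical in
/-- Common neighbours of pairwise commuting members. -/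
theorem ncard_common {X : Finset G} (hX : ∀ x ∈ X, x ∈ D) (hc : ∀ x ∈ X, ∀ y ∈ X, Commute x y) :
    (X.card = 1 → (common D X).ncard = 31671) ∧ (X.card = 2 → (common D X).ncard = 3510) ∧
    (X.card = 3 → (common D X).ncard = 693) ∧ (X.card = 4 → (common D X).ncard = 180) ∧
    (X.card = 5 → (common D X).ncard = 51) := by
  have hperp : ∀ {a b : G}, a ∈ X → b ∈ X → a ≠ b → b ∈ FischerTypes.perp D a := fun {a b} ha hb hne =>
    ⟨hX b hb, Ne.symm hne, hc a ha b hb⟩
  have hin : ∀ a, FischerTypes.perp D a ∩ D = FischerTypes.perp D a := fun a =>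
    Set.inter_eq_left.2 fun z hz => hz.1
  refine ⟨fun h => ?_, fun h => ?_, fun h => ?_, fun h => ?_, fun h => ?_⟩
  · obtain ⟨a, rfl⟩ := Finset.card_eq_one.1 h
    rw [← insert_empty_eq, common_insert, common_empty, hin]
    exact ncard_perp H (hX a (by simp))
  · obtain ⟨a, b, hab, rfl⟩ := Finset.card_eq_two.1 h
    rw [common_insert, ← insert_empty_eq, common_insert, common_empty, hin]
    exact M24.ncard_perp_perp H (hX a (by simp)) (hperp (by simp) (by simp) hab)
  · obtain ⟨a, b, c, hab, hac, hbc, rfl⟩ := Finset.card_eq_three.1 h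
    rw [common_insert, common_insert, ← insert_empty_eq, common_insert, common_empty, hin]
    exact M24.ncard_perp_commute H (hX a (by simp)) (hperp (by simp) (by simp) hab)
      (hperp (by simp) (by simp) hac) hbc (hc _ (by simp) _ (by simp))
  · obtain ⟨a, Y, ha, rfl, hY⟩ := Finset.card_eq_succ.1 h
    obtain ⟨b, c, e, hbc, hbe, hce, rfl⟩ := Finset.card_eq_three.1 hY
    simp only [Finset.mem_insert, Finset.mem_singleton, not_or] at ha
    have hd : a ∈ D := hX a (by simp)
    have hb := hperp (a := a) (b := b) (by simp) (by simp) ha.1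
    have hcp := hperp (a := a) (b := c) (by simp) (by simp) ha.2.1
    have he := hperp (a := a) (b := e) (by simp) (by simp) ha.2.2
    rw [common_insert, common_insert, common_insert, ← insert_empty_eq, common_insert, common_empty, hin,
      M24.ncard_bar H hd (T := FischerTypes.perp (img D a) (bar hb) ∩
        (FischerTypes.perp (img D a) (bar hcp) ∩ FischerTypes.perp (img D a) (bar he)))
      Set.inter_subset_left (fun p hp => hp.1.1)
      (fun z hz => by
        rw [Set.mem_inter_iff, Set.mem_inter_iff, Set.mem_inter_iff, Set.mem_inter_iff, Set.mem_inter_iff,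
          M24.mem_perp_bar H hd hb hz, M24.mem_perp_bar H hd hcp hz, M24.mem_perp_bar H hd he hz]
        exact and_iff_right hz)]
    have Q := M24.quot H hd
    exact M23.ncard_perp_commute Q (M24.bar_mem H hd hb)
      ((M24.mem_perp_bar H hd hb hcp).2 (hperp (by simp) (by simp) hbc))
      ((M24.mem_perp_bar H hd hb he).2 (hperp (by simp) (by simp) hbe))
      (fun h0 => hce (M24.bar_inj H hd hcp he h0)) ((M24.bar_commute H hcp he).2 (hc _ (by simp) _ (by simp)))
  · obtain ⟨a, Y, ha, rfl, hY⟩ := Finset.card_eq_succ.1 h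
    obtain ⟨b, Z, hb', rfl, hZ⟩ := Finset.card_eq_succ.1 hY
    obtain ⟨c, e, f, hce, hcf, hef, rfl⟩ := Finset.card_eq_three.1 hZ
    simp only [Finset.mem_insert, Finset.mem_singleton, not_or] at ha hb'
    have hd : a ∈ D := hX a (by simp)
    have hb := hperp (a := a) (b := b) (by simp) (by simp) ha.1
    have hcp := hperp (a := a) (b := c) (by simp) (by simp) ha.2.1
    have he := hperp (a := a) (b := e) (by simp) (by simp) ha.2.2.1
    have hf := hperp (a := a) (b := f) (by simp) (by simp) ha.2.2.2
    rw [common_insert, common_insert, common_insert, common_insert, ← insert_empty_eq, common_insert,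
      common_empty, hin,
      M24.ncard_bar H hd (T := FischerTypes.perp (img D a) (bar hb) ∩
        (FischerTypes.perp (img D a) (bar hcp) ∩
          (FischerTypes.perp (img D a) (bar he) ∩ FischerTypes.perp (img D a) (bar hf))))
      Set.inter_subset_left (fun p hp => hp.1.1)
      (fun z hz => by
        rw [Set.mem_inter_iff, Set.mem_inter_iff, Set.mem_inter_iff, Set.mem_inter_iff, Set.mem_inter_iff,
          Set.mem_inter_iff, Set.mem_inter_iff, M24.mem_perp_bar H hd hb hz, M24.mem_perp_bar H hd hcp hz,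
          M24.mem_perp_bar H hd he hz, M24.mem_perp_bar H hd hf hz]
        exact and_iff_right hz)]
    have Q := M24.quot H hd
    exact ncard_four Q (M24.bar_mem H hd hb)
      ((M24.mem_perp_bar H hd hb hcp).2 (hperp (by simp) (by simp) hb'.1))
      ((M24.mem_perp_bar H hd hb he).2 (hperp (by simp) (by simp) hb'.2.1))
      ((M24.mem_perp_bar H hd hb hf).2 (hperp (by simp) (by simp) hb'.2.2))
      ((M24.mem_perp_bar H hd hcp he).2 (hperp (by simp) (by simp) hce))
      ((M24.mem_perp_bar H hd hcp hf).2 (hperp (by simp) (by simp) hcf))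
      ((M24.mem_perp_bar H hd he hf).2 (hperp (by simp) (by simp) hef))

open Classical in
/-- Common neighbours of two non-commuting members and up to two members commuting with both. -/
theorem ncard_common_pair {y m : G} (hy : y ∈ D) (hm : m ∈ D) (hym : ¬ Commute y m) {X : Finset G}
    (hc : ∀ x ∈ X, ∀ x' ∈ X, Commute x x') (hXy : ∀ x ∈ X, x ∈ FischerTypes.perp D y)
    (hXm : ∀ x ∈ X, x ∈ FischerTypes.perp D m) :
    (X.card = 0 → (common D (insert y (insert m X))).ncard = 3240) ∧
    (X.card = 1 → (common D (insert y (insert m X))).ncard = 351) ∧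
    (X.card = 2 → (common D (insert y (insert m X))).ncard = 126) := by
  have hin : ∀ a, FischerTypes.perp D a ∩ D = FischerTypes.perp D a := fun a =>
    Set.inter_eq_left.2 fun z hz => hz.1
  refine ⟨fun h => ?_, fun h => ?_, fun h => ?_⟩
  · rw [Finset.card_eq_zero.1 h, common_insert, common_insert, common_empty, hin]
    exact (mu_props H hy hm hym).1
  · obtain ⟨a, rfl⟩ := Finset.card_eq_one.1 h
    have ha := hXy a (by simp)
    have hb := hXm a (by simp)
    rw [common_insert, common_insert, ← insert_empty_eq, common_insert, common_empty,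
      hin, ← Set.inter_assoc, Set.inter_comm, ← ncard_perp_not_commute H
        ha.1 (perp_symm hy ha) (perp_symm hm hb) hym]
  · obtain ⟨a, b, hab, rfl⟩ := Finset.card_eq_two.1 h
    have hd : a ∈ D := (hXy a (by simp)).1
    have hb : b ∈ FischerTypes.perp D a :=
      ⟨(hXy b (by simp)).1, Ne.symm hab, hc _ (by simp) _ (by simp)⟩
    have hyp := perp_symm hy (hXy a (by simp))
    have hmp := perp_symm hm (hXm a (by simp))
    rw [common_insert, common_insert, common_insert, ← insert_empty_eq, common_insert, common_empty,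
      hin,
      show FischerTypes.perp D y ∩ (FischerTypes.perp D m ∩ (FischerTypes.perp D a ∩ FischerTypes.perp D b)) =
        FischerTypes.perp D a ∩ (FischerTypes.perp D b ∩ (FischerTypes.perp D y ∩ FischerTypes.perp D m)) by
        ext z; simp only [Set.mem_inter_iff]; tauto,
      M24.ncard_bar H hd (T := FischerTypes.perp (img D a) (bar hb) ∩
        (FischerTypes.perp (img D a) (bar hyp) ∩ FischerTypes.perp (img D a) (bar hmp)))
      Set.inter_subset_left (fun p hp => hp.1.1)
      (fun z hz => by
        rw [Set.mem_inter_iff, Set.mem_inter_iff, Set.mem_inter_iff, Set.mem_inter_iff, Set.mem_inter_iff,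
          M24.mem_perp_bar H hd hb hz, M24.mem_perp_bar H hd hyp hz, M24.mem_perp_bar H hd hmp hz]
        exact and_iff_right hz)]
    have Q := M24.quot H hd
    exact M23.ncard_perp_not_commute Q (M24.bar_mem H hd hb)
      ((M24.mem_perp_bar H hd hb hyp).2 (perp_symm hy (hXy b (by simp))))
      ((M24.mem_perp_bar H hd hb hmp).2 (perp_symm hm (hXm b (by simp))))
      (fun h0 => hym ((M24.bar_commute H hyp hmp).1 h0))

end CfsgLib.Transpositions.TypeM24
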