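import Cfsg.Agent.Transpositions.ReflectionSeven
import Cfsg.Agent.Transpositions.ReflectionsModThree

/-!
# Involutions of the seven-dimensional reflection group over the field with three elements

An involution of the group generated by the reflections of norm `c`, all of whose products with its
conjugates have order at most three modulo the centre, is plus or minus a reflection of norm `c`.
-/

set_option autoImplicit false
set_option linter.unusedSectionVars false

namespace CfsgLib.Transpositions.OrthSeven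

open Cfsg Matrix Module CfsgLib.Forms CfsgLib.Spinor

abbrev V := Fin 7 → ZMod 3

variable {Q : QuadraticForm (ZMod 3) V} {c : ZMod 3}

/-- A coordinate system in which the form is `c` times the sum of the squares. -/
theorem exists_isometry_dot (hc : c ≠ 0) (hμ : polarGramDet (⇑Q) = -c) :
    ∃ L : V ≃ₗ[ZMod 3] V, (∀ v, Q (L v) = c * (v ⬝ᵥ v)) ∧
      ∀ v w, QuadraticMap.polar (⇑Q) (L v) (L w) = 2 * c * (v ⬝ᵥ w) := by
  let B := QuadraticMap.polarBilin Q
  let B' : LinearMap.BilinForm (ZMod 3) V := Matrix.toBilin' (diagonal fun _ : Fin 7 => 2 * c)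
  have hB' : ∀ v w, B' v w = 2 * c * (v ⬝ᵥ w) := fun v w => by
    simp [B', Matrix.toBilin'_apply', mulVec_diagonal, dotProduct, Finset.mul_sum, mul_left_comm]
  let b := Pi.basisFun (ZMod 3) (Fin 7)
  have hd : (LinearMap.BilinForm.toMatrix b B).det = -c := by
    rw [← hμ, polarGramDet]
    congr 1
  have hd' : (LinearMap.BilinForm.toMatrix b B').det = -c := by
    have e : LinearMap.BilinForm.toMatrix b B' = diagonal fun _ : Fin 7 => 2 * c := by
      ext i j
      rw [LinearMap.BilinForm.toMatrix_apply, hB']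
      simp [b, diagonal_apply, Pi.single_apply, eq_comm]
    rw [e, det_diagonal, Finset.prod_const, Finset.card_univ, Fintype.card_fin]
    clear * - hc
    revert c; decide
  obtain ⟨L, hL⟩ := exists_isometry_of_isSquare two_ne_zero_zmod_three B' B
    ⟨fun x y => by rw [hB', hB', dotProduct_comm]⟩ ⟨fun x y => QuadraticMap.polar_comm _ x y⟩ b b rfl
    (by rw [hd']; exact neg_ne_zero.2 hc) (by rw [hd]; exact neg_ne_zero.2 hc)
    (by rw [hd, hd']; exact ⟨-c, rfl⟩)
  have hP : ∀ v w, QuadraticMap.polar (⇑Q) (L v) (L w) = 2 * c * (v ⬝ᵥ w) := fun v w => by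
    rw [← hB']; exact hL v w
  refine ⟨L, fun v => mul_left_cancel₀ two_ne_zero_zmod_three ?_, hP⟩
  rw [← polar_self', hP]; ring

/-- Every reflection is conjugate to each reflection of the same norm. -/
theorem exists_conj_refl (hQ : (QuadraticMap.polarBilin Q).Nondegenerate) {v w : V} {a : ZMod 3}
    (ha : a ≠ 0) (hv : Q v = a) (hw : Q w = a) : ∃ k ∈ reflectionSubgroup (⇑Q) a,
      k * reflIso Q v (hv ▸ ha) * k⁻¹ = reflIso Q w (hw ▸ ha) := by
  obtain ⟨-, ⟨u, -, hu⟩, -⟩ := reflClass_isThreeTranspositionClass hQ (by simp) ha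
  have h1 : IsConj u (classRefl ha v hv) := by
    have := classRefl_mem ha v hv
    rwa [hu] at this
  have h2 : IsConj u (classRefl ha w hw) := by
    have := classRefl_mem ha w hw
    rwa [hu] at this
  obtain ⟨k, hk⟩ := isConj_iff.1 (h1.symm.trans h2)
  exact ⟨k, k.2, congrArg Subtype.val hk⟩

variable (hQ : (QuadraticMap.polarBilin Q).Nondegenerate) (hc : c ≠ 0) (hμ : polarGramDet (⇑Q) = -c)

include hQ hc

theorem index_R : (reflectionSubgroup (⇑Q) c).index = 2 := by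
  have h := index_closure_class_of_dim two_ne_zero_zmod_three hQ (by simp) (Or.inr (by simp))
    (fun h => by simp only [Fintype.card_fin] at h; omega) hc
  have ht : ∀ t : ZMod 3, t ≠ 0 → t ^ 2 = 1 := by decide
  rw [reflectionSubgroup]
  convert h using 3
  ext g
  constructor
  · rintro ⟨v, hv, hg⟩
    exact ⟨v, 1, one_ne_zero, by rw [hv]; ring, hg⟩
  · rintro ⟨v, t, ht0, hv, hg⟩
    exact ⟨v, by rw [hv, ht t ht0, mul_one], hg⟩

theorem refl_mem_iff {v w : V} {a : ZMod 3} (ha : a ≠ 0) (hv : Q v = a) (hw : Q w = a) :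
    reflIso Q v (hv ▸ ha) ∈ reflectionSubgroup (⇑Q) c ↔ reflIso Q w (hw ▸ ha) ∈ reflectionSubgroup (⇑Q) c := by
  have hn := Subgroup.normal_of_index_eq_two (index_R hQ hc)
  obtain ⟨k, -, hk⟩ := exists_conj_refl hQ ha hv hw
  rw [← hk]
  refine ⟨fun h => hn.conj_mem _ h k, fun h => ?_⟩
  have := hn.conj_mem _ h k⁻¹
  rwa [show k⁻¹ * (k * reflIso Q v (hv ▸ ha) * k⁻¹) * k⁻¹⁻¹ = reflIso Q v (hv ▸ ha) by group] at this

/-- Two reflections of one norm have their product in the subgroup. -/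
theorem refl_mul_mem {v w : V} {a : ZMod 3} (ha : a ≠ 0) (hv : Q v = a) (hw : Q w = a) :
    reflIso Q v (hv ▸ ha) * reflIso Q w (hw ▸ ha) ∈ reflectionSubgroup (⇑Q) c :=
  (Subgroup.mul_mem_iff_of_index_two (index_R hQ hc)).2 (refl_mem_iff hQ hc ha hv hw)

/-- Only reflections of norm `c` lie in the subgroup. -/
theorem norm_of_refl_mem {v : V} (hv : Q v ≠ 0) (h : reflIso Q v hv ∈ reflectionSubgroup (⇑Q) c) :
    Q v = c := by
  by_contra hne
  have hall : ∀ w : V, ∀ hw : Q w ≠ 0, reflIso Q w hw ∈ reflectionSubgroup (⇑Q) c := by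
    intro w hw
    by_cases hwc : Q w = c
    · exact Subgroup.subset_closure (reflIso_mem hc hwc)
    · have e : Q w = Q v := by
        have key : ∀ c a b : ZMod 3, c ≠ 0 → a ≠ 0 → ¬a = c → b ≠ 0 → ¬b = c → b = a := by
          clear * -
          intro c a b
          rcases zmod_three_cases c with rfl | rfl | rfl <;> rcases zmod_three_cases a with rfl | rfl | rfl <;>
            rcases zmod_three_cases b with rfl | rfl | rfl <;> simp
        exact key c _ _ hc hv hne hw hwc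
      exact (refl_mem_iff hQ hc hv rfl e).1 h
  have htop : reflectionSubgroup (⇑Q) c = ⊤ := by
    rw [eq_top_iff, ← closure_reflections_eq_top
      (exists_isReflProd_finite hQ (Or.inr (by simp))), Subgroup.closure_le]
    rintro g ⟨w, hw, hg⟩
    rw [show g = reflIso Q w hw from mat_ext Q hg]
    exact hall w hw
  have := index_R hQ hc
  rw [htop, Subgroup.index_top] at this
  omega

include hμ

theorem card_R : Nat.card ↥(reflectionSubgroup (⇑Q) c) = 9170703360 := by
  have h := Subgroup.index_mul_card (reflectionSubgroup (⇑Q) c)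
  rw [index_R hQ hc, card_isometryGroup_seven Q (by rw [hμ]; exact neg_ne_zero.2 hc)] at h
  omega

/-- Central elements are scalars. -/
theorem mat_center {z : ↥(reflectionSubgroup (⇑Q) c)} (hz : z ∈ Subgroup.center ↥(reflectionSubgroup (⇑Q) c)) :
    mat Q (z : ↥(isometryGroup (ZMod 3) ⇑Q)) = 1 ∨ mat Q (z : ↥(isometryGroup (ZMod 3) ⇑Q)) = -1 := by
  obtain ⟨L, hL, hLp⟩ := exists_isometry_dot hc hμ
  set M := mat Q (z : ↥(isometryGroup (ZMod 3) ⇑Q)) with hMdef
  have hpm : ∀ v, Q v = c → M *ᵥ v = v ∨ M *ᵥ v = -v := by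
    intro v hv
    have hQz : Q (M *ᵥ v) = c := by rw [hMdef, quad_mulVec, hv]
    have h1 : z * classRefl hc v hv * z⁻¹ = classRefl hc (M *ᵥ v) hQz :=
      Subtype.ext (conj_reflIso Q _ v (hv ▸ hc))
    rw [← Subgroup.mem_center_iff.1 hz, mul_inv_cancel_right] at h1
    rcases (commute_classRefl_iff hc hv hQz).1 (h1 ▸ Commute.refl _) with h0 | h0
    · exact absurd h1 (classRefl_ne hc hv hQz h0)
    · exact h0
  set e : Fin 7 → V := fun i => L (Pi.single i 1) with he
  have hQe : ∀ i, Q (e i) = c := fun i => by simp [he, hL]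
  have hsame : ∀ v w, Q v = c → Q w = c → M *ᵥ v = v → M *ᵥ w = w := by
    intro v w hv hw hMv
    by_contra hMw
    have hMw' := (hpm w hw).resolve_left hMw
    have ho : QuadraticMap.polar (⇑Q) v w = 0 := by
      have h1 := polar_mulVec Q (z : ↥(isometryGroup (ZMod 3) ⇑Q)) v w
      rw [← hMdef, hMv, hMw', QuadraticMap.polar_neg_right] at h1
      have key : ∀ a : ZMod 3, -a = a → a = 0 := by decide
      exact key _ h1
    obtain ⟨s, hs, -, hvs, hws⟩ := exists_orth_norm hQ (by simp) hc (2 * c) hv hw ho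
    have hx : Q (v + w + s) = c := by
      rw [QuadraticMap.map_add (⇑Q), QuadraticMap.map_add (⇑Q) v w, hv, hw, hs,
        QuadraticMap.polar_add_left, ho, hvs, hws]
      clear * -
      revert c; decide
    have h20 : 2 * c ≠ 0 := mul_ne_zero two_ne_zero_zmod_three hc
    rcases hpm _ hx with h0 | h0
    · have h1 := polar_mulVec Q (z : ↥(isometryGroup (ZMod 3) ⇑Q)) w (v + w + s)
      rw [← hMdef, hMw', h0, QuadraticMap.polar_neg_left, QuadraticMap.polar_add_right,
        QuadraticMap.polar_add_right, QuadraticMap.polar_comm (⇑Q) w v, ho, hws, polar_self', hw] at h1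
      revert h20 h1
      clear * -
      revert c; decide
    · have h1 := polar_mulVec Q (z : ↥(isometryGroup (ZMod 3) ⇑Q)) v (v + w + s)
      rw [← hMdef, hMv, h0, QuadraticMap.polar_neg_right, QuadraticMap.polar_add_right,
        QuadraticMap.polar_add_right, ho, hvs, polar_self', hv] at h1
      revert h20 h1
      clear * -
      revert c; decide
  have hext : ∀ N : Matrix (Fin 7) (Fin 7) (ZMod 3), (∀ i, M *ᵥ e i = N *ᵥ e i) → M = N := by
    intro N h
    refine Matrix.toLin'.injective (((Pi.basisFun (ZMod 3) (Fin 7)).map L).ext fun i => ?_)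
    simp only [Basis.map_apply, Pi.basisFun_apply, toLin'_apply]
    exact h i
  rcases hpm _ (hQe 0) with h0 | h0
  · exact Or.inl (hext 1 fun i => by rw [one_mulVec]; exact hsame _ _ (hQe 0) (hQe i) h0)
  · refine Or.inr (hext (-1) fun i => ?_)
    rw [neg_mulVec, one_mulVec]
    refine (hpm _ (hQe i)).resolve_left fun hi => ?_
    have := hsame _ _ (hQe i) (hQe 0) hi
    rw [h0] at this
    have h2 : (2 : ZMod 3) • e 0 = 0 := by linear_combination (norm := module) -this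
    have := (smul_eq_zero.1 h2).resolve_left two_ne_zero_zmod_three
    exact hc (by rw [← hQe 0, this, QuadraticMap.map_zero])

theorem card_center_le : Nat.card (Subgroup.center ↥(reflectionSubgroup (⇑Q) c)) ≤ 2 := by
  classical
  refine le_trans (Nat.card_le_card_of_injective
    (fun z : ↥(Subgroup.center ↥(reflectionSubgroup (⇑Q) c)) =>
      decide (mat Q ((z : ↥(reflectionSubgroup (⇑Q) c)) : ↥(isometryGroup (ZMod 3) ⇑Q)) = 1)) ?_) (by simp)
  intro z w hzw
  simp only [decide_eq_decide] at hzw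
  refine Subtype.ext (Subtype.ext (mat_ext Q ?_))
  rcases mat_center hQ hc hμ z.2 with hz | hz <;> rcases mat_center hQ hc hμ w.2 with hw | hw
  · rw [hz, hw]
  · exact absurd (hzw.1 hz) (by rw [hw]; decide +kernel)
  · exact absurd (hzw.2 hw) (by rw [hz]; decide +kernel)
  · rw [hz, hw]

/-- A conjugate whose product with the involution has order six modulo the scalars. -/
theorem false_of_vectors {g : ↥(isometryGroup (ZMod 3) ⇑Q)} (hg : g * g = 1) {ε : ZMod 3} (hε : ε * ε = 1)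
    {p₁ p₂ r₁ r₂ u₀ : V} (qp₁ : Q p₁ = c) (qp₂ : Q p₂ = 0) (hp20 : p₂ ≠ 0) (qr₁ : Q r₁ = c) (qr₂ : Q r₂ ≠ 0)
    (qu₀ : Q u₀ = 2 * c) (eu₁ : mat Q g *ᵥ p₁ = -ε • p₁) (eu₂ : mat Q g *ᵥ p₂ = -ε • p₂)
    (eu₀ : mat Q g *ᵥ u₀ = -ε • u₀) (er₁ : mat Q g *ᵥ r₁ = ε • r₁) (er₂ : mat Q g *ᵥ r₂ = ε • r₂)
    (h12 : QuadraticMap.polar (⇑Q) p₁ p₂ = 0) (orr : QuadraticMap.polar (⇑Q) r₁ r₂ = 0)
    (o11 : QuadraticMap.polar (⇑Q) p₁ r₁ = 0) (o12 : QuadraticMap.polar (⇑Q) p₁ r₂ = 0)
    (o21 : QuadraticMap.polar (⇑Q) p₂ r₁ = 0) (o22 : QuadraticMap.polar (⇑Q) p₂ r₂ = 0)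
    (h3 : ∀ k ∈ reflectionSubgroup (⇑Q) c, ∃ n : ℕ, (n = 2 ∨ n = 3) ∧
      (mat Q (g * (k * g * k⁻¹)) ^ n = 1 ∨ mat Q (g * (k * g * k⁻¹)) ^ n = -1)) : False := by
  have h2 := two_ne_zero_zmod_three
  set M := mat Q g with hMdef
  have h2c : 2 * c ≠ 0 := mul_ne_zero h2 hc
  have s11 : QuadraticMap.polar (⇑Q) r₁ p₁ = 0 := (QuadraticMap.polar_comm (⇑Q) _ _).trans o11
  have s12 : QuadraticMap.polar (⇑Q) r₂ p₁ = 0 := (QuadraticMap.polar_comm (⇑Q) _ _).trans o12
  have s21 : QuadraticMap.polar (⇑Q) r₁ p₂ = 0 := (QuadraticMap.polar_comm (⇑Q) _ _).trans o21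
  have s22 : QuadraticMap.polar (⇑Q) r₂ p₂ = 0 := (QuadraticMap.polar_comm (⇑Q) _ _).trans o22
  have sp : QuadraticMap.polar (⇑Q) p₂ p₁ = 0 := (QuadraticMap.polar_comm (⇑Q) _ _).trans h12
  have sr : QuadraticMap.polar (⇑Q) r₂ r₁ = 0 := (QuadraticMap.polar_comm (⇑Q) _ _).trans orr
  have qA : Q (p₁ - r₁) = 2 * c := by
    rw [sub_eq_add_neg, QuadraticMap.map_add (⇑Q), QuadraticMap.polar_neg_right, o11, QuadraticMap.map_neg, qp₁, qr₁]
    ring
  have qA' : Q (p₁ + r₁) = 2 * c := by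
    rw [QuadraticMap.map_add (⇑Q), o11, qp₁, qr₁]
    ring
  have qB : Q (r₂ + p₂) = Q r₂ := by
    rw [QuadraticMap.map_add (⇑Q), qp₂, QuadraticMap.polar_comm, o22]
    ring
  have qB' : Q (r₂ - p₂) = Q r₂ := by
    rw [sub_eq_add_neg, QuadraticMap.map_add (⇑Q), QuadraticMap.polar_neg_right, QuadraticMap.map_neg, qp₂,
      QuadraticMap.polar_comm, o22]
    ring
  set A := reflIso Q (p₁ - r₁) (qA ▸ h2c) with hA
  set A' := reflIso Q (p₁ + r₁) (qA' ▸ h2c) with hA'
  set B := reflIso Q (r₂ + p₂) (qB ▸ qr₂) with hB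
  set B' := reflIso Q (r₂ - p₂) (qB' ▸ qr₂) with hB'
  set T₁ := reflIso Q u₀ (qu₀ ▸ h2c)
  set T₂ := reflIso Q r₂ qr₂
  have comm_of : ∀ {v w : V} (hv : Q v ≠ 0) (hw : Q w ≠ 0), QuadraticMap.polar (⇑Q) v w = 0 →
      Commute (reflIso Q v hv) (reflIso Q w hw) := fun hv hw ho =>
    mat_ext Q ((commute_reflectionMatrix_iff hv hw).2 (Or.inl ho))
  have self : ∀ {v : V} (hv : Q v ≠ 0), reflIso Q v hv * reflIso Q v hv = 1 := fun hv =>
    mat_ext Q (reflectionMatrix_mul_self Q hv)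
  have hneg : ∀ v, reflectionMatrix (⇑Q) (-v) = reflectionMatrix (⇑Q) v := reflectionMatrix_neg
  have scal : ∀ {v : V} (hv : Q v ≠ 0) (a : ZMod 3), a * a = 1 → ∀ w, M *ᵥ v = a • w → ∀ hw : Q w ≠ 0,
      g * reflIso Q v hv * g⁻¹ = reflIso Q w hw := fun {v} hv a ha w he hw => by
    rw [conj_reflIso]
    refine mat_ext Q ?_
    show reflectionMatrix (⇑Q) (M *ᵥ v) = reflectionMatrix (⇑Q) w
    rcases zmod_three_cases a with rfl | rfl | rfl
    · simp at ha
    · rw [he, one_smul]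
    · rw [he, neg_one_smul, hneg]
  have hgi : g⁻¹ = g := inv_eq_of_mul_eq_one_right hg
  have eA : g * A * g⁻¹ = A' := scal _ (-ε) (by rw [neg_mul_neg, hε]) _ (by
    rw [mulVec_sub, eu₁, er₁]; module) _
  have eB : g * B * g⁻¹ = B' := scal _ ε hε _ (by
    rw [mulVec_add, eu₂, er₂]; module) _
  have eT₁ : g * T₁ * g⁻¹ = T₁ := scal _ (-ε) (by rw [neg_mul_neg, hε]) _ eu₀ _
  have eT₂ : g * T₂ * g⁻¹ = T₂ := scal _ ε hε _ (er₂) _
  have cAB : Commute A B := comm_of _ _ (by
    simp [QuadraticMap.polar_sub_left, QuadraticMap.polar_sub_right, QuadraticMap.polar_add_left,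
      QuadraticMap.polar_add_right, polar_self', qp₁, qr₁, o11, o12, o21, o22, s11, s12, s21, s22, sp, sr, h12, orr])
  have cA'B : Commute A' B := comm_of _ _ (by
    simp [QuadraticMap.polar_sub_left, QuadraticMap.polar_sub_right, QuadraticMap.polar_add_left,
      QuadraticMap.polar_add_right, polar_self', qp₁, qr₁, o11, o12, o21, o22, s11, s12, s21, s22, sp, sr, h12, orr])
  have cAT : Commute T₂ A := comm_of _ _ (by
    simp [QuadraticMap.polar_sub_left, QuadraticMap.polar_sub_right, QuadraticMap.polar_add_left,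
      QuadraticMap.polar_add_right, polar_self', qp₁, qr₁, o11, o12, o21, o22, s11, s12, s21, s22, sp, sr, h12, orr])
  set k := B * T₂ * (A * T₁) with hk
  have hkR : k ∈ reflectionSubgroup (⇑Q) c :=
    mul_mem (refl_mul_mem hQ hc qr₂ qB rfl) (refl_mul_mem hQ hc h2c qA qu₀)
  have hAA : A * A = 1 := self _
  have hA'A' : A' * A' = 1 := self _
  have hBB : B * B = 1 := self _
  have hB'B' : B' * B' = 1 := self _
  have gT : Commute g (T₂ * T₁) := Commute.mul_right (mul_inv_eq_iff_eq_mul.1 eT₂) (mul_inv_eq_iff_eq_mul.1 eT₁)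
  have hconj : k * g * k⁻¹ = B * A * g * A * B := by
    have e1 : k = B * A * (T₂ * T₁) := by
      rw [hk, mul_assoc B T₂, ← mul_assoc T₂ A, cAT.eq]
      simp only [mul_assoc]
    rw [e1, _root_.mul_inv_rev (B * A), _root_.mul_inv_rev B A, inv_eq_of_mul_eq_one_right hAA, inv_eq_of_mul_eq_one_right hBB]
    calc B * A * (T₂ * T₁) * g * ((T₂ * T₁)⁻¹ * (A * B))
        = B * A * ((T₂ * T₁) * g) * ((T₂ * T₁)⁻¹ * (A * B)) := by simp only [mul_assoc]
      _ = B * A * g * A * B := by rw [← gT.eq]; simp only [mul_assoc, mul_inv_cancel_left]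
  set E := B' * B with hE
  set Pq := A' * A with hPq
  have hprod : g * (k * g * k⁻¹) = E * Pq := by
    rw [hconj, hE, hPq, ← eA, ← eB]
    calc g * (B * A * g * A * B) = g * B * g⁻¹ * (g * A * g⁻¹ * (g * g)) * A * B := by
          simp only [mul_assoc, inv_mul_cancel_left]
      _ = g * B * g⁻¹ * B * (g * A * g⁻¹ * A) := by
          rw [hg, mul_one, eA, eB, mul_assoc, cAB.eq, mul_assoc B', ← mul_assoc A', cA'B.eq]
          simp only [mul_assoc]
  have cPB : Commute Pq B := cA'B.mul_left cAB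
  have cPB' : Commute Pq B' := by
    have cAB' : Commute A B' := comm_of _ _ (by
      simp [QuadraticMap.polar_sub_left, QuadraticMap.polar_sub_right, QuadraticMap.polar_add_left,
        QuadraticMap.polar_add_right, polar_self', qp₁, qr₁, o11, o12, o21, o22, s11, s12, s21, s22, sp, sr, h12, orr])
    have cA'B' : Commute A' B' := comm_of _ _ (by
      simp [QuadraticMap.polar_sub_left, QuadraticMap.polar_sub_right, QuadraticMap.polar_add_left,
        QuadraticMap.polar_add_right, polar_self', qp₁, qr₁, o11, o12, o21, o22, s11, s12, s21, s22, sp, sr, h12, orr])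
    exact cA'B'.mul_left cAB'
  have cEP : Commute E Pq := (cPB'.mul_right cPB).symm
  have hP2 : Pq ^ 2 = 1 := by
    have cAA' : Commute A A' := comm_of _ _ (by
      simp [QuadraticMap.polar_sub_left, QuadraticMap.polar_sub_right, QuadraticMap.polar_add_left,
        QuadraticMap.polar_add_right, polar_self', qp₁, qr₁, o11, o12, o21, o22, s11, s12, s21, s22, sp, sr, h12, orr])
    rw [hPq, cAA'.symm.mul_pow, pow_two, pow_two, hA'A', hAA, one_mul]
  have hE3 : E ^ 3 = 1 := by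
    have hpol' : QuadraticMap.polar (⇑Q) (r₂ - p₂) (r₂ + p₂) ≠ 0 := by
      simp only [QuadraticMap.polar_sub_left, QuadraticMap.polar_add_right, polar_self', qp₂, o22,
        QuadraticMap.polar_comm (⇑Q) r₂ p₂]
      simpa using mul_ne_zero h2 qr₂
    have hb := braid_reflIso qr₂ qB' qB hpol'
    rw [inv_eq_of_mul_eq_one_right (self _), inv_eq_of_mul_eq_one_right (self _)] at hb
    calc E ^ 3 = (B' * B * B') * (B * B' * B) := by simp [hE, pow_succ, mul_assoc]
      _ = (B' * B * B') * (B' * B * B') := by rw [show B * B' * B = B' * B * B' from hb.symm]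
      _ = B' * (B * ((B' * B') * B)) * B' := by simp only [mul_assoc]
      _ = 1 := by rw [hB'B', one_mul, hBB, mul_one, hB'B']
  have c2 : (2 * c)⁻¹ * (2 * c) = 1 := inv_mul_cancel₀ h2c
  have eP : mat Q Pq *ᵥ p₁ = -p₁ ∧ mat Q Pq *ᵥ p₂ = p₂ := by
    rw [hPq, mat_mul, hA, hA', mat_reflIso, mat_reflIso]
    simp only [← mulVec_mulVec, Spinor.reflectionMatrix_mulVec]
    have a1 : refl Q (p₁ - r₁) p₁ = r₁ := by
      rw [refl_apply, QuadraticMap.polar_sub_left, polar_self', qp₁, s11, sub_zero, qA, c2, one_smul]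
      abel
    have a2 : refl Q (p₁ + r₁) r₁ = -p₁ := by
      rw [refl_apply, QuadraticMap.polar_add_left, polar_self', qr₁, o11, zero_add, qA', c2, one_smul]
      abel
    have a3 : refl Q (p₁ - r₁) p₂ = p₂ := by
      rw [refl_apply, QuadraticMap.polar_sub_left, h12, s21, sub_zero, mul_zero, zero_smul, sub_zero]
    have a4 : refl Q (p₁ + r₁) p₂ = p₂ := by
      rw [refl_apply, QuadraticMap.polar_add_left, h12, s21, add_zero, mul_zero, zero_smul, sub_zero]
    exact ⟨by rw [a1, a2], by rw [a3, a4]⟩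
  have eE : mat Q E *ᵥ p₁ = p₁ := by
    rw [hE, mat_mul, hB, hB', mat_reflIso, mat_reflIso]
    simp [← mulVec_mulVec, Spinor.reflectionMatrix_mulVec, refl_apply, QuadraticMap.polar_sub_left,
      QuadraticMap.polar_add_left, sp, s12]
  have hne : ∀ p : V, Q p = c → -p ≠ p := fun p hp he => by
    have := (smul_eq_zero.1 (show (2 : ZMod 3) • p = 0 by linear_combination (norm := module) -he)).resolve_left h2
    exact hc (by rw [← hp, this, QuadraticMap.map_zero])
  obtain ⟨n, hn, hcase⟩ := h3 k hkR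
  rw [hprod] at hcase
  have hpow : ∀ m : ℕ, mat Q (E * Pq) ^ m = mat Q (E ^ m * Pq ^ m) := fun m => by
    rw [← cEP.mul_pow]
    induction m with
    | zero => rw [pow_zero, pow_zero, mat_one]
    | succ m ih => rw [pow_succ, ih, ← mat_mul, ← pow_succ]
  rw [hpow] at hcase
  rcases hn with rfl | rfl
  · -- the square of the part of order three
    rw [hP2, mul_one] at hcase
    rcases hcase with h0 | h0
    · have hE1 : E = 1 := by
        have e2 : E ^ 2 = 1 := mat_ext Q (h0.trans (mat_one (Q := Q)).symm)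
        calc E = E ^ 3 * (E ^ 2)⁻¹ := by group
          _ = 1 := by rw [hE3, e2, inv_one, mul_one]
      rw [hE, mul_eq_one_iff_eq_inv, inv_eq_of_mul_eq_one_right hBB] at hE1
      have h1 := congrArg (fun t => mat Q t *ᵥ (r₂ + p₂)) hE1
      simp only [hB, hB', mat_reflIso, Spinor.reflectionMatrix_mulVec] at h1
      have e2 : (Q r₂)⁻¹ * (2 * Q r₂) = 2 := by field_simp
      have b1 : QuadraticMap.polar (⇑Q) (r₂ + p₂) (r₂ + p₂) = 2 * Q r₂ := by rw [polar_self', qB]
      have b2 : QuadraticMap.polar (⇑Q) (r₂ - p₂) (r₂ + p₂) = 2 * Q r₂ := by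
        simp [QuadraticMap.polar_sub_left, QuadraticMap.polar_add_right, polar_self', qp₂, o22, s22]
      rw [refl_apply, refl_apply, qB, qB', b1, b2, e2] at h1
      have : ((2 : ZMod 3) * 2) • p₂ = 0 := by linear_combination (norm := module) h1
      exact hp20 ((smul_eq_zero.1 this).resolve_left (by decide))
    · have e1 := congrArg (fun t => t *ᵥ p₁) h0
      simp only [neg_mulVec, one_mulVec, pow_two, mat_mul, ← mulVec_mulVec, eE] at e1
      exact hne p₁ qp₁ e1.symm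
  · rw [hE3, one_mul, pow_succ, hP2, one_mul] at hcase
    rcases hcase with h0 | h0
    · have e1 := congrArg (fun t => t *ᵥ p₁) h0
      simp only [one_mulVec, eP.1] at e1
      exact hne p₁ qp₁ e1
    · have e1 := congrArg (fun t => t *ᵥ p₂) h0
      simp only [neg_mulVec, one_mulVec, eP.2] at e1
      exact hp20 ((smul_eq_zero.1 (show (2 : ZMod 3) • p₂ = 0 by linear_combination (norm := module) e1)).resolve_left h2)

/-- Nonzero complement of a vector in a nondegenerate subspace contains an anisotropic one. -/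
theorem exists_anisotropic_perp {R : Submodule (ZMod 3) V}
    (hsR : ∀ u : R, (∀ y : R, QuadraticMap.polar (⇑(Q.comp R.subtype)) u y = 0) → u = 0)
    (hdR : 2 ≤ finrank (ZMod 3) R) {w : V} (hw : w ∈ R) (hwc : Q w = c) :
    ∃ z ∈ R, QuadraticMap.polar (⇑Q) w z = 0 ∧ Q z ≠ 0 := by
  by_contra hall
  push Not at hall
  have hsep := sep_perpSub (Q.comp R.subtype) hsR ![⟨w, hw⟩] (by
    simp [polar_self', hwc, mul_ne_zero two_ne_zero_zmod_three hc])
  have h0 : ∀ z : perpSub (Q.comp R.subtype) ![⟨w, hw⟩], Q ((z : R) : V) = 0 := fun z =>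
    hall _ (z : R).2 (mem_perpSub.1 z.2 0)
  have hz0 : ∀ z : perpSub (Q.comp R.subtype) ![⟨w, hw⟩], z = 0 := fun z => hsep z fun y => by
    show Q ((((z + y : perpSub (Q.comp R.subtype) ![⟨w, hw⟩])) : R) : V) - Q ((z : R) : V) - Q ((y : R) : V) = 0
    rw [h0, h0, h0, sub_zero, sub_zero]
  have h1 : finrank (ZMod 3) (perpSub (Q.comp R.subtype) ![⟨w, hw⟩]) = 0 :=
    Submodule.finrank_eq_zero.2 ((Submodule.eq_bot_iff _).2 fun x hx => congrArg Subtype.val (hz0 ⟨x, hx⟩))
  have := le_finrank_perpSub (Q.comp R.subtype) ![(⟨w, hw⟩ : R)]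
  omega

/-- An isotropic vector in a large nondegenerate subspace orthogonal to an anisotropic one. -/
theorem exists_isotropic_perp {P : Submodule (ZMod 3) V}
    (hsP : ∀ u : P, (∀ y : P, QuadraticMap.polar (⇑(Q.comp P.subtype)) u y = 0) → u = 0)
    (hdP : 4 ≤ finrank (ZMod 3) P) {w : V} (hw : w ∈ P) (hwc : Q w = c) :
    ∃ z ∈ P, z ≠ 0 ∧ Q z = 0 ∧ QuadraticMap.polar (⇑Q) w z = 0 := by
  let QP : QuadraticForm (ZMod 3) P := Q.comp P.subtype
  have hsep := sep_perpSub QP hsP ![⟨w, hw⟩] (by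
    simp [QP, polar_self', hwc, mul_ne_zero two_ne_zero_zmod_three hc])
  have hd : 3 ≤ finrank (ZMod 3) (perpSub QP ![(⟨w, hw⟩ : P)]) := by
    have := le_finrank_perpSub QP ![(⟨w, hw⟩ : P)]
    omega
  obtain ⟨z, hz0, hz⟩ := exists_quad_isotropic (V := ↥(perpSub QP ![(⟨w, hw⟩ : P)])) two_ne_zero_zmod_three
    (QP.comp (perpSub QP ![(⟨w, hw⟩ : P)]).subtype) hsep hd
  exact ⟨((z : P) : V), (z : P).2, fun he => hz0 (Subtype.ext (Subtype.ext he)), hz, mem_perpSub.1 z.2 0⟩

/-- The involutions whose classes behave like 3-transpositions are the reflections. -/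
theorem exists_refl_of_three {g : ↥(isometryGroup (ZMod 3) ⇑Q)} (hg : g * g = 1) (hg1 : mat Q g ≠ 1)
    (hg2 : mat Q g ≠ -1)
    (h3 : ∀ k ∈ reflectionSubgroup (⇑Q) c, ∃ n : ℕ, (n = 2 ∨ n = 3) ∧
      (mat Q (g * (k * g * k⁻¹)) ^ n = 1 ∨ mat Q (g * (k * g * k⁻¹)) ^ n = -1)) :
    ∃ v, ∃ hv : Q v ≠ 0, mat Q g = reflectionMatrix (⇑Q) v ∨ mat Q g = -reflectionMatrix (⇑Q) v := by
  classical
  have h2 := two_ne_zero_zmod_three
  set M := mat Q g with hMdef
  have hM2 : M * M = 1 := by rw [hMdef, ← mat_mul, hg, mat_one]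
  have hMM : ∀ x, M *ᵥ (M *ᵥ x) = x := fun x => by rw [mulVec_mulVec, hM2, one_mulVec]
  have hpol : ∀ x y, QuadraticMap.polar (⇑Q) (M *ᵥ x) (M *ᵥ y) = QuadraticMap.polar (⇑Q) x y :=
    polar_mulVec Q g
  set U : Submodule (ZMod 3) V := LinearMap.ker (toLin' M + LinearMap.id) with hU
  set W : Submodule (ZMod 3) V := LinearMap.ker (toLin' M - LinearMap.id) with hW
  have hmU : ∀ {x}, x ∈ U ↔ M *ᵥ x = -x := fun {x} => by
    simp [hU, eq_neg_iff_add_eq_zero]
  have hmW : ∀ {x}, x ∈ W ↔ M *ᵥ x = x := fun {x} => by simp [hW, sub_eq_zero]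
  have hdec : ∀ x, ∃ u ∈ U, ∃ w ∈ W, x = u + w := fun x => by
    refine ⟨(2 : ZMod 3) • (x - M *ᵥ x), hmU.2 ?_, (2 : ZMod 3) • (x + M *ᵥ x), hmW.2 ?_, ?_⟩
    · rw [mulVec_smul, mulVec_sub, hMM]; module
    · rw [mulVec_smul, mulVec_add, hMM]; module
    · have : (2 : ZMod 3) * 2 = 1 := by decide
      linear_combination (norm := module) -(congrArg (fun t : ZMod 3 => t • x) this)
  have horth : ∀ {u w}, u ∈ U → w ∈ W → QuadraticMap.polar (⇑Q) u w = 0 := fun {u w} hu hw => by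
    have h1 := hpol u w
    rw [hmU.1 hu, hmW.1 hw, QuadraticMap.polar_neg_left] at h1
    have key : ∀ a : ZMod 3, -a = a → a = 0 := by decide
    exact key _ h1
  have hsepU : ∀ u : U, (∀ y : U, QuadraticMap.polar (⇑(Q.comp U.subtype)) u y = 0) → u = 0 := fun u hu => by
    refine Subtype.ext (hQ.1 _ fun y => ?_)
    obtain ⟨a, ha, b, hb, rfl⟩ := hdec y
    rw [QuadraticMap.polarBilin_apply_apply, QuadraticMap.polar_add_right, horth u.2 hb, add_zero]
    simpa [QuadraticMap.polar] using hu ⟨a, ha⟩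
  have hsepW : ∀ w : W, (∀ y : W, QuadraticMap.polar (⇑(Q.comp W.subtype)) w y = 0) → w = 0 := fun w hw => by
    refine Subtype.ext (hQ.1 _ fun y => ?_)
    obtain ⟨a, ha, b, hb, rfl⟩ := hdec y
    rw [QuadraticMap.polarBilin_apply_apply, QuadraticMap.polar_add_right, QuadraticMap.polar_comm (⇑Q) _ a,
      horth ha w.2, zero_add]
    simpa [QuadraticMap.polar] using hw ⟨b, hb⟩
  have hsum : finrank (ZMod 3) U + finrank (ZMod 3) W = 7 := by
    have hinf : U ⊓ W = ⊥ := by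
      rw [Submodule.eq_bot_iff]
      intro x hx
      have h1 := hmU.1 hx.1
      rw [hmW.1 hx.2] at h1
      exact (smul_eq_zero.1 (show (2 : ZMod 3) • x = 0 by linear_combination (norm := module) h1)).resolve_left h2
    have hsup : U ⊔ W = ⊤ := by
      rw [eq_top_iff]
      intro x _
      obtain ⟨u, hu, w, hw, rfl⟩ := hdec x
      exact Submodule.add_mem_sup hu hw
    have := Submodule.finrank_sup_add_finrank_inf_eq U W
    rw [hinf, hsup, finrank_top, finrank_bot, add_zero, finrank_fun_zmod, Fintype.card_fin] at this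
    omega
  -- a one-dimensional eigenspace gives a reflection
  have hrefl : ∀ (N : Matrix (Fin 7) (Fin 7) (ZMod 3)) (P R : Submodule (ZMod 3) V),
      (∀ x ∈ P, N *ᵥ x = -x) → (∀ x ∈ R, N *ᵥ x = x) → (∀ x, ∃ p ∈ P, ∃ r ∈ R, x = p + r) →
      (∀ p ∈ P, ∀ r ∈ R, QuadraticMap.polar (⇑Q) p r = 0) → finrank (ZMod 3) P = 1 →
      ∃ v, Q v ≠ 0 ∧ N = reflectionMatrix (⇑Q) v := by
    intro N P R hP hR hd ho h1
    obtain ⟨⟨v, hvP⟩, hv0, hspan⟩ := finrank_eq_one_iff'.1 h1
    have hsp : ∀ p ∈ P, ∃ a : ZMod 3, p = a • v := fun p hp => by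
      obtain ⟨a, ha⟩ := hspan ⟨p, hp⟩
      exact ⟨a, (congrArg Subtype.val ha).symm⟩
    have hv : Q v ≠ 0 := fun h0 => hv0 (Subtype.ext (hQ.1 _ fun y => by
      obtain ⟨p, hp, r, hr, rfl⟩ := hd y
      obtain ⟨a, rfl⟩ := hsp p hp
      rw [QuadraticMap.polarBilin_apply_apply, QuadraticMap.polar_add_right, ho v hvP r hr,
        QuadraticMap.polar_smul_right, polar_self', h0, mul_zero, smul_zero, add_zero]))
    refine ⟨v, hv, Matrix.ext_iff_mulVec.2 fun x => ?_⟩
    obtain ⟨p, hp, r, hr, rfl⟩ := hd x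
    obtain ⟨a, rfl⟩ := hsp p hp
    rw [mulVec_add, hP _ hp, hR _ hr, Spinor.reflectionMatrix_mulVec, refl_apply,
      QuadraticMap.polar_add_right, ho v hvP r hr, QuadraticMap.polar_smul_right, polar_self', add_zero,
      smul_eq_mul, show (Q v)⁻¹ * (a * (2 * Q v)) = a * 2 by field_simp]
    module
  by_cases hU0 : finrank (ZMod 3) U = 0
  · refine absurd (Matrix.ext_iff_mulVec.2 fun x => ?_) hg1
    obtain ⟨u, hu, w, hw, rfl⟩ := hdec x
    rw [Submodule.finrank_eq_zero.1 hU0] at hu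
    rw [(Submodule.mem_bot _).1 hu, zero_add, hmW.1 hw, one_mulVec]
  by_cases hW0 : finrank (ZMod 3) W = 0
  · refine absurd (Matrix.ext_iff_mulVec.2 fun x => ?_) hg2
    obtain ⟨u, hu, w, hw, rfl⟩ := hdec x
    rw [Submodule.finrank_eq_zero.1 hW0] at hw
    rw [(Submodule.mem_bot _).1 hw, add_zero, hmU.1 hu, neg_mulVec, one_mulVec]
  by_cases hU1 : finrank (ZMod 3) U = 1
  · obtain ⟨v, hv, he⟩ := hrefl M U W (fun x hx => hmU.1 hx) (fun x hx => hmW.1 hx) hdec
      (fun p hp r hr => horth hp hr) hU1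
    exact ⟨v, hv, Or.inl he⟩
  by_cases hW1 : finrank (ZMod 3) W = 1
  · obtain ⟨v, hv, he⟩ := hrefl (-M) W U (fun x hx => by rw [neg_mulVec, hmW.1 hx])
      (fun x hx => by rw [neg_mulVec, hmU.1 hx, neg_neg])
      (fun x => by obtain ⟨u, hu, w, hw, rfl⟩ := hdec x; exact ⟨w, hw, u, hu, add_comm u w⟩)
      (fun p hp r hr => by rw [QuadraticMap.polar_comm]; exact horth hr hp) hW1
    exact ⟨v, hv, Or.inr (by rw [← he, neg_neg])⟩
  exfalso
  -- the two eigenspaces, the larger first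
  obtain ⟨P, R, ε, hε, hdP, hdR, hP, hR, hoPR, hsP, hsR⟩ : ∃ (P R : Submodule (ZMod 3) V) (ε : ZMod 3),
      ε * ε = 1 ∧ 4 ≤ finrank (ZMod 3) P ∧ 2 ≤ finrank (ZMod 3) R ∧ (∀ x ∈ P, M *ᵥ x = -ε • x) ∧
        (∀ x ∈ R, M *ᵥ x = ε • x) ∧ (∀ p ∈ P, ∀ r ∈ R, QuadraticMap.polar (⇑Q) p r = 0) ∧
        (∀ u : P, (∀ y : P, QuadraticMap.polar (⇑(Q.comp P.subtype)) u y = 0) → u = 0) ∧
        (∀ u : R, (∀ y : R, QuadraticMap.polar (⇑(Q.comp R.subtype)) u y = 0) → u = 0) := by
    by_cases hU4 : 4 ≤ finrank (ZMod 3) U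
    · exact ⟨U, W, 1, one_mul 1, hU4, by omega, fun x hx => by rw [hmU.1 hx, neg_one_smul],
        fun x hx => by rw [hmW.1 hx, one_smul], fun p hp r hr => horth hp hr, hsepU, hsepW⟩
    · exact ⟨W, U, -1, by ring, by omega, by omega, fun x hx => by rw [hmW.1 hx, neg_neg, one_smul],
        fun x hx => by rw [hmU.1 hx, neg_one_smul],
        fun p hp r hr => by rw [QuadraticMap.polar_comm]; exact horth hr hp, hsepW, hsepU⟩
  obtain ⟨w₁, hw₁⟩ := exists_quad_value h2 (Q.comp R.subtype) hsR hdR c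
  obtain ⟨r₂, hr₂R, orr, qr₂⟩ := exists_anisotropic_perp hQ hc hμ hsR hdR w₁.2 hw₁
  obtain ⟨u₁, hu₁⟩ := exists_quad_value h2 (Q.comp P.subtype) hsP (by omega) c
  obtain ⟨p₂, hp₂P, hp₂0, hu₂, h12⟩ := exists_isotropic_perp hQ hc hμ hsP hdP u₁.2 hu₁
  obtain ⟨u₀, hu₀⟩ := exists_quad_value h2 (Q.comp P.subtype) hsP (by omega) (2 * c)
  exact false_of_vectors hQ hc hμ hg hε (p₁ := (u₁ : V)) (p₂ := p₂) hu₁ hu₂
    hp₂0 (r₁ := (w₁ : V)) hw₁ qr₂ (u₀ := (u₀ : V)) hu₀
    (hP _ u₁.2) (hP _ hp₂P) (hP _ u₀.2) (hR _ w₁.2) (hR _ hr₂R) h12 orr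
    (hoPR _ u₁.2 _ w₁.2) (hoPR _ u₁.2 _ hr₂R) (hoPR _ hp₂P _ w₁.2) (hoPR _ hp₂P _ hr₂R) h3

end CfsgLib.Transpositions.OrthSeven
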