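import Cfsg.Agent.Transpositions.OrthSevenClosureData

/-!
# Eight vectors generating the seven-dimensional orthogonal group over the field with three elements

The form is the sum of the squares. The eight vectors have norm one and are orthogonal as the graph
`a - b - c - d - e - f`, `d - h - i` says; their reflections move each vector of norm one to one of the eight.
-/

set_option autoImplicit false
set_option maxRecDepth 100000

namespace CfsgLib.Transpositions.OrthSeven

open Matrix

/-- The vector of a code. -/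
def vec (k : ℕ) : Fin 7 → ZMod 3 := fun i => ((k / 3 ^ (i : ℕ) % 3 : ℕ) : ZMod 3)

/-- A digit. -/
def dig (k i : ℕ) : ℕ := k / 3 ^ i % 3

/-- The code of the opposite vector. -/
def negCode (k : ℕ) : ℕ :=
  (3 - dig k 0) % 3 + (3 - dig k 1) % 3 * 3 + (3 - dig k 2) % 3 * 9 + (3 - dig k 3) % 3 * 27 +
    (3 - dig k 4) % 3 * 81 + (3 - dig k 5) % 3 * 243 + (3 - dig k 6) % 3 * 729

/-- The scalar product of two codes. -/
def dotCode (p q : ℕ) : ℕ :=
  (dig p 0 * dig q 0 + dig p 1 * dig q 1 + dig p 2 * dig q 2 + dig p 3 * dig q 3 + dig p 4 * dig q 4 +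
    dig p 5 * dig q 5 + dig p 6 * dig q 6) % 3

theorem vec_apply (k : ℕ) (i : Fin 7) : vec k i = ((dig k i : ℕ) : ZMod 3) := rfl

theorem dot_vec (p q : ℕ) : vec p ⬝ᵥ vec q = ((dotCode p q : ℕ) : ZMod 3) := by
  simp only [dotCode, ZMod.natCast_mod, Nat.cast_add, Nat.cast_mul, dotProduct, vec_apply, Fin.sum_univ_succ,
    Fin.val_zero, Fin.val_succ, Finset.univ_eq_empty, Finset.sum_empty]
  ring

theorem vec_negCode (k : ℕ) : vec (negCode k) = -vec k := by
  funext i
  rw [Pi.neg_apply, vec_apply, vec_apply, eq_neg_iff_add_eq_zero, ← Nat.cast_add,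
    ZMod.natCast_eq_zero_iff]
  fin_cases i <;> simp only [negCode, dig] <;> omega

theorem exists_code (v : Fin 7 → ZMod 3) : ∃ k < 2187, vec k = v := by
  refine ⟨(v 0).val + (v 1).val * 3 + (v 2).val * 9 + (v 3).val * 27 + (v 4).val * 81 + (v 5).val * 243 +
    (v 6).val * 729, ?_, ?_⟩
  · have h := fun i => (v i).val_lt
    have := h 0; have := h 1; have := h 2; have := h 3; have := h 4; have := h 5; have := h 6
    omega
  · funext i
    have h := fun j => (v j).val_lt
    have := h 0; have := h 1; have := h 2; have := h 3; have := h 4; have := h 5; have := h 6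
    conv_rhs => rw [← ZMod.natCast_zmod_val (v i)]
    rw [vec_apply]
    congr 1
    fin_cases i <;> simp only [dig] <;> simp <;> omega

/-- An entry of a closure list is right. -/
def okEntry (g : List ℕ) (done : List ℕ) (e : ℕ × ℕ × ℕ) : Bool :=
  done.contains e.2.1 && decide (e.2.2 < g.length) &&
    (List.range 7).all fun i =>
      (dig e.2.1 i + dotCode (g.getD e.2.2 0) e.2.1 * dig (g.getD e.2.2 0) i) % 3 == dig e.1 i

/-- A closure list is right. -/
def okList (g : List ℕ) : List ℕ → List (ℕ × ℕ × ℕ) → Bool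
  | _, [] => true
  | done, e :: r => okEntry g done e && okList g (e.1 :: done) r

/-- Every vector of norm one or its opposite occurs. -/
def covers (L : List ℕ) : Bool :=
  (List.range 2187).all fun k => !(dotCode k k == 1) || L.contains k || L.contains (negCode k)

theorem vec_step {g : List ℕ} {done : List ℕ} {e : ℕ × ℕ × ℕ} (h : okEntry g done e = true) :
    e.2.1 ∈ done ∧ e.2.2 < g.length ∧
      vec e.1 = vec e.2.1 + (vec (g.getD e.2.2 0) ⬝ᵥ vec e.2.1) • vec (g.getD e.2.2 0) := by
  simp only [okEntry, Bool.and_eq_true, List.contains_iff_mem, decide_eq_true_eq, List.all_eq_true,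
    beq_iff_eq] at h
  refine ⟨h.1.1, h.1.2, funext fun i => ?_⟩
  have := h.2 i (List.mem_range.2 i.2)
  rw [Pi.add_apply, Pi.smul_apply, smul_eq_mul, dot_vec, vec_apply, vec_apply, vec_apply, ← this,
    ZMod.natCast_mod, Nat.cast_add, Nat.cast_mul]

/-- A property closed under the eight reflections holds for every vector of norm one. -/
theorem all_of_closed {P : (Fin 7 → ZMod 3) → Prop} {g : List ℕ} {ops : List (ℕ × ℕ × ℕ)}
    (hg : ∀ s ∈ g, dotCode s s = 1) (hops : okList g g ops = true) (hcov : covers (g ++ ops.map Prod.fst) = true)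
    (hbase : ∀ s ∈ g, P (vec s))
    (hstep : ∀ s ∈ g, ∀ w, w ⬝ᵥ w = 1 → P w → P (w + (vec s ⬝ᵥ w) • vec s))
    (hneg : ∀ w, w ⬝ᵥ w = 1 → P w → P (-w)) :
    ∀ v : Fin 7 → ZMod 3, v ⬝ᵥ v = 1 → P v := by
  have key : ∀ (r : List (ℕ × ℕ × ℕ)) (done : List ℕ), okList g done r = true →
      (∀ k ∈ done, vec k ⬝ᵥ vec k = 1 ∧ P (vec k)) → ∀ k ∈ r.map Prod.fst, vec k ⬝ᵥ vec k = 1 ∧ P (vec k) := by
    intro r
    induction r with
    | nil => simp
    | cons e r ih =>
      intro done hok hdone k hk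
      simp only [okList, Bool.and_eq_true] at hok
      obtain ⟨hp, hs, he⟩ := vec_step hok.1
      obtain ⟨hn, hP⟩ := hdone _ hp
      have hsg : g.getD e.2.2 0 ∈ g := by rw [List.getD_eq_getElem _ _ hs]; exact List.getElem_mem hs
      have h1 : vec e.1 ⬝ᵥ vec e.1 = 1 ∧ P (vec e.1) := by
        rw [he]
        refine ⟨?_, hstep _ hsg _ hn hP⟩
        have hg1 : vec (g.getD e.2.2 0) ⬝ᵥ vec (g.getD e.2.2 0) = 1 := by rw [dot_vec, hg _ hsg, Nat.cast_one]
        simp only [add_dotProduct, dotProduct_add, smul_dotProduct, dotProduct_smul, smul_eq_mul, hn, hg1,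
          dotProduct_comm (vec e.2.1) (vec (g.getD e.2.2 0))]
        generalize vec (g.getD e.2.2 0) ⬝ᵥ vec e.2.1 = a
        revert a; decide
      rcases List.mem_cons.1 hk with rfl | hk
      · exact h1
      · exact ih _ hok.2 (fun j hj => (List.mem_cons.1 hj).elim (fun h => h ▸ h1) (hdone j)) k hk
  have hall : ∀ k ∈ g ++ ops.map Prod.fst, vec k ⬝ᵥ vec k = 1 ∧ P (vec k) := fun k hk => by
    have hb : ∀ j ∈ g, vec j ⬝ᵥ vec j = 1 ∧ P (vec j) := fun j hj =>
      ⟨by rw [dot_vec, hg _ hj, Nat.cast_one], hbase j hj⟩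
    rcases List.mem_append.1 hk with hk | hk
    exacts [hb k hk, key ops g hops hb k hk]
  intro v hv
  obtain ⟨k, hk, rfl⟩ := exists_code v
  have := List.all_eq_true.1 hcov k (List.mem_range.2 hk)
  simp only [Bool.or_eq_true, Bool.not_eq_eq_eq_not, Bool.not_true, beq_eq_false_iff_ne,
    List.contains_iff_mem] at this
  rcases this with (h | h) | h
  · exfalso
    apply h
    rw [dot_vec] at hv
    have hlt : dotCode k k < 3 := Nat.mod_lt _ (by norm_num)
    have := congrArg ZMod.val hv
    rwa [ZMod.val_natCast, Nat.mod_eq_of_lt hlt, ZMod.val_one] at this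
  · exact (hall k h).2
  · obtain ⟨hn, hP⟩ := hall _ h
    have := hneg _ hn hP
    rwa [vec_negCode, neg_neg] at this

namespace Closure

theorem ops0_ok : okList gens0 gens0 ops0 = true := by decide +kernel

theorem ops0_covers : covers (gens0 ++ ops0.map Prod.fst) = true := by decide +kernel

theorem ops1_ok : okList gens1 gens1 ops1 = true := by decide +kernel

theorem ops1_covers : covers (gens1 ++ ops1.map Prod.fst) = true := by decide +kernel

theorem gens_norm : (∀ s ∈ gens0, dotCode s s = 1) ∧ ∀ s ∈ gens1, dotCode s s = 1 := by decide +kernel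

end Closure

/-- The codes of `a, b, c, d, e, f, h, i`. -/
def eight : Fin 8 → ℕ := ![729, 1080, 243, 360, 201, 3, 199, 1]

/-- The edges among the eight. -/
def eightAdj (j k : Fin 8) : Bool :=
  [(0, 1), (1, 2), (2, 3), (3, 4), (4, 5), (3, 6), (6, 7)].any fun e : Fin 8 × Fin 8 =>
    (e.1 == j && e.2 == k) || (e.1 == k && e.2 == j)

theorem eight_dot : ∀ j k : Fin 8, dotCode (eight j) (eight k) = if j = k ∨ eightAdj j k then 1 else 0 := by
  decide +kernel

/-- The vectors which can take the place of `c`. -/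
theorem eight_cand {v : Fin 7 → ZMod 3} (hv : v ⬝ᵥ v = 1) (ha : vec (eight 0) ⬝ᵥ v = 0)
    (he : vec (eight 4) ⬝ᵥ v = 0) (hf : vec (eight 5) ⬝ᵥ v = 0) (hh : vec (eight 6) ⬝ᵥ v = 0)
    (hi : vec (eight 7) ⬝ᵥ v = 0) (hb : vec (eight 1) ⬝ᵥ v ≠ 0) (hd : vec (eight 3) ⬝ᵥ v ≠ 0) :
    (v = vec 243 ∨ v = -vec 243) ∨ (v = vec 441 ∨ v = -vec 441) := by
  have c0 : ∀ i, vec (eight 0) i = if i = 6 then 1 else 0 := by decide +kernel
  have c5 : ∀ i, vec (eight 5) i = if i = 1 then 1 else 0 := by decide +kernel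
  have c7 : ∀ i, vec (eight 7) i = if i = 0 then 1 else 0 := by decide +kernel
  have v6 : v 6 = 0 := by simpa [dotProduct, c0] using ha
  have v1 : v 1 = 0 := by simpa [dotProduct, c5] using hf
  have v0 : v 0 = 0 := by simpa [dotProduct, c7] using hi
  obtain ⟨p, q, r, s, rfl⟩ : ∃ p q r s, v = ![0, 0, p, q, r, s, 0] := by
    refine ⟨v 2, v 3, v 4, v 5, funext fun i => ?_⟩
    fin_cases i <;> simp [v0, v1, v6]
  clear c0 c5 c7 v6 v1 v0 ha hf hi
  revert hv he hh hb hd
  revert p q r s
  decide +kernel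

end CfsgLib.Transpositions.OrthSeven
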