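import Cfsg.Agent.Transpositions.OrthSevenInvolutions
import Cfsg.Agent.Transpositions.TypeM23Structure
import Cfsg.Agent.Forms.OrthDet

/-!
# The common neighbours of two non-commuting members in type M(23)

They correspond to the vectors of norm one, up to sign, in the seven-dimensional space over the field with
three elements with the sum of the squares as form: two commute when orthogonal.
-/

set_option autoImplicit false
set_option linter.unusedSectionVars false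

namespace CfsgLib.Transpositions.M23Unique

open Cfsg CfsgLib.FischerTypes Matrix CfsgLib.Spinor
open CfsgLib.Transpositions.OrthSeven (V)

variable {G : Type*} [Group G] {D : Set G}

/-- A model of the common neighbours of `x` and `y`. -/
structure PairModel (D : Set G) (x y : G) where
  /-- the member of a vector -/
  φ : V → G
  mem : ∀ v, v ⬝ᵥ v = 1 → φ v ∈ FischerTypes.perp D x ∩ FischerTypes.perp D y
  surj : ∀ u ∈ FischerTypes.perp D x ∩ FischerTypes.perp D y, ∃ v, v ⬝ᵥ v = 1 ∧ φ v = u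
  eq_iff : ∀ v w, v ⬝ᵥ v = 1 → w ⬝ᵥ w = 1 → (φ v = φ w ↔ w = v ∨ w = -v)
  commute : ∀ v w, v ⬝ᵥ v = 1 → w ⬝ᵥ w = 1 → (Commute (φ v) (φ w) ↔ v ⬝ᵥ w = 0 ∨ w = v ∨ w = -v)
  conj : ∀ v w, v ⬝ᵥ v = 1 → w ⬝ᵥ w = 1 → φ v * φ w * φ v = φ (w + (v ⬝ᵥ w) • v)
  centralizer : Subgroup.closure (FischerTypes.perp D x ∩ FischerTypes.perp D y) =
    Subgroup.centralizer ({x, y} : Set G)

theorem PairModel.dot_eq_zero {x y : G} (M : PairModel D x y) {v w : V} (hv : v ⬝ᵥ v = 1)
    (hw : w ⬝ᵥ w = 1) (hc : Commute (M.φ v) (M.φ w)) (hne : M.φ v ≠ M.φ w) : v ⬝ᵥ w = 0 :=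
  ((M.commute v w hv hw).1 hc).resolve_right fun he => hne ((M.eq_iff v w hv hw).2 he)

theorem PairModel.dot_ne_zero {x y : G} (M : PairModel D x y) {v w : V} (hv : v ⬝ᵥ v = 1)
    (hw : w ⬝ᵥ w = 1) (hc : ¬ Commute (M.φ v) (M.φ w)) : v ⬝ᵥ w ≠ 0 := fun h =>
  hc ((M.commute v w hv hw).2 (Or.inl h))

theorem PairModel.exists_rep {x y : G} (M : PairModel D x y) :
    ∃ v : G → V, ∀ u ∈ FischerTypes.perp D x ∩ FischerTypes.perp D y, v u ⬝ᵥ v u = 1 ∧ M.φ (v u) = u := by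
  classical
  exact ⟨fun u => if h : u ∈ FischerTypes.perp D x ∩ FischerTypes.perp D y then (M.surj u h).choose else 0,
    fun u hu => by simpa only [dif_pos hu] using (M.surj u hu).choose_spec⟩

theorem mat_pow {Q : QuadraticForm (ZMod 3) V} (g : ↥(isometryGroup (ZMod 3) ⇑Q)) (n : ℕ) :
    mat Q (g ^ n) = mat Q g ^ n := by
  induction n with
  | zero => rw [pow_zero, pow_zero, mat_one]
  | succ n ih => rw [pow_succ, pow_succ, mat_mul, ih]

variable [Finite G] (H : M23.Hyp G D)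

include H

/-- The group generated by the common neighbours is the reflection group modulo its centre. -/
theorem exists_equiv_pair {x y : G} (hx : x ∈ D) (hy : y ∈ D) (hxy : ¬ Commute x y) :
    Subgroup.closure (FischerTypes.perp D x ∩ FischerTypes.perp D y) = Subgroup.centralizer ({x, y} : Set G) ∧
    ∃ (Q : QuadraticForm (ZMod 3) V) (c : ZMod 3), c ≠ 0 ∧ (QuadraticMap.polarBilin Q).Nondegenerate ∧
      polarGramDet (⇑Q) = -c ∧ (∃ z ∈ Subgroup.center ↥(reflectionSubgroup (⇑Q) c),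
        mat Q (z : ↥(isometryGroup (ZMod 3) ⇑Q)) = -1) ∧
      ∃ π : ↥(reflectionSubgroup (⇑Q) c) →* G,
        π.range = Subgroup.closure (FischerTypes.perp D x ∩ FischerTypes.perp D y) ∧
        π.ker = Subgroup.center ↥(reflectionSubgroup (⇑Q) c) := by
  classical
  obtain ⟨-, d₀, hd₀, c₀, hc₀, hdc₀, -, c, hc, hL⟩ := id H.type
  obtain ⟨Q, hQ, hμ, ⟨f⟩⟩ := hL
  obtain ⟨g, g1, g2⟩ := M23.exists_conj_noncommute H hd₀ hc₀ hdc₀ hx hy hxy
  have hle : ∀ a b : G, Subgroup.closure (FischerTypes.perp D a ∩ FischerTypes.perp D b) ≤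
      Subgroup.centralizer ({a, b} : Set G) := fun a b => by
    rw [Subgroup.closure_le]
    intro z hz
    rw [SetLike.mem_coe, Subgroup.mem_centralizer_iff]
    rintro w (rfl | rfl)
    exacts [hz.1.2.2.eq, hz.2.2.2.eq]
  set L := Subgroup.closure (FischerTypes.perp D d₀ ∩ FischerTypes.perp D c₀) with hL0
  have hC := (TypeM23.mu_props H hd₀ hc₀ hdc₀).2.2
  have hR := OrthSeven.card_R hQ hc hμ
  have hZR := OrthSeven.card_center_le hQ hc hμ
  have h1 : Nat.card L ≤ 4585351680 := hC ▸ Subgroup.card_le_of_le (hle d₀ c₀)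
  have h2 : Nat.card L = Nat.card (↥L ⧸ Subgroup.center ↥L) * Nat.card (Subgroup.center ↥L) :=
    Subgroup.card_eq_card_quotient_mul_card_subgroup _
  have h3 : Nat.card ↥(reflectionSubgroup (⇑Q) c) =
      Nat.card (↥L ⧸ Subgroup.center ↥L) * Nat.card (Subgroup.center ↥(reflectionSubgroup (⇑Q) c)) := by
    have e : Nat.card (↥L ⧸ Subgroup.center ↥L) =
        Nat.card (↥(reflectionSubgroup (⇑Q) c) ⧸ Subgroup.center ↥(reflectionSubgroup (⇑Q) c)) :=
      Nat.card_congr f.toEquiv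
    rw [e, ← Subgroup.card_eq_card_quotient_mul_card_subgroup]
  have hZL : 0 < Nat.card (Subgroup.center ↥L) := Nat.card_pos
  have hZ : Nat.card (Subgroup.center ↥(reflectionSubgroup (⇑Q) c)) = 2 ∧ Nat.card L = 4585351680 ∧
      Nat.card (Subgroup.center ↥L) = 1 := by
    rw [hR] at h3
    have h4 : 2 * Nat.card (↥L ⧸ Subgroup.center ↥L) ≥ 9170703360 := by
      rw [h3, mul_comm 2]; exact Nat.mul_le_mul_left _ hZR
    have h5 : Nat.card (↥L ⧸ Subgroup.center ↥L) * 1 ≤ Nat.card L := h2 ▸ Nat.mul_le_mul_left _ hZL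
    have h6 : Nat.card (↥L ⧸ Subgroup.center ↥L) = 4585351680 := by omega
    rw [h6] at h2 h3
    exact ⟨by omega, by omega, by omega⟩
  have hmap : L.map (MulAut.conj g).toMonoidHom =
      Subgroup.closure (FischerTypes.perp D x ∩ FischerTypes.perp D y) := by
    rw [hL0, MonoidHom.map_closure]
    congr 1
    have cj : ∀ (g : G) {u v : G}, v ∈ FischerTypes.perp D u → g * v * g⁻¹ ∈ FischerTypes.perp D (g * u * g⁻¹) :=
      fun g u v hv => ⟨H.group.2.1 g v hv.1, fun he => hv.2.1 (mul_left_cancel (mul_right_cancel he)),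
        (commute_conj_iff' g _ _).2 hv.2.2⟩
    ext z
    simp only [Set.mem_image, MulEquiv.coe_toMonoidHom, MulAut.conj_apply]
    constructor
    · rintro ⟨u, ⟨u1, u2⟩, rfl⟩
      exact ⟨g1 ▸ cj g u1, g2 ▸ cj g u2⟩
    · rintro ⟨z1, z2⟩
      have e1 := cj g⁻¹ z1
      have e2 := cj g⁻¹ z2
      rw [← g1, show g⁻¹ * (g * d₀ * g⁻¹) * g⁻¹⁻¹ = d₀ by group] at e1
      rw [← g2, show g⁻¹ * (g * c₀ * g⁻¹) * g⁻¹⁻¹ = c₀ by group] at e2
      exact ⟨_, ⟨e1, e2⟩, by group⟩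
  let e : ↥L ≃* ↥(Subgroup.closure (FischerTypes.perp D x ∩ FischerTypes.perp D y)) :=
    (MulEquiv.subgroupMap (MulAut.conj g) L).trans (MulEquiv.subgroupCongr hmap)
  let E := ((e.symm.trans QuotientGroup.quotientBot.symm).trans
    (QuotientGroup.quotientMulEquivOfEq (Subgroup.card_eq_one.1 hZ.2.2).symm)).trans f
  refine ⟨Subgroup.eq_of_le_of_card_ge (hle x y) ?_, Q, c, hc, hQ, hμ, ?_,
    (Subgroup.subtype _).comp (E.symm.toMonoidHom.comp (QuotientGroup.mk' _)), ?_, ?_⟩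
  · rw [(TypeM23.mu_props H hx hy hxy).2.2, ← Nat.card_congr e.toEquiv, hZ.2.1]
  · by_contra hno
    have hle1 : Nat.card (Subgroup.center ↥(reflectionSubgroup (⇑Q) c)) ≤ Nat.card Unit := by
      refine Nat.card_le_card_of_injective (fun _ => ()) fun z w _ => ?_
      have hone : ∀ u : ↥(Subgroup.center ↥(reflectionSubgroup (⇑Q) c)),
          mat Q ((u : ↥(reflectionSubgroup (⇑Q) c)) : ↥(isometryGroup (ZMod 3) ⇑Q)) = 1 := fun u =>
        (OrthSeven.mat_center hQ hc hμ u.2).resolve_right fun h => hno ⟨u, u.2, h⟩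
      exact Subtype.ext (Subtype.ext (mat_ext Q ((hone z).trans (hone w).symm)))
    rw [hZ.1, Nat.card_unique] at hle1
    omega
  · rw [MonoidHom.range_comp, MonoidHom.range_eq_top.2 (E.symm.surjective.comp QuotientGroup.mk_surjective),
      ← MonoidHom.range_eq_map, Subgroup.range_subtype]
  · ext s
    rw [MonoidHom.mem_ker, MonoidHom.comp_apply, MonoidHom.comp_apply,
      map_eq_one_iff _ (Subgroup.subtype_injective _)]
    exact (map_eq_one_iff E.symm E.symm.injective).trans (QuotientGroup.eq_one_iff s)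

section hom

variable {Q : QuadraticForm (ZMod 3) V} {c : ZMod 3} (hQ : (QuadraticMap.polarBilin Q).Nondegenerate)
  (hc : c ≠ 0) (hμ : polarGramDet (⇑Q) = -c) {z₀ : ↥(reflectionSubgroup (⇑Q) c)}
  (hz₀m : mat Q (z₀ : ↥(isometryGroup (ZMod 3) ⇑Q)) = -1) {π : ↥(reflectionSubgroup (⇑Q) c) →* G}
  (hπ : ∀ s, π s = 1 ↔ mat Q (s : ↥(isometryGroup (ZMod 3) ⇑Q)) = 1 ∨
    mat Q (s : ↥(isometryGroup (ZMod 3) ⇑Q)) = -1)

omit H
include hQ hc hμ hπ

theorem det_classRefl {w : V} (hw : Q w = c) :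
    (mat Q ((classRefl hc w hw : ↥(reflectionSubgroup (⇑Q) c)) : ↥(isometryGroup (ZMod 3) ⇑Q))).det = -1 :=
  CfsgLib.Forms.det_reflIso w (hw ▸ hc)

/-- Elements of equal determinant with one image are equal. -/
theorem eq_of_map_eq {s t : ↥(reflectionSubgroup (⇑Q) c)} (he : π s = π t)
    (hd : (mat Q (s : ↥(isometryGroup (ZMod 3) ⇑Q))).det = (mat Q (t : ↥(isometryGroup (ZMod 3) ⇑Q))).det)
    (hs : (mat Q (s : ↥(isometryGroup (ZMod 3) ⇑Q))).det ≠ 0) : s = t := by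
  have h1 : π (s⁻¹ * t) = 1 := by rw [map_mul, map_inv, he, inv_mul_cancel]
  rcases (hπ _).1 h1 with h0 | h0
  · exact inv_mul_eq_one.1 (Subtype.ext (mat_ext Q (h0.trans (mat_one (Q := Q)).symm)))
  · exfalso
    have e : (mat Q (s : ↥(isometryGroup (ZMod 3) ⇑Q))).det * (-1 : Matrix (Fin 7) (Fin 7) (ZMod 3)).det =
        (mat Q (t : ↥(isometryGroup (ZMod 3) ⇑Q))).det := by
      rw [← h0, ← det_mul, ← mat_mul, ← Subgroup.coe_mul, mul_inv_cancel_left]
    rw [det_neg, det_one, Fintype.card_fin, ← hd, mul_eq_left₀ hs] at e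
    have key : ((-1 : ZMod 3) ^ 7 * 1) ≠ 1 := by decide
    exact key e

theorem map_eq_iff {v w : V} (hv : Q v = c) (hw : Q w = c) :
    π (classRefl hc v hv) = π (classRefl hc w hw) ↔ w = v ∨ w = -v := by
  refine ⟨fun he => ?_, fun he => by rw [classRefl_eq_of_polar_ne hc hv hw he]⟩
  have heq : classRefl hc v hv = classRefl hc w hw := eq_of_map_eq hQ hc hμ hπ he
    ((det_classRefl hQ hc hμ hπ hv).trans (det_classRefl hQ hc hμ hπ hw).symm)
    (by rw [det_classRefl hQ hc hμ hπ hv]; exact neg_ne_zero.2 one_ne_zero)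
  rcases (commute_classRefl_iff hc hv hw).1 (heq ▸ Commute.refl _) with h0 | h0
  · exact absurd heq (classRefl_ne hc hv hw h0)
  · exact h0

theorem map_commute_iff {v w : V} (hv : Q v = c) (hw : Q w = c) :
    Commute (π (classRefl hc v hv)) (π (classRefl hc w hw)) ↔
      QuadraticMap.polar (⇑Q) v w = 0 ∨ w = v ∨ w = -v := by
  rw [← commute_classRefl_iff hc hv hw]
  refine ⟨fun he => ?_, fun he => he.map π⟩
  refine eq_of_map_eq hQ hc hμ hπ (by rw [map_mul, map_mul]; exact he.eq) ?_ ?_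
  · rw [Subgroup.coe_mul, Subgroup.coe_mul, mat_mul, mat_mul, det_mul, det_mul, mul_comm]
  · rw [Subgroup.coe_mul, mat_mul, det_mul, det_classRefl hQ hc hμ hπ hv, det_classRefl hQ hc hμ hπ hw]
    exact mul_ne_zero (neg_ne_zero.2 one_ne_zero) (neg_ne_zero.2 one_ne_zero)

theorem map_conj {v w : V} (hv : Q v = c) (hw : Q w = c) :
    π (classRefl hc v hv) * π (classRefl hc w hw) * π (classRefl hc v hv) =
      π (classRefl hc (refl Q v w) (by rw [quad_refl Q (hv ▸ hc : Q v ≠ 0), hw])) := by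
  rw [← map_mul, ← map_mul]
  congr 1
  refine Subtype.ext ?_
  have hv0 : Q v ≠ 0 := hv ▸ hc
  have hw0 : Q w ≠ 0 := hw ▸ hc
  show reflIso Q v hv0 * reflIso Q w hw0 * reflIso Q v hv0 = reflIso Q (refl Q v w) (by rwa [quad_refl Q hv0])
  have e := conj_reflIso Q (reflIso Q v hv0) w hw0
  rw [inv_eq_of_mul_eq_one_right
    (mat_ext Q (reflectionMatrix_mul_self Q hv0) : reflIso Q v hv0 * reflIso Q v hv0 = 1)] at e
  rw [e]
  refine mat_ext Q ?_
  rw [mat_reflIso, mat_reflIso, mat_reflIso, Spinor.reflectionMatrix_mulVec]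

include hz₀m in
/-- An involution behaving like a 3-transposition in the image is the image of a reflection. -/
theorem exists_classRefl_of_three {u : G} (hu : u ∈ π.range) (hu2 : u * u = 1) (hu1 : u ≠ 1)
    (h3 : ∀ k : G, (u * (k * u * k⁻¹)) ^ 2 = 1 ∨ (u * (k * u * k⁻¹)) ^ 3 = 1) :
    ∃ v, ∃ hv : Q v = c, u = π (classRefl hc v hv) := by
  obtain ⟨M, rfl⟩ := hu
  have hg2 : (M : ↥(isometryGroup (ZMod 3) ⇑Q)) * (M : ↥(isometryGroup (ZMod 3) ⇑Q)) = 1 := by
    rcases (hπ (M * M)).1 (by rw [map_mul, hu2]) with h0 | h0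
    · exact mat_ext Q (h0.trans (mat_one (Q := Q)).symm)
    · exfalso
      have := congrArg Matrix.det h0
      rw [Subgroup.coe_mul, mat_mul, det_mul, det_neg, det_one, Fintype.card_fin] at this
      have key : ∀ a : ZMod 3, a * a ≠ (-1) ^ 7 * 1 := by decide
      exact key _ this
  obtain ⟨v, hv, hvm⟩ := OrthSeven.exists_refl_of_three hQ hc hμ hg2
    (fun h => hu1 ((hπ M).2 (Or.inl h))) (fun h => hu1 ((hπ M).2 (Or.inr h))) fun k hk => by
    rcases h3 (π ⟨k, hk⟩) with h | h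
    · refine ⟨2, Or.inl rfl, ?_⟩
      rw [← map_inv, ← map_mul, ← map_mul, ← map_mul, ← map_pow] at h
      have h' := (hπ _).1 h
      rwa [SubmonoidClass.coe_pow, mat_pow] at h'
    · refine ⟨3, Or.inr rfl, ?_⟩
      rw [← map_inv, ← map_mul, ← map_mul, ← map_mul, ← map_pow] at h
      have h' := (hπ _).1 h
      rwa [SubmonoidClass.coe_pow, mat_pow] at h'
  obtain ⟨s, hsm, hsk⟩ : ∃ s : ↥(reflectionSubgroup (⇑Q) c), mat Q (s : ↥(isometryGroup (ZMod 3) ⇑Q)) =
      reflectionMatrix (⇑Q) v ∧ π s = π M := by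
    rcases hvm with h0 | h0
    · exact ⟨M, h0, rfl⟩
    · refine ⟨M * z₀, ?_, ?_⟩
      · rw [Subgroup.coe_mul, mat_mul, hz₀m, h0, neg_mul_neg, mul_one]
      · rw [map_mul, (hπ z₀).2 (Or.inr hz₀m), mul_one]
  have hse : (s : ↥(isometryGroup (ZMod 3) ⇑Q)) = reflIso Q v hv := mat_ext Q hsm
  exact ⟨v, OrthSeven.norm_of_refl_mem hQ hc hv (hse ▸ s.2), hsk.symm.trans (congrArg π (Subtype.ext hse))⟩

end hom

/-- The model. -/
theorem exists_pairModel {x y : G} (hx : x ∈ D) (hy : y ∈ D) (hxy : ¬ Commute x y) :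
    Nonempty (PairModel D x y) := by
  classical
  obtain ⟨hcent, Q, c, hc, hQ, hμ, ⟨z₀, hz₀, hz₀m⟩, π, hran, hker⟩ := exists_equiv_pair H hx hy hxy
  have hπ : ∀ s, π s = 1 ↔ mat Q (s : ↥(isometryGroup (ZMod 3) ⇑Q)) = 1 ∨
      mat Q (s : ↥(isometryGroup (ZMod 3) ⇑Q)) = -1 := fun s => by
    rw [← MonoidHom.mem_ker, hker]
    refine ⟨fun hs => OrthSeven.mat_center hQ hc hμ hs, ?_⟩
    rintro (hs | hs)
    · rw [show s = 1 from Subtype.ext (mat_ext Q (hs.trans (mat_one (Q := Q)).symm))]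
      exact one_mem _
    · rw [show s = z₀ from Subtype.ext (mat_ext Q (hs.trans hz₀m.symm))]
      exact hz₀
  obtain ⟨L, hL, hLp⟩ := OrthSeven.exists_isometry_dot hc hμ
  have himg : ∀ u ∈ FischerTypes.perp D x ∩ FischerTypes.perp D y,
      ∃ v, ∃ hv : Q v = c, u = π (classRefl hc v hv) := fun u hu =>
    exists_classRefl_of_three hQ hc hμ hz₀m hπ (hran ▸ Subgroup.subset_closure hu)
      (FischerTypes.mul_self H.group.1 hu.1.1) (FischerTypes.ne_one H.group.1 hu.1.1)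
      fun k => H.group.1.2 u hu.1.1 _ (H.group.2.1 k u hu.1.1)
  have hsurj : ∀ v, ∀ hv : Q v = c,
      π (classRefl hc v hv) ∈ FischerTypes.perp D x ∩ FischerTypes.perp D y := by
    intro v hv
    obtain ⟨u₀, hu₀⟩ := M23.common_nonempty H hx hy hxy
    obtain ⟨v₀, hv₀, rfl⟩ := himg u₀ hu₀
    obtain ⟨k, hk, hkv⟩ := OrthSeven.exists_conj_refl hQ hc hv₀ hv
    have e : π (classRefl hc v hv) = π ⟨k, hk⟩ * π (classRefl hc v₀ hv₀) * (π ⟨k, hk⟩)⁻¹ := by
      rw [← map_inv, ← map_mul, ← map_mul]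
      exact congrArg π (Subtype.ext hkv.symm)
    have hk' : π ⟨k, hk⟩ ∈ Subgroup.centralizer ({x, y} : Set G) := hcent ▸ hran ▸ ⟨_, rfl⟩
    rw [Subgroup.mem_centralizer_iff] at hk'
    rw [e]
    exact ⟨conj_mem_perp H.group (hk' x (by simp)).symm hu₀.1,
      conj_mem_perp H.group (hk' y (by simp)).symm hu₀.2⟩
  have hQL : ∀ v, v ⬝ᵥ v = 1 → Q (L v) = c := fun v h => by rw [hL, h, mul_one]
  let φ : V → G := fun v => if h : v ⬝ᵥ v = 1 then π (classRefl hc (L v) (hQL v h)) else 1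
  have hφ' : ∀ v, ∀ h : v ⬝ᵥ v = 1, φ v = π (classRefl hc (L v) (hQL v h)) := fun v h => dif_pos h
  have hdot : ∀ v w : V, QuadraticMap.polar (⇑Q) (L v) (L w) = 0 ↔ v ⬝ᵥ w = 0 := fun v w => by
    rw [hLp, mul_eq_zero]
    exact or_iff_right (mul_ne_zero two_ne_zero_zmod_three hc)
  have hLeq : ∀ v w : V, (L w = L v ∨ L w = -L v) ↔ (w = v ∨ w = -v) := fun v w => by
    rw [← map_neg, L.injective.eq_iff, L.injective.eq_iff]
  refine ⟨⟨φ, fun v hv => by rw [hφ' v hv]; exact hsurj _ _, fun u hu => ?_, fun v w hv hw => ?_,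
    fun v w hv hw => ?_, fun v w hv hw => ?_, hcent⟩⟩
  · obtain ⟨w, hw, rfl⟩ := himg u hu
    have h1 : L.symm w ⬝ᵥ L.symm w = 1 := mul_left_cancel₀ hc (by rw [← hL, L.apply_symm_apply, hw, mul_one])
    refine ⟨L.symm w, h1, ?_⟩
    rw [hφ' _ h1]
    simp only [L.apply_symm_apply]
  · rw [hφ' v hv, hφ' w hw, map_eq_iff hQ hc hμ hπ, hLeq]
  · rw [hφ' v hv, hφ' w hw, map_commute_iff hQ hc hμ hπ, hdot, hLeq]
  · have hn : (w + (v ⬝ᵥ w) • v) ⬝ᵥ (w + (v ⬝ᵥ w) • v) = 1 := by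
      simp only [add_dotProduct, dotProduct_add, smul_dotProduct, dotProduct_smul, smul_eq_mul, hv, hw,
        dotProduct_comm w v]
      generalize v ⬝ᵥ w = a
      revert a; decide
    rw [hφ' v hv, hφ' w hw, hφ' _ hn, map_conj hQ hc hμ hπ]
    congr 2
    rw [refl_apply, hLp, hQL v hv, map_add, map_smul,
      show c⁻¹ * (2 * c * (v ⬝ᵥ w)) = 2 * (v ⬝ᵥ w) by field_simp, sub_eq_add_neg, ← neg_smul,
      show -(2 * (v ⬝ᵥ w)) = v ⬝ᵥ w by generalize v ⬝ᵥ w = a; revert a; decide]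

end CfsgLib.Transpositions.M23Unique
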