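import Cfsg.Prelude.Def_SporadicB
import Cfsg.Agent.SporB.ThreeTrans

/-!
# Elementary facts about sets of 3-transpositions

For members `d, e` of a set of 3-transpositions either `d` and `e` commute or they generate a
symmetric group of degree three, in which `d * e * d = e * d * e` is the third transposition.
-/

set_option autoImplicit false

namespace CfsgLib.Transpositions

open Cfsg

variable {G : Type*} [Group G] {D : Set G} {d e : G}

theorem sq (hD : IsThreeTranspositionSet D) (hd : d ∈ D) : d * d = 1 :=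
  CfsgLib.SporB.ttSq hD hd

theorem inv_eq (hD : IsThreeTranspositionSet D) (hd : d ∈ D) : d⁻¹ = d :=
  CfsgLib.SporB.inv_of_orderTwo (hD.1 d hd)

theorem ne_one (hD : IsThreeTranspositionSet D) (hd : d ∈ D) : d ≠ 1 := fun h => by
  simpa [h] using hD.1 d hd

theorem mul_cancel_left (hD : IsThreeTranspositionSet D) (hd : d ∈ D) (x : G) :
    d * (d * x) = x :=
  CfsgLib.SporB.ttCancel hD hd x

theorem mul_cancel_right (hD : IsThreeTranspositionSet D) (hd : d ∈ D) (x : G) :
    x * d * d = x := by rw [mul_assoc, sq hD hd, mul_one]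

theorem braid (hD : IsThreeTranspositionSet D) (hd : d ∈ D) (he : e ∈ D) (h : ¬ Commute d e) :
    d * e * d = e * d * e :=
  CfsgLib.SporB.ttBraid hD hd he h

theorem commute_iff_conj_eq (hD : IsThreeTranspositionSet D) (hd : d ∈ D) :
    Commute d e ↔ d * e * d = e :=
  ⟨fun h => by rw [h.eq, mul_cancel_right hD hd],
    fun h => by
      show d * e = e * d
      calc d * e = d * e * d * d := (mul_cancel_right hD hd _).symm
        _ = e * d := by rw [h]⟩

/-- Two members commute exactly when the square of their product is `1`. -/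
theorem commute_iff_sq_eq_one (hD : IsThreeTranspositionSet D) (hd : d ∈ D) (he : e ∈ D) :
    Commute d e ↔ (d * e) ^ 2 = 1 := by
  rw [pow_two, mul_eq_one_iff_eq_inv, mul_inv_rev, inv_eq hD hd, inv_eq hD he]
  rfl

theorem cube_eq_one (hD : IsThreeTranspositionSet D) (hd : d ∈ D) (he : e ∈ D)
    (h : ¬ Commute d e) : (d * e) ^ 3 = 1 := by
  rcases hD.2 d hd e he with h' | h'
  · exact absurd ((commute_iff_sq_eq_one hD hd he).2 h') h
  · exact h'

theorem mul_eq_one_iff (hD : IsThreeTranspositionSet D) (he : e ∈ D) : d * e = 1 ↔ d = e := by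
  rw [mul_eq_one_iff_eq_inv, inv_eq hD he]

/-- If `d * e` is a `p`-element for a prime `p ≠ 3`, then `d` and `e` commute. -/
theorem commute_of_pow_eq_one (hD : IsThreeTranspositionSet D) (hd : d ∈ D) (he : e ∈ D)
    {p k : ℕ} (hp : p.Prime) (hp3 : p ≠ 3) (h : (d * e) ^ p ^ k = 1) : Commute d e := by
  by_contra hn
  have h3 := cube_eq_one hD hd he hn
  have hc : Nat.Coprime (p ^ k) 3 := by
    apply Nat.Coprime.pow_left
    exact (Nat.coprime_primes hp Nat.prime_three).2 hp3
  have h1 : d * e = 1 := (pow_eq_one_iff_of_coprime hc).1 ⟨h, h3⟩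
  exact hn (((mul_eq_one_iff hD he).1 h1) ▸ Commute.refl d)

/-- If `d * e` lies in a `p`-subgroup, `p ≠ 2` prime, and `d`, `e` commute, then `d = e`. -/
theorem eq_of_commute_of_isPGroup (hD : IsThreeTranspositionSet D) (hd : d ∈ D) (he : e ∈ D)
    {p : ℕ} (hp : p.Prime) (hp2 : p ≠ 2) {P : Subgroup G} (hP : IsPGroup p P)
    (h : d * e ∈ P) (hc : Commute d e) : d = e := by
  obtain ⟨k, hk⟩ := hP ⟨d * e, h⟩
  have hk' : (d * e) ^ p ^ k = 1 := congrArg Subtype.val hk
  have h2 := (commute_iff_sq_eq_one hD hd he).1 hc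
  have hco : Nat.Coprime (p ^ k) 2 :=
    Nat.Coprime.pow_left _ ((Nat.coprime_primes hp Nat.prime_two).2 hp2)
  exact (mul_eq_one_iff hD he).1 ((pow_eq_one_iff_of_coprime hco).1 ⟨hk', h2⟩)

theorem commute_of_isPGroup (hD : IsThreeTranspositionSet D) (hd : d ∈ D) (he : e ∈ D)
    {p : ℕ} (hp : p.Prime) (hp3 : p ≠ 3) {P : Subgroup G} (hP : IsPGroup p P)
    (h : d * e ∈ P) : Commute d e := by
  obtain ⟨k, hk⟩ := hP ⟨d * e, h⟩
  exact commute_of_pow_eq_one hD hd he hp hp3 (k := k) (congrArg Subtype.val hk)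

/-- A member lies in no subgroup of odd order; in particular in no `3`-subgroup. -/
theorem not_mem_of_isPGroup (hD : IsThreeTranspositionSet D) (hd : d ∈ D) {p : ℕ} (hp : p.Prime)
    (hp2 : p ≠ 2) {P : Subgroup G} (hP : IsPGroup p P) : d ∉ P := by
  intro h
  obtain ⟨k, hk⟩ := hP ⟨d, h⟩
  have hco : Nat.Coprime (p ^ k) 2 :=
    Nat.Coprime.pow_left _ ((Nat.coprime_primes hp Nat.prime_two).2 hp2)
  exact ne_one hD hd ((pow_eq_one_iff_of_coprime hco).1
    ⟨congrArg Subtype.val hk, by rw [pow_two]; exact sq hD hd⟩)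

theorem commute_conj_iff (g x y : G) :
    Commute (g * x * g⁻¹) (g * y * g⁻¹) ↔ Commute x y :=
  Commute.conj_iff g

/-- Conjugation by a member of `D`. -/
theorem commute_conj_iff_of_mem (hD : IsThreeTranspositionSet D) (hd : d ∈ D) (x y : G) :
    Commute (d * x * d) (d * y * d) ↔ Commute x y := by
  simpa [inv_eq hD hd] using commute_conj_iff d x y

/-- Moving a conjugation by a member of `D` to the other side. -/
theorem commute_conj_swap (hD : IsThreeTranspositionSet D) (hd : d ∈ D) (x y : G) :
    Commute (d * x * d) y ↔ Commute x (d * y * d) := by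
  rw [← commute_conj_iff_of_mem hD hd (d * x * d) y]
  simp only [mul_assoc, mul_cancel_left hD hd, sq hD hd, mul_one]

theorem conj_mem_of_mem (hD : IsThreeTranspositionSet D)
    (hconj : ∀ g : G, ∀ x ∈ D, g * x * g⁻¹ ∈ D) (hd : d ∈ D) (he : e ∈ D) : d * e * d ∈ D := by
  simpa [inv_eq hD hd] using hconj d e he

theorem conj_ne_right (hD : IsThreeTranspositionSet D) (hd : d ∈ D) (h : ¬ Commute d e) :
    d * e * d ≠ e := fun h' => h ((commute_iff_conj_eq hD hd).2 h')

theorem conj_ne_left (hD : IsThreeTranspositionSet D) (hd : d ∈ D) (h : ¬ Commute d e) :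
    d * e * d ≠ d := fun h' => h (by
  have h2 : d * e = 1 := by simpa using h'
  have : e = d := by rw [← mul_cancel_left hD hd e, h2, mul_one]
  rw [this])

theorem not_commute_conj (hD : IsThreeTranspositionSet D) (hd : d ∈ D) (h : ¬ Commute d e) :
    ¬ Commute d (d * e * d) := fun h' => h (by
  have := (commute_conj_swap hD hd d e).2 h'
  simpa [sq hD hd] using this)

/-- The third transposition conjugates `e` to `d`. -/
theorem conj_third (hD : IsThreeTranspositionSet D) (hd : d ∈ D) (he : e ∈ D)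
    (h : ¬ Commute d e) : (d * e * d) * e * (d * e * d) = d := by
  have hb := braid hD hd he h
  calc (d * e * d) * e * (d * e * d) = (e * d * e) * e * (e * d * e) := by rw [hb]
    _ = e * (d * e * d) * e := by simp only [mul_assoc, mul_cancel_left hD he]
    _ = d := by rw [hb]; simp only [mul_assoc, mul_cancel_left hD he, sq hD he, mul_one]

end CfsgLib.Transpositions
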