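import Cfsg.Agent.Transpositions.Classes
import Cfsg.Agent.Transpositions.WidthOne
import Cfsg.Agent.BlocksCharsC.PGroupCenter
import Mathlib.GroupTheory.SpecificGroups.Cyclic

/-!
# An involution normalising a complement of an elementary abelian normal 2-subgroup

Used for classes of 3-transpositions in which commuting is the twin relation: some member
normalises a Sylow 3-subgroup.
-/

set_option autoImplicit false

namespace CfsgLib.Transpositions

open Cfsg

section Averaging

variable {K : Type*} [Group K] [Finite K]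

theorem exists_normalizing_conj (W P : Subgroup K) [W.Normal]
    (hWc : ∀ x ∈ W, ∀ y ∈ W, x * y = y * x) (hW2 : ∀ x ∈ W, x * x = 1) (hP : IsPGroup 3 P)
    (hfix : ∀ x ∈ W, (∀ p ∈ P, p * x = x * p) → x = 1) {d : K} (hd : d * d = 1)
    (hdn : ∀ p ∈ P, d * p * d ∈ P ⊔ W)
    (hkey : ∀ q ∈ P, d * (q * d * q⁻¹) ∈ W → ∃ v ∈ W, q * d * q⁻¹ = v * d * v⁻¹) :
    ∃ v ∈ W, ∀ p ∈ P, ∃ p' ∈ P, d * (v * p * v⁻¹) * d = v * p' * v⁻¹ := by
  classical
  haveI := Fintype.ofFinite K
  haveI : Fact (Nat.Prime 3) := ⟨Nat.prime_three⟩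
  have hWinv : ∀ x ∈ W, x⁻¹ = x := fun x hx => inv_eq_of_mul_eq_one_right (hW2 x hx)
  have hconjW : ∀ (g : K) {x : K}, x ∈ W → g * x * g⁻¹ ∈ W := fun g x hx =>
    Subgroup.Normal.conj_mem inferInstance x hx g
  have hdinv : d⁻¹ = d := inv_eq_of_mul_eq_one_right hd
  have hPW : ∀ x ∈ P, x ∈ W → x = 1 := by
    intro x hxP hxW
    obtain ⟨k, hk⟩ := hP ⟨x, hxP⟩
    have h3 : x ^ 3 ^ k = 1 := by simpa using congrArg Subtype.val hk
    have h2 : orderOf x ∣ 2 := orderOf_dvd_of_pow_eq_one (by rw [pow_two]; exact hW2 x hxW)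
    have hc : Nat.Coprime 2 (3 ^ k) := Nat.Coprime.pow_right k (by norm_num)
    exact orderOf_eq_one_iff.1 (Nat.eq_one_of_dvd_coprimes hc h2 (orderOf_dvd_of_pow_eq_one h3))
  -- a Sylow argument inside `P ⊔ W`
  obtain ⟨w, hwW, hwP⟩ : ∃ w ∈ W, ∀ p ∈ P, w⁻¹ * (d * p * d) * w ∈ P := by
    set H : Subgroup K := P ⊔ W
    obtain ⟨S, hS⟩ := (hP.of_equiv
      (Subgroup.subgroupOfEquivOfLe (le_sup_left : P ≤ H)).symm).exists_le_sylow
    have hSle : ∀ s : H, s ∈ S → (s : K) ∈ P := by
      intro s hs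
      obtain ⟨p, hp, w, hw, hs'⟩ := Subgroup.mem_sup_of_normal_right.1 s.2
      have hpS : (⟨p, le_sup_left (a := P) hp⟩ : H) ∈ S := hS (Subgroup.mem_subgroupOf.2 hp)
      obtain ⟨k, hk⟩ := S.isPGroup'
        ⟨⟨p, le_sup_left (a := P) hp⟩⁻¹ * s, mul_mem (inv_mem hpS) hs⟩
      have hk' : w ^ 3 ^ k = 1 := by
        have hh := congrArg (fun t : S => ((t : H) : K)) hk
        simpa [← hs'] using hh
      have h2 : orderOf w ∣ 2 := orderOf_dvd_of_pow_eq_one (by rw [pow_two]; exact hW2 w hw)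
      have hw1 := orderOf_eq_one_iff.1 (Nat.eq_one_of_dvd_coprimes
        (Nat.Coprime.pow_right k (by norm_num : Nat.Coprime 2 3)) h2
        (orderOf_dvd_of_pow_eq_one hk'))
      rw [← hs', hw1, mul_one]
      exact hp
    let f : P →* H :=
      { toFun := fun p => ⟨d * p * d, hdn p p.2⟩
        map_one' := Subtype.ext (by simp [hd])
        map_mul' := fun a b => Subtype.ext (by
          show d * ((a : K) * b) * d = d * a * d * (d * b * d)
          simp only [mul_assoc]; rw [← mul_assoc d d, hd, one_mul]) }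
    obtain ⟨T, hT⟩ := (hP.of_surjective f.rangeRestrict f.rangeRestrict_surjective).exists_le_sylow
    obtain ⟨h, hh⟩ := MulAction.exists_smul_eq H S T
    obtain ⟨p₀, hp₀, w, hw, hh'⟩ := Subgroup.mem_sup_of_normal_right.1 h.2
    refine ⟨p₀ * w * p₀⁻¹, hconjW p₀ hw, fun p hp => ?_⟩
    have hpT : f ⟨p, hp⟩ ∈ T := hT ⟨⟨p, hp⟩, rfl⟩
    rw [← hh] at hpT
    change f ⟨p, hp⟩ ∈ ((h • S : Sylow 3 H) : Subgroup H) at hpT
    rw [Sylow.coe_subgroup_smul, Subgroup.mem_pointwise_smul_iff_inv_smul_mem] at hpT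
    have h1 := hSle _ hpT
    have h2 : (h : K)⁻¹ * (d * p * d) * h ∈ P := by
      simpa [MulAut.smul_def, f, mul_assoc] using h1
    rw [← hh'] at h2
    have h3 := mul_mem (mul_mem hp₀ h2) (inv_mem hp₀)
    convert h3 using 1
    group
  set n : K := w⁻¹ * d with hn
  have hnP : ∀ p ∈ P, n * p * n⁻¹ ∈ P := by
    intro p hp
    have := hwP p hp
    rw [hn, mul_inv_rev, inv_inv, hdinv]
    simpa [mul_assoc] using this
  have hnW : n * n ∈ W := by
    have h' : n * n = w⁻¹ * (d * w⁻¹ * d⁻¹) := by rw [hn, hdinv]; simp [mul_assoc]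
    rw [h']
    exact mul_mem (inv_mem hwW) (hconjW d (inv_mem hwW))
  have hnn : n * n = 1 := by
    refine hfix _ hnW fun p hp => ?_
    have h1 : n * n * p * (n * n)⁻¹ ∈ P := by
      have := hnP _ (hnP p hp)
      simpa [mul_assoc] using this
    have h2 : p⁻¹ * (n * n * p * (n * n)⁻¹) ∈ W := by
      have h' : p⁻¹ * (n * n * p * (n * n)⁻¹) = (p⁻¹ * (n * n) * p⁻¹⁻¹) * (n * n)⁻¹ := by group
      rw [h']
      exact mul_mem (hconjW _ hnW) (inv_mem hnW)
    have h3 := hPW _ (mul_mem (inv_mem hp) h1) h2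
    rw [inv_mul_eq_one] at h3
    exact eq_mul_inv_iff_mul_eq.1 h3
  have hninv : n⁻¹ = n := inv_eq_of_mul_eq_one_right hnn
  have hdwn : d = w * n := by simp [hn]
  have hnwn : n * w * n = w := by
    have h' : n * w * n = w⁻¹ * (d * d) := by rw [hn]; group
    rw [h', hd, mul_one, hWinv w hwW]
  -- the quotient of `W` by the commutators with `n`
  letI : CommGroup W := { (inferInstance : Group W) with
    mul_comm := fun x y => Subtype.ext (hWc x x.2 y y.2) }
  let cn : W →* W :=
    { toFun := fun x => ⟨n * x * n, by simpa [hninv] using hconjW n x.2⟩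
      map_one' := Subtype.ext (by simp [hnn])
      map_mul' := fun a b => Subtype.ext (by
        show n * ((a : K) * b) * n = n * a * n * (n * b * n)
        simp only [mul_assoc]; rw [← mul_assoc n n, hnn, one_mul]) }
  let δ : W →* W :=
    { toFun := fun x => x * cn x
      map_one' := by simp
      map_mul' := fun a b => by rw [map_mul, mul_mul_mul_comm] }
  let φ : W →* W ⧸ δ.range := QuotientGroup.mk' δ.range
  let F : P → W ⧸ δ.range := fun p => φ ⟨p * w * (p : K)⁻¹, hconjW p hwW⟩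
  let w' : W := ⟨w, hwW⟩
  let ι : P → P := fun p => ⟨n * p * n⁻¹, hnP p p.2⟩
  have hιι : ∀ p, ι (ι p) = p := fun p => Subtype.ext (by
    show n * (n * p * n⁻¹) * n⁻¹ = (p : K)
    calc n * (n * p * n⁻¹) * n⁻¹ = (n * n) * p * (n * n)⁻¹ := by group
      _ = p := by simp [hnn])
  have hsum : ∀ p, F p * F (ι p) = 1 := by
    intro p
    rw [← map_mul, ← MonoidHom.mem_ker, QuotientGroup.ker_mk']
    refine ⟨⟨p * w * (p : K)⁻¹, hconjW p hwW⟩, Subtype.ext ?_⟩
    show (p : K) * w * (p : K)⁻¹ * (n * ((p : K) * w * (p : K)⁻¹) * n) =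
      (p : K) * w * (p : K)⁻¹ * (n * p * n⁻¹ * w * (n * p * n⁻¹)⁻¹)
    congr 1
    calc n * ((p : K) * w * (p : K)⁻¹) * n = n * p * n⁻¹ * (n * w * n) * (n * p * n⁻¹)⁻¹ := by
          rw [hninv]; simp only [mul_inv_rev, hninv, mul_assoc]
          simp only [← mul_assoc n n, hnn, one_mul, mul_one]
      _ = _ := by rw [hnwn]
  have hfixF : ∀ p, ι p = p → F p = φ w' := by
    intro q hq
    have hq' : n * (q : K) * n⁻¹ = q := congrArg Subtype.val hq
    have hqn : (q : K) * n * (q : K)⁻¹ = n := by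
      rw [mul_inv_eq_iff_eq_mul] at hq' ⊢
      exact hq'.symm
    have hconj : (q : K) * d * (q : K)⁻¹ = (q : K) * w * (q : K)⁻¹ * n := by
      rw [hdwn]
      calc (q : K) * (w * n) * (q : K)⁻¹
          = (q : K) * w * (q : K)⁻¹ * ((q : K) * n * (q : K)⁻¹) := by group
        _ = _ := by rw [hqn]
    obtain ⟨v, hv, hv'⟩ := hkey q q.2 (by
      have h' : d * ((q : K) * d * (q : K)⁻¹) = w * (n * ((q : K) * w * (q : K)⁻¹) * n⁻¹) := by
        rw [hconj, hdwn, hninv]; simp only [mul_assoc]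
      rw [h']
      exact mul_mem hwW (hconjW n (hconjW q hwW)))
    rw [← div_eq_one, div_eq_mul_inv, ← map_inv, ← map_mul, ← MonoidHom.mem_ker,
      QuotientGroup.ker_mk']
    refine ⟨⟨v, hv⟩, Subtype.ext ?_⟩
    show v * (n * v * n) = (q : K) * w * (q : K)⁻¹ * w⁻¹
    have h1 : (q : K) * w * (q : K)⁻¹ = v * w * (n * v * n) := by
      have := congrArg (fun t => t * n) (hconj ▸ hv')
      simp only [mul_assoc, hnn, mul_one] at this
      rw [hdwn, hWinv v hv] at this
      simpa only [mul_assoc] using this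
    have hnvn : n * v * n ∈ W := by simpa [hninv] using hconjW n hv
    rw [h1, hWc v hv w hwW, mul_assoc w, hWc w hwW _ (mul_mem hv hnvn), mul_inv_cancel_right]
  have hφ : φ w' = 1 := by
    have hsq : φ w' ^ 2 = 1 := by
      rw [← map_pow, pow_two, show w' * w' = 1 from Subtype.ext (hW2 w hwW), map_one]
    have htot : ∏ p : P, F p = 1 := by
      rw [← map_prod]
      have : (∏ p : P, (⟨p * w * (p : K)⁻¹, hconjW p hwW⟩ : W)) = 1 := by
        set s : W := ∏ p : P, (⟨p * w * (p : K)⁻¹, hconjW p hwW⟩ : W) with hs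
        refine Subtype.ext (hfix _ s.2 fun p hp => ?_)
        let cp : W →* W :=
          { toFun := fun x => ⟨p * x * p⁻¹, hconjW p x.2⟩
            map_one' := Subtype.ext (by simp)
            map_mul' := fun a b => Subtype.ext (by simp [mul_assoc]) }
        have hfixs : cp s = s := by
          rw [hs, map_prod]
          refine Fintype.prod_equiv (Equiv.mulLeft (⟨p, hp⟩ : P)) _ _ fun x => Subtype.ext ?_
          simp [cp, mul_assoc]
        exact mul_inv_eq_iff_eq_mul.1 (congrArg Subtype.val hfixs)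
      rw [this, map_one]
    rw [← Finset.prod_filter_mul_prod_filter_not Finset.univ (fun p => ι p = p)] at htot
    have hnon : ∏ p ∈ Finset.univ.filter (fun p => ¬ ι p = p), F p = 1 :=
      Finset.prod_involution (fun p _ => ι p) (fun p _ => hsum p)
        (fun p hp _ => (Finset.mem_filter.1 hp).2)
        (fun p hp => Finset.mem_filter.2 ⟨Finset.mem_univ _, fun e =>
          (Finset.mem_filter.1 hp).2 (by rw [hιι] at e; exact e.symm)⟩)
        (fun p _ => hιι p)
    rw [hnon, mul_one, Finset.prod_congr rfl (fun p hp => hfixF p (Finset.mem_filter.1 hp).2),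
      Finset.prod_const] at htot
    let C : Subgroup P := (Subgroup.centralizer ({n} : Set K)).subgroupOf P
    have hC : (Finset.univ.filter (fun p => ι p = p)).card = Nat.card C := by
      rw [← Fintype.card_subtype, ← Nat.card_eq_fintype_card]
      refine Nat.card_congr (Equiv.subtypeEquivRight fun p => ?_)
      simp only [C, Subgroup.mem_subgroupOf, Subgroup.mem_centralizer_iff, Set.mem_singleton_iff,
        forall_eq, ι, Subtype.ext_iff, mul_inv_eq_iff_eq_mul]
    obtain ⟨k, hk⟩ := IsPGroup.iff_card.1 (hP.to_subgroup C)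
    have hodd : Nat.Coprime 2 (3 ^ k) := Nat.Coprime.pow_right k (by norm_num)
    rw [hC, hk] at htot
    exact orderOf_eq_one_iff.1 (Nat.eq_one_of_dvd_coprimes hodd
      (orderOf_dvd_of_pow_eq_one hsq) (orderOf_dvd_of_pow_eq_one htot))
  rw [← MonoidHom.mem_ker, QuotientGroup.ker_mk'] at hφ
  obtain ⟨⟨v, hv⟩, hv'⟩ := hφ
  have hw' : v * (n * v * n) = w := congrArg Subtype.val hv'
  refine ⟨v, hv, fun p hp => ⟨n * p * n⁻¹, hnP p hp, ?_⟩⟩
  have hd' : d = v * n * v⁻¹ := by
    rw [hdwn, ← hw', hWinv v hv]; simp [mul_assoc, hnn]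
  conv_lhs => arg 2; rw [← hdinv]
  rw [hd']
  group

end Averaging

section Helpers

variable {G : Type*} [Group G] [Finite G]

theorem mem_normalizer_of_forall {H : Subgroup G} {g : G} (h : ∀ x ∈ H, g * x * g⁻¹ ∈ H) :
    g ∈ Subgroup.normalizer (H : Set G) :=
  Subgroup.mem_normalizer_fintype h

theorem not_mem_of_isPGroup_two {D : Set G} (hD : IsThreeTranspositionClass D)
    (hD2 : ∃ a ∈ D, ∃ b ∈ D, a ≠ b) {a : G} (ha : a ∈ D) : a ∉ pCore 2 G := by
  intro h
  obtain ⟨e, he, hn⟩ := exists_not_commute_of_class hD hD2 ha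
  have hN : (pCore 2 G).Normal := inferInstance
  have hG := isThreeTranspositionGroup_of_class hD
  obtain ⟨g, hg⟩ := exists_conj_of_class hD ha he
  have he' : e ∈ pCore 2 G := hg ▸ hN.conj_mem a h g
  exact hn (commute_of_isPGroup hD.1 ha he Nat.prime_two (by norm_num)
    (CfsgLib.PLocal.isPGroup_pCore 2 G) (mul_mem h he'))

theorem exists_central_involution {U W : Subgroup G} [U.Normal] [W.Normal] (hU : IsPGroup 2 U)
    (hWU : W ≤ U) (hW : W ≠ ⊥) :
    ∃ y ∈ W, y ≠ 1 ∧ y * y = 1 ∧ ∀ u ∈ U, u * y = y * u := by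
  haveI : Fact (Nat.Prime 2) := ⟨Nat.prime_two⟩
  haveI : Nontrivial (W.subgroupOf U) := by
    rw [Subgroup.nontrivial_iff_ne_bot, Ne, Subgroup.subgroupOf_eq_bot]
    intro h
    exact hW (by rw [eq_bot_iff]; exact fun x hx => h.le_bot ⟨hx, hWU hx⟩)
  have hne := CfsgLib.BlocksCharsC.inf_center_ne_bot hU (W.subgroupOf U)
  haveI : Nontrivial (W.subgroupOf U ⊓ Subgroup.center U : Subgroup U) :=
    (Subgroup.nontrivial_iff_ne_bot _).2 hne
  obtain ⟨n, hn, hcard⟩ := (hU.to_subgroup _).nontrivial_iff_card.1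
    (inferInstance : Nontrivial (W.subgroupOf U ⊓ Subgroup.center U : Subgroup U))
  obtain ⟨y, hy⟩ := exists_prime_orderOf_dvd_card' 2 (hcard ▸ dvd_pow_self 2 hn.ne')
  refine ⟨((y : U) : G), (y.2.1 : (y : U) ∈ W.subgroupOf U), fun h => ?_, ?_, fun u hu => ?_⟩
  · have : y = 1 := Subtype.ext (Subtype.ext h)
    rw [this, orderOf_one] at hy
    norm_num at hy
  · have := pow_orderOf_eq_one y
    rw [hy, pow_two] at this
    exact congrArg (fun t : (W.subgroupOf U ⊓ Subgroup.center U : Subgroup U) => ((t : U) : G)) this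
  · exact congrArg Subtype.val (Subgroup.mem_center_iff.1 y.2.2 ⟨u, hu⟩)

end Helpers

section Sylow

variable {G : Type*} [Group G] [Finite G] {D : Set G}

/-- If commuting members of the class are twins, a member normalises a Sylow 3-subgroup and
generates the group together with it and the 2-core. -/
theorem exists_sylow_normalized (hD : IsThreeTranspositionClass D)
    (hD2 : ∃ a ∈ D, ∃ b ∈ D, a ≠ b) {d : G} (hd : d ∈ D)
    (hV : ∀ x ∈ D, ∀ y ∈ D, Commute x y → VRel D x y) :
    ∃ P : Sylow 3 G, d ∈ Subgroup.normalizer (P : Set G) ∧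
      Subgroup.zpowers d ⊔ (P : Subgroup G) ⊔ pCore 2 G = ⊤ := by
  classical
  haveI : Fact (Nat.Prime 3) := ⟨Nat.prime_three⟩
  haveI : Fact (Nat.Prime 2) := ⟨Nat.prime_two⟩
  have hG := isThreeTranspositionGroup_of_class hD
  have hD' := hD.1
  set U := pCore 2 G
  have hU2 : IsPGroup 2 U := CfsgLib.PLocal.isPGroup_pCore 2 G
  have htwin : ∀ a ∈ D, ∀ b ∈ D, Commute a b → a * b ∈ U := fun a ha b hb hc =>
    mul_mem_pCore_two_of_vRel hG ha (hV a ha b hb hc)
  -- the quotient by `U` has width one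
  let π : G →* G ⧸ U := QuotientGroup.mk' U
  have hπ : Function.Surjective π := QuotientGroup.mk'_surjective U
  have hnotU : ∀ a ∈ D, a ∉ U := fun a ha =>
    not_mem_of_isPGroup_two hD hD2 ha
  have hmem : ∀ a ∈ D, ∀ b ∈ D, (π a = π b ↔ a * b ∈ U) := fun a ha b _ => by
    rw [QuotientGroup.mk'_apply, QuotientGroup.mk'_apply, QuotientGroup.eq, inv_eq hD' ha]
  have hDq : IsThreeTranspositionGroup (π '' D) := by
    refine ⟨⟨?_, ?_⟩, ?_, ?_⟩
    · rintro _ ⟨a, ha, rfl⟩
      exact orderOf_eq_prime (by rw [← map_pow, pow_two, sq hD' ha, map_one]) fun h =>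
        hnotU a ha ((QuotientGroup.eq_one_iff a).1 h)
    · rintro _ ⟨a, ha, rfl⟩ _ ⟨b, hb, rfl⟩
      rw [← map_mul]
      exact (hD'.2 a ha b hb).imp (fun h => by rw [← map_pow, h, map_one])
        (fun h => by rw [← map_pow, h, map_one])
    · intro g x hx
      obtain ⟨g, rfl⟩ := hπ g
      obtain ⟨a, ha, rfl⟩ := hx
      exact ⟨g * a * g⁻¹, hG.2.1 g a ha, by simp⟩
    · rw [← MonoidHom.map_closure, hG.2.2, Subgroup.map_top_of_surjective π hπ]
  have hw : ∀ x ∈ π '' D, ∀ y ∈ π '' D, Commute x y → x = y := by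
    rintro _ ⟨a, ha, rfl⟩ _ ⟨b, hb, rfl⟩ hc
    refine (hmem a ha b hb).2 ?_
    by_contra hab
    have hnc : ¬ Commute a b := fun h => hab (htwin a ha b hb h)
    have h2 : π (a * b) ^ 2 = 1 := by
      rw [map_mul, hc.mul_pow, ← map_pow, ← map_pow, pow_two, pow_two, sq hD' ha, sq hD' hb,
        map_one, one_mul]
    have h3 : π (a * b) ^ 3 = 1 := by rw [← map_pow, cube_eq_one hD' ha hb hnc, map_one]
    rw [pow_succ, h2, one_mul] at h3
    exact hab ((QuotientGroup.eq_one_iff _).1 h3)
  have htop := sup_pCore_three_eq_top hDq hw (Set.mem_image_of_mem π hd)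
  have himg : ∀ P : Sylow 3 G, (P : Subgroup G).map π = pCore 3 (G ⧸ U) := by
    intro P
    refine le_antisymm ?_ (CfsgLib.PLocal.pCore_le_sylow (P.mapSurjective hπ))
    rintro _ ⟨x, hx, rfl⟩
    obtain ⟨z, hz, m, hm, hxe⟩ :=
      Subgroup.mem_sup_of_normal_right.1 (htop ▸ Subgroup.mem_top (π x))
    have hzero : z = 1 := by
      obtain ⟨k, hk⟩ := P.isPGroup' ⟨x, hx⟩
      have hk' : π x ^ 3 ^ k = 1 := by
        rw [← map_pow, show x ^ 3 ^ k = 1 by simpa using congrArg Subtype.val hk, map_one]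
      let μ : G ⧸ U →* (G ⧸ U) ⧸ pCore 3 (G ⧸ U) := QuotientGroup.mk' _
      have hμ : μ (π x) = μ z := by
        rw [← hxe, map_mul, show μ m = 1 from (QuotientGroup.eq_one_iff m).2 hm, mul_one]
      obtain ⟨i, rfl⟩ := Subgroup.mem_zpowers_iff.1 hz
      have hsq : π d ^ 2 = 1 := by rw [← map_pow, pow_two, sq hD' hd, map_one]
      have h2 : μ (π d ^ i) ^ 2 = 1 := by
        rw [← map_pow, ← zpow_natCast, ← zpow_mul, mul_comm, zpow_mul, zpow_natCast, hsq,
          one_zpow, map_one]
      have h3 : μ (π d ^ i) ^ 3 ^ k = 1 := by rw [← hμ, ← map_pow, hk', map_one]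
      have h1 := orderOf_eq_one_iff.1 (Nat.eq_one_of_dvd_coprimes
        (Nat.Coprime.pow_right k (by norm_num : Nat.Coprime 2 3))
        (orderOf_dvd_of_pow_eq_one h2) (orderOf_dvd_of_pow_eq_one h3))
      have hin : π d ^ i ∈ pCore 3 (G ⧸ U) := (QuotientGroup.eq_one_iff _).1 h1
      obtain ⟨j, hj⟩ := CfsgLib.PLocal.isPGroup_pCore 3 (G ⧸ U) ⟨_, hin⟩
      have hj' : (π d ^ i) ^ 3 ^ j = 1 := by simpa using congrArg Subtype.val hj
      have h2' : (π d ^ i) ^ 2 = 1 := by
        rw [← zpow_natCast, ← zpow_mul, mul_comm, zpow_mul, zpow_natCast, hsq, one_zpow]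
      exact orderOf_eq_one_iff.1 (Nat.eq_one_of_dvd_coprimes
        (Nat.Coprime.pow_right j (by norm_num : Nat.Coprime 2 3))
        (orderOf_dvd_of_pow_eq_one h2') (orderOf_dvd_of_pow_eq_one hj'))
    rw [← hxe, hzero, one_mul]
    exact hm
  have hsup : ∀ P : Sylow 3 G, (P : Subgroup G) ⊔ U = (pCore 3 (G ⧸ U)).comap π := by
    intro P
    rw [← himg P, Subgroup.comap_map_eq, QuotientGroup.ker_mk']
  have hgen : ∀ P : Sylow 3 G, Subgroup.zpowers d ⊔ (P : Subgroup G) ⊔ U = ⊤ := by
    intro P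
    rw [sup_assoc, hsup P]
    refine eq_top_iff.2 fun x _ => ?_
    obtain ⟨z, hz, m, hm, hxe⟩ :=
      Subgroup.mem_sup_of_normal_right.1 (htop ▸ Subgroup.mem_top (π x))
    obtain ⟨i, rfl⟩ := Subgroup.mem_zpowers_iff.1 hz
    rw [← mul_inv_cancel_left (d ^ i) x]
    refine mul_mem (Subgroup.mem_sup_left (Subgroup.zpow_mem _ (Subgroup.mem_zpowers d) i))
      (Subgroup.mem_sup_right ?_)
    rw [Subgroup.mem_comap, map_mul, map_inv, map_zpow, ← hxe, inv_mul_cancel_left]
    exact hm
  -- descend the modulus from `U` to the trivial subgroup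
  have hdescent : ∀ W : Subgroup G, W.Normal → W ≤ U →
      (∃ P : Sylow 3 G, ∀ p ∈ (P : Subgroup G), d * p * d ∈ (P : Subgroup G) ⊔ W) →
      ∃ P : Sylow 3 G, ∀ p ∈ (P : Subgroup G), d * p * d ∈ (P : Subgroup G) := by
    intro W
    induction W using WellFoundedLT.induction with
    | ind W ih =>
    intro hWn hWU ⟨P, hP⟩
    rcases eq_or_ne W ⊥ with rfl | hWne
    · exact ⟨P, fun p hp => by simpa using hP p hp⟩
    obtain ⟨N, ⟨hNn, hNW⟩, hNmax⟩ := Set.Finite.exists_maximal
      (s := {N : Subgroup G | N.Normal ∧ N < W}) (Set.toFinite _)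
      ⟨⊥, inferInstance, bot_lt_iff_ne_bot.2 hWne⟩
    haveI := hWn
    haveI := hNn
    let ρ : G →* G ⧸ N := QuotientGroup.mk' N
    have hρ : Function.Surjective ρ := QuotientGroup.mk'_surjective N
    have hρker : ∀ {x : G}, ρ x = 1 ↔ x ∈ N := QuotientGroup.eq_one_iff _
    let W' := W.map ρ
    haveI : W'.Normal := hWn.map ρ hρ
    have hW'ne : W' ≠ ⊥ := fun h => hNW.not_ge fun x hx => hρker.1
      (Subgroup.mem_bot.1 (h ▸ Subgroup.mem_map_of_mem ρ hx))
    have hmin : ∀ S : Subgroup (G ⧸ N), S.Normal → S ≤ W' → S = ⊥ ∨ S = W' := by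
      intro S hS hle
      have h1 : N ≤ S.comap ρ := fun x hx => by
        rw [Subgroup.mem_comap, hρker.2 hx]; exact one_mem S
      have h2 : S.comap ρ ≤ W := fun x hx => by
        obtain ⟨y, hy, hxy⟩ := hle hx
        have : y⁻¹ * x ∈ N := by
          rw [← hρker, map_mul, map_inv, hxy, inv_mul_cancel]
        simpa using mul_mem hy (hNW.le this)
      rcases lt_or_eq_of_le h2 with h | h
      · left
        have : S.comap ρ = N := le_antisymm (hNmax ⟨hS.comap ρ, h⟩ h1) h1
        rw [← Subgroup.map_comap_eq_self_of_surjective hρ S, this, QuotientGroup.map_mk'_self]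
      · right
        rw [← Subgroup.map_comap_eq_self_of_surjective hρ S, h]
    let U' := U.map ρ
    haveI : U'.Normal := (inferInstance : U.Normal).map ρ hρ
    have hU' : IsPGroup 2 U' := hU2.map ρ
    have hW'U' : W' ≤ U' := Subgroup.map_mono hWU
    -- the chief factor is elementary abelian and centralised by the image of `U`
    have hfac : ∀ x ∈ W', x * x = 1 ∧ ∀ u ∈ U', u * x = x * u := by
      obtain ⟨y, hy, hyne, hy2, hyc⟩ := exists_central_involution hU' hW'U' hW'ne
      have hWU'c : W' ≤ Subgroup.centralizer (U' : Set (G ⧸ N)) := by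
        let S := W' ⊓ Subgroup.centralizer (U' : Set (G ⧸ N))
        rcases hmin S inferInstance inf_le_left with h | h
        · exact absurd (Subgroup.mem_bot.1 (h ▸ (⟨hy, Subgroup.mem_centralizer_iff.2 hyc⟩ :
            y ∈ S))) hyne
        · exact inf_eq_left.1 h
      have hcW : ∀ a ∈ W', ∀ b ∈ W', a * b = b * a := fun a ha b hb =>
        Subgroup.mem_centralizer_iff.1 (hWU'c hb) a (hW'U' ha)
      let T : Subgroup (G ⧸ N) :=
        { carrier := {x | x ∈ W' ∧ x * x = 1}
          mul_mem' := fun {a b} ha hb => ⟨mul_mem ha.1 hb.1, by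
            calc a * b * (a * b) = a * (b * a) * b := by group
              _ = a * (a * b) * b := by rw [hcW b hb.1 a ha.1]
              _ = (a * a) * (b * b) := by group
              _ = 1 := by rw [ha.2, hb.2, one_mul]⟩
          one_mem' := ⟨one_mem _, one_mul 1⟩
          inv_mem' := fun {a} ha => ⟨inv_mem ha.1, by rw [← mul_inv_rev, ha.2, inv_one]⟩ }
      have hTn : T.Normal := ⟨fun x hx g => ⟨Subgroup.Normal.conj_mem inferInstance x hx.1 g, by
        calc g * x * g⁻¹ * (g * x * g⁻¹) = g * (x * x) * g⁻¹ := by group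
          _ = 1 := by rw [hx.2]; group⟩⟩
      rcases hmin T hTn (fun x hx => hx.1) with h | h
      · exact absurd (Subgroup.mem_bot.1 (h ▸ (⟨hy, hy2⟩ : y ∈ T))) hyne
      · exact fun x hx => ⟨(h ▸ hx : x ∈ T).2, fun u hu =>
          Subgroup.mem_centralizer_iff.1 (hWU'c hx) u hu⟩
    let P' := (P : Subgroup G).map ρ
    have hP'3 : IsPGroup 3 P' := P.isPGroup'.map ρ
    have hd2 : ρ d * ρ d = 1 := by rw [← map_mul, sq hD' hd, map_one]
    have hdn : ∀ p ∈ P', ρ d * p * ρ d ∈ P' ⊔ W' := by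
      rintro _ ⟨p, hp, rfl⟩
      rw [← map_mul, ← map_mul, ← Subgroup.map_sup]
      exact Subgroup.mem_map_of_mem ρ (hP p hp)
    have hW'c : ∀ x ∈ W', ∀ y ∈ W', x * y = y * x := fun x hx y hy =>
      (hfac y hy).2 x (hW'U' hx)
    let C := W' ⊓ Subgroup.centralizer (P' : Set (G ⧸ N))
    have hCn : C.Normal := by
      rw [← Subgroup.normalizer_eq_top_iff, eq_top_iff,
        ← Subgroup.map_top_of_surjective ρ hρ, ← hgen P, Subgroup.map_sup, Subgroup.map_sup]
      refine sup_le (sup_le ?_ ?_) ?_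
      · rw [MonoidHom.map_zpowers, Subgroup.zpowers_le]
        refine mem_normalizer_of_forall fun x hx => ⟨Subgroup.Normal.conj_mem inferInstance _ hx.1 _,
          Subgroup.mem_centralizer_iff.2 fun p hp => ?_⟩
        obtain ⟨p₁, hp₁, w₁, hw₁, he⟩ := Subgroup.mem_sup_of_normal_right.1 (hdn p hp)
        have hc : ρ d * p * ρ d * x = x * (ρ d * p * ρ d) := by
          rw [← he, mul_assoc p₁, hW'c w₁ hw₁ x hx.1, ← mul_assoc p₁,
            Subgroup.mem_centralizer_iff.1 hx.2 p₁ hp₁, mul_assoc]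
        have hinv : (ρ d)⁻¹ = ρ d := inv_eq_of_mul_eq_one_right hd2
        rw [hinv]
        calc p * (ρ d * x * ρ d) = ρ d * (ρ d * p * ρ d * x) * ρ d := by
              simp only [← mul_assoc, hd2, one_mul]
          _ = ρ d * (x * (ρ d * p * ρ d)) * ρ d := by rw [hc]
          _ = ρ d * x * ρ d * p := by simp only [mul_assoc, hd2, mul_one]
      · intro p hp
        refine mem_normalizer_of_forall fun x hx => ?_
        rw [Subgroup.mem_centralizer_iff.1 hx.2 p hp, mul_inv_cancel_right]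
        exact hx
      · intro u hu
        refine mem_normalizer_of_forall fun x hx => ?_
        rw [(hfac x hx.1).2 u hu, mul_inv_cancel_right]
        exact hx
    have hfixed : (∀ x ∈ W', (∀ p ∈ P', p * x = x * p) → x = 1) ∨
        ∀ x ∈ W', ∀ p ∈ P', p * x = x * p := by
      rcases hmin C hCn inf_le_left with h | h
      · exact Or.inl fun x hx hc => Subgroup.mem_bot.1
          (h ▸ (⟨hx, Subgroup.mem_centralizer_iff.2 hc⟩ : x ∈ C))
      · exact Or.inr fun x hx p hp => Subgroup.mem_centralizer_iff.1 ((h ▸ hx : x ∈ C).2) p hp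
    have hback : ∀ (S : Subgroup G) (x : G), ρ x ∈ S.map ρ → x ∈ S ⊔ N := by
      rintro S x ⟨s, hs, he⟩
      have : s⁻¹ * x ∈ N := by rw [← hρker, map_mul, map_inv, he, inv_mul_cancel]
      simpa using mul_mem (Subgroup.mem_sup_left (T := N) hs)
        (Subgroup.mem_sup_right (S := S) this)
    rcases hfixed with hfix | hcen
    · -- the interesting case
      obtain ⟨v, hv, hnorm⟩ := exists_normalizing_conj W' P' hW'c (fun x hx => (hfac x hx).1)
        hP'3 hfix hd2 hdn (by
          rintro _ ⟨q, hq, rfl⟩ hqW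
          set d' := q * d * q⁻¹ with hd'e
          have hd'D : d' ∈ D := hG.2.1 q d hd
          have hρd' : ρ d' = ρ q * ρ d * (ρ q)⁻¹ := by simp [hd'e]
          rw [← hρd'] at hqW ⊢
          have hddU : d * d' ∈ U := by
            obtain ⟨y, hy, he⟩ := hqW
            have : y⁻¹ * (d * d') ∈ N := by
              rw [← hρker, map_mul ρ y⁻¹, map_inv, he, map_mul ρ d d', inv_mul_cancel]
            simpa using mul_mem (hWU hy) (hWU (hNW.le this))
          have hVd : VRel D d d' := vRel_of_mul_mem_pCore hD' hd hd'D hddU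
          obtain ⟨e, he, hne⟩ := exists_not_commute_of_class hD hD2 hd
          have hne' : ¬ Commute d' e := fun h => hne ((hVd.2 e he).1 h)
          set g := ρ d * ρ e
          set u := ρ d * ρ d'
          have hu : u ∈ W' := hqW
          have hg3 : g * g * g = 1 := by
            show ρ d * ρ e * (ρ d * ρ e) * (ρ d * ρ e) = 1
            rw [← map_mul ρ d e, ← pow_three', ← map_pow, cube_eq_one hD' hd he hne, map_one]
          have hug : u * g * (u * g) * (u * g) = 1 := by
            have h' : u * g = ρ (d' * e) := by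
              have hc : ρ d * ρ d' = ρ d' * ρ d := by
                rw [← map_mul, ← map_mul, hVd.commute.eq]
              calc u * g = ρ d' * ρ d * (ρ d * ρ e) := by rw [← hc]
                _ = ρ (d' * e) := by
                  rw [mul_assoc, ← mul_assoc (ρ d), hd2, one_mul, ← map_mul ρ d' e]
            rw [h', ← pow_three', ← map_pow, cube_eq_one hD' hd'D he hne', map_one]
          have hgd : ρ d * g * ρ d = g⁻¹ := by
            have he2 : ρ e * ρ e = 1 := by rw [← map_mul, sq hD' he, map_one]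
            rw [mul_inv_rev, inv_eq_of_mul_eq_one_right hd2, inv_eq_of_mul_eq_one_right he2]
            show ρ d * (ρ d * ρ e) * ρ d = ρ e * ρ d
            rw [← mul_assoc, hd2, one_mul]
          have hud : ρ d * u * ρ d = u := by
            have hc : ρ d * ρ d' = ρ d' * ρ d := by
              rw [← map_mul, ← map_mul, hVd.commute.eq]
            show ρ d * (ρ d * ρ d') * ρ d = ρ d * ρ d'
            rw [← mul_assoc, hd2, one_mul, hc]
          have hv := Subgroup.Normal.conj_mem (inferInstance : W'.Normal) u hu g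
          refine ⟨g * u * g⁻¹, hv, ?_⟩
          have hdv : ρ d * (g * u * g⁻¹) * ρ d = g⁻¹ * u * g := by
            calc ρ d * (g * u * g⁻¹) * ρ d
                = (ρ d * g * ρ d) * (ρ d * u * ρ d) * (ρ d * g⁻¹ * ρ d) := by
                  simp only [← mul_assoc]
                  simp only [mul_assoc _ (ρ d) (ρ d), hd2, mul_one]
              _ = g⁻¹ * u * g := by
                  rw [hgd, hud]
                  congr 1
                  calc ρ d * g⁻¹ * ρ d = ρ d * (ρ d * g * ρ d) * ρ d := by rw [hgd]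
                    _ = g := by
                      rw [← mul_assoc, ← mul_assoc, hd2, one_mul, mul_assoc, hd2, mul_one]
          -- `u * (g u g⁻¹) * (g⁻¹ u g) = 1`
          have hsum : u * (g * u * g⁻¹) * (g⁻¹ * u * g) = 1 := by
            have hgg : g⁻¹ = g * g := inv_eq_of_mul_eq_one_left hg3
            calc u * (g * u * g⁻¹) * (g⁻¹ * u * g)
                = u * g * u * (g⁻¹ * g⁻¹) * u * g := by group
              _ = u * g * u * g * u * g := by
                  congr 2
                  rw [hgg]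
                  calc u * g * u * (g * g * (g * g)) = u * g * u * (g * g * g * g) := by group
                    _ = u * g * u * g := by rw [hg3, one_mul]
              _ = 1 := by rw [← hug]; group
          have hvi : (g * u * g⁻¹)⁻¹ = g * u * g⁻¹ :=
            inv_eq_of_mul_eq_one_right (hfac _ hv).1
          have hd'u : ρ d' = ρ d * u := by
            show ρ d' = ρ d * (ρ d * ρ d')
            rw [← mul_assoc, hd2, one_mul]
          rw [hvi, hd'u]
          have hu' : u = (g⁻¹ * u * g) * (g * u * g⁻¹) := by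
            have hx : g⁻¹ * u * g ∈ W' := by
              simpa using Subgroup.Normal.conj_mem (inferInstance : W'.Normal) u hu g⁻¹
            have h1 : (g * u * g⁻¹) * (g⁻¹ * u * g) = u := by
              rw [mul_assoc u] at hsum
              rw [eq_inv_of_mul_eq_one_right hsum]
              exact inv_eq_of_mul_eq_one_right (hfac u hu).1
            rw [hW'c _ hx _ hv]
            exact h1.symm
          conv_lhs => rw [hu', ← hdv]
          simp only [← mul_assoc, hd2, one_mul])
      obtain ⟨v₀, hv₀, rfl⟩ := hv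
      refine ih N hNW hNn (hNW.le.trans hWU) ⟨v₀ • P, fun p hp => ?_⟩
      rw [Sylow.coe_subgroup_smul, Subgroup.mem_pointwise_smul_iff_inv_smul_mem] at hp
      obtain ⟨p', hp', he⟩ := hnorm (ρ (v₀⁻¹ * p * v₀))
        (Subgroup.mem_map_of_mem ρ (by simpa [MulAut.smul_def] using hp))
      refine hback _ _ ?_
      obtain ⟨p'', hp'', rfl⟩ := hp'
      have hin : v₀ * p'' * v₀⁻¹ ∈ ((v₀ • P : Sylow 3 G) : Subgroup G) := by
        rw [Sylow.coe_subgroup_smul, Subgroup.mem_pointwise_smul_iff_inv_smul_mem]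
        simp only [MulAut.smul_def, MulAut.conj_inv_apply, mul_assoc, inv_mul_cancel_left,
          inv_mul_cancel, mul_one]
        exact hp''
      have hval : ρ (d * p * d) = ρ (v₀ * p'' * v₀⁻¹) := by
        simp only [map_mul, map_inv] at he ⊢
        simpa [mul_assoc] using he
      rw [hval]
      exact Subgroup.mem_map_of_mem ρ hin
    · refine ih N hNW hNn (hNW.le.trans hWU) ⟨P, fun p hp => hback _ _ ?_⟩
      have hp' : ρ p ∈ P' := Subgroup.mem_map_of_mem ρ hp
      obtain ⟨p₁, hp₁, w₁, hw₁, he⟩ := Subgroup.mem_sup_of_normal_right.1 (hdn _ hp')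
      rw [map_mul, map_mul]
      show ρ d * ρ p * ρ d ∈ P'
      obtain ⟨k, hk⟩ := P.isPGroup' ⟨p, hp⟩
      obtain ⟨j, hj⟩ := hP'3 ⟨p₁, hp₁⟩
      have hj' : p₁ ^ 3 ^ j = 1 := by simpa using congrArg Subtype.val hj
      have hk' : (ρ d * ρ p * ρ d) ^ 3 ^ k = 1 := by
        have : ρ d * ρ p * ρ d = ρ (d * p * d⁻¹) := by rw [inv_eq hD' hd]; simp
        rw [this, ← map_pow, conj_pow,
          show p ^ 3 ^ k = 1 by simpa using congrArg Subtype.val hk]
        simp
      rw [← he] at hk' ⊢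
      have hc : Commute p₁ w₁ := hcen w₁ hw₁ p₁ hp₁
      have hw3 : w₁ ^ 3 ^ (k + j) = 1 := by
        have h1 : (p₁ * w₁) ^ 3 ^ (k + j) = 1 := by rw [pow_add, pow_mul, hk', one_pow]
        rwa [hc.mul_pow, show p₁ ^ 3 ^ (k + j) = 1 by rw [add_comm, pow_add, pow_mul, hj', one_pow],
          one_mul] at h1
      rw [orderOf_eq_one_iff.1 (Nat.eq_one_of_dvd_coprimes
        (Nat.Coprime.pow_right (k + j) (by norm_num : Nat.Coprime 2 3))
        (orderOf_dvd_of_pow_eq_one (by rw [pow_two]; exact (hfac w₁ hw₁).1))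
        (orderOf_dvd_of_pow_eq_one hw3)), mul_one]
      exact hp₁
  obtain ⟨P⟩ : Nonempty (Sylow 3 G) := inferInstance
  obtain ⟨Q, hQ⟩ := hdescent U inferInstance le_rfl ⟨P, fun p hp => by
    rw [hsup P]
    have hn : ((pCore 3 (G ⧸ U)).comap π).Normal := inferInstance
    have := hn.conj_mem p ((hsup P) ▸ Subgroup.mem_sup_left hp) d
    rwa [inv_eq hD' hd] at this⟩
  exact ⟨Q, mem_normalizer_of_forall fun p hp => by rw [inv_eq hD' hd]; exact hQ p hp, hgen Q⟩

end Sylow

end CfsgLib.Transpositions
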