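import Cfsg.Agent.Transpositions.Classes
import Cfsg.Agent.Transpositions.WidthOne
import Cfsg.Agent.Transpositions.String
import Mathlib.GroupTheory.SpecificGroups.Alternating.Simple
import Mathlib.GroupTheory.NoncommPiCoprod

/-!
# 3-transpositions whose members have three partners generating `Sym 3`
-/

set_option autoImplicit false

namespace CfsgLib.Transpositions

open Cfsg

/-! ### A homomorphism out of `Sym 5` -/

section FiveString

variable {G : Type*} [Group G]

/-- Normal forms for the Coxeter group with diagram `p — q — r — s`. -/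
def fiveForms (p q r s : G) : (Fin 6 × Fin 4) × Fin 5 → G :=
  fun i => stringForms p q r i.1 * ![1, s, s * r, s * r * q, s * r * q * p] i.2

theorem fiveForms_closed {p q r s : G} (hp : p * p = 1) (hq : q * q = 1) (hr : r * r = 1)
    (hs : s * s = 1) (hpr : r * p = p * r) (hps : s * p = p * s) (hqs : s * q = q * s)
    (hpq : q * p * q = p * q * p) (hqr : r * q * r = q * r * q) (hrs : s * r * s = r * s * r) :
    ∀ x ∈ Set.range (fiveForms p q r s), ∀ y ∈ ({p, q, r, s} : Set G),
      x * y ∈ Set.range (fiveForms p q r s) := by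
  have hstep : ∀ k, ∀ y ∈ ({p, q, r} : Set G), ∃ l, stringForms p q r k * y = stringForms p q r l :=
    fun k y hy => by
      obtain ⟨l, hl⟩ := stringForms_closed hp hq hr hpr hpq hqr _ ⟨k, rfl⟩ y hy
      exact ⟨l, hl.symm⟩
  set R : Fin 5 → G := ![1, s, s * r, s * r * q, s * r * q * p]
  rintro _ ⟨⟨k, j⟩, rfl⟩ y hy
  have hcom : (∃ j', R j * y = R j') ∨ ∃ z ∈ ({p, q, r} : Set G), R j * y = z * R j := by
    rcases hy with rfl | rfl | rfl | rfl <;> fin_cases j
    · exact Or.inr ⟨y, Or.inl rfl, by simp [R]⟩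
    · exact Or.inr ⟨y, Or.inl rfl, hps⟩
    · refine Or.inr ⟨y, Or.inl rfl, show s * r * y = y * (s * r) from ?_⟩
      rw [mul_assoc, hpr, ← mul_assoc, hps, mul_assoc]
    · exact Or.inl ⟨4, rfl⟩
    · exact Or.inl ⟨3, show s * r * q * y * y = s * r * q by rw [mul_assoc, hp, mul_one]⟩
    · exact Or.inr ⟨y, Or.inr (Or.inl rfl), by simp [R]⟩
    · exact Or.inr ⟨y, Or.inr (Or.inl rfl), hqs⟩
    · exact Or.inl ⟨3, rfl⟩
    · exact Or.inl ⟨2, show s * r * y * y = s * r by rw [mul_assoc, hq, mul_one]⟩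
    · refine Or.inr ⟨p, Or.inl rfl, show s * r * y * p * y = p * (s * r * y * p) from ?_⟩
      calc s * r * y * p * y = s * r * (y * p * y) := by simp only [mul_assoc]
        _ = s * (r * p) * y * p := by rw [hpq]; simp only [mul_assoc]
        _ = s * p * r * y * p := by rw [hpr]; simp only [mul_assoc]
        _ = p * (s * r * y * p) := by rw [hps]; simp only [mul_assoc]
    · exact Or.inr ⟨y, Or.inr (Or.inr rfl), by simp [R]⟩
    · exact Or.inl ⟨2, rfl⟩
    · exact Or.inl ⟨1, show s * y * y = s by rw [mul_assoc, hr, mul_one]⟩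
    · refine Or.inr ⟨q, Or.inr (Or.inl rfl), show s * y * q * y = q * (s * y * q) from ?_⟩
      calc s * y * q * y = s * (y * q * y) := by simp only [mul_assoc]
        _ = s * q * y * q := by rw [hqr]; simp only [mul_assoc]
        _ = q * (s * y * q) := by rw [hqs]; simp only [mul_assoc]
    · refine Or.inr ⟨q, Or.inr (Or.inl rfl), show s * y * q * p * y = q * (s * y * q * p) from ?_⟩
      calc s * y * q * p * y = s * (y * q * (p * y)) := by simp only [mul_assoc]
        _ = s * (y * q * y) * p := by rw [← hpr]; simp only [mul_assoc]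
        _ = s * q * y * q * p := by rw [hqr]; simp only [mul_assoc]
        _ = q * (s * y * q * p) := by rw [hqs]; simp only [mul_assoc]
    · exact Or.inl ⟨1, show 1 * y = y from one_mul y⟩
    · exact Or.inl ⟨0, hs⟩
    · exact Or.inr ⟨r, Or.inr (Or.inr rfl), show y * r * y = r * (y * r) by
        rw [hrs, mul_assoc]⟩
    · refine Or.inr ⟨r, Or.inr (Or.inr rfl), show y * r * q * y = r * (y * r * q) from ?_⟩
      calc y * r * q * y = y * r * y * q := by simp only [mul_assoc]; rw [← hqs]
        _ = r * (y * r * q) := by rw [hrs]; simp only [mul_assoc]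
    · refine Or.inr ⟨r, Or.inr (Or.inr rfl), show y * r * q * p * y = r * (y * r * q * p) from ?_⟩
      calc y * r * q * p * y = y * r * q * y * p := by simp only [mul_assoc]; rw [← hps]
        _ = y * r * y * q * p := by simp only [mul_assoc]; rw [← mul_assoc q y, ← hqs, mul_assoc]
        _ = r * (y * r * q * p) := by rw [hrs]; simp only [mul_assoc]
  show stringForms p q r k * R j * y ∈ _
  rcases hcom with ⟨j', hj⟩ | ⟨z, hz, hj⟩
  · exact ⟨(k, j'), show stringForms p q r k * R j' = _ by rw [mul_assoc, hj]⟩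
  · obtain ⟨l, hl⟩ := hstep k z hz
    exact ⟨(l, j), show stringForms p q r l * R j = _ by rw [mul_assoc, hj, ← mul_assoc, hl]⟩

theorem perm_five_relations :
    let p := Equiv.swap (0 : Fin 5) 1
    let q := Equiv.swap (1 : Fin 5) 2
    let r := Equiv.swap (2 : Fin 5) 3
    let s := Equiv.swap (3 : Fin 5) 4
    r * p = p * r ∧ s * p = p * s ∧ s * q = q * s ∧ q * p * q = p * q * p ∧
      r * q * r = q * r * q ∧ s * r * s = r * s * r := by
  decide +kernel

set_option synthInstance.maxSize 4096 in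
set_option synthInstance.maxHeartbeats 200000 in
set_option maxSynthPendingDepth 8 in
theorem swap_comm_of_disjoint : ∀ i j a b : Fin 5, a ≠ i → a ≠ j → b ≠ i → b ≠ j →
    Equiv.swap i j * Equiv.swap a b = Equiv.swap a b * Equiv.swap i j := by
  decide +kernel

theorem perm_five_closure :
    Subgroup.closure (Set.range ![Equiv.swap (0 : Fin 5) 1, Equiv.swap 1 2, Equiv.swap 2 3,
      Equiv.swap 3 4]) = ⊤ := by
  rw [eq_top_iff]
  have : ⊤ ≤ Subgroup.closure (Set.range fun i : Fin 4 => Equiv.swap i.castSucc i.succ) :=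
    fun g _ => by
      have h : g ∈ Submonoid.closure (Set.range fun i : Fin 4 => Equiv.swap i.castSucc i.succ) := by
        rw [Equiv.Perm.mclosure_swap_castSucc_succ]; trivial
      exact Submonoid.closure_le.2 Subgroup.subset_closure h
  convert this using 3
  funext i; fin_cases i <;> rfl

/-- A 4-string of 3-transpositions generates a copy of `Sym 5`. -/
theorem exists_hom_of_string_four {D : Set G} (hD : IsThreeTranspositionSet D) {p q r s : G}
    (hp : p ∈ D) (hq : q ∈ D) (hr : r ∈ D) (hs : s ∈ D)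
    (hpr : Commute p r) (hps : Commute p s) (hqs : Commute q s)
    (hpq : ¬ Commute p q) (hqr : ¬ Commute q r) (hrs : ¬ Commute r s) :
    ∃ φ : Equiv.Perm (Fin 5) →* G, Function.Injective φ ∧ φ (Equiv.swap 0 1) = p ∧
      φ (Equiv.swap 1 2) = q ∧ φ (Equiv.swap 2 3) = r ∧ φ (Equiv.swap 3 4) = s := by
  let P : Equiv.Perm (Fin 5) × G := (Equiv.swap 0 1, p)
  let Q : Equiv.Perm (Fin 5) × G := (Equiv.swap 1 2, q)
  let R : Equiv.Perm (Fin 5) × G := (Equiv.swap 2 3, r)
  let S : Equiv.Perm (Fin 5) × G := (Equiv.swap 3 4, s)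
  have hP : P * P = 1 := Prod.ext (Equiv.swap_mul_self _ _) (sq hD hp)
  have hQ : Q * Q = 1 := Prod.ext (Equiv.swap_mul_self _ _) (sq hD hq)
  have hR : R * R = 1 := Prod.ext (Equiv.swap_mul_self _ _) (sq hD hr)
  have hS : S * S = 1 := Prod.ext (Equiv.swap_mul_self _ _) (sq hD hs)
  obtain ⟨e1, e2, e3, e4, e5, e6⟩ := perm_five_relations
  have hclosed := fiveForms_closed hP hQ hR hS
    (Prod.ext e1 hpr.eq.symm) (Prod.ext e2 hps.eq.symm)
    (Prod.ext e3 hqs.eq.symm) (Prod.ext e4 (braid hD hq hp fun h => hpq h.symm))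
    (Prod.ext e5 (braid hD hr hq fun h => hqr h.symm))
    (Prod.ext e6 (braid hD hs hr fun h => hrs h.symm))
  have hrange : (Set.range fun i : Fin 4 =>
      (![Equiv.swap (0 : Fin 5) 1, Equiv.swap 1 2, Equiv.swap 2 3, Equiv.swap 3 4] i,
        ![p, q, r, s] i)) = ({P, Q, R, S} : Set _) := by
    ext x
    constructor
    · rintro ⟨i, rfl⟩; fin_cases i
      · exact Or.inl rfl
      · exact Or.inr (Or.inl rfl)
      · exact Or.inr (Or.inr (Or.inl rfl))
      · exact Or.inr (Or.inr (Or.inr rfl))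
    · rintro (rfl | rfl | rfl | rfl)
      · exact ⟨0, rfl⟩
      · exact ⟨1, rfl⟩
      · exact ⟨2, rfl⟩
      · exact ⟨3, rfl⟩
  obtain ⟨φ, hφ⟩ := exists_hom_of_card_le _ ![p, q, r, s] perm_five_closure
    (Set.range (fiveForms P Q R S)) (Set.finite_range _)
    (hrange ▸ closure_subset_of_mul_closed _
      (by rintro y (rfl | rfl | rfl | rfl); exacts [hP, hQ, hR, hS])
      ⟨((0, 0), 0), by simp [fiveForms, stringForms]⟩ hclosed)
    (by
      rw [← Set.image_univ]
      refine (Set.ncard_image_le).trans ?_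
      rw [Set.ncard_univ, Nat.card_eq_fintype_card, Nat.card_eq_fintype_card]
      simp [Fintype.card_perm]; decide)
  have h0 : φ (Equiv.swap 0 1) = p := hφ 0
  have h1 : φ (Equiv.swap 1 2) = q := hφ 1
  refine ⟨φ, ?_, h0, h1, hφ 2, hφ 3⟩
  rw [← MonoidHom.ker_eq_bot_iff]
  by_contra hker
  haveI : Nontrivial φ.ker := (Subgroup.nontrivial_iff_ne_bot _).2 hker
  have hle := Equiv.Perm.alternatingGroup_le_of_normal (α := Fin 5) (by simp) (N := φ.ker) this
  have hmem : Equiv.swap (0 : Fin 5) 1 * Equiv.swap 1 2 ∈ alternatingGroup (Fin 5) := by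
    rw [Equiv.Perm.mem_alternatingGroup]; decide
  have h := MonoidHom.mem_ker.1 (hle hmem)
  rw [map_mul, h0, h1, mul_eq_one_iff hD hq] at h
  exact hpq (h ▸ Commute.refl p)

end FiveString

/-! ### Edge colourings of the Petersen graph -/

set_option synthInstance.maxSize 4096 in
set_option synthInstance.maxHeartbeats 200000 in
set_option maxSynthPendingDepth 8 in
theorem petersen_not_colourable : ∀ o₁ o₂ : Fin 3, o₁ ≠ o₂ →
    ∀ s₂, s₂ ≠ o₁ → s₂ ≠ o₂ → ∀ o₃, o₃ ≠ o₂ →
    ∀ s₃, s₃ ≠ o₂ → s₃ ≠ o₃ → ∀ o₄, o₄ ≠ o₃ →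
    ∀ s₄, s₄ ≠ o₃ → s₄ ≠ o₄ → ∀ o₅, o₅ ≠ o₄ → o₅ ≠ o₁ →
    ∀ s₅, s₅ ≠ o₄ → s₅ ≠ o₅ → ∀ s₁, s₁ ≠ o₅ → s₁ ≠ o₁ →
    ∀ i₁, i₁ ≠ s₁ → i₁ ≠ s₃ → ∀ i₂, i₂ ≠ s₃ → i₂ ≠ i₁ → i₂ ≠ s₅ →
    ∀ i₃, i₃ ≠ s₅ → i₃ ≠ i₂ → i₃ ≠ s₂ → ∀ i₄, i₄ ≠ s₂ → i₄ ≠ i₃ → i₄ ≠ s₄ →
    ∀ i₅ : Fin 3, i₅ ≠ s₄ → i₅ ≠ i₄ → i₅ ≠ s₁ → i₅ ≠ i₁ → False := by
  decide +kernel

set_option synthInstance.maxSize 4096 in
set_option synthInstance.maxHeartbeats 200000 in
theorem perm_three_three_involutions : ∀ a b c x : Equiv.Perm (Fin 3), a * a = 1 → b * b = 1 →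
    c * c = 1 → x * x = 1 → a ≠ 1 → b ≠ 1 → c ≠ 1 → x ≠ 1 → a ≠ b → a ≠ c → b ≠ c →
    x = a ∨ x = b ∨ x = c := by decide +kernel

theorem perm_three_not_commute : ∀ a b : Equiv.Perm (Fin 3), a * a = 1 → b * b = 1 →
    a ≠ 1 → b ≠ 1 → a ≠ b → a * b ≠ b * a := by decide +kernel

theorem perm_three_center : ∀ z : Equiv.Perm (Fin 3), (∀ g, z * g = g * z) → z = 1 := by
  decide +kernel

/-! ### Three partners generating `Sym 3` -/

section Main

variable {G : Type*} [Group G] {D : Set G}

/-- The hypothesis on the partners of `d`. -/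
def HasSymThreePerp (D : Set G) (d : G) : Prop :=
  Nonempty (↥(Subgroup.closure (perp D d)) ≃* Equiv.Perm (Fin 3))

theorem perp_not_commute (hD : IsThreeTranspositionSet D) {d x y : G}
    (h : HasSymThreePerp D d) (hx : x ∈ perp D d) (hy : y ∈ perp D d) (hne : x ≠ y) :
    ¬ Commute x y := by
  obtain ⟨ψ⟩ := h
  intro hc
  let x' : Subgroup.closure (perp D d) := ⟨x, Subgroup.subset_closure hx⟩
  let y' : Subgroup.closure (perp D d) := ⟨y, Subgroup.subset_closure hy⟩
  refine perm_three_not_commute (ψ x') (ψ y') ?_ ?_ ?_ ?_ (fun e => hne ?_) ?_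
  · rw [← map_mul, show x' * x' = 1 from Subtype.ext (sq hD hx.1), map_one]
  · rw [← map_mul, show y' * y' = 1 from Subtype.ext (sq hD hy.1), map_one]
  · exact fun e => ne_one hD hx.1 (congrArg Subtype.val (ψ.map_eq_one_iff.1 e))
  · exact fun e => ne_one hD hy.1 (congrArg Subtype.val (ψ.map_eq_one_iff.1 e))
  · exact congrArg Subtype.val (ψ.injective e)
  · rw [← map_mul, ← map_mul, show x' * y' = y' * x' from Subtype.ext hc.eq]

theorem perp_three (hD : IsThreeTranspositionSet D) {d a b c x : G}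
    (h : HasSymThreePerp D d) (ha : a ∈ perp D d) (hb : b ∈ perp D d) (hc : c ∈ perp D d)
    (hab : a ≠ b) (hac : a ≠ c) (hbc : b ≠ c) (hx : x ∈ perp D d) : x = a ∨ x = b ∨ x = c := by
  obtain ⟨ψ⟩ := h
  let f : ∀ y, y ∈ perp D d → Equiv.Perm (Fin 3) := fun y hy => ψ ⟨y, Subgroup.subset_closure hy⟩
  have hsq : ∀ y hy, f y hy * f y hy = 1 := fun y hy => by
    rw [← map_mul, ← map_one ψ]; exact congrArg ψ (Subtype.ext (sq hD hy.1))
  have hne : ∀ y hy, f y hy ≠ 1 := fun y hy e =>
    ne_one hD hy.1 (congrArg Subtype.val (ψ.map_eq_one_iff.1 e))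
  have hinj : ∀ y hy z hz, f y hy = f z hz → y = z := fun y hy z hz e =>
    congrArg Subtype.val (ψ.injective e)
  rcases perm_three_three_involutions _ _ _ _ (hsq a ha) (hsq b hb) (hsq c hc) (hsq x hx)
    (hne a ha) (hne b hb) (hne c hc) (hne x hx) (fun e => hab (hinj a ha b hb e))
    (fun e => hac (hinj a ha c hc e)) (fun e => hbc (hinj b hb c hc e)) with e | e | e
  · exact Or.inl (hinj x hx a ha e)
  · exact Or.inr (Or.inl (hinj x hx b hb e))
  · exact Or.inr (Or.inr (hinj x hx c hc e))

theorem perp_nontrivial {d : G}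
    (h : HasSymThreePerp D d) : ∃ a ∈ perp D d, ∃ b ∈ perp D d, a ≠ b := by
  obtain ⟨ψ⟩ := h
  by_contra hcon
  push Not at hcon
  have hcomm : ∀ s t : Equiv.Perm (Fin 3), s * t = t * s := by
    intro s t
    have hc : ∀ u v : G, u ∈ Subgroup.closure (perp D d) → v ∈ Subgroup.closure (perp D d) →
        u * v = v * u := by
      intro u v hu hv
      haveI := Subgroup.isMulCommutative_closure (k := perp D d)
        (fun p hp q hq => by rw [hcon p hp q hq])
      exact congrArg Subtype.val ((inferInstance : IsMulCommutative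
        (Subgroup.closure (perp D d))).is_comm.comm ⟨u, hu⟩ ⟨v, hv⟩)
    apply ψ.symm.injective
    rw [map_mul, map_mul]
    exact Subtype.ext (hc _ _ (ψ.symm s).2 (ψ.symm t).2)
  exact absurd (hcomm (Equiv.swap 0 1) (Equiv.swap 1 2)) (by decide +kernel)

variable (hD : IsThreeTranspositionSet D) (hconj : ∀ g : G, ∀ x ∈ D, g * x * g⁻¹ ∈ D)

include hD hconj

theorem conj_mem_perp {d x y : G} (hx : x ∈ perp D d) (hy : y ∈ perp D d) :
    x * y * x ∈ perp D d := by
  have hinv := inv_eq hD hx.1
  have hfix : x * d * x = d := (commute_iff_conj_eq hD hx.1).1 hx.2.2.symm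
  refine ⟨by simpa [hinv] using hconj x y hy.1, fun e => hy.2.1 ?_, ?_⟩
  · calc y = x * (x * y * x) * x := by
          simp [mul_assoc, mul_cancel_left hD hx.1, sq hD hx.1]
      _ = d := by rw [e, hfix]
  · have := (commute_conj_iff x d y).2 hy.2.2
    rwa [hinv, hfix] at this

/-- For a member `x` commuting with neither of the commuting members `t`, `a`, the conjugate of
`x` by `t a` is a partner of `x`. -/
theorem double_conj_mem_perp {t a x : G} (ht : t ∈ D) (ha : a ∈ D) (hx : x ∈ D) (hta : Commute t a)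
    (hne : t ≠ a) (hxt : ¬ Commute x t) (hxa : ¬ Commute x a) :
    t * (a * x * a) * t ∈ perp D x := by
  have hat : a * t * a = t := (commute_iff_conj_eq hD ha).1 hta.symm
  refine ⟨?_, fun e => hne ?_, ?_⟩
  · have := hconj t _ (hconj a x hx)
    rwa [inv_eq hD ht, inv_eq hD ha] at this
  · have h1 : a * x * a = t * x * t := by
      conv_rhs => rw [← e]
      simp [mul_assoc, mul_cancel_left hD ht, sq hD ht]
    rw [braid hD ha hx fun h => hxa h.symm, braid hD ht hx fun h => hxt h.symm] at h1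
    exact (mul_left_cancel (mul_right_cancel h1)).symm
  · refine ((commute_iff_conj_eq hD hx).2 ?_)
    have h1 : x * t * x = t * x * t := braid hD hx ht hxt
    have h2 : x * a * x = a * x * a := braid hD hx ha hxa
    have hinner : a * x * a * x * (a * x * a) = a := by
      calc a * x * a * x * (a * x * a) = a * (x * a * x) * a * x * a := by simp only [mul_assoc]
        _ = a * (a * x * a) * a * x * a := by rw [h2]
        _ = a := by
          simp only [mul_assoc, mul_cancel_left hD ha, mul_cancel_left hD hx]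
    calc x * (t * (a * x * a) * t) * x
        = (x * t * x) * (x * a * x) * x * (x * a * x) * (x * t * x) := by
          simp only [mul_assoc, mul_cancel_left hD hx]
      _ = t * x * (t * a * t) * x * t := by
          rw [h1, h2]
          conv_lhs => rw [mul_assoc (t * x * t), mul_assoc (t * x * t), hinner]
          simp only [mul_assoc]
      _ = t * (x * a * x) * t := by
          rw [(commute_iff_conj_eq hD ht).1 hta]; simp only [mul_assoc]
      _ = t * (a * x * a) * t := by rw [h2]

theorem double_conj_injective {t a b x : G} (ht : t ∈ D) (ha : a ∈ D) (hb : b ∈ D) (hx : x ∈ D)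
    (hxa : ¬ Commute x a) (hxb : ¬ Commute x b)
    (h : t * (a * x * a) * t = t * (b * x * b) * t) : a = b := by
  have h1 := mul_left_cancel (mul_right_cancel h)
  rw [braid hD ha hx fun h => hxa h.symm, braid hD hb hx fun h => hxb h.symm] at h1
  exact mul_left_cancel (mul_right_cancel h1)

/-- The six members of a `Sym 3 × Sym 3` configuration exhaust `D`. -/
theorem exhaust_of_bipartite [Finite G] (hloc : ∀ d ∈ D, HasSymThreePerp D d ∧
      Nat.card (pCore 3 ↥(Subgroup.centralizer ({d} : Set G))) = 3)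
    {d a b e : G} (hd : d ∈ D) (ha : a ∈ perp D d) (hb : b ∈ perp D d) (hab : a ≠ b)
    (he : e ∈ perp D a) (hed : e ≠ d) (heb : e ∈ perp D b) :
    D = perp D a ∪ perp D d ∧ ∀ y ∈ perp D d, perp D y = perp D a := by
  haveI : Fact (Nat.Prime 3) := ⟨Nat.prime_three⟩
  have hda : d ∈ perp D a := ⟨hd, ha.2.1.symm, ha.2.2.symm⟩
  have hdb : d ∈ perp D b := ⟨hd, hb.2.1.symm, hb.2.2.symm⟩
  have hncab : ¬ Commute a b := perp_not_commute hD (hloc d hd).1 ha hb hab
  have hncde : ¬ Commute d e := perp_not_commute hD (hloc a ha.1).1 hda he hed.symm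
  set c := a * b * a with hc
  set e' := d * e * d with he'
  have hc' : c ∈ perp D d := conj_mem_perp hD hconj ha hb
  have he'a : e' ∈ perp D a := conj_mem_perp hD hconj hda he
  have he'b : e' ∈ perp D b := conj_mem_perp hD hconj hdb heb
  have hca : c ≠ a := conj_ne_left hD ha.1 hncab
  have hcb : c ≠ b := conj_ne_right hD ha.1 hncab
  have he'd : e' ≠ d := conj_ne_left hD hd hncde
  have he'e : e' ≠ e := conj_ne_right hD hd hncde
  have hmemA : ∀ y ∈ perp D d, y = a ∨ y = b ∨ y = c := fun y hy =>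
    perp_three hD (hloc d hd).1 ha hb hc' hab hca.symm hcb.symm hy
  have hmemT : ∀ y ∈ perp D a, y = d ∨ y = e ∨ y = e' := fun y hy =>
    perp_three hD (hloc a ha.1).1 hda he he'a hed.symm he'd.symm he'e.symm hy
  have hcross : ∀ t ∈ perp D a, ∀ y ∈ perp D d, Commute t y ∧ t ≠ y := by
    intro t ht y hy
    have hta : Commute t a := ht.2.2.symm
    have htb : Commute t b := by
      rcases hmemT t ht with rfl | rfl | rfl
      exacts [hb.2.2, heb.2.2.symm, he'b.2.2.symm]
    refine ⟨?_, fun h => hy.2.1 ?_⟩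
    · rcases hmemA y hy with rfl | rfl | rfl
      exacts [hta, htb, (hta.mul_right htb).mul_right hta]
    · subst h
      rcases hmemA t hy with h | h | h
      · exact absurd h ht.2.1
      · exact absurd (h ▸ hta.symm) hncab
      · exfalso
        rw [h, hc] at hta
        have := (commute_iff_conj_eq hD ha.1).1 hta.symm
        simp only [mul_assoc, mul_cancel_left hD ha.1, sq hD ha.1, mul_one] at this
        exact hcb.symm (by simpa [hc, mul_assoc] using this)
  have hperpA : ∀ y ∈ perp D d, perp D y = perp D a := by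
    intro y hy
    have hin : ∀ t ∈ perp D a, t ∈ perp D y := fun t ht =>
      ⟨ht.1, (hcross t ht y hy).2, (hcross t ht y hy).1.symm⟩
    refine Set.Subset.antisymm (fun t ht => ?_) hin
    rcases perp_three hD (hloc y hy.1).1 (hin d hda) (hin e he) (hin e' he'a) hed.symm he'd.symm
      he'e.symm ht with rfl | rfl | rfl
    exacts [hda, he, he'a]
  have hperpT : ∀ t ∈ perp D a, perp D t = perp D d := by
    intro t ht
    have hin : ∀ y ∈ perp D d, y ∈ perp D t := fun y hy =>
      ⟨hy.1, (hcross t ht y hy).2.symm, (hcross t ht y hy).1⟩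
    refine Set.Subset.antisymm (fun y hy => ?_) hin
    rcases perp_three hD (hloc t ht.1).1 (hin a ha) (hin b hb) (hin c hc') hab hca.symm hcb.symm
      hy with rfl | rfl | rfl
    exacts [ha, hb, hc']
  refine ⟨Set.Subset.antisymm (fun x hx => ?_) (Set.union_subset (fun y h => h.1) fun y h => h.1),
    hperpA⟩
  by_contra hx0
  have hT : ∀ t ∈ perp D a, ¬ Commute x t := fun t ht h => by
    by_cases hxt : x = t
    · exact hx0 (Or.inl (hxt ▸ ht))
    · exact hx0 (Or.inr (hperpT t ht ▸ ⟨hx, hxt, h.symm⟩))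
  have hA : ∀ y ∈ perp D d, ¬ Commute x y := fun y hy h => by
    by_cases hxy : x = y
    · exact hx0 (Or.inr (hxy ▸ hy))
    · exact hx0 (Or.inl (hperpA y hy ▸ ⟨hx, hxy, h.symm⟩))
  have hk : ∀ t ∈ perp D a, ∀ y ∈ perp D d, t * (y * x * y) * t ∈ perp D x := fun t ht y hy =>
    double_conj_mem_perp hD hconj ht.1 hy.1 hx (hcross t ht y hy).1 (hcross t ht y hy).2
      (hT t ht) (hA y hy)
  have hinjA : ∀ y ∈ perp D d, ∀ z ∈ perp D d,
      d * (y * x * y) * d = d * (z * x * z) * d → y = z := fun y hy z hz h =>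
    double_conj_injective hD hconj hd hy.1 hz.1 hx (hA y hy) (hA z hz) h
  -- the partner of `x` reached through `e a` is also reached through `d y`
  obtain ⟨y, hy, hya, heq⟩ : ∃ y ∈ perp D d, y ≠ a ∧
      d * (y * x * y) * d = e * (a * x * a) * e := by
    rcases perp_three hD (hloc x hx).1 (hk d hda a ha) (hk d hda b hb) (hk d hda c hc')
      (fun h => hab (hinjA _ ha _ hb h)) (fun h => hca.symm (hinjA _ ha _ hc' h))
      (fun h => hcb.symm (hinjA _ hb _ hc' h)) (hk e he a ha) with h | h | h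
    · exfalso
      have haxa : a * x * a ∈ D := by simpa [inv_eq hD ha.1] using hconj a x hx
      have hnz : ∀ t ∈ perp D a, ¬ Commute t (a * x * a) := fun t ht hc => hT t ht (by
        have h' := (commute_conj_iff a t (a * x * a)).2 hc
        rw [inv_eq hD ha.1, (commute_iff_conj_eq hD ha.1).1 ht.2.2] at h'
        simpa [mul_assoc, mul_cancel_left hD ha.1, sq hD ha.1] using h'.symm)
      rw [braid hD he.1 haxa (hnz e he), braid hD hd haxa (hnz d hda)] at h
      exact hed (mul_left_cancel (mul_right_cancel h))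
    · exact ⟨b, hb, hab.symm, h.symm⟩
    · exact ⟨c, hc', hca, h.symm⟩
  set u := d * e * (y * a) with hu
  have hdy : Commute d y := (hcross d hda y hy).1
  have hey : Commute e y := (hcross e he y hy).1
  have hda' : Commute d a := (hcross d hda a ha).1
  have hea : Commute e a := (hcross e he a ha).1
  have hu' : u = d * y * (e * a) := by
    rw [hu]; simp only [mul_assoc]; rw [← mul_assoc e y, hey.eq, mul_assoc]
  set x' := d * (y * x * y) * d with hx'
  have hux : u * x = x * u := by
    have h : u * x * u⁻¹ = x := by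
      rw [hu', mul_inv_rev, mul_inv_rev, mul_inv_rev, inv_eq hD ha.1, inv_eq hD he.1,
        inv_eq hD hd, inv_eq hD hy.1]
      calc d * y * (e * a) * x * (a * e * (y * d))
          = d * y * (e * (a * x * a) * e) * (y * d) := by simp only [mul_assoc]
        _ = d * y * (d * (y * x * y) * d) * (y * d) := by rw [← heq]
        _ = x := by
          have h1 : d * y * (d * (y * x * y) * d) * (y * d) =
              (d * y * (d * y)) * x * (y * d * (y * d)) := by simp only [mul_assoc]
          rw [h1, ← pow_two, ← pow_two, hdy.mul_pow, hdy.symm.mul_pow]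
          simp [pow_two, sq hD hd, sq hD hy.1]
    exact mul_inv_eq_iff_eq_mul.1 h
  have hxx' : x' ∈ perp D x := hk d hda y hy
  have hguG : d * y * u * (y * d) = u⁻¹ := by
    have hyde : Commute y (d * e) := hdy.symm.mul_right hey.symm
    have hday : Commute d (a * y) := hda'.mul_right hdy
    have hedy : Commute (e * d) (a * y) :=
      ((hea.mul_right hey).mul_left hday)
    rw [hu, mul_inv_rev, mul_inv_rev, mul_inv_rev, inv_eq hD hd, inv_eq hD he.1, inv_eq hD hy.1,
      inv_eq hD ha.1]
    calc d * y * (d * e * (y * a)) * (y * d)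
        = d * (y * (d * e)) * (y * a * y) * d := by simp only [mul_assoc]
      _ = d * (d * e) * (y * (y * a * y)) * d := by rw [hyde.eq]; simp only [mul_assoc]
      _ = e * ((a * y) * d) := by
          simp only [mul_assoc, mul_cancel_left hD hd, mul_cancel_left hD hy.1]
      _ = e * d * (a * y) := by rw [← hday.eq, mul_assoc]
      _ = a * y * (e * d) := hedy.eq
  have hux' : u * x' = x' * u := by
    have hx'e : x' = d * y * x * (y * d) := by rw [hx']; simp only [mul_assoc]
    have hinv : (d * y)⁻¹ = y * d := by rw [mul_inv_rev, inv_eq hD hd, inv_eq hD hy.1]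
    have h1 : Commute u⁻¹ x' := by
      rw [← hguG, hx'e, ← hinv]
      exact (commute_conj_iff (d * y) u x).2 hux
    exact (Commute.inv_left_iff.1 h1).eq
  -- `u` lies in the 3-core of the group
  have hO3 : ∀ p q, p ∈ D → q ∈ D → perp D p = perp D q → p * q ∈ pCore 3 G := by
    intro p q hp hq hpq
    haveI : (Subgroup.closure D).Normal := Subgroup.Normal.mk fun n hn g => by
      induction hn using Subgroup.closure_induction with
      | mem z hz => exact Subgroup.subset_closure (hconj g z hz)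
      | one => simp
      | mul s t _ _ hs ht => rw [← conj_mul]; exact mul_mem hs ht
      | inv s _ hs => rw [← conj_inv]; exact inv_mem hs
    let D' : Set (Subgroup.closure D) := Subtype.val ⁻¹' D
    have hD' : IsThreeTranspositionGroup D' := by
      refine ⟨⟨fun z hz => ?_, fun z hz w hw => ?_⟩, fun g z hz => hconj g z hz,
        Subgroup.closure_closure_coe_preimage⟩
      · rw [← Subgroup.orderOf_coe]; exact hD.1 _ hz
      · exact (hD.2 _ hz _ hw).imp (fun h => Subtype.ext (by simpa using h))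
          fun h => Subtype.ext (by simpa using h)
    have hiff : ∀ (s : G) (hs : s ∈ D) (z : Subgroup.closure D),
        z ∈ perp D' ⟨s, Subgroup.subset_closure hs⟩ ↔ (z : G) ∈ perp D s := fun s hs z =>
      ⟨fun h => ⟨h.1, fun e => h.2.1 (Subtype.ext e), congrArg Subtype.val h.2.2.eq⟩,
        fun h => ⟨h.1, fun e => h.2.1 (congrArg Subtype.val e), Subtype.ext h.2.2.eq⟩⟩
    have hW : WRel D' ⟨p, Subgroup.subset_closure hp⟩ ⟨q, Subgroup.subset_closure hq⟩ :=
      ⟨hq, Set.ext fun z => by rw [hiff p hp, hiff q hq, hpq]⟩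
    exact CfsgLib.PLocal.pCore_map_subtype_le (Subgroup.closure D)
      ⟨_, mul_mem_pCore_three_of_wRel hD' hp hW, rfl⟩
  have huO : u ∈ pCore 3 G :=
    mul_mem (hO3 d e hd he.1 (by rw [hperpT d hda, hperpT e he]))
      (hO3 y a hy.1 ha.1 (hperpA y hy))
  -- so it lies in the 3-core of the centraliser of `x`, which `x'` inverts
  let C := Subgroup.centralizer ({x} : Set G)
  have huC : u ∈ C := Subgroup.mem_centralizer_iff.2 (by simpa using hux.symm)
  have huK : (⟨u, huC⟩ : C) ∈ pCore 3 C :=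
    CfsgLib.PLocal.pCore_subgroupOf_le C (Subgroup.mem_subgroupOf.2 huO)
  have hinC : ∀ z ∈ perp D x, z ∈ C := fun z hz =>
    Subgroup.mem_centralizer_iff.2 (by simpa using hz.2.2.eq)
  let DC : Set C := Subtype.val ⁻¹' perp D x
  have hDC : IsThreeTranspositionSet DC :=
    ⟨fun z hz => by rw [← Subgroup.orderOf_coe]; exact hD.1 _ hz.1,
      fun z hz w hw => (hD.2 _ hz.1 _ hw.1).imp (fun h => Subtype.ext (by simpa using h))
          fun h => Subtype.ext (by simpa using h)⟩
  have hconjC : ∀ g : C, ∀ z ∈ DC, g * z * g⁻¹ ∈ DC := by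
    intro g z hz
    have hgx : (g : G) * x * (g : G)⁻¹ = x := by
      rw [mul_inv_eq_iff_eq_mul]
      simpa using (Subgroup.mem_centralizer_iff.1 g.2 x rfl).symm
    refine ⟨hconj g z hz.1, fun e => hz.2.1 ?_, ?_⟩
    · have e' : (g : G) * z * (g : G)⁻¹ = (g : G) * x * (g : G)⁻¹ := by rw [hgx]; exact e
      exact mul_left_cancel (mul_right_cancel e')
    · have := (commute_conj_iff (g : G) x z).2 hz.2.2
      rwa [hgx] at this
  haveI := productsSubgroup_normal hconjC
  have hN : productsSubgroup DC ≤ pCore 3 C := by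
    refine CfsgLib.PLocal.le_pCore (isPGroup_productsSubgroup hDC (fun z hz w hw => ?_)
      fun z hz w hw hc => ?_)
    · exact conj_mem_perp hD hconj hz hw
    · by_contra hne
      exact perp_not_commute hD (hloc x hx).1 hz hw (fun e => hne (Subtype.ext e))
        (congrArg Subtype.val hc.eq)
  obtain ⟨x'', hx'', hne''⟩ : ∃ z ∈ perp D x, z ≠ x' := by
    obtain ⟨s, hs, t, ht, hst⟩ := perp_nontrivial (hloc x hx).1
    by_cases h : s = x'
    · exact ⟨t, ht, fun e => hst (h.trans e.symm)⟩
    · exact ⟨s, hs, h⟩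
  let X : C := ⟨x', hinC x' hxx'⟩
  let X'' : C := ⟨x'', hinC x'' hx''⟩
  have hqK : X * X'' ∈ pCore 3 C := hN (mul_mem_productsSubgroup hxx' hx'')
  have hqne : X * X'' ≠ 1 := fun h => hne''
    ((mul_eq_one_iff hD hx''.1).1 (congrArg Subtype.val h)).symm
  have hzp : Subgroup.zpowers (X * X'') = pCore 3 C := by
    refine Subgroup.eq_of_le_of_card_ge (Subgroup.zpowers_le.2 hqK) ?_
    rw [(hloc x hx).2, Nat.card_zpowers]
    have hdvd := orderOf_dvd_natCard (⟨X * X'', hqK⟩ : pCore 3 C)
    rw [(hloc x hx).2] at hdvd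
    rw [← Subgroup.orderOf_coe] at hdvd
    rcases (Nat.dvd_prime Nat.prime_three).1 hdvd with h | h
    · exact absurd (orderOf_eq_one_iff.1 h) hqne
    · exact h.ge
  obtain ⟨i, hi⟩ := Subgroup.mem_zpowers_iff.1 (hzp ▸ huK)
  have hXinv : X⁻¹ = X := inv_eq_of_mul_eq_one_right (Subtype.ext (sq hD hxx'.1))
  have hqinv : X * (X * X'') * X⁻¹ = (X * X'')⁻¹ := by
    have h'' : X''⁻¹ = X'' := inv_eq_of_mul_eq_one_right (Subtype.ext (sq hD hx''.1))
    rw [mul_inv_rev, hXinv, h'', ← mul_assoc X X X'',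
      show X * X = 1 from Subtype.ext (sq hD hxx'.1), one_mul]
  have hu2 : u⁻¹ = u := by
    have h1 : X * (⟨u, huC⟩ : C) * X⁻¹ = (⟨u, huC⟩ : C)⁻¹ := by
      rw [← hi, ← conj_zpow, hqinv, inv_zpow]
    have h2 : x' * u * x'⁻¹ = u⁻¹ := congrArg Subtype.val h1
    rw [← hux', mul_inv_cancel_right] at h2
    exact h2.symm
  have hu1 : u = 1 := by
    obtain ⟨k, hk⟩ := CfsgLib.PLocal.isPGroup_pCore 3 G ⟨u, huO⟩
    have h3 : u ^ 3 ^ k = 1 := by simpa using congrArg Subtype.val hk
    have h2 : u ^ 2 = 1 := by rw [pow_two]; nth_rw 1 [← hu2]; exact inv_mul_cancel u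
    exact orderOf_eq_one_iff.1 (Nat.eq_one_of_dvd_coprimes
      (Nat.Coprime.pow_right k (by norm_num : Nat.Coprime 2 3))
      (orderOf_dvd_of_pow_eq_one h2) (orderOf_dvd_of_pow_eq_one h3))
  rw [hu, mul_eq_one_iff_eq_inv, mul_inv_rev, inv_eq hD ha.1, inv_eq hD hy.1] at hu1
  -- `d e = a y` forces `d` and `e` to commute
  refine perp_not_commute hD (hloc d hd).1 ha hy hya.symm ?_
  have hdey : Commute (d * e) a := hda'.mul_left hea
  rw [hu1] at hdey
  have : a * y * a = a * (a * y) := hdey.eq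
  rw [mul_cancel_left hD ha.1] at this
  exact (commute_iff_conj_eq hD ha.1).2 this

/-- In the other configuration `⟨D⟩` is `Sym 5`. -/
theorem exists_hom_five [Finite G] (hloc : ∀ d ∈ D, HasSymThreePerp D d)
    {d a b e : G} (hd : d ∈ D) (ha : a ∈ perp D d) (hb : b ∈ perp D d) (hab : a ≠ b)
    (he : e ∈ perp D a) (hed : e ≠ d) (heb : ¬ Commute e b) :
    ∃ φ : Equiv.Perm (Fin 5) →* G, Function.Injective φ ∧ φ.range = Subgroup.closure D := by
  have hncab : ¬ Commute a b := perp_not_commute hD (hloc d hd) ha hb hab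
  have hncde : ¬ Commute d e :=
    perp_not_commute hD (hloc a ha.1) ⟨hd, ha.2.1.symm, ha.2.2.symm⟩ he hed.symm
  obtain ⟨φ, hinj, h01, h12, h23, h34⟩ := exists_hom_of_string_four hD (p := a) (q := b) (r := e)
    (s := d) ha.1 hb.1 he.1 hd he.2.2 ha.2.2.symm hb.2.2.symm hncab (fun h => heb h.symm)
    (fun h => hncde h.symm)
  let f : Fin 5 → Fin 5 → G := fun i j => φ (Equiv.swap i j)
  have hfD : ∀ i j, i ≠ j → f i j ∈ D := by
    intro i j hij
    obtain ⟨g, hg⟩ := isConj_iff.1
      (Equiv.Perm.isConj_swap (show (0 : Fin 5) ≠ 1 by decide) hij)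
    show φ (Equiv.swap i j) ∈ D
    rw [← hg, map_mul, map_mul, map_inv, h01]
    exact hconj _ _ ha.1
  let R : Set G := {z | ∃ i j, i ≠ j ∧ f i j = z}
  -- every partner of a member of `R` is in `R`
  have hperpR : ∀ z ∈ R, perp D z ⊆ R := by
    rintro _ ⟨i, j, hij, rfl⟩ y hy
    have key : ∀ i j : Fin 5, i ≠ j → ∃ a₁ b₁ a₂ b₂ a₃ b₃ : Fin 5, a₁ ≠ b₁ ∧ a₂ ≠ b₂ ∧ a₃ ≠ b₃ ∧
        Equiv.swap a₁ b₁ ≠ Equiv.swap a₂ b₂ ∧ Equiv.swap a₁ b₁ ≠ Equiv.swap a₃ b₃ ∧
        Equiv.swap a₂ b₂ ≠ Equiv.swap a₃ b₃ ∧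
        Equiv.swap a₁ b₁ ≠ Equiv.swap i j ∧ Equiv.swap a₂ b₂ ≠ Equiv.swap i j ∧
        Equiv.swap a₃ b₃ ≠ Equiv.swap i j ∧
        Equiv.swap i j * Equiv.swap a₁ b₁ = Equiv.swap a₁ b₁ * Equiv.swap i j ∧
        Equiv.swap i j * Equiv.swap a₂ b₂ = Equiv.swap a₂ b₂ * Equiv.swap i j ∧
        Equiv.swap i j * Equiv.swap a₃ b₃ = Equiv.swap a₃ b₃ * Equiv.swap i j := by
      intro i j hij
      obtain ⟨p, q, r, hp, hq, hr, hpq, hpr, hqr⟩ : ∃ p q r : Fin 5, (p ≠ i ∧ p ≠ j) ∧
          (q ≠ i ∧ q ≠ j) ∧ (r ≠ i ∧ r ≠ j) ∧ p ≠ q ∧ p ≠ r ∧ q ≠ r := by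
        revert hij; revert i j; decide +kernel
      have hne : ∀ a b c d : Fin 5, a ≠ b → (a ≠ c ∧ a ≠ d) →
          Equiv.swap a b ≠ Equiv.swap c d := by
        intro a b c d hab hacd h
        have := congrArg (fun σ : Equiv.Perm (Fin 5) => σ a) h
        simp only [Equiv.swap_apply_left, Equiv.swap_apply_of_ne_of_ne hacd.1 hacd.2] at this
        exact hab this.symm
      have hcomm : ∀ a b : Fin 5, (a ≠ i ∧ a ≠ j) → (b ≠ i ∧ b ≠ j) →
          Equiv.swap i j * Equiv.swap a b = Equiv.swap a b * Equiv.swap i j :=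
        fun a b h1 h2 => swap_comm_of_disjoint i j a b h1.1 h1.2 h2.1 h2.2
      refine ⟨p, q, q, r, r, p, hpq, hqr, hpr.symm, hne _ _ _ _ hpq ⟨hpq, hpr⟩, ?_, ?_,
        hne _ _ _ _ hpq hp, hne _ _ _ _ hqr hq, hne _ _ _ _ hpr.symm hr,
        hcomm _ _ hp hq, hcomm _ _ hq hr, hcomm _ _ hr hp⟩
      · rw [Equiv.swap_comm p q]; exact hne _ _ _ _ hpq.symm ⟨hqr, hpq.symm⟩
      · exact hne _ _ _ _ hqr ⟨hqr, hpq.symm⟩
    obtain ⟨a₁, b₁, a₂, b₂, a₃, b₃, n₁, n₂, n₃, n12, n13, n23, o₁, o₂, o₃, c₁, c₂, c₃⟩ :=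
      key i j hij
    have hmem : ∀ a b, a ≠ b → Equiv.swap a b ≠ Equiv.swap i j →
        Equiv.swap i j * Equiv.swap a b = Equiv.swap a b * Equiv.swap i j →
        f a b ∈ perp D (f i j) := fun a b n o c =>
      ⟨hfD a b n, fun e => o (hinj e), Commute.map c φ⟩
    rcases perp_three hD (hloc _ (hfD i j hij)) (hmem _ _ n₁ o₁ c₁) (hmem _ _ n₂ o₂ c₂)
      (hmem _ _ n₃ o₃ c₃) (fun e => n12 (hinj e)) (fun e => n13 (hinj e))
      (fun e => n23 (hinj e)) hy with e | e | e
    exacts [⟨_, _, n₁, e.symm⟩, ⟨_, _, n₂, e.symm⟩, ⟨_, _, n₃, e.symm⟩]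
  have hDR : D ⊆ R := by
    intro x hx
    by_contra hxR
    have hnc : ∀ z ∈ R, ¬ Commute x z := fun z hz h =>
      hxR (hperpR z hz ⟨hx, fun e => hxR (e ▸ hz), h.symm⟩)
    obtain ⟨y₁, hy₁, y₂, hy₂, hne⟩ := perp_nontrivial (hloc x hx)
    have hy₃ := conj_mem_perp hD hconj hy₁ hy₂
    have hnc12 := perp_not_commute hD (hloc x hx) hy₁ hy₂ hne
    classical
    let col : G → Fin 3 := fun z => if z = y₁ then 0 else if z = y₂ then 1 else 2
    have hcol : ∀ y ∈ perp D x, ∀ z ∈ perp D x, col y = col z → y = z := by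
      intro y hy z hz h
      have hmem := fun w hw => perp_three hD (hloc x hx) hy₁ hy₂ hy₃ hne
        (conj_ne_left hD hy₁.1 hnc12).symm (conj_ne_right hD hy₁.1 hnc12).symm (x := w) hw
      have n1 := conj_ne_left hD hy₁.1 hnc12
      have n2 := conj_ne_right hD hy₁.1 hnc12
      rcases hmem y hy with rfl | rfl | rfl <;> rcases hmem z hz with rfl | rfl | rfl <;>
        simp_all [col, Ne.symm hne]
    let k : Fin 5 → Fin 5 → Fin 5 → Fin 5 → Fin 3 := fun i j l m =>
      col (f i j * (f l m * x * f l m) * f i j)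
    -- adjacent edges get different colours
    have step : ∀ i j l m l' m', i ≠ j → l ≠ m → l' ≠ m' →
        Equiv.swap i j * Equiv.swap l m = Equiv.swap l m * Equiv.swap i j →
        Equiv.swap i j * Equiv.swap l' m' = Equiv.swap l' m' * Equiv.swap i j →
        Equiv.swap i j ≠ Equiv.swap l m → Equiv.swap i j ≠ Equiv.swap l' m' →
        Equiv.swap l m ≠ Equiv.swap l' m' → k i j l m ≠ k i j l' m' := by
      intro i j l m l' m' hij hlm hlm' c c' o o' hne' h
      refine hne' (hinj (double_conj_injective hD hconj (hfD i j hij) (hfD l m hlm) (hfD l' m' hlm')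
        hx (hnc _ ⟨l, m, hlm, rfl⟩) (hnc _ ⟨l', m', hlm', rfl⟩) (hcol _ ?_ _ ?_ h)))
      · exact double_conj_mem_perp hD hconj (hfD i j hij) (hfD l m hlm) hx (Commute.map c φ)
          (fun e => o (hinj e)) (hnc _ ⟨i, j, hij, rfl⟩) (hnc _ ⟨l, m, hlm, rfl⟩)
      · exact double_conj_mem_perp hD hconj (hfD i j hij) (hfD l' m' hlm') hx (Commute.map c' φ)
          (fun e => o' (hinj e)) (hnc _ ⟨i, j, hij, rfl⟩) (hnc _ ⟨l', m', hlm', rfl⟩)
    have ksymm : ∀ i j l m, Equiv.swap i j * Equiv.swap l m = Equiv.swap l m * Equiv.swap i j →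
        k i j l m = k l m i j := by
      intro i j l m c
      have h : f i j * f l m = f l m * f i j := Commute.map c φ
      show col _ = col _
      congr 1
      calc f i j * (f l m * x * f l m) * f i j = (f i j * f l m) * x * (f l m * f i j) := by
            simp only [mul_assoc]
        _ = (f l m * f i j) * x * (f i j * f l m) := by rw [← h]
        _ = f l m * (f i j * x * f i j) * f l m := by simp only [mul_assoc]
    -- outer cycle 01 23 40 12 34, spokes to 24 14 13 03 02, inner cycle 24 13 02 14 03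
    let o₁ := k 0 1 2 3
    let o₂ := k 2 3 4 0
    let o₃ := k 4 0 1 2
    let o₄ := k 1 2 3 4
    let o₅ := k 3 4 0 1
    let s₁ := k 0 1 2 4
    let s₂ := k 2 3 1 4
    let s₃ := k 4 0 1 3
    let s₄ := k 1 2 0 3
    let s₅ := k 3 4 0 2
    let i₁ := k 2 4 1 3
    let i₂ := k 1 3 0 2
    let i₃ := k 0 2 1 4
    let i₄ := k 1 4 0 3
    let i₅ := k 0 3 2 4
    have ao : ∀ i j l m l' m' : Fin 5, i ≠ j → l ≠ m → l' ≠ m' →
        Equiv.swap i j * Equiv.swap l m = Equiv.swap l m * Equiv.swap i j →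
        Equiv.swap i j * Equiv.swap l' m' = Equiv.swap l' m' * Equiv.swap i j →
        Equiv.swap i j ≠ Equiv.swap l m → Equiv.swap i j ≠ Equiv.swap l' m' →
        Equiv.swap l m ≠ Equiv.swap l' m' →
        k i j l m ≠ k i j l' m' ∧ k i j l m ≠ k l' m' i j ∧ k l m i j ≠ k i j l' m' ∧
          k l m i j ≠ k l' m' i j := by
      intro i j l m l' m' h1 h2 h3 c c' o o' n
      have := step i j l m l' m' h1 h2 h3 c c' o o' n
      refine ⟨this, ?_, ?_, ?_⟩ <;>
        simp only [← ksymm i j l m c, ← ksymm i j l' m' c'] <;> exact this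
    have A := fun i j l m l' m' => ao i j l m l' m'
    exact petersen_not_colourable o₁ o₂
      (A 2 3 0 1 4 0 (by decide) (by decide) (by decide) (by decide) (by decide) (by decide)
        (by decide) (by decide)).2.2.1
      s₂ (A 2 3 1 4 0 1 (by decide) (by decide) (by decide) (by decide) (by decide) (by decide)
        (by decide) (by decide)).2.1
      (A 2 3 1 4 4 0 (by decide) (by decide) (by decide) (by decide) (by decide) (by decide)
        (by decide) (by decide)).1
      o₃ (A 4 0 1 2 2 3 (by decide) (by decide) (by decide) (by decide) (by decide) (by decide)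
        (by decide) (by decide)).2.1
      s₃ (A 4 0 1 3 2 3 (by decide) (by decide) (by decide) (by decide) (by decide) (by decide)
        (by decide) (by decide)).2.1
      (A 4 0 1 3 1 2 (by decide) (by decide) (by decide) (by decide) (by decide) (by decide)
        (by decide) (by decide)).1
      o₄ (A 1 2 3 4 4 0 (by decide) (by decide) (by decide) (by decide) (by decide) (by decide)
        (by decide) (by decide)).2.1
      s₄ (A 1 2 0 3 4 0 (by decide) (by decide) (by decide) (by decide) (by decide) (by decide)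
        (by decide) (by decide)).2.1
      (A 1 2 0 3 3 4 (by decide) (by decide) (by decide) (by decide) (by decide) (by decide)
        (by decide) (by decide)).1
      o₅ (A 3 4 0 1 1 2 (by decide) (by decide) (by decide) (by decide) (by decide) (by decide)
        (by decide) (by decide)).2.1
      (A 0 1 3 4 2 3 (by decide) (by decide) (by decide) (by decide) (by decide) (by decide)
        (by decide) (by decide)).2.2.1
      s₅ (A 3 4 0 2 1 2 (by decide) (by decide) (by decide) (by decide) (by decide) (by decide)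
        (by decide) (by decide)).2.1
      (A 3 4 0 2 0 1 (by decide) (by decide) (by decide) (by decide) (by decide) (by decide)
        (by decide) (by decide)).1
      s₁ (A 0 1 2 4 3 4 (by decide) (by decide) (by decide) (by decide) (by decide) (by decide)
        (by decide) (by decide)).2.1
      (A 0 1 2 4 2 3 (by decide) (by decide) (by decide) (by decide) (by decide) (by decide)
        (by decide) (by decide)).1
      i₁ (A 2 4 1 3 0 1 (by decide) (by decide) (by decide) (by decide) (by decide) (by decide)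
        (by decide) (by decide)).2.1
      (A 1 3 2 4 4 0 (by decide) (by decide) (by decide) (by decide) (by decide) (by decide)
        (by decide) (by decide)).2.2.2
      i₂ (A 1 3 0 2 4 0 (by decide) (by decide) (by decide) (by decide) (by decide) (by decide)
        (by decide) (by decide)).2.1
      (A 1 3 0 2 2 4 (by decide) (by decide) (by decide) (by decide) (by decide) (by decide)
        (by decide) (by decide)).2.1
      (A 0 2 1 3 3 4 (by decide) (by decide) (by decide) (by decide) (by decide) (by decide)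
        (by decide) (by decide)).2.2.2
      i₃ (A 0 2 1 4 3 4 (by decide) (by decide) (by decide) (by decide) (by decide) (by decide)
        (by decide) (by decide)).2.1
      (A 0 2 1 4 1 3 (by decide) (by decide) (by decide) (by decide) (by decide) (by decide)
        (by decide) (by decide)).2.1
      (A 1 4 0 2 2 3 (by decide) (by decide) (by decide) (by decide) (by decide) (by decide)
        (by decide) (by decide)).2.2.2
      i₄ (A 1 4 0 3 2 3 (by decide) (by decide) (by decide) (by decide) (by decide) (by decide)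
        (by decide) (by decide)).2.1
      (A 1 4 0 3 0 2 (by decide) (by decide) (by decide) (by decide) (by decide) (by decide)
        (by decide) (by decide)).2.1
      (A 0 3 1 4 1 2 (by decide) (by decide) (by decide) (by decide) (by decide) (by decide)
        (by decide) (by decide)).2.2.2
      i₅ (A 0 3 2 4 1 2 (by decide) (by decide) (by decide) (by decide) (by decide) (by decide)
        (by decide) (by decide)).2.1
      (A 0 3 2 4 1 4 (by decide) (by decide) (by decide) (by decide) (by decide) (by decide)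
        (by decide) (by decide)).2.1
      (A 2 4 0 3 0 1 (by decide) (by decide) (by decide) (by decide) (by decide) (by decide)
        (by decide) (by decide)).2.2.2
      (A 2 4 0 3 1 3 (by decide) (by decide) (by decide) (by decide) (by decide) (by decide)
        (by decide) (by decide)).2.2.1
  refine ⟨φ, hinj, le_antisymm ?_ ((Subgroup.closure_le _).2 fun z hz => ?_)⟩
  · rw [MonoidHom.range_eq_map, ← perm_five_closure, MonoidHom.map_closure, Subgroup.closure_le]
    rintro _ ⟨_, ⟨i, rfl⟩, rfl⟩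
    refine Subgroup.subset_closure ?_
    fin_cases i
    exacts [h01 ▸ ha.1, h12 ▸ hb.1, h23 ▸ he.1, h34 ▸ hd]
  · obtain ⟨i, j, -, rfl⟩ := hDR hz
    exact ⟨_, rfl⟩

omit hD in
/-- The classification of the two configurations. -/
theorem small_perp_classification [Finite G] (hD : IsThreeTranspositionSet D) (hne : D.Nonempty)
    (hloc : ∀ d ∈ D, HasSymThreePerp D d ∧
      Nat.card (pCore 3 ↥(Subgroup.centralizer ({d} : Set G))) = 3) :
    Nonempty (↥(Subgroup.closure D) ≃* Equiv.Perm (Fin 5)) ∨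
      Nonempty (↥(Subgroup.closure D) ≃* Equiv.Perm (Fin 3) × Equiv.Perm (Fin 3)) := by
  obtain ⟨d, hd⟩ := hne
  obtain ⟨a, ha, b, hb, hab⟩ := perp_nontrivial (hloc d hd).1
  obtain ⟨e, he, hed⟩ : ∃ e ∈ perp D a, e ≠ d := by
    obtain ⟨s, hs, t, ht, hst⟩ := perp_nontrivial (hloc a ha.1).1
    by_cases h : s = d
    · exact ⟨t, ht, fun e => hst (h.trans e.symm)⟩
    · exact ⟨s, hs, h⟩
  by_cases heb : Commute e b
  · right
    have hncab : ¬ Commute a b := perp_not_commute hD (hloc d hd).1 ha hb hab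
    have heb' : e ∈ perp D b := ⟨he.1, fun h => hncab (h ▸ he.2.2), heb.symm⟩
    obtain ⟨hDu, hperp⟩ := exhaust_of_bipartite hD hconj hloc hd ha hb hab he hed heb'
    obtain ⟨ψA⟩ := (hloc d hd).1
    obtain ⟨ψT⟩ := (hloc a ha.1).1
    set T := Subgroup.closure (perp D a)
    set A := Subgroup.closure (perp D d)
    have hcom : ∀ (t : T) (y : A), Commute (t : G) (y : G) := by
      intro t y
      have hT : T ≤ Subgroup.centralizer (perp D d) := by
        rw [Subgroup.closure_le]
        intro s hs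
        rw [SetLike.mem_coe, Subgroup.mem_centralizer_iff]
        exact fun z hz => ((hperp z hz).symm ▸ hs : s ∈ perp D z).2.2.eq
      have h := Subgroup.closure_le (K := Subgroup.centralizer ({(t : G)} : Set G)) |>.2
        (fun z hz => Subgroup.mem_centralizer_iff.2
          (by simpa using (Subgroup.mem_centralizer_iff.1 (hT t.2) z hz).symm)) y.2
      exact Subgroup.mem_centralizer_iff.1 h (t : G) rfl
    let F : T × A →* G := T.subtype.noncommCoprod A.subtype hcom
    have hF : Function.Injective F := by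
      rw [injective_iff_map_eq_one]
      rintro ⟨t, y⟩ h
      have h' : (t : G) = (y : G)⁻¹ := eq_inv_of_mul_eq_one_left h
      have hy : y = 1 := by
        refine (ψA.map_eq_one_iff).1 (perm_three_center _ fun g => ?_)
        obtain ⟨z, rfl⟩ := ψA.surjective g
        rw [← map_mul, ← map_mul]
        have hc := hcom t z
        rw [h'] at hc
        exact congrArg ψA (Subtype.ext (Commute.inv_left_iff.1 hc).eq)
      subst hy
      exact Prod.ext (Subtype.ext (by simpa using h')) rfl
    have hR : F.range = Subgroup.closure D := by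
      refine le_antisymm ?_ ((Subgroup.closure_le _).2 fun z hz => ?_)
      · rintro _ ⟨⟨t, y⟩, rfl⟩
        exact mul_mem ((Subgroup.closure_mono fun s hs => hs.1) t.2)
          ((Subgroup.closure_mono fun s hs => hs.1) y.2)
      · rcases (hDu ▸ hz : z ∈ perp D a ∪ perp D d) with h | h
        · exact ⟨(⟨z, Subgroup.subset_closure h⟩, 1), show z * 1 = z from mul_one z⟩
        · exact ⟨(1, ⟨z, Subgroup.subset_closure h⟩), show 1 * z = z from one_mul z⟩
    exact ⟨((MulEquiv.subgroupCongr hR.symm).trans (MonoidHom.ofInjective hF).symm).trans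
      (MulEquiv.prodCongr ψT ψA)⟩
  · left
    obtain ⟨φ, hinj, hR⟩ := exists_hom_five hD hconj (fun x hx => (hloc x hx).1) hd ha hb hab he
      hed heb
    exact ⟨(MulEquiv.subgroupCongr hR.symm).trans (MonoidHom.ofInjective hinj).symm⟩

end Main

end CfsgLib.Transpositions
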