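import Cfsg.Prelude.Def_FischerSpaces

/-!
# The maps attached to the points of a Fischer space

In a partial linear space with lines of three points the third point of a collinear pair is unique.
In a Fischer space the map `t(x)` preserves the lines, as can be checked in the two plane models.
-/

set_option autoImplicit false

namespace CfsgLib.Transpositions

open Cfsg

variable {X : Type*} {L : Set (Set X)}

/-- `z` is the third point of a line through `x` and `y`. -/
def IsThird (L : Set (Set X)) (x y z : X) : Prop :=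
  z ≠ x ∧ z ≠ y ∧ x ≠ y ∧ ({x, y, z} : Set X) ∈ L

theorem IsThird.swap {x y z : X} (h : IsThird L x y z) : IsThird L x z y :=
  ⟨h.2.2.1.symm, h.2.1.symm, h.1.symm, by rw [Set.pair_comm z y]; exact h.2.2.2⟩

theorem IsThird.flip {x y z : X} (h : IsThird L x y z) : IsThird L y x z :=
  ⟨h.2.1, h.1, h.2.2.1.symm, by rw [Set.insert_comm]; exact h.2.2.2⟩

theorem isThird_unique (hP : LineSystem.IsPartialLinear L) {x y z z' : X}
    (h : IsThird L x y z) (h' : IsThird L x y z') : z = z' := by
  have e := hP _ h.2.2.2 _ h'.2.2.2 x y h.2.2.1 (by simp) (by simp) (by simp) (by simp)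
  have hz : z ∈ ({x, y, z'} : Set X) := e ▸ (by simp)
  simp only [Set.mem_insert_iff, Set.mem_singleton_iff] at hz
  exact (hz.resolve_left h.1).resolve_left h.2.1

theorem exists_isThird (h3 : ∀ l ∈ L, l.ncard = 3) {x y : X} {l : Set X} (hl : l ∈ L)
    (hx : x ∈ l) (hy : y ∈ l) (hne : x ≠ y) : ∃ z, l = {x, y, z} ∧ IsThird L x y z := by
  have hsub : ({x, y} : Set X) ⊆ l := Set.insert_subset_iff.2 ⟨hx, Set.singleton_subset_iff.2 hy⟩
  have hcard : (l \ {x, y}).ncard = 1 := by
    rw [Set.ncard_sdiff hsub (Set.toFinite _), h3 l hl, Set.ncard_pair hne]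
  obtain ⟨z, hz⟩ := Set.ncard_eq_one.1 hcard
  have hzmem : z ∈ l \ {x, y} := hz ▸ Set.mem_singleton z
  have hz2 : z ≠ x ∧ z ≠ y := by simpa using hzmem.2
  have heq : l = {x, y, z} := by
    ext w
    have hw := Set.ext_iff.1 hz w
    simp only [Set.mem_sdiff, Set.mem_insert_iff, Set.mem_singleton_iff] at hw ⊢
    constructor
    · intro h; tauto
    · rintro (rfl | rfl | rfl)
      · exact hx
      · exact hy
      · exact hzmem.1
  exact ⟨z, heq, hz2.1, hz2.2, hne, heq ▸ hl⟩

/-- The value of `t(x)` at `y`. -/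
theorem lineMap_spec (L : Set (Set X)) (x y : X) :
    IsThird L x y (LineSystem.lineMap L x y) ∨
      ((∀ z, ¬ IsThird L x y z) ∧ LineSystem.lineMap L x y = y) := by
  unfold LineSystem.lineMap
  split
  · next h => exact Or.inl h.choose_spec
  · next h => exact Or.inr ⟨fun z hz => h ⟨z, hz⟩, rfl⟩

theorem lineMap_eq (hP : LineSystem.IsPartialLinear L) {x y z : X} (h : IsThird L x y z) :
    LineSystem.lineMap L x y = z := by
  rcases lineMap_spec L x y with h' | h'
  · exact isThird_unique hP h' h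
  · exact absurd h (h'.1 z)

theorem lineMap_eq_self {x y : X} (h : ∀ z, ¬ IsThird L x y z) :
    LineSystem.lineMap L x y = y := by
  rcases lineMap_spec L x y with h' | h'
  · exact absurd h' (h _)
  · exact h'.2

theorem lineMap_self (L : Set (Set X)) (x : X) : LineSystem.lineMap L x x = x :=
  lineMap_eq_self fun _ h => h.2.2.1 rfl

theorem lineMap_lineMap (hP : LineSystem.IsPartialLinear L) (x y : X) :
    LineSystem.lineMap L x (LineSystem.lineMap L x y) = y := by
  rcases lineMap_spec L x y with h | ⟨h, e⟩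
  · exact lineMap_eq hP h.swap
  · rw [e, e]

theorem isSubspace_span (L : Set (Set X)) (S : Set X) :
    LineSystem.IsSubspace L (LineSystem.span L S) := by
  intro l hl x hx y hy hne hxl hyl z hz
  simp only [LineSystem.span, Set.mem_sInter, Set.mem_ofPred_eq] at hx hy ⊢
  exact fun T hT => hT.2 l hl x (hx T hT) y (hy T hT) hne hxl hyl hz

theorem subset_span' (L : Set (Set X)) (S : Set X) : S ⊆ LineSystem.span L S := by
  intro x hx
  simp only [LineSystem.span, Set.mem_sInter, Set.mem_ofPred_eq]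
  exact fun T hT => hT.1 hx

theorem span_le {S T : Set X} (h : S ⊆ T) (hT : LineSystem.IsSubspace L T) :
    LineSystem.span L S ⊆ T :=
  fun _ hx => Set.mem_sInter.1 hx T ⟨h, hT⟩

/-- A line system is preserved by the map of each of its points. -/
def MapsLines {Y : Type*} (M : Set (Set Y)) : Prop :=
  LineSystem.IsPartialLinear M → ∀ y : Y, ∀ m ∈ M, LineSystem.lineMap M y '' m ∈ M

theorem affine_lineMap (hP : LineSystem.IsPartialLinear affinePlaneThree)
    (a y : Fin 2 → ZMod 3) : LineSystem.lineMap affinePlaneThree a y = -a - y := by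
  have h3 : ∀ x : Fin 2 → ZMod 3, -x - x = x := fun x => by
    funext i; exact (by decide : ∀ t : ZMod 3, -t - t = t) (x i)
  by_cases hay : a = y
  · subst hay; rw [lineMap_self, h3]
  refine lineMap_eq hP ⟨fun h => hay ?_, fun h => hay ?_, hay, a, y - a, sub_ne_zero.2 (Ne.symm hay), ?_⟩
  · funext i
    have := congrFun h i
    exact (by decide : ∀ s t : ZMod 3, -s - t = s → s = t) (a i) (y i) this
  · funext i
    have := congrFun h i
    exact (by decide : ∀ s t : ZMod 3, -s - t = t → s = t) (a i) (y i) this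
  · ext z
    simp only [Set.mem_insert_iff, Set.mem_singleton_iff, Set.mem_ofPred_eq]
    constructor
    · rintro (rfl | rfl | rfl)
      · exact ⟨0, by simp⟩
      · exact ⟨1, by simp⟩
      · refine ⟨2, funext fun i => ?_⟩
        exact (by decide : ∀ s t : ZMod 3, -s - t = s + 2 * (t - s)) (a i) (y i)
    · rintro ⟨c, rfl⟩
      rcases (by decide : ∀ c : ZMod 3, c = 0 ∨ c = 1 ∨ c = 2) c with rfl | rfl | rfl
      · exact Or.inl (by simp)
      · exact Or.inr (Or.inl (by simp))
      · refine Or.inr (Or.inr (funext fun i => ?_))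
        exact (by decide : ∀ s t : ZMod 3, s + 2 * (t - s) = -s - t) (a i) (y i)

theorem affine_mapsLines : MapsLines affinePlaneThree := by
  intro hP a m ⟨v, w, hw, hm⟩
  refine ⟨-a - v, -w, neg_ne_zero.2 hw, ?_⟩
  subst hm
  ext z
  simp only [Set.mem_image, Set.mem_ofPred_eq, affine_lineMap hP]
  constructor
  · rintro ⟨_, ⟨c, rfl⟩, rfl⟩
    exact ⟨c, by rw [smul_neg]; abel⟩
  · rintro ⟨c, rfl⟩
    exact ⟨_, ⟨c, rfl⟩, by rw [smul_neg]; abel⟩

/-- The third point map of the dual affine plane: the symmetric difference when it is a point. -/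
def dualThird (a y : DualAffinePoint) : DualAffinePoint :=
  if h : (symmDiff a.val y.val).card = 2 then ⟨symmDiff a.val y.val, h⟩ else y

theorem dual_third_spec : ∀ a y z : DualAffinePoint, z ≠ a → z ≠ y → a ≠ y →
    (∃ i : Fin 4, i ∉ a.val ∧ i ∉ y.val ∧ i ∉ z.val) → z = dualThird a y := by decide +kernel

theorem dual_no_third : ∀ a y : DualAffinePoint, dualThird a y ≠ y →
    a ≠ y ∧ dualThird a y ≠ a ∧ ∃ i : Fin 4, ∀ s : DualAffinePoint,
      (s = a ∨ s = y ∨ s = dualThird a y) ↔ i ∉ s.val := by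
  decide +kernel

theorem dual_image : ∀ (a : DualAffinePoint) (i : Fin 4), ∃ j : Fin 4, ∀ s : DualAffinePoint,
    (∃ r : DualAffinePoint, i ∉ r.val ∧ dualThird a r = s) ↔ j ∉ s.val := by decide +kernel

theorem dual_lineMap (a y : DualAffinePoint) :
    LineSystem.lineMap dualAffinePlaneTwo a y = dualThird a y := by
  rcases lineMap_spec dualAffinePlaneTwo a y with h | ⟨h, e⟩
  · obtain ⟨h1, h2, h3, i, hi⟩ := h
    refine dual_third_spec a y _ h1 h2 h3 ⟨i, ?_, ?_, ?_⟩ <;>
      exact (Set.ext_iff.1 hi _).1 (by simp)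
  · rw [e]
    by_contra hne
    obtain ⟨h1, h2, i, hi⟩ := dual_no_third a y (Ne.symm hne)
    refine h (dualThird a y) ⟨h2, Ne.symm hne, h1, i, ?_⟩
    ext s
    simpa using hi s

theorem dual_mapsLines : MapsLines dualAffinePlaneTwo := by
  intro _ a m ⟨i, hm⟩
  obtain ⟨j, hj⟩ := dual_image a i
  refine ⟨j, ?_⟩
  subst hm
  ext s
  simp only [Set.mem_image, Set.mem_ofPred_eq, dual_lineMap]
  exact hj s

theorem isThird_restrict {S : Set X} {a b c : S} :
    IsThird (LineSystem.restrict L S) a b c ↔ IsThird L (a : X) b c := by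
  constructor
  · rintro ⟨h1, h2, h3, l, hl, hlS, he⟩
    refine ⟨fun e => h1 (Subtype.ext e), fun e => h2 (Subtype.ext e), fun e => h3 (Subtype.ext e), ?_⟩
    convert hl using 1
    ext z
    have key : ∀ w : S, w = a ∨ w = b ∨ w = c ↔ (w : X) ∈ l := fun w => by
      simpa using Set.ext_iff.1 he w
    simp only [Set.mem_insert_iff, Set.mem_singleton_iff]
    constructor
    · rintro (rfl | rfl | rfl)
      · exact (key a).1 (Or.inl rfl)
      · exact (key b).1 (Or.inr (Or.inl rfl))
      · exact (key c).1 (Or.inr (Or.inr rfl))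
    · intro hz
      rcases (key ⟨z, hlS hz⟩).2 hz with e | e | e
      · exact Or.inl (congrArg Subtype.val e)
      · exact Or.inr (Or.inl (congrArg Subtype.val e))
      · exact Or.inr (Or.inr (congrArg Subtype.val e))
  · rintro ⟨h1, h2, h3, hl⟩
    refine ⟨fun e => h1 (congrArg Subtype.val e), fun e => h2 (congrArg Subtype.val e),
      fun e => h3 (congrArg Subtype.val e), _, hl, ?_, ?_⟩
    · simp [Set.insert_subset_iff, a.2, b.2, c.2]
    · ext w
      simp [Subtype.ext_iff]

theorem isThird_iso {Y : Type*} {M : Set (Set Y)} {e : X ≃ Y} (he : LineSystem.IsIso L M e)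
    (a b c : X) : IsThird M (e a) (e b) (e c) ↔ IsThird L a b c := by
  simp only [IsThird, ne_eq, e.injective.eq_iff]
  rw [he {a, b, c}, Set.image_insert_eq, Set.image_insert_eq, Set.image_singleton]

theorem partialLinear_iso {Y : Type*} {M : Set (Set Y)} {e : X ≃ Y}
    (he : LineSystem.IsIso L M e) (hP : LineSystem.IsPartialLinear L) :
    LineSystem.IsPartialLinear M := by
  intro l hl m hm x y hne hxl hyl hxm hym
  have h : ∀ k : Set Y, k ∈ M → e.symm '' k ∈ L := fun k hk => by
    rw [he, Equiv.image_symm_image]; exact hk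
  have hx : ∀ {k : Set Y} {z : Y}, z ∈ k → e.symm z ∈ e.symm '' k :=
    fun hz => ⟨_, hz, rfl⟩
  have := hP _ (h l hl) _ (h m hm) (e.symm x) (e.symm y) (by simpa using hne) (hx hxl) (hx hyl)
    (hx hxm) (hx hym)
  exact e.symm.injective.image_injective this

theorem partialLinear_restrict (hP : LineSystem.IsPartialLinear L) (S : Set X) :
    LineSystem.IsPartialLinear (LineSystem.restrict L S) := by
  rintro _ ⟨l, hl, -, rfl⟩ _ ⟨m, hm, -, rfl⟩ x y hne hxl hyl hxm hym
  rw [hP l hl m hm x y (fun h => hne (Subtype.ext h)) hxl hyl hxm hym]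

/-- In a Fischer space the map of a point sends lines to lines. -/
theorem lineMap_image_mem (hL : IsFischerSpace L) (x : X) {m : Set X} (hm : m ∈ L) :
    LineSystem.lineMap L x '' m ∈ L := by
  obtain ⟨hP, h3, hplane⟩ := hL
  by_cases hfix : ∀ y ∈ m, LineSystem.lineMap L x y = y
  · have : LineSystem.lineMap L x '' m = m := by
      ext z
      exact ⟨fun ⟨y, hy, e⟩ => e ▸ (hfix y hy).symm ▸ hy, fun hz => ⟨z, hz, hfix z hz⟩⟩
    rwa [this]
  push Not at hfix
  obtain ⟨y, hy, hne⟩ := hfix
  obtain ⟨z, hz⟩ : ∃ z, IsThird L x y z :=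
    ⟨_, ((lineMap_spec L x y).resolve_right fun h => hne h.2)⟩
  set l : Set X := {x, y, z} with hldef
  by_cases hlm : l = m
  · have : LineSystem.lineMap L x '' m = m := by
      rw [← hlm, hldef, Set.image_insert_eq, Set.image_insert_eq, Set.image_singleton,
        lineMap_self, lineMap_eq hP hz, lineMap_eq hP hz.swap, Set.pair_comm z y]
    rwa [this]
  obtain ⟨S, hS⟩ : ∃ S, S = LineSystem.span L (l ∪ m) := ⟨_, rfl⟩
  have hsub : LineSystem.IsSubspace L S := hS ▸ isSubspace_span L _
  have hlS : l ∪ m ⊆ S := hS ▸ subset_span' L _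
  obtain ⟨xS, hxS⟩ : ∃ xS : S, (xS : X) = x := ⟨⟨x, hlS (Or.inl (by simp [hldef]))⟩, rfl⟩
  have finish : ∀ {Y : Type} (M : Set (Set Y)),
      LineSystem.Isomorphic (LineSystem.restrict L S) M → MapsLines M →
      LineSystem.lineMap L x '' m ∈ L := by
    intro Y M ⟨e, he⟩ hM
    have hPM := partialLinear_iso he (partialLinear_restrict hP S)
    have hmS : {u : S | (u : X) ∈ m} ∈ LineSystem.restrict L S :=
      ⟨m, hm, fun a ha => hlS (Or.inr ha), rfl⟩
    obtain ⟨l', hl', hl'S, hl'eq⟩ : e.symm '' (LineSystem.lineMap M (e xS) ''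
        (e '' {u : S | (u : X) ∈ m})) ∈ LineSystem.restrict L S := by
      rw [he, Equiv.image_symm_image]
      exact hM hPM _ _ ((he _).1 hmS)
    -- the two maps agree on `S`
    have agree : ∀ u : S, ((e.symm (LineSystem.lineMap M (e xS) (e u)) : S) : X) =
        LineSystem.lineMap L x u := by
      intro u
      rcases lineMap_spec M (e xS) (e u) with h | ⟨h, heq⟩
      · rw [← e.apply_symm_apply (LineSystem.lineMap M (e xS) (e u)), isThird_iso he,
          isThird_restrict, hxS] at h
        exact (lineMap_eq hP h).symm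
      · rw [heq, e.symm_apply_apply]
        refine (lineMap_eq_self fun w hw => ?_).symm
        have hwS : w ∈ S := hsub _ hw.2.2.2 x (hxS ▸ xS.2) u u.2 hw.2.2.1 (by simp) (by simp)
          (by simp)
        refine h (e ⟨w, hwS⟩) ((isThird_iso he _ _ _).2 (isThird_restrict.2 ?_))
        rw [hxS]; exact hw
    convert hl' using 1
    ext a
    constructor
    · rintro ⟨u, hu, rfl⟩
      have huS : u ∈ S := hlS (Or.inr hu)
      rw [← agree ⟨u, huS⟩]
      exact (Set.ext_iff.1 hl'eq _).1 ⟨_, ⟨_, ⟨_, hu, rfl⟩, rfl⟩, rfl⟩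
    · intro ha
      obtain ⟨_, ⟨_, ⟨u, hu, rfl⟩, rfl⟩, hu'⟩ := (Set.ext_iff.1 hl'eq ⟨a, hl'S ha⟩).2 ha
      exact ⟨u, hu, by rw [← agree u]; exact congrArg Subtype.val hu'⟩
  rcases hplane l (hz.2.2.2) m hm hlm ⟨y, by simp [hldef], hy⟩ with h | h
  · exact finish _ (hS ▸ h) dual_mapsLines
  · exact finish _ (hS ▸ h) affine_mapsLines

/-- `t(x)` as a permutation. -/
noncomputable def pointPerm (hP : LineSystem.IsPartialLinear L) (x : X) : Equiv.Perm X :=
  ⟨LineSystem.lineMap L x, LineSystem.lineMap L x, lineMap_lineMap hP x, lineMap_lineMap hP x⟩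

theorem pointPerm_apply (hP : LineSystem.IsPartialLinear L) (x y : X) :
    pointPerm hP x y = LineSystem.lineMap L x y := rfl

theorem pointPerm_isIso (hL : IsFischerSpace L) (x : X) :
    LineSystem.IsIso L L (pointPerm hL.1 x) := by
  intro m
  refine ⟨fun hm => lineMap_image_mem hL x hm, fun hm => ?_⟩
  have := lineMap_image_mem hL x hm
  rw [Set.image_image] at this
  simpa [pointPerm_apply, lineMap_lineMap hL.1] using this

theorem pointPerm_mul_self (hP : LineSystem.IsPartialLinear L) (x : X) :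
    pointPerm hP x * pointPerm hP x = 1 :=
  Equiv.ext (lineMap_lineMap hP x)

theorem pointPerm_conj (hL : IsFischerSpace L) (x y : X) :
    pointPerm hL.1 x * pointPerm hL.1 y * pointPerm hL.1 x =
      pointPerm hL.1 (LineSystem.lineMap L x y) := by
  refine Equiv.ext fun u => ?_
  simp only [Equiv.Perm.mul_apply, pointPerm_apply]
  obtain ⟨v, rfl⟩ : ∃ v, u = LineSystem.lineMap L x v :=
    ⟨_, (lineMap_lineMap hL.1 x u).symm⟩
  rw [lineMap_lineMap hL.1]
  rcases lineMap_spec L y v with h | ⟨h, he⟩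
  · exact (lineMap_eq hL.1 ((isThird_iso (pointPerm_isIso hL x) y v _).2 h)).symm
  · rw [he]
    refine (lineMap_eq_self fun w hw => h (LineSystem.lineMap L x w) ?_).symm
    rw [← isThird_iso (pointPerm_isIso hL x)]
    simpa [pointPerm_apply, lineMap_lineMap hL.1] using hw

theorem pointPerm_structure (hL : IsFischerSpace L) (hnd : LineSystem.IsNondegenerate L) :
    (∀ x : X, ∃ σ : Equiv.Perm X, ⇑σ = LineSystem.lineMap L x ∧ orderOf σ = 2 ∧
      LineSystem.IsIso L L σ) ∧
      IsThreeTranspositionSet {σ : Equiv.Perm X | ∃ x : X, ⇑σ = LineSystem.lineMap L x} := by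
  have hord : ∀ x, orderOf (pointPerm hL.1 x) = 2 := fun x => by
    refine orderOf_eq_prime (by rw [pow_two, pointPerm_mul_self]) fun h => ?_
    obtain ⟨l, hl, hx⟩ := hnd x
    obtain ⟨y, hy, hne⟩ : ∃ y ∈ l, y ≠ x :=
      Set.exists_ne_of_one_lt_ncard (by rw [hL.2.1 l hl]; omega) x
    obtain ⟨z, -, hz⟩ := exists_isThird hL.2.1 hl hx hy hne.symm
    have := congrArg (fun σ : Equiv.Perm X => σ y) h
    simp only [pointPerm_apply, lineMap_eq hL.1 hz, Equiv.Perm.one_apply] at this
    exact hz.2.1 this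
  refine ⟨fun x => ⟨pointPerm hL.1 x, rfl, hord x, pointPerm_isIso hL x⟩, ?_⟩
  have hget : ∀ σ : Equiv.Perm X, (∃ x : X, ⇑σ = LineSystem.lineMap L x) →
      ∃ x, σ = pointPerm hL.1 x := fun σ ⟨x, h⟩ => ⟨x, Equiv.ext fun u => congrFun h u⟩
  refine ⟨fun σ hσ => ?_, fun σ hσ τ hτ => ?_⟩
  · obtain ⟨x, rfl⟩ := hget σ hσ
    exact hord x
  obtain ⟨x, rfl⟩ := hget σ hσ
  obtain ⟨y, rfl⟩ := hget τ hτ
  have hc := pointPerm_conj hL x y
  have hs := pointPerm_mul_self hL.1
  rcases lineMap_spec L x y with h | ⟨h, he⟩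
  · refine Or.inr ?_
    have hc' := pointPerm_conj hL y x
    rw [lineMap_eq hL.1 h.flip] at hc'
    calc (pointPerm hL.1 x * pointPerm hL.1 y) ^ 3
        = (pointPerm hL.1 x * pointPerm hL.1 y * pointPerm hL.1 x) *
          (pointPerm hL.1 y * pointPerm hL.1 x * pointPerm hL.1 y) := by
          simp [pow_succ, mul_assoc]
      _ = 1 := by rw [hc, hc', hs]
  · refine Or.inl ?_
    rw [he] at hc
    calc (pointPerm hL.1 x * pointPerm hL.1 y) ^ 2
        = pointPerm hL.1 x * pointPerm hL.1 y * pointPerm hL.1 x * pointPerm hL.1 y := by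
          simp [pow_succ, mul_assoc]
      _ = 1 := by rw [hc, hs]

end CfsgLib.Transpositions
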