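import Cfsg.Agent.Transpositions.FischerSpace
import Cfsg.Agent.Transpositions.String
import Cfsg.Agent.Transpositions.Classes

/-!
# The line system of a set of 3-transpositions

Two meeting lines span either the six transpositions of a symmetric group of degree four or nine
pairwise noncommuting members forming an affine plane of order three.
-/

set_option autoImplicit false

namespace CfsgLib.Transpositions

open Cfsg

variable {G : Type*} [Group G] {D : Set G}

/-- `c` is the third member of the line of the noncommuting members `a` and `b`. -/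
def Triple (a b c : G) : Prop := ¬ Commute a b ∧ c = b * a * b

section

variable (hD : IsThreeTranspositionSet D)
include hD

theorem Triple.flip {a b c : G} (ha : a ∈ D) (hb : b ∈ D) (h : Triple a b c) : Triple b a c :=
  ⟨fun e => h.1 e.symm, by rw [h.2, braid hD ha hb h.1]⟩

theorem Triple.swap {a b c : G} (ha : a ∈ D) (hb : b ∈ D) (h : Triple a b c) : Triple a c b := by
  obtain ⟨hn, rfl⟩ := h
  have hbr := braid hD hb ha fun e => hn e.symm
  have key : b * a * b * a * (b * a * b) = b := by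
    calc b * a * b * a * (b * a * b) = (b * a * b) * a * (b * a * b) := by group
      _ = (a * b * a) * a * (a * b * a) := by rw [hbr]
      _ = a * b * (a * a) * a * b * a := by group
      _ = (a * b * a) * (b * a) := by rw [sq hD ha]; group
      _ = (b * a * b) * (b * a) := by rw [hbr]
      _ = b * a * (b * b) * a := by group
      _ = b * (a * a) := by rw [sq hD hb]; group
      _ = b := by rw [sq hD ha, mul_one]
  refine ⟨fun e => hn ?_, key.symm⟩
  have hcc : (b * a * b) * (b * a * b) = 1 := by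
    calc b * a * b * (b * a * b) = b * a * (b * b) * a * b := by group
      _ = b * (a * a) * b := by rw [sq hD hb]; group
      _ = 1 := by rw [sq hD ha, mul_one, sq hD hb]
  have hba : b = a := by
    calc b = b * a * b * a * (b * a * b) := key.symm
      _ = a * ((b * a * b) * (b * a * b)) := by rw [← e.eq]; group
      _ = a := by rw [hcc, mul_one]
  rw [hba]

theorem Triple.ne {a b c : G} (ha : a ∈ D) (hb : b ∈ D) (h : Triple a b c) :
    a ≠ b ∧ c ≠ a ∧ c ≠ b :=
  ⟨fun e => h.1 (e ▸ Commute.refl a),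
    fun e => (h.swap hD ha hb).1 (e ▸ Commute.refl _),
    fun e => ((h.flip hD ha hb).swap hD hb ha).1 (e ▸ Commute.refl _)⟩

theorem mem_lines_iff {l : Set D} :
    l ∈ threeTranspositionLines D ↔ ∃ a b : D, ¬ Commute (a : G) (b : G) ∧
      l = {z : D | (z : G) = a ∨ (z : G) = b ∨ (z : G) = (b : G) * a * b} := by
  simp only [threeTranspositionLines, Set.mem_ofPred_eq]
  refine exists_congr fun a => exists_congr fun b => ?_
  rw [inv_eq hD b.2]

/-- Two different points of a line determine it. -/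
theorem eq_line_of_mem {l : Set D} (hl : l ∈ threeTranspositionLines D) {u v : D} (hu : u ∈ l)
    (hv : v ∈ l) (hne : u ≠ v) : ¬ Commute (u : G) (v : G) ∧
      l = {z : D | (z : G) = u ∨ (z : G) = v ∨ (z : G) = (v : G) * u * v} := by
  obtain ⟨a, b, hn, rfl⟩ := (mem_lines_iff hD).1 hl
  obtain ⟨c, hc⟩ : ∃ c, c = (b : G) * a * b := ⟨_, rfl⟩
  have t : Triple (a : G) b c := ⟨hn, hc⟩
  have t1 := t.flip hD a.2 b.2
  have hne' : (u : G) ≠ v := fun e => hne (Subtype.ext e)
  have hu' : (u : G) = a ∨ (u : G) = b ∨ (u : G) = c := hc ▸ hu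
  have hv' : (v : G) = a ∨ (v : G) = b ∨ (v : G) = c := hc ▸ hv
  have fin : ∀ w : G, Triple (u : G) v w →
      (∀ z : G, (z = a ∨ z = b ∨ z = c) ↔ (z = u ∨ z = v ∨ z = w)) →
      ¬ Commute (u : G) (v : G) ∧ ({z : D | (z : G) = a ∨ (z : G) = b ∨ (z : G) = (b : G) * a * b} =
        {z : D | (z : G) = u ∨ (z : G) = v ∨ (z : G) = (v : G) * u * v}) := by
    intro w hw hiff
    refine ⟨hw.1, Set.ext fun z => ?_⟩
    simp only [Set.mem_ofPred_eq, ← hc, ← hw.2]
    exact hiff z
  have t2 := t.swap hD a.2 b.2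
  have t3 := t1.swap hD b.2 a.2
  rcases hu' with h | h | h <;> rcases hv' with h' | h' | h'
  · exact absurd (h.trans h'.symm) hne'
  · exact fin c (by rw [h, h']; exact t) fun z => by rw [h, h']
  · exact fin b (by rw [h, h']; exact t2) fun z => by rw [h, h']; tauto
  · exact fin c (by rw [h, h']; exact t1) fun z => by rw [h, h']; tauto
  · exact absurd (h.trans h'.symm) hne'
  · exact fin a (by rw [h, h']; exact t3) fun z => by rw [h, h']; tauto
  · exact fin b (by rw [h, h']; exact t2.flip hD a.2 (h ▸ u.2)) fun z => by rw [h, h']; tauto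
  · exact fin a (by rw [h, h']; exact t3.flip hD b.2 (h ▸ u.2)) fun z => by rw [h, h']; tauto
  · exact absurd (h.trans h'.symm) hne'

theorem line_of (hconj : ∀ g : G, ∀ x ∈ D, g * x * g⁻¹ ∈ D) {a b : D}
    (h : ¬ Commute (a : G) (b : G)) :
    ∃ c : D, (c : G) = (b : G) * a * b ∧ ({a, b, c} : Set D) ∈ threeTranspositionLines D := by
  refine ⟨⟨_, conj_mem_of_mem hD hconj b.2 a.2⟩, rfl, (mem_lines_iff hD).2 ⟨a, b, h, ?_⟩⟩
  ext z
  simp [Subtype.ext_iff]

theorem third_mem_span (hconj : ∀ g : G, ∀ x ∈ D, g * x * g⁻¹ ∈ D) {S : Set D} {a b c : D}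
    (ha : a ∈ LineSystem.span (threeTranspositionLines D) S)
    (hb : b ∈ LineSystem.span (threeTranspositionLines D) S) (h : Triple (a : G) b c) :
    c ∈ LineSystem.span (threeTranspositionLines D) S := by
  obtain ⟨c', hc', hl⟩ := line_of hD hconj h.1
  obtain rfl : c = c' := Subtype.ext (h.2.trans hc'.symm)
  exact isSubspace_span _ _ _ hl a ha b hb (fun e => h.1 (e ▸ Commute.refl _)) (by simp) (by simp)
    (by simp)

theorem partialLinear_lines : LineSystem.IsPartialLinear (threeTranspositionLines D) := by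
  intro l hl m hm x y hne hxl hyl hxm hym
  rw [(eq_line_of_mem hD hl hxl hyl hne).2, (eq_line_of_mem hD hm hxm hym hne).2]

theorem ncard_line (hconj : ∀ g : G, ∀ x ∈ D, g * x * g⁻¹ ∈ D) {l : Set D}
    (hl : l ∈ threeTranspositionLines D) : l.ncard = 3 := by
  obtain ⟨a, b, hn, rfl⟩ := (mem_lines_iff hD).1 hl
  obtain ⟨h1, h2, h3⟩ :=
    Triple.ne hD a.2 b.2 (⟨hn, rfl⟩ : Triple (a : G) b ((b : G) * a * b))
  refine Set.ncard_eq_three.2 ⟨a, b, ⟨_, conj_mem_of_mem hD hconj b.2 a.2⟩,
    fun e => h1 (congrArg Subtype.val e), fun e => h2 (congrArg Subtype.val e).symm,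
    fun e => h3 (congrArg Subtype.val e).symm, ?_⟩
  ext z
  simp [Subtype.ext_iff]

/-- A copy of a model plane inside `D` is isomorphic to the model. -/
theorem isomorphic_of_model {P : Type} {M : Set (Set P)} {f : P → D} {S : Set D}
    (hS : S = Set.range f)
    (hline : ∀ l ∈ M, ∃ p q r, l = {p, q, r} ∧ Triple (f p : G) (f q) (f r))
    (hpair : ∀ p q, p ≠ q → (∃ l ∈ M, p ∈ l ∧ q ∈ l) ∨
      (Commute (f p : G) (f q) ∧ f p ≠ f q)) :
    LineSystem.IsSubspace (threeTranspositionLines D) S ∧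
      LineSystem.Isomorphic (LineSystem.restrict (threeTranspositionLines D) S) M := by
  have himg : ∀ l ∈ M, f '' l ∈ threeTranspositionLines D := by
    intro l hl
    obtain ⟨p, q, r, rfl, h⟩ := hline l hl
    refine (mem_lines_iff hD).2 ⟨f p, f q, h.1, ?_⟩
    ext z
    simp [Subtype.ext_iff, eq_comm, h.2]
  have hne : ∀ p q, p ≠ q → f p ≠ f q := by
    intro p q hpq
    rcases hpair p q hpq with ⟨l, hl, hp, hq⟩ | ⟨-, h⟩
    · obtain ⟨a, b, c, rfl, h⟩ := hline l hl
      obtain ⟨h1, h2, h3⟩ := h.ne hD (f a).2 (f b).2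
      intro e
      rcases hp with rfl | rfl | rfl <;> rcases hq with rfl | rfl | rfl <;>
        first
          | exact hpq rfl
          | exact h1 (congrArg Subtype.val e)
          | exact h1 (congrArg Subtype.val e).symm
          | exact h2 (congrArg Subtype.val e)
          | exact h2 (congrArg Subtype.val e).symm
          | exact h3 (congrArg Subtype.val e)
          | exact h3 (congrArg Subtype.val e).symm
    · exact h
  have hinj : Function.Injective f := fun p q e => by_contra fun h => hne p q h e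
  have hback : ∀ k ∈ threeTranspositionLines D, ∀ p q, p ≠ q → f p ∈ k → f q ∈ k →
      ∃ l ∈ M, k = f '' l := by
    intro k hk p q hpq hp hq
    rcases hpair p q hpq with ⟨l, hl, h1, h2⟩ | ⟨hc, -⟩
    · exact ⟨l, hl, partialLinear_lines hD k hk _ (himg l hl) (f p) (f q) (hne p q hpq) hp hq
        ⟨p, h1, rfl⟩ ⟨q, h2, rfl⟩⟩
    · exact absurd hc (eq_line_of_mem hD hk hp hq (hne p q hpq)).1
  have hsub : LineSystem.IsSubspace (threeTranspositionLines D) S := by
    intro k hk u hu v hv huv huk hvk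
    rw [hS] at hu hv ⊢
    obtain ⟨p, rfl⟩ := hu
    obtain ⟨q, rfl⟩ := hv
    obtain ⟨l, -, rfl⟩ := hback k hk p q (fun e => huv (e ▸ rfl)) huk hvk
    exact Set.image_subset_range f l
  refine ⟨hsub, ?_⟩
  subst hS
  let e : P ≃ Set.range f := Equiv.ofInjective f hinj
  have he : ∀ p, (e p : D) = f p := fun p => rfl
  refine ⟨e.symm, fun m => ?_⟩
  constructor
  · rintro ⟨k, hk, hkS, rfl⟩
    obtain ⟨a, b, hn, hkeq⟩ := (mem_lines_iff hD).1 hk
    have ha : a ∈ k := by rw [hkeq]; exact Or.inl rfl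
    have hb : b ∈ k := by rw [hkeq]; exact Or.inr (Or.inl rfl)
    obtain ⟨p, rfl⟩ := hkS ha
    obtain ⟨q, rfl⟩ := hkS hb
    obtain ⟨l, hl, hkl⟩ := hback k hk p q (fun h => hn (h ▸ Commute.refl _)) ha hb
    convert hl using 1
    ext r
    rw [Equiv.image_symm_eq_preimage, Set.mem_preimage, Set.mem_ofPred_eq, he, hkl,
      hinj.mem_set_image]
  · intro hm
    refine ⟨f '' (e.symm '' m), himg _ hm, Set.image_subset_range f _, ?_⟩
    ext z
    obtain ⟨p, rfl⟩ := e.surjective z
    rw [Set.mem_ofPred_eq, he, hinj.mem_set_image, Equiv.image_symm_eq_preimage, Set.mem_preimage]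

end

/-- The transposition of a two-element subset of a four-element set. -/
def pairSwap (s : DualAffinePoint) : Equiv.Perm (Fin 4) :=
  match (List.finRange 4).filter fun i => decide (i ∈ s.val) with
  | [a, b] => Equiv.swap a b
  | _ => 1

theorem dual_line_model : ∀ i : Fin 4, ∃ p q r : DualAffinePoint,
    (∀ s : DualAffinePoint, i ∉ s.val ↔ (s = p ∨ s = q ∨ s = r)) ∧
      pairSwap p * pairSwap q ≠ pairSwap q * pairSwap p ∧
      pairSwap r = pairSwap q * pairSwap p * pairSwap q := by decide +kernel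

theorem dual_pair_model : ∀ p q : DualAffinePoint, p ≠ q →
    (∃ i : Fin 4, i ∉ p.val ∧ i ∉ q.val) ∨
      (pairSwap p * pairSwap q = pairSwap q * pairSwap p ∧ pairSwap p ≠ pairSwap q) := by
  decide +kernel

theorem pairSwap_conj : ∀ p : DualAffinePoint, ∃ k : Equiv.Perm (Fin 4),
    k * Equiv.swap 0 1 * k⁻¹ = pairSwap p := by decide +kernel

variable [Finite G]

/-- Two meeting lines with commuting outer points span a dual affine plane. -/
theorem dual_case (hD : IsThreeTranspositionGroup D) {T : Set D} {a b c : D}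
    (hab : ¬ Commute (a : G) (b : G)) (hbc : ¬ Commute (b : G) (c : G))
    (hac : Commute (a : G) (c : G)) (hne : a ≠ c)
    (haT : a ∈ LineSystem.span (threeTranspositionLines D) T)
    (hbT : b ∈ LineSystem.span (threeTranspositionLines D) T)
    (hcT : c ∈ LineSystem.span (threeTranspositionLines D) T)
    (hgen : ∀ Z : Set D, LineSystem.IsSubspace (threeTranspositionLines D) Z →
      a ∈ Z → b ∈ Z → c ∈ Z → T ⊆ Z) :
    LineSystem.Isomorphic (LineSystem.restrict (threeTranspositionLines D)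
      (LineSystem.span (threeTranspositionLines D) T)) dualAffinePlaneTwo := by
  obtain ⟨φ, hinj, h1, h2, h3⟩ := exists_hom_of_string hD.1 a.2 b.2 c.2
    (fun e => hne (Subtype.ext e)) hac hab hbc
  have hmem : ∀ p, φ (pairSwap p) ∈ D := fun p => by
    obtain ⟨k, hk⟩ := pairSwap_conj p
    rw [← hk, map_mul, map_mul, map_inv, h1]
    exact hD.2.1 _ _ a.2
  obtain ⟨f, hf⟩ : ∃ f : DualAffinePoint → D, ∀ p, (f p : G) = φ (pairSwap p) :=
    ⟨fun p => ⟨_, hmem p⟩, fun _ => rfl⟩
  have htriple : ∀ p q r, pairSwap p * pairSwap q ≠ pairSwap q * pairSwap p →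
      pairSwap r = pairSwap q * pairSwap p * pairSwap q → Triple (f p : G) (f q) (f r) := by
    intro p q r hn he
    rw [hf, hf, hf]
    refine ⟨fun h => hn (hinj (by rw [map_mul, map_mul]; exact h.eq)), ?_⟩
    rw [he, map_mul, map_mul]
  have hgood : ∀ S, S = Set.range f → LineSystem.IsSubspace (threeTranspositionLines D) S ∧
      LineSystem.Isomorphic (LineSystem.restrict (threeTranspositionLines D) S)
        dualAffinePlaneTwo := fun S hS => by
    refine isomorphic_of_model hD.1 hS ?_ ?_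
    · rintro l ⟨i, rfl⟩
      obtain ⟨p, q, r, hs, hn, he⟩ := dual_line_model i
      exact ⟨p, q, r, Set.ext fun s => by simpa using hs s, htriple p q r hn he⟩
    · intro p q hpq
      rcases dual_pair_model p q hpq with ⟨i, hp, hq⟩ | ⟨h, hd⟩
      · exact Or.inl ⟨_, ⟨i, rfl⟩, hp, hq⟩
      · refine Or.inr ⟨?_, fun e => hd (hinj (by rw [← hf, ← hf, e]))⟩
        rw [hf, hf]
        show φ _ * φ _ = φ _ * φ _
        rw [← map_mul, h, map_mul]
  let P01 : DualAffinePoint := ⟨{0, 1}, rfl⟩
  let P12 : DualAffinePoint := ⟨{1, 2}, rfl⟩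
  let P23 : DualAffinePoint := ⟨{2, 3}, rfl⟩
  let P02 : DualAffinePoint := ⟨{0, 2}, rfl⟩
  let P13 : DualAffinePoint := ⟨{1, 3}, rfl⟩
  let P03 : DualAffinePoint := ⟨{0, 3}, rfl⟩
  have ea : f P01 = a := Subtype.ext (by
    rw [hf, ← h1]; exact congrArg φ (by decide +kernel))
  have eb : f P12 = b := Subtype.ext (by
    rw [hf, ← h2]; exact congrArg φ (by decide +kernel))
  have ec : f P23 = c := Subtype.ext (by
    rw [hf, ← h3]; exact congrArg φ (by decide +kernel))
  have hrange : Set.range f = LineSystem.span (threeTranspositionLines D) T := by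
    refine Set.Subset.antisymm ?_
      (span_le (hgen _ (hgood _ rfl).1 ⟨_, ea⟩ ⟨_, eb⟩ ⟨_, ec⟩) (hgood _ rfl).1)
    have step : ∀ p q r, pairSwap p * pairSwap q ≠ pairSwap q * pairSwap p →
        pairSwap r = pairSwap q * pairSwap p * pairSwap q →
        f p ∈ LineSystem.span (threeTranspositionLines D) T →
        f q ∈ LineSystem.span (threeTranspositionLines D) T →
        f r ∈ LineSystem.span (threeTranspositionLines D) T := fun p q r hn he hp hq =>
      third_mem_span hD.1 hD.2.1 hp hq (htriple p q r hn he)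
    have m01 : f P01 ∈ LineSystem.span (threeTranspositionLines D) T := ea ▸ haT
    have m12 : f P12 ∈ LineSystem.span (threeTranspositionLines D) T := eb ▸ hbT
    have m23 : f P23 ∈ LineSystem.span (threeTranspositionLines D) T := ec ▸ hcT
    have m02 := step P01 P12 P02 (by decide +kernel) (by decide +kernel) m01 m12
    have m13 := step P12 P23 P13 (by decide +kernel) (by decide +kernel) m12 m23
    have m03 := step P01 P13 P03 (by decide +kernel) (by decide +kernel) m01 m13
    rintro _ ⟨p, rfl⟩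
    have hp : p = P01 ∨ p = P12 ∨ p = P23 ∨ p = P02 ∨ p = P13 ∨ p = P03 := by
      revert p; decide +kernel
    rcases hp with rfl | rfl | rfl | rfl | rfl | rfl <;> assumption
  exact (hgood _ hrange.symm).2

/-- The twelve lines of the affine plane. -/
def affineTriples : List ((ZMod 3 × ZMod 3) × (ZMod 3 × ZMod 3) × (ZMod 3 × ZMod 3)) :=
  [((0, 0), (1, 0), (2, 0)), ((0, 0), (0, 1), (0, 2)), ((2, 0), (0, 2), (1, 1)),
   ((1, 0), (0, 1), (2, 2)), ((2, 0), (0, 1), (1, 2)), ((1, 0), (0, 2), (2, 1)),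
   ((0, 0), (2, 2), (1, 1)), ((0, 0), (1, 2), (2, 1)), ((1, 0), (1, 2), (1, 1)),
   ((2, 0), (2, 2), (2, 1)), ((0, 1), (2, 1), (1, 1)), ((0, 2), (2, 2), (1, 2))]

theorem affineTriples_complete : ∀ p q : ZMod 3 × ZMod 3, p ≠ q → ∃ t ∈ affineTriples,
    (p, q, -p - q) = (t.1, t.2.1, t.2.2) ∨ (p, q, -p - q) = (t.1, t.2.2, t.2.1) ∨
    (p, q, -p - q) = (t.2.1, t.1, t.2.2) ∨ (p, q, -p - q) = (t.2.1, t.2.2, t.1) ∨
    (p, q, -p - q) = (t.2.2, t.1, t.2.1) ∨ (p, q, -p - q) = (t.2.2, t.2.1, t.1) := by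
  decide +kernel

/-- Four noncommuting pairs on two meeting lines span an affine plane. -/
theorem affine_case (hD : IsThreeTranspositionGroup D) {T : Set D} {x y z u w : D}
    (hxy : Triple (x : G) y z) (hxu : Triple (x : G) u w)
    (hyu : ¬ Commute (y : G) (u : G)) (hyw : ¬ Commute (y : G) (w : G))
    (hzu : ¬ Commute (z : G) (u : G)) (hzw : ¬ Commute (z : G) (w : G))
    (hT : ∀ p ∈ [x, y, z, u, w], p ∈ LineSystem.span (threeTranspositionLines D) T)
    (hgen : ∀ Z : Set D, LineSystem.IsSubspace (threeTranspositionLines D) Z →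
      x ∈ Z → y ∈ Z → u ∈ Z → T ⊆ Z) :
    LineSystem.Isomorphic (LineSystem.restrict (threeTranspositionLines D)
      (LineSystem.span (threeTranspositionLines D) T)) affinePlaneThree := by
  have hDs := hD.1
  have mem : ∀ a b : D, (b : G) * a * b ∈ D := fun a b => conj_mem_of_mem hDs hD.2.1 b.2 a.2
  obtain ⟨a, ha⟩ : ∃ a : D, (a : G) = (w : G) * z * w := ⟨⟨_, mem z w⟩, rfl⟩   -- (1,1)
  obtain ⟨b, hb⟩ : ∃ b : D, (b : G) = (u : G) * y * u := ⟨⟨_, mem y u⟩, rfl⟩   -- (2,2)
  obtain ⟨c, hc⟩ : ∃ c : D, (c : G) = (u : G) * z * u := ⟨⟨_, mem z u⟩, rfl⟩   -- (1,2)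
  obtain ⟨d, hd⟩ : ∃ d : D, (d : G) = (w : G) * y * w := ⟨⟨_, mem y w⟩, rfl⟩   -- (2,1)
  let g : ZMod 3 × ZMod 3 → D := fun p =>
    if p = (0, 0) then x else if p = (1, 0) then y else if p = (2, 0) then z
    else if p = (0, 1) then u else if p = (0, 2) then w else if p = (1, 1) then a
    else if p = (2, 2) then b else if p = (1, 2) then c else d
  have T1 : Triple (z : G) w a := ⟨hzw, ha⟩
  have T2 : Triple (y : G) u b := ⟨hyu, hb⟩
  have T3 : Triple (z : G) u c := ⟨hzu, hc⟩
  have T4 : Triple (y : G) w d := ⟨hyw, hd⟩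
  have xz := hxy.swap hDs x.2 y.2
  have xw := hxu.swap hDs x.2 u.2
  have yx := hxy.flip hDs x.2 y.2
  have ux := hxu.flip hDs x.2 u.2
  have wx := xw.flip hDs x.2 w.2
  have yz := yx.swap hDs y.2 x.2
  have uw := ux.swap hDs u.2 x.2
  have zy := yz.flip hDs y.2 z.2
  have wu := uw.flip hDs u.2 w.2
  -- noncommutation is invariant under conjugation by a member
  have cj : ∀ e p q p' q' : G, e ∈ D → e * p * e = p' → e * q * e = q' → ¬ Commute p' q' →
      ¬ Commute p q := fun e p q p' q' he hp hq hn h =>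
    hn (hp ▸ hq ▸ (commute_conj_iff_of_mem hDs he p q).2 h)
  have cc : ∀ e : G, e ∈ D → ∀ p : G, e * (e * p * e) * e = p := fun e he p => by
    calc e * (e * p * e) * e = e * e * p * (e * e) := by group
      _ = p := by rw [sq hDs he, one_mul, mul_one]
  have cm : ∀ e : G, e ∈ D → ∀ p q : G,
      e * (q * p * q) * e = e * q * e * (e * p * e) * (e * q * e) := fun e he p q => by
    calc e * (q * p * q) * e = e * q * 1 * p * 1 * q * e := by group
      _ = e * q * (e * e) * p * (e * e) * q * e := by rw [sq hDs he]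
      _ = e * q * e * (e * p * e) * (e * q * e) := by group
  have hxb : (x : G) * b * x = a := by
    rw [hb, cm _ x.2, ← yx.2, ← ux.2, ha]
  have hxd : (x : G) * d * x = c := by
    rw [hd, cm _ x.2, ← yx.2, ← wx.2, hc]
  have hxc : (x : G) * c * x = d := by rw [← hxd, cc _ x.2]
  have L7 : Triple (x : G) b a :=
    Triple.flip hDs b.2 x.2 ⟨fun h => cj u x b w y u.2 hxu.2.symm (by rw [hb, cc _ u.2])
      (fun e => hyw e.symm) h.symm, hxb.symm⟩
  have L8 : Triple (x : G) c d :=
    (Triple.flip hDs d.2 x.2 ⟨fun h => cj w x d u y w.2 xw.2.symm (by rw [hd, cc _ w.2])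
      (fun e => hyu e.symm) h.symm, hxd.symm⟩).swap hDs x.2 d.2
  have L9 : Triple (y : G) c a := by
    refine Triple.flip hDs c.2 y.2 ⟨fun h => cj z y c x u z.2 yz.2.symm ?_ hxu.1 h.symm, ?_⟩
    · rw [hc, ← braid hDs z.2 u.2 hzu, cc _ z.2]
    · have e : (y : G) * z = x * y := by
        rw [hxy.2, ← mul_assoc, ← mul_assoc, sq hDs y.2, one_mul]
      have e' : (z : G) * y = y * x := by
        rw [hxy.2, mul_assoc (_ * _), sq hDs y.2, mul_one]
      calc (a : G) = x * b * x := hxb.symm
        _ = x * (y * u * y) * x := by rw [hb, braid hDs y.2 u.2 hyu]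
        _ = (x * y) * u * (y * x) := by group
        _ = (y * z) * u * (z * y) := by rw [e, e']
        _ = y * (z * u * z) * y := by group
        _ = y * c * y := by rw [hc, braid hDs z.2 u.2 hzu]
  have L10 : Triple (z : G) b d := by
    refine Triple.flip hDs b.2 z.2 ⟨fun h => cj y z b x u y.2 zy.2.symm ?_ hxu.1 h.symm, ?_⟩
    · rw [hb, ← braid hDs y.2 u.2 hyu, cc _ y.2]
    · have e : (z : G) * y = x * z := by
        rw [xz.2, ← mul_assoc, ← mul_assoc, sq hDs z.2, one_mul]
      have e' : (y : G) * z = z * x := by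
        rw [xz.2, mul_assoc (_ * _), sq hDs z.2, mul_one]
      calc (d : G) = x * c * x := hxc.symm
        _ = x * (z * u * z) * x := by rw [hc, braid hDs z.2 u.2 hzu]
        _ = (x * z) * u * (z * x) := by group
        _ = (z * y) * u * (y * z) := by rw [e, e']
        _ = z * (y * u * y) * z := by group
        _ = z * b * z := by rw [hb, braid hDs y.2 u.2 hyu]
  have L11 : Triple (u : G) d a := by
    refine Triple.flip hDs d.2 u.2 ⟨fun h => cj w u d x y w.2 uw.2.symm
      (by rw [hd, cc _ w.2]) hxy.1 h.symm, ?_⟩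
    have e : (u : G) * w = x * u := by
      rw [hxu.2, ← mul_assoc, ← mul_assoc, sq hDs u.2, one_mul]
    have e' : (w : G) * u = u * x := by
      rw [hxu.2, mul_assoc (_ * _), sq hDs u.2, mul_one]
    calc (a : G) = x * b * x := hxb.symm
      _ = (x * u) * y * (u * x) := by rw [hb]; group
      _ = (u * w) * y * (w * u) := by rw [e, e']
      _ = u * d * u := by rw [hd]; group
  have L12 : Triple (w : G) b c := by
    refine Triple.flip hDs b.2 w.2 ⟨fun h => cj u w b x y u.2 wu.2.symm
      (by rw [hb, cc _ u.2]) hxy.1 h.symm, ?_⟩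
    have e : (w : G) * u = x * w := by
      rw [xw.2, ← mul_assoc, ← mul_assoc, sq hDs w.2, one_mul]
    have e' : (u : G) * w = w * x := by
      rw [xw.2, mul_assoc (_ * _), sq hDs w.2, mul_one]
    calc (c : G) = x * d * x := hxd.symm
      _ = (x * w) * y * (w * x) := by rw [hd]; group
      _ = (w * u) * y * (u * w) := by rw [e, e']
      _ = w * b * w := by rw [hb]; group
  have htri : ∀ t ∈ affineTriples, Triple (g t.1 : G) (g t.2.1) (g t.2.2) := by
    intro t ht
    simp only [affineTriples, List.mem_cons, List.not_mem_nil, or_false] at ht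
    rcases ht with rfl | rfl | rfl | rfl | rfl | rfl | rfl | rfl | rfl | rfl | rfl | rfl
    exacts [hxy, hxu, T1, T2, T3, T4, L7, L8, L9, L10, L11, L12]
  have hall : ∀ p q : ZMod 3 × ZMod 3, p ≠ q → Triple (g p : G) (g q) (g (-p - q)) := by
    intro p q hpq
    obtain ⟨t, ht, h⟩ := affineTriples_complete p q hpq
    have T := htri t ht
    have Tf := T.flip hDs (g t.1).2 (g t.2.1).2
    have Ts := T.swap hDs (g t.1).2 (g t.2.1).2
    have Tfs := Tf.swap hDs (g t.2.1).2 (g t.1).2
    simp only [Prod.mk.injEq] at h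
    rcases h with ⟨e1, e2, e3⟩ | ⟨e1, e2, e3⟩ | ⟨e1, e2, e3⟩ | ⟨e1, e2, e3⟩ | ⟨e1, e2, e3⟩ |
      ⟨e1, e2, e3⟩ <;> rw [e3, e1, e2]
    exacts [T, Ts, Tf, Tfs, Ts.flip hDs (g t.1).2 (g t.2.2).2,
      Tfs.flip hDs (g t.2.1).2 (g t.2.2).2]
  let f : (Fin 2 → ZMod 3) → D := fun s => g (s 0, s 1)
  have hfall : ∀ p q : Fin 2 → ZMod 3, p ≠ q → Triple (f p : G) (f q) (f (-p - q)) :=
    fun p q hpq => hall (p 0, p 1) (q 0, q 1) fun e => hpq (funext fun i => by
      fin_cases i
      · exact congrArg Prod.fst e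
      · exact congrArg Prod.snd e)
  have hgood : ∀ S, S = Set.range f → LineSystem.IsSubspace (threeTranspositionLines D) S ∧
      LineSystem.Isomorphic (LineSystem.restrict (threeTranspositionLines D) S)
        affinePlaneThree := fun S hS => by
    refine isomorphic_of_model hDs hS ?_ ?_
    · rintro l ⟨v, k, hk, rfl⟩
      refine ⟨v, v + k, -v - (v + k), ?_, hfall v (v + k) (by simpa using hk)⟩
      ext s
      simp only [Set.mem_ofPred_eq, Set.mem_insert_iff, Set.mem_singleton_iff]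
      have e3 : -v - (v + k) = v + (2 : ZMod 3) • k := funext fun i => by
        exact (by decide : ∀ m n : ZMod 3, -m - (m + n) = m + 2 * n) (v i) (k i)
      rw [e3]
      constructor
      · rintro ⟨r, rfl⟩
        rcases (by decide : ∀ r : ZMod 3, r = 0 ∨ r = 1 ∨ r = 2) r with rfl | rfl | rfl <;> simp
      · rintro (rfl | rfl | rfl)
        exacts [⟨0, by simp⟩, ⟨1, by simp⟩, ⟨2, rfl⟩]
    · intro p q hpq
      exact Or.inl ⟨_, ⟨p, q - p, sub_ne_zero.2 (Ne.symm hpq), rfl⟩, ⟨0, by simp⟩, ⟨1, by simp⟩⟩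
  have hf : ∀ i j : ZMod 3, f ![i, j] = g (i, j) := fun i j => rfl
  have hrange : Set.range f = LineSystem.span (threeTranspositionLines D) T := by
    refine Set.Subset.antisymm ?_
      (span_le (hgen _ (hgood _ rfl).1 ⟨![0, 0], hf 0 0⟩ ⟨![1, 0], hf 1 0⟩ ⟨![0, 1], hf 0 1⟩)
        (hgood _ rfl).1)
    have hx' := hT x (by simp)
    have hy' := hT y (by simp)
    have hz' := hT z (by simp)
    have hu' := hT u (by simp)
    have hw' := hT w (by simp)
    have ha' := third_mem_span hDs hD.2.1 hz' hw' T1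
    have hb' := third_mem_span hDs hD.2.1 hy' hu' T2
    have hc' := third_mem_span hDs hD.2.1 hz' hu' T3
    have hd' := third_mem_span hDs hD.2.1 hy' hw' T4
    rintro _ ⟨s, rfl⟩
    show g (s 0, s 1) ∈ _
    generalize (s 0, s 1) = p
    simp only [g]
    repeat' split
    all_goals assumption
  exact (hgood _ hrange.symm).2

theorem isFischerSpace_lines (hD : IsThreeTranspositionGroup D) :
    IsFischerSpace (threeTranspositionLines D) := by
  have hDs := hD.1
  refine ⟨partialLinear_lines hDs, fun l hl => ncard_line hDs hD.2.1 hl, ?_⟩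
  intro l hl m hm hlm ⟨x, hxl, hxm⟩
  have h3 := fun k (hk : k ∈ threeTranspositionLines D) => ncard_line hDs hD.2.1 hk
  obtain ⟨y, hy, hyx⟩ := Set.exists_ne_of_one_lt_ncard (by rw [h3 l hl]; omega) x
  obtain ⟨u, hu, hux⟩ := Set.exists_ne_of_one_lt_ncard (by rw [h3 m hm]; omega) x
  obtain ⟨hnxy, hleq⟩ := eq_line_of_mem hDs hl hxl hy hyx.symm
  obtain ⟨hnxu, hmeq⟩ := eq_line_of_mem hDs hm hxm hu hux.symm
  obtain ⟨z, hzv, -⟩ := line_of hDs hD.2.1 hnxy
  obtain ⟨w, hwv, -⟩ := line_of hDs hD.2.1 hnxu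
  have hxy : Triple (x : G) y z := ⟨hnxy, hzv⟩
  have hxu : Triple (x : G) u w := ⟨hnxu, hwv⟩
  have hz : z ∈ l := by rw [hleq]; exact Or.inr (Or.inr hzv)
  have hw : w ∈ m := by rw [hmeq]; exact Or.inr (Or.inr hwv)
  have hzx : z ≠ x := fun e => (hxy.ne hDs x.2 y.2).2.1 (congrArg Subtype.val e)
  have hwx : w ≠ x := fun e => (hxu.ne hDs x.2 u.2).2.1 (congrArg Subtype.val e)
  have mem : ∀ p, p ∈ l ∨ p ∈ m →
      p ∈ LineSystem.span (threeTranspositionLines D) (l ∪ m) :=
    fun p hp => subset_span' _ _ hp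
  have gen : ∀ p q, p ∈ l → p ≠ x → q ∈ m → q ≠ x → ∀ Z : Set D,
      LineSystem.IsSubspace (threeTranspositionLines D) Z → p ∈ Z → x ∈ Z → q ∈ Z →
      l ∪ m ⊆ Z := fun p q hp hpx hq hqx Z hZ hpZ hxZ hqZ =>
    Set.union_subset (hZ l hl x hxZ p hpZ hpx.symm hxl hp)
      (hZ m hm x hxZ q hqZ hqx.symm hxm hq)
  have comm_case : ∀ p q : D, p ∈ l → p ≠ x → q ∈ m → q ≠ x → Commute (p : G) (q : G) →
      LineSystem.Isomorphic (LineSystem.restrict (threeTranspositionLines D)
        (LineSystem.span (threeTranspositionLines D) (l ∪ m))) dualAffinePlaneTwo := by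
    intro p q hp hpx hq hqx hc
    refine dual_case hD (a := p) (b := x) (c := q) (eq_line_of_mem hDs hl hp hxl hpx).1
      (eq_line_of_mem hDs hm hxm hq hqx.symm).1 hc ?_ (mem p (Or.inl hp)) (mem x (Or.inl hxl))
      (mem q (Or.inr hq)) fun Z hZ hpZ hxZ hqZ => gen p q hp hpx hq hqx Z hZ hpZ hxZ hqZ
    rintro rfl
    exact hlm (partialLinear_lines hDs l hl m hm x p hpx.symm hxl hp hxm hq)
  by_cases h1 : Commute (y : G) (u : G)
  · exact Or.inl (comm_case y u hy hyx hu hux h1)
  by_cases h2 : Commute (y : G) (w : G)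
  · exact Or.inl (comm_case y w hy hyx hw hwx h2)
  by_cases h3' : Commute (z : G) (u : G)
  · exact Or.inl (comm_case z u hz hzx hu hux h3')
  by_cases h4 : Commute (z : G) (w : G)
  · exact Or.inl (comm_case z w hz hzx hw hwx h4)
  refine Or.inr (affine_case hD hxy hxu h1 h2 h3' h4 ?_ fun Z hZ hxZ hyZ huZ =>
    gen y u hy hyx hu hux Z hZ hyZ hxZ huZ)
  intro p hp
  simp only [List.mem_cons, List.not_mem_nil, or_false] at hp
  rcases hp with rfl | rfl | rfl | rfl | rfl
  exacts [mem _ (Or.inl hxl), mem _ (Or.inl hy), mem _ (Or.inl hz), mem _ (Or.inr hu),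
    mem _ (Or.inr hw)]

end CfsgLib.Transpositions
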