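import Cfsg.Agent.Transpositions.M23Sphere
import Cfsg.Agent.Transpositions.M23Graph

/-!
# Uniqueness in type M(23)

The pairs of letters of two configurations generate a group isomorphic to each `⟨D_x⟩`, by the simplicity
of `Fi₂₂`; this gives a bijection of the two classes which preserves commutation.
-/

set_option autoImplicit false
set_option linter.unusedSectionVars false

namespace CfsgLib.Transpositions.M23Unique

open Cfsg CfsgLib.FischerTypes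
open CfsgLib.Transpositions.Braid
open CfsgLib.Transpositions.M22Unique (letter coxLabel_eq)

variable {G₁ G₂ : Type*} [Group G₁] [Group G₂] {D₁ : Set G₁} {D₂ : Set G₂}
  {x₁ y₁ : G₁} {x₂ y₂ : G₂} {F₁ : ℕ → G₁} {F₂ : ℕ → G₂}

/-- The pairs of letters. -/
def pairF (F₁ : ℕ → G₁) (F₂ : ℕ → G₂) : ℕ → G₁ × G₂ := fun s => (F₁ s, F₂ s)

/-- The group they generate. -/
def pairS (F₁ : ℕ → G₁) (F₂ : ℕ → G₂) : Subgroup (G₁ × G₂) := Subgroup.closure (pairF F₁ F₂ '' Set.Iio 9)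

theorem pw_pair (F₁ : ℕ → G₁) (F₂ : ℕ → G₂) (l : List ℕ) :
    pw (pairF F₁ F₂) l = (pw F₁ l, pw F₂ l) := by
  induction l with
  | nil => rfl
  | cons s l ih => rw [pw_cons, pw_cons, pw_cons, ih]; rfl

theorem pw_mem_pairS {l : List ℕ} (hl : ∀ s ∈ l, s < 9) : pw (pairF F₁ F₂) l ∈ pairS F₁ F₂ :=
  Subgroup.list_prod_mem _ fun u hu => by
    obtain ⟨s, hs, rfl⟩ := List.mem_map.1 hu
    exact Subgroup.subset_closure ⟨s, hl s hs, rfl⟩

theorem swap_mem {p : G₁ × G₂} (hp : p ∈ pairS F₁ F₂) : p.swap ∈ pairS F₂ F₁ := by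
  have : (pairS F₁ F₂).map (MulEquiv.prodComm : G₁ × G₂ ≃* G₂ × G₁).toMonoidHom ≤ pairS F₂ F₁ := by
    rw [pairS, MonoidHom.map_closure, Subgroup.closure_le]
    rintro _ ⟨_, ⟨s, hs, rfl⟩, rfl⟩
    exact Subgroup.subset_closure ⟨s, hs, rfl⟩
  exact this ⟨p, hp, rfl⟩

variable (c₁ : Conf D₁ x₁ y₁ F₁) (c₂ : Conf D₂ x₂ y₂ F₂)

include c₁ c₂

theorem braided_pair : Braided (pairF F₁ F₂) :=
  ⟨fun s => Prod.ext (c₁.braided.sq s) (c₂.braided.sq s),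
    fun s t h => (c₁.braided.comm s t h).prod (c₂.braided.comm s t h),
    fun s t h => Prod.ext (c₁.braided.braid s t h) (c₂.braided.braid s t h)⟩

variable [Finite G₁] [Finite G₂] (H₁ : M23.Hyp G₁ D₁) (H₂ : M23.Hyp G₂ D₂)

include H₁ H₂

/-- The pairs generate a group of order at most twice that of `Fi₂₂`. -/
theorem card_pairS_le : Nat.card ↥(pairS F₁ F₂) ≤ 2 * Nat.card Spor.Fi22 := by
  set S := pairS F₁ F₂ with hS
  set X : ↥S := ⟨pw (pairF F₁ F₂) Words.z2, pw_mem_pairS letters_lt.2.2.1⟩ with hX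
  have hsq : X * X = 1 := by
    have h1 : pw F₁ Words.z2 * pw F₁ Words.z2 = 1 := by
      rcases c₁.pw_z2 H₁ with e | e <;> rw [e]
      exacts [mul_one 1, FischerTypes.mul_self H₁.group.1 c₁.memx]
    have h2 : pw F₂ Words.z2 * pw F₂ Words.z2 = 1 := by
      rcases c₂.pw_z2 H₂ with e | e <;> rw [e]
      exacts [mul_one 1, FischerTypes.mul_self H₂.group.1 c₂.memx]
    refine Subtype.ext ?_
    show pw (pairF F₁ F₂) Words.z2 * pw (pairF F₁ F₂) Words.z2 = 1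
    rw [pw_pair]
    exact Prod.ext h1 h2
  have hcen : X ∈ Subgroup.center ↥S := by
    rw [Subgroup.mem_center_iff]
    have h0 : S ≤ Subgroup.centralizer {(X : G₁ × G₂)} := by
      refine (Subgroup.closure_le _).2 ?_
      rintro _ ⟨s, hs, rfl⟩
      refine Subgroup.mem_centralizer_singleton_iff.2 ?_
      show pairF F₁ F₂ s * pw (pairF F₁ F₂) Words.z2 = pw (pairF F₁ F₂) Words.z2 * pairF F₁ F₂ s
      rw [pw_pair]
      refine Prod.ext ?_ ?_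
      · rcases c₁.pw_z2 H₁ with e | e <;> simp only [pairF, Prod.fst_mul, e, mul_one, one_mul]
        exact (c₁.mem s hs).2.2.eq.symm
      · rcases c₂.pw_z2 H₂ with e | e <;> simp only [pairF, Prod.snd_mul, e, mul_one, one_mul]
        exact (c₂.mem s hs).2.2.eq.symm
    exact fun p => Subtype.ext (Subgroup.mem_centralizer_singleton_iff.1 (h0 p.2))
  set N := Subgroup.zpowers X with hN
  have : N.Normal := ⟨fun n hn g => by
    rw [Subgroup.mem_center_iff.1 ((Subgroup.zpowers_le.2 hcen) hn) g, mul_inv_cancel_right]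
    exact hn⟩
  set f : ℕ → ↥S ⧸ N := fun s =>
    if hs : s < 9 then QuotientGroup.mk ⟨pairF F₁ F₂ s, Subgroup.subset_closure ⟨s, hs, rfl⟩⟩ else 1 with hf
  have hfl : ∀ {l : List ℕ} (hl : ∀ s ∈ l, s < 9), pw f l = QuotientGroup.mk ⟨pw (pairF F₁ F₂) l, pw_mem_pairS hl⟩ := by
    intro l
    induction l with
    | nil => intro _; rfl
    | cons s l ih =>
      intro hl
      rw [pw_cons, ih fun t ht => hl t (List.mem_cons_of_mem _ ht)]
      simp only [hf, dif_pos (hl s List.mem_cons_self)]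
      exact (QuotientGroup.mk_mul _ _ _).symm
  have hb := braided_pair c₁ c₂
  have hone : ∀ {p : G₁ × G₂} (hp : p ∈ S), p = 1 → (QuotientGroup.mk (⟨p, hp⟩ : ↥S) : ↥S ⧸ N) = 1 :=
    fun {p} hp he => by subst he; rfl
  have hrel : ∀ r ∈ (Spor.coxRelators Spor.Fi22.edges ∪ {r | r ∈ Spor.Fi22.extra} :
      Set (FreeGroup Spor.Fi22.Gen)), FreeGroup.lift (fun g => f (letter g)) r = 1 := by
    have hlt : ∀ g, letter g < 9 := fun g => by cases g <;> decide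
    have hval : ∀ g, f (letter g) = QuotientGroup.mk
        (⟨pairF F₁ F₂ (letter g), Subgroup.subset_closure ⟨_, hlt g, rfl⟩⟩ : ↥S) := fun g => dif_pos (hlt g)
    rintro r (⟨a, -, b, -, rfl⟩ | hr)
    · rw [map_pow, map_mul, FreeGroup.lift_apply_of, FreeGroup.lift_apply_of, coxLabel_eq, hval, hval,
        ← QuotientGroup.mk_mul, ← QuotientGroup.mk_pow]
      refine (QuotientGroup.eq_one_iff _).2 ?_
      suffices hh : (pairF F₁ F₂ (letter a) * pairF F₁ F₂ (letter b)) ^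
          (if a = b then 1 else if adjb (letter a) (letter b) then 3 else 2) = 1 by
        convert one_mem N using 1
        exact Subtype.ext hh
      by_cases hab : a = b
      · rw [if_pos hab, pow_one, hab, hb.sq]
      rw [if_neg hab]
      cases ha : adjb (letter a) (letter b)
      · rw [if_neg Bool.false_ne_true, (hb.comm _ _ ha).mul_pow, pow_two, pow_two, hb.sq, hb.sq, one_mul]
      · rw [if_pos rfl]
        calc (pairF F₁ F₂ (letter a) * pairF F₁ F₂ (letter b)) ^ 3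
            = pairF F₁ F₂ (letter a) * pairF F₁ F₂ (letter b) * pairF F₁ F₂ (letter a) *
              (pairF F₁ F₂ (letter b) * pairF F₁ F₂ (letter a) * pairF F₁ F₂ (letter b)) := by
              simp [pow_succ, mul_assoc]
          _ = 1 := by
            rw [← hb.braid _ _ ha]
            have e1 := hb.sq (letter a)
            have e2 := hb.sq (letter b)
            have c1 : ∀ z, pairF F₁ F₂ (letter a) * (pairF F₁ F₂ (letter a) * z) = z := fun z => by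
              rw [← mul_assoc, e1, one_mul]
            have c2 : ∀ z, pairF F₁ F₂ (letter b) * (pairF F₁ F₂ (letter b) * z) = z := fun z => by
              rw [← mul_assoc, e2, one_mul]
            simp [mul_assoc, c1, c2, e1]
    · have z1 : pw f Words.z1 = 1 := by
        rw [hfl fun s hs => (letters_lt.1 s hs).1]
        exact hone _ (by rw [pw_pair, c₁.pw_z1 H₁, c₂.pw_z1 H₂]; rfl)
      have z3 : pw f Words.spider = 1 := by
        rw [hfl fun s hs => (letters_lt.2.1 s hs).1]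
        exact hone _ (by rw [pw_pair, c₁.pw_spider H₁, c₂.pw_spider H₂]; rfl)
      have z2 : pw f Words.z2 = 1 := by
        rw [hfl letters_lt.2.2.1, QuotientGroup.eq_one_iff]
        exact Subgroup.mem_zpowers X
      rw [Words.z1, pw_replicate] at z1
      rw [Words.z2, pw_replicate] at z2
      rw [Words.spider, pw_replicate] at z3
      simp only [Set.mem_ofPred_eq, Spor.Fi22.extra, List.mem_cons, List.not_mem_nil, or_false] at hr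
      rcases hr with rfl | rfl | rfl
      · rw [map_pow]; simpa [pw, letter, mul_assoc] using z3
      · rw [map_pow]; simpa [pw, letter, mul_assoc] using z1
      · rw [map_pow]; simpa [pw, letter, mul_assoc] using z2
  let φ : Spor.Fi22 →* ↥S ⧸ N := PresentedGroup.toGroup hrel
  have hφ : Function.Surjective φ := by
    rw [← MonoidHom.range_eq_top, eq_top_iff]
    intro q _
    obtain ⟨⟨p, hp⟩, rfl⟩ := QuotientGroup.mk_surjective q
    have key : S ≤ (φ.range.comap (QuotientGroup.mk' N)).map S.subtype := by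
      refine (Subgroup.closure_le _).2 ?_
      rintro _ ⟨s, hs, rfl⟩
      have hg : ∃ g, letter g = s := by
        simp only [Set.mem_Iio] at hs
        interval_cases s
        exacts [⟨.a, rfl⟩, ⟨.b, rfl⟩, ⟨.c, rfl⟩, ⟨.d, rfl⟩, ⟨.e, rfl⟩, ⟨.f, rfl⟩, ⟨.g, rfl⟩, ⟨.h, rfl⟩,
          ⟨.i, rfl⟩]
      obtain ⟨g, rfl⟩ := hg
      exact ⟨⟨_, Subgroup.subset_closure ⟨_, hs, rfl⟩⟩,
        ⟨PresentedGroup.of g, (PresentedGroup.toGroup.of hrel).trans (dif_pos hs)⟩, rfl⟩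
    obtain ⟨q', hq', he⟩ := key hp
    rwa [show q' = ⟨p, hp⟩ from Subtype.ext he] at hq'
  have hNcard : Nat.card N ≤ 2 := by
    rw [hN, Nat.card_zpowers]
    exact orderOf_le_of_pow_eq_one (by norm_num) (by rw [pow_two, hsq])
  have : Finite Spor.Fi22 := Nat.finite_of_card_ne_zero (by rw [CfsgLib.CosetEnum.Fi22.card_Fi22]; norm_num)
  calc Nat.card ↥S = Nat.card (↥S ⧸ N) * Nat.card N := Subgroup.card_eq_card_quotient_mul_card_subgroup N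
    _ ≤ Nat.card Spor.Fi22 * 2 := Nat.mul_le_mul (Nat.card_le_card_of_surjective φ hφ) hNcard
    _ = 2 * Nat.card Spor.Fi22 := mul_comm _ _

/-- A pair is determined by its first component. -/
theorem eq_one_of_fst {p : G₁ × G₂} (hp : p ∈ pairS F₁ F₂) (h1 : p.1 = 1) : p = 1 := by
  set C := Subgroup.closure (FischerTypes.perp D₁ x₁)
  have hmap : (pairS F₁ F₂).map (MonoidHom.fst G₁ G₂) = C := by
    rw [pairS, MonoidHom.map_closure, ← Set.image_comp]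
    exact c₁.closure_nine H₁
  let π : ↥(pairS F₁ F₂) →* ↥C := ((MonoidHom.fst G₁ G₂).comp (pairS F₁ F₂).subtype).codRestrict C
    fun q => by rw [← hmap]; exact ⟨q.1, q.2, rfl⟩
  have hsurj : Function.Surjective π := fun u => by
    have hu : (u : G₁) ∈ (pairS F₁ F₂).map (MonoidHom.fst G₁ G₂) := by rw [hmap]; exact u.2
    obtain ⟨q, hq, he⟩ := hu
    exact ⟨⟨q, hq⟩, Subtype.ext he⟩
  have hcard : Nat.card ↥(pairS F₁ F₂) ≤ Nat.card ↥C :=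
    (card_pairS_le c₁ c₂ H₁ H₂).trans (c₁.card_H H₁).ge
  have hbij : Function.Bijective π := (Nat.bijective_iff_surjective_and_card π).2
    ⟨hsurj, le_antisymm hcard (Nat.card_le_card_of_surjective π hsurj)⟩
  have := hbij.1 (a₁ := ⟨p, hp⟩) (a₂ := 1) (Subtype.ext h1)
  exact congrArg Subtype.val this

theorem commute_of_fst {p q : G₁ × G₂} (hp : p ∈ pairS F₁ F₂) (hq : q ∈ pairS F₁ F₂)
    (hc : Commute p.1 q.1) : Commute p.2 q.2 := by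
  have h := eq_one_of_fst c₁ c₂ H₁ H₂ (p := p * q * p⁻¹ * q⁻¹)
    (mul_mem (mul_mem (mul_mem hp hq) (inv_mem hp)) (inv_mem hq))
    (by rw [Prod.fst_mul, Prod.fst_mul, Prod.fst_mul, Prod.fst_inv, Prod.fst_inv, hc.eq]; group)
  have h2 : p.2 * q.2 * p.2⁻¹ * q.2⁻¹ = 1 := congrArg Prod.snd h
  exact mul_inv_eq_iff_eq_mul.1 (mul_inv_eq_one.1 h2)

/-- Lifts of the centralizer of the pair. -/
theorem exists_lift_eight {k : G₁} (hk : k ∈ Subgroup.centralizer ({x₁, y₁} : Set G₁)) :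
    ∃ r ∈ pairS F₁ F₂, r.1 = k ∧ Commute r.2 y₂ := by
  rw [← c₁.eight] at hk
  have hmap : (Subgroup.closure (pairF F₁ F₂ '' {s | s < 9 ∧ s ≠ 6})).map (MonoidHom.fst G₁ G₂) =
      Subgroup.closure (F₁ '' {s | s < 9 ∧ s ≠ 6}) := by
    rw [MonoidHom.map_closure, ← Set.image_comp]
    rfl
  rw [← hmap] at hk
  obtain ⟨r, hr, he⟩ := hk
  refine ⟨r, Subgroup.closure_mono (Set.image_mono fun s hs => hs.1) hr, he, ?_⟩
  have hle : Subgroup.closure (pairF F₁ F₂ '' {s | s < 9 ∧ s ≠ 6}) ≤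
      (Subgroup.centralizer ({y₂} : Set G₂)).comap (MonoidHom.snd G₁ G₂) := by
    rw [Subgroup.closure_le]
    rintro _ ⟨s, ⟨hs, hs6⟩, rfl⟩
    exact Subgroup.mem_centralizer_singleton_iff.2 (c₂.comm_y s hs hs6).eq.symm
  exact Subgroup.mem_centralizer_singleton_iff.1 (hle hr)

theorem fix_y {p : G₁ × G₂} (hp : p ∈ pairS F₁ F₂) (hc : Commute p.1 y₁) : Commute p.2 y₂ := by
  have hx : p.1 ∈ Subgroup.closure (FischerTypes.perp D₁ x₁) := by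
    rw [← c₁.closure_nine H₁]
    have hmap : (pairS F₁ F₂).map (MonoidHom.fst G₁ G₂) ≤ Subgroup.closure (F₁ '' Set.Iio 9) := by
      rw [pairS, MonoidHom.map_closure, ← Set.image_comp]
      exact le_rfl
    exact hmap ⟨p, hp, rfl⟩
  obtain ⟨r, hr, he, hry⟩ := exists_lift_eight c₁ c₂ H₁ H₂ (k := p.1) (by
    rw [Subgroup.mem_centralizer_iff]
    rintro t (rfl | rfl)
    · exact (Subgroup.mem_centralizer_singleton_iff.1 (closure_le_centralizer _ hx)).symm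
    · exact hc.eq.symm)
  have := eq_one_of_fst c₁ c₂ H₁ H₂ (mul_mem (inv_mem hr) hp) (by
    rw [Prod.fst_mul, Prod.fst_inv, he, inv_mul_cancel])
  rwa [← inv_mul_eq_one.1 this]

omit c₁ c₂ H₁ H₂ in
/-- The correspondence of the classes. -/
def Rel (x₁ y₁ : G₁) (x₂ y₂ : G₂) (F₁ : ℕ → G₁) (F₂ : ℕ → G₂) (u : G₁) (v : G₂) : Prop :=
  (u = x₁ ∧ v = x₂) ∨
    (∃ p ∈ pairS F₁ F₂, u = p.1 * F₁ 0 * p.1⁻¹ ∧ v = p.2 * F₂ 0 * p.2⁻¹) ∨
    ∃ p ∈ pairS F₁ F₂, u = p.1 * y₁ * p.1⁻¹ ∧ v = p.2 * y₂ * p.2⁻¹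

omit c₁ c₂ H₁ H₂ in
theorem Rel.symm {u : G₁} {v : G₂} (h : Rel x₁ y₁ x₂ y₂ F₁ F₂ u v) : Rel x₂ y₂ x₁ y₁ F₂ F₁ v u := by
  rcases h with ⟨h1, h2⟩ | ⟨p, hp, h1, h2⟩ | ⟨p, hp, h1, h2⟩
  exacts [Or.inl ⟨h2, h1⟩, Or.inr (Or.inl ⟨_, swap_mem hp, h2, h1⟩), Or.inr (Or.inr ⟨_, swap_mem hp, h2, h1⟩)]

theorem perp_fst {p : G₁ × G₂} (hp : p ∈ pairS F₁ F₂) : Commute p.1 x₁ ∧ Commute p.2 x₂ := by
  have hle : pairS F₁ F₂ ≤ ((Subgroup.centralizer ({x₁} : Set G₁)).prod (Subgroup.centralizer ({x₂} : Set G₂))) := by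
    rw [pairS, Subgroup.closure_le]
    rintro _ ⟨s, hs, rfl⟩
    exact ⟨Subgroup.mem_centralizer_singleton_iff.2 (c₁.mem s hs).2.2.eq.symm,
      Subgroup.mem_centralizer_singleton_iff.2 (c₂.mem s hs).2.2.eq.symm⟩
  exact ⟨Subgroup.mem_centralizer_singleton_iff.1 (hle hp).1,
    Subgroup.mem_centralizer_singleton_iff.1 (hle hp).2⟩

theorem near_props {p : G₁ × G₂} (hp : p ∈ pairS F₁ F₂) :
    p.1 * F₁ 0 * p.1⁻¹ ∈ FischerTypes.perp D₁ x₁ ∧ p.2 * F₂ 0 * p.2⁻¹ ∈ FischerTypes.perp D₂ x₂ :=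
  ⟨conj_mem_perp H₁.group (perp_fst c₁ c₂ H₁ H₂ hp).1 (c₁.mem 0 (by norm_num)),
    conj_mem_perp H₂.group (perp_fst c₁ c₂ H₁ H₂ hp).2 (c₂.mem 0 (by norm_num))⟩

theorem far_props {p : G₁ × G₂} (hp : p ∈ pairS F₁ F₂) :
    ¬ Commute x₁ (p.1 * y₁ * p.1⁻¹) ∧ ¬ Commute x₂ (p.2 * y₂ * p.2⁻¹) := by
  obtain ⟨h1, h2⟩ := perp_fst c₁ c₂ H₁ H₂ hp
  refine ⟨fun hc => c₁.nxy ?_, fun hc => c₂.nxy ?_⟩
  · rw [← commute_conj_iff' p.1, h1.eq, mul_inv_cancel_right]; exact hc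
  · rw [← commute_conj_iff' p.2, h2.eq, mul_inv_cancel_right]; exact hc

theorem Rel.mem {u : G₁} {v : G₂} (h : Rel x₁ y₁ x₂ y₂ F₁ F₂ u v) : v ∈ D₂ := by
  rcases h with ⟨-, rfl⟩ | ⟨p, hp, -, rfl⟩ | ⟨p, hp, -, rfl⟩
  exacts [c₂.memx, H₂.group.2.1 _ _ (c₂.mem 0 (by norm_num)).1, H₂.group.2.1 _ _ c₂.memy]

theorem Rel.exists_right {u : G₁} (hu : u ∈ D₁) : ∃ v, Rel x₁ y₁ x₂ y₂ F₁ F₂ u v := by
  have lift : ∀ k ∈ Subgroup.closure (FischerTypes.perp D₁ x₁), ∃ p ∈ pairS F₁ F₂, p.1 = k := fun k hk => by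
    rw [← c₁.closure_nine H₁] at hk
    have hmap : Subgroup.closure (F₁ '' Set.Iio 9) ≤ (pairS F₁ F₂).map (MonoidHom.fst G₁ G₂) := by
      rw [pairS, MonoidHom.map_closure, ← Set.image_comp]
      exact le_rfl
    exact hmap hk
  by_cases hux : u = x₁
  · exact ⟨x₂, Or.inl ⟨hux, rfl⟩⟩
  by_cases hc : Commute x₁ u
  · obtain ⟨k, hk, he⟩ := M23.exists_conj H₁ c₁.memx (c₁.mem 0 (by norm_num)) ⟨hu, hux, hc⟩
    obtain ⟨p, hp, rfl⟩ := lift k hk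
    exact ⟨_, Or.inr (Or.inl ⟨p, hp, he.symm, rfl⟩)⟩
  · obtain ⟨k, k1, k2⟩ := M23.exists_conj_noncommute H₁ c₁.memx c₁.memy c₁.nxy c₁.memx hu hc
    have hk : k ∈ Subgroup.closure (FischerTypes.perp D₁ x₁) := by
      rw [← M23.centralizer_eq H₁.group H₁ c₁.memx]
      exact Subgroup.mem_centralizer_singleton_iff.2 (mul_inv_eq_iff_eq_mul.1 k1)
    obtain ⟨p, hp, rfl⟩ := lift k hk
    exact ⟨_, Or.inr (Or.inr ⟨p, hp, k2.symm, rfl⟩)⟩

theorem Rel.functional {u : G₁} {v v' : G₂} (h : Rel x₁ y₁ x₂ y₂ F₁ F₂ u v)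
    (h' : Rel x₁ y₁ x₂ y₂ F₁ F₂ u v') : v = v' := by
  have key : ∀ {a : G₁} {b : G₂}, (∀ r ∈ pairS F₁ F₂, Commute r.1 a → Commute r.2 b) →
      ∀ {p q : G₁ × G₂}, p ∈ pairS F₁ F₂ → q ∈ pairS F₁ F₂ → p.1 * a * p.1⁻¹ = q.1 * a * q.1⁻¹ →
      p.2 * b * p.2⁻¹ = q.2 * b * q.2⁻¹ := fun {a b} hfix {p q} hp hq he => by
    have := hfix (p⁻¹ * q) (mul_mem (inv_mem hp) hq) (by
      rw [Prod.fst_mul, Prod.fst_inv]; exact conj_eq_conj_iff.1 he)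
    rw [Prod.snd_mul, Prod.snd_inv] at this
    exact conj_eq_conj_iff.2 this
  rcases h with ⟨e1, e2⟩ | ⟨p, hp, e1, e2⟩ | ⟨p, hp, e1, e2⟩ <;>
    rcases h' with ⟨f1, f2⟩ | ⟨q, hq, f1, f2⟩ | ⟨q, hq, f1, f2⟩
  · rw [e2, f2]
  · exact absurd (f1.symm.trans e1) (near_props c₁ c₂ H₁ H₂ hq).1.2.1
  · exact absurd ((f1.symm.trans e1).symm ▸ Commute.refl x₁) (far_props c₁ c₂ H₁ H₂ hq).1
  · exact absurd (e1.symm.trans f1) (near_props c₁ c₂ H₁ H₂ hp).1.2.1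
  · rw [e2, f2]
    exact key (fun r hr hc => commute_of_fst c₁ c₂ H₁ H₂ hr
      (Subgroup.subset_closure ⟨0, Set.mem_Iio.2 (by norm_num), rfl⟩ : pairF F₁ F₂ 0 ∈ pairS F₁ F₂) hc)
      hp hq (e1.symm.trans f1)
  · exact absurd ((e1.symm.trans f1) ▸ (near_props c₁ c₂ H₁ H₂ hp).1.2.2) (far_props c₁ c₂ H₁ H₂ hq).1
  · exact absurd ((e1.symm.trans f1).symm ▸ Commute.refl x₁) (far_props c₁ c₂ H₁ H₂ hp).1
  · exact absurd ((f1.symm.trans e1) ▸ (near_props c₁ c₂ H₁ H₂ hq).1.2.2) (far_props c₁ c₂ H₁ H₂ hp).1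
  · rw [e2, f2]
    exact key (fun r hr hc => fix_y c₁ c₂ H₁ H₂ hr hc) hp hq (e1.symm.trans f1)

theorem Rel.commute {u u' : G₁} {v v' : G₂} (h : Rel x₁ y₁ x₂ y₂ F₁ F₂ u v)
    (h' : Rel x₁ y₁ x₂ y₂ F₁ F₂ u' v') (hc : Commute u u') : Commute v v' := by
  have hA : pairF F₁ F₂ 0 ∈ pairS F₁ F₂ := Subgroup.subset_closure ⟨0, Set.mem_Iio.2 (by norm_num), rfl⟩
  have hnf : ∀ {p q : G₁ × G₂}, p ∈ pairS F₁ F₂ → q ∈ pairS F₁ F₂ →
      Commute (p.1 * F₁ 0 * p.1⁻¹) (q.1 * y₁ * q.1⁻¹) → Commute (p.2 * F₂ 0 * p.2⁻¹) (q.2 * y₂ * q.2⁻¹) := by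
    intro p q hp hq hc
    have h1 := fix_y c₁ c₂ H₁ H₂ (p := q⁻¹ * (p * pairF F₁ F₂ 0 * p⁻¹) * q)
      (mul_mem (mul_mem (inv_mem hq) (mul_mem (mul_mem hp hA) (inv_mem hp))) hq) (by
        show Commute (q.1⁻¹ * (p.1 * F₁ 0 * p.1⁻¹) * q.1) y₁
        rw [← commute_conj_iff' q.1]
        rwa [show q.1 * (q.1⁻¹ * (p.1 * F₁ 0 * p.1⁻¹) * q.1) * q.1⁻¹ = p.1 * F₁ 0 * p.1⁻¹ by group])
    have h2 : Commute (q.2⁻¹ * (p.2 * F₂ 0 * p.2⁻¹) * q.2) y₂ := h1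
    rw [← commute_conj_iff' q.2, show q.2 * (q.2⁻¹ * (p.2 * F₂ 0 * p.2⁻¹) * q.2) * q.2⁻¹ =
      p.2 * F₂ 0 * p.2⁻¹ by group] at h2
    exact h2
  rcases h with ⟨rfl, rfl⟩ | ⟨p, hp, rfl, rfl⟩ | ⟨p, hp, rfl, rfl⟩ <;>
    rcases h' with ⟨rfl, rfl⟩ | ⟨q, hq, rfl, rfl⟩ | ⟨q, hq, rfl, rfl⟩
  · exact Commute.refl _
  · exact (near_props c₁ c₂ H₁ H₂ hq).2.2.2
  · exact absurd hc (far_props c₁ c₂ H₁ H₂ hq).1
  · exact (near_props c₁ c₂ H₁ H₂ hp).2.2.2.symm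
  · exact commute_of_fst c₁ c₂ H₁ H₂ (p := p * pairF F₁ F₂ 0 * p⁻¹) (q := q * pairF F₁ F₂ 0 * q⁻¹)
      (mul_mem (mul_mem hp hA) (inv_mem hp)) (mul_mem (mul_mem hq hA) (inv_mem hq)) hc
  · exact hnf hp hq hc
  · exact absurd hc.symm (far_props c₁ c₂ H₁ H₂ hp).1
  · exact (hnf hq hp hc.symm).symm
  · -- two members not commuting with `x`
    set w := q⁻¹ * p with hw
    have hwS : w ∈ pairS F₁ F₂ := mul_mem (inv_mem hq) hp
    suffices hz : Commute (w.2 * y₂ * w.2⁻¹) y₂ by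
      rw [← commute_conj_iff' q.2, hw, Prod.snd_mul, Prod.snd_inv] at hz
      rwa [show q.2 * (q.2⁻¹ * p.2 * y₂ * (q.2⁻¹ * p.2)⁻¹) * q.2⁻¹ = p.2 * y₂ * p.2⁻¹ by group] at hz
    have hz₁ : Commute (w.1 * y₁ * w.1⁻¹) y₁ := by
      rw [← commute_conj_iff' q.1, hw, Prod.fst_mul, Prod.fst_inv,
        show q.1 * (q.1⁻¹ * p.1 * y₁ * (q.1⁻¹ * p.1)⁻¹) * q.1⁻¹ = p.1 * y₁ * p.1⁻¹ by group]
      exact hc
    by_cases he : w.1 * y₁ * w.1⁻¹ = y₁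
    · have := fix_y c₁ c₂ H₁ H₂ hwS (mul_inv_eq_iff_eq_mul.1 he)
      rw [this.eq, mul_inv_cancel_right]
    have hwx := perp_fst c₁ c₂ H₁ H₂ hwS
    obtain ⟨s1, s2, s3⟩ := c₁.step_props H₁
    obtain ⟨t1, -, -⟩ := c₂.step_props H₂
    obtain ⟨k, hk, hke⟩ := c₁.exists_conj_outer H₁ (H₁.group.2.1 _ _ c₁.memy) s1 s2 s3
      (H₁.group.2.1 w.1 _ c₁.memy) hz₁.symm he (fun hh => c₁.nxy (by
        rw [← commute_conj_iff' w.1, hwx.1.eq, mul_inv_cancel_right]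
        exact hh))
    obtain ⟨r, hr, rfl, hry⟩ := exists_lift_eight c₁ c₂ H₁ H₂ hk
    set W := pw (pairF F₁ F₂) stepWord with hW
    have hWS : W ∈ pairS F₁ F₂ := pw_mem_pairS stepWord_lt
    have e1 : (r * W).1 = r.1 * pw F₁ stepWord := by rw [Prod.fst_mul, hW, pw_pair]
    have e2 : (r * W).2 = r.2 * pw F₂ stepWord := by rw [Prod.snd_mul, hW, pw_pair]
    have hfix := fix_y c₁ c₂ H₁ H₂ (p := (r * W)⁻¹ * w) (mul_mem (inv_mem (mul_mem hr hWS)) hwS) (by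
      rw [Prod.fst_mul ((r * W)⁻¹), Prod.fst_inv, e1]
      exact conj_eq_conj_iff.1 (by rw [← hke]; group))
    rw [Prod.snd_mul ((r * W)⁻¹), Prod.snd_inv, e2] at hfix
    rw [← conj_eq_conj_iff.2 hfix]
    have h3 : Commute (pw F₂ stepWord * y₂ * (pw F₂ stepWord)⁻¹) y₂ := t1.symm
    have h4 := (commute_conj_iff' r.2 _ _).2 h3
    rw [hry.eq, mul_inv_cancel_right] at h4
    rw [show r.2 * pw F₂ stepWord * y₂ * (r.2 * pw F₂ stepWord)⁻¹ =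
      r.2 * (pw F₂ stepWord * y₂ * (pw F₂ stepWord)⁻¹) * r.2⁻¹ by group]
    exact h4

theorem Rel.conj {u : G₁} {v : G₂} (h : Rel x₁ y₁ x₂ y₂ F₁ F₂ u v) {p : G₁ × G₂}
    (hp : p ∈ pairS F₁ F₂) : Rel x₁ y₁ x₂ y₂ F₁ F₂ (p.1 * u * p.1⁻¹) (p.2 * v * p.2⁻¹) := by
  rcases h with ⟨rfl, rfl⟩ | ⟨q, hq, rfl, rfl⟩ | ⟨q, hq, rfl, rfl⟩
  · obtain ⟨h1, h2⟩ := perp_fst c₁ c₂ H₁ H₂ hp
    exact Or.inl ⟨by rw [h1.eq, mul_inv_cancel_right], by rw [h2.eq, mul_inv_cancel_right]⟩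
  · exact Or.inr (Or.inl ⟨p * q, mul_mem hp hq, by rw [Prod.fst_mul]; group, by rw [Prod.snd_mul]; group⟩)
  · exact Or.inr (Or.inr ⟨p * q, mul_mem hp hq, by rw [Prod.fst_mul]; group, by rw [Prod.snd_mul]; group⟩)

/-- An isomorphism carries each member of the first configuration to that of the second. -/
theorem exists_equiv_conf : ∃ e : G₁ ≃* G₂, e '' D₁ = D₂ ∧ e x₁ = x₂ ∧ e y₁ = y₂ ∧
    ∀ s < 9, e (F₁ s) = F₂ s := by
  classical
  set β : G₁ → G₂ := fun u =>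
    if h : u ∈ D₁ then (Rel.exists_right c₁ c₂ H₁ H₂ h).choose else 1 with hβ
  have spec : ∀ u ∈ D₁, Rel x₁ y₁ x₂ y₂ F₁ F₂ u (β u) := fun u hu => by
    simp only [hβ, dif_pos hu]
    exact (Rel.exists_right c₁ c₂ H₁ H₂ hu).choose_spec
  obtain ⟨e, he, hu⟩ := exists_equiv_of_graph H₁ H₂ β (fun u hu => Rel.mem c₁ c₂ H₁ H₂ (spec u hu))
    (fun u hu v hv he => Rel.functional c₂ c₁ H₂ H₁ (spec u hu).symm (he ▸ (spec v hv).symm))
    (fun v hv => by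
      obtain ⟨u, hu⟩ := Rel.exists_right c₂ c₁ H₂ H₁ hv
      have hu' := hu.symm
      have huD : u ∈ D₁ := Rel.mem c₂ c₁ H₂ H₁ hu
      exact ⟨u, huD, Rel.functional c₁ c₂ H₁ H₂ (spec u huD) hu'⟩) fun u hu v hv =>
      ⟨Rel.commute c₂ c₁ H₂ H₁ (spec u hu).symm (spec v hv).symm, Rel.commute c₁ c₂ H₁ H₂ (spec u hu) (spec v hv)⟩
  have heq : ∀ {u v}, u ∈ D₁ → Rel x₁ y₁ x₂ y₂ F₁ F₂ u v → e u = v := fun {u v} hu' hr =>
    (hu u hu').trans (Rel.functional c₁ c₂ H₁ H₂ (spec u hu') hr)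
  refine ⟨e, he, heq c₁.memx (Or.inl ⟨rfl, rfl⟩), heq c₁.memy (Or.inr (Or.inr ⟨1, one_mem _, by simp, by simp⟩)),
    fun s hs => ?_⟩
  have hp : pairF F₁ F₂ s ∈ pairS F₁ F₂ := Subgroup.subset_closure ⟨s, hs, rfl⟩
  have hz : (F₂ s)⁻¹ * e (F₁ s) ∈ Subgroup.center G₂ := by
    rw [← Subgroup.centralizer_univ, ← Subgroup.coe_top, ← H₂.group.2.2, Subgroup.centralizer_closure,
      Subgroup.mem_centralizer_iff]
    intro v hv
    obtain ⟨u, hu', rfl⟩ : v ∈ e '' D₁ := he ▸ hv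
    have h1 := heq (H₁.group.2.1 (F₁ s) u hu') (Rel.conj c₁ c₂ H₁ H₂ (spec u hu') hp)
    rw [map_mul, map_mul, map_inv, ← hu u hu'] at h1
    have h2 : e (F₁ s) * e u = F₂ s * e u * (F₂ s)⁻¹ * e (F₁ s) := mul_inv_eq_iff_eq_mul.1 h1
    rw [mul_assoc, h2]
    group
  rw [H₂.type.1, Subgroup.mem_bot] at hz
  exact (inv_mul_eq_one.1 hz).symm

omit c₁ c₂

/-- Two groups of type M(23) are isomorphic, the classes corresponding. -/
theorem exists_equiv : ∃ e : G₁ ≃* G₂, e '' D₁ = D₂ := by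
  obtain ⟨-, d₁, hd₁, e₁, he₁, n₁, -⟩ := id H₁.type
  obtain ⟨-, d₂, hd₂, e₂, he₂, n₂, -⟩ := id H₂.type
  obtain ⟨F₁, c₁⟩ := exists_conf H₁ hd₁ he₁ n₁
  obtain ⟨F₂, c₂⟩ := exists_conf H₂ hd₂ he₂ n₂
  obtain ⟨e, he, -⟩ := exists_equiv_conf c₁ c₂ H₁ H₂
  exact ⟨e, he⟩

end CfsgLib.Transpositions.M23Unique
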