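import Cfsg.Agent.FischerTypes.M24Centralizer

/-!
# Isomorphisms of commuting graphs in type M(24)

The graph determines the lines, so a commutation preserving bijection of the classes comes from an
isomorphism of the groups.
-/

set_option autoImplicit false
set_option linter.unusedSectionVars false

namespace CfsgLib.Transpositions.M24Unique

open Cfsg CfsgLib.FischerTypes

/-- A member commuting with every common neighbour of two non-commuting ones, and not with the first, is the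
second or the third of their line. -/
theorem line_property {G : Type*} [Group G] [Finite G] {D : Set G} (H : M24.Hyp G D) {d x x' : G} (hd : d ∈ D)
    (hx : x ∈ D) (hx' : x' ∈ D) (hnc : ¬ Commute d x) (hnc' : ¬ Commute d x')
    (hsub : FischerTypes.perp D d ∩ FischerTypes.perp D x ⊆ FischerTypes.perp D x') : x' = x ∨ x' = d * x * d := by
  obtain ⟨q, hq⟩ := M24.common_nonempty H hd hx hnc
  have hqD := hq.1.1
  have hdq : d ∈ FischerTypes.perp D q := perp_symm hd hq.1
  have hxq : x ∈ FischerTypes.perp D q := perp_symm hx hq.2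
  have hx'q : x' ∈ FischerTypes.perp D q := perp_symm hx' (hsub hq)
  rcases M23.line_property (M24.quot H hqD) (M24.bar_mem H hqD hdq) (M24.bar_mem H hqD hxq)
      (M24.bar_mem H hqD hx'q) (fun h0 => hnc ((M24.bar_commute H hdq hxq).1 h0))
      (fun h0 => hnc' ((M24.bar_commute H hdq hx'q).1 h0)) (by
    rintro p ⟨hpd, hpx⟩
    obtain ⟨z, hz, rfl⟩ := M23.exists_lift hpd.1
    rw [M24.mem_perp_bar H hqD hdq hz] at hpd
    rw [M24.mem_perp_bar H hqD hxq hz] at hpx
    rw [M24.mem_perp_bar H hqD hx'q hz]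
    exact hsub ⟨hpd, hpx⟩) with h1 | h1
  · exact Or.inl (M24.bar_inj H hqD hx'q hxq h1)
  · right
    have hdx : d * x * d ∈ FischerTypes.perp D q := by
      have h2 := conj_mem_perp H.group (g := d) hdq.2.2.symm hxq
      rwa [FischerTypes.inv_eq H.group.1 hd] at h2
    exact M24.bar_inj H hqD hx'q hdx (h1.trans rfl)

variable {G₁ G₂ : Type*} [Group G₁] [Finite G₁] [Group G₂] [Finite G₂] {D₁ : Set G₁} {D₂ : Set G₂}
  (H₁ : M24.Hyp G₁ D₁) (H₂ : M24.Hyp G₂ D₂) (β : G₁ → G₂) (hmem : ∀ u ∈ D₁, β u ∈ D₂)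
  (hinj : ∀ u ∈ D₁, ∀ v ∈ D₁, β u = β v → u = v) (hsurj : ∀ v ∈ D₂, ∃ u ∈ D₁, β u = v)
  (hcomm : ∀ u ∈ D₁, ∀ v ∈ D₁, Commute (β u) (β v) ↔ Commute u v)

include H₁ H₂ hmem hinj hsurj hcomm

/-- The bijection respects conjugation by members. -/
theorem map_conj_member {u w : G₁} (hu : u ∈ D₁) (hw : w ∈ D₁) :
    β (u * w * u⁻¹) = β u * β w * (β u)⁻¹ := by
  by_cases hc : Commute u w
  · rw [hc.eq, mul_inv_cancel_right, ((hcomm u hu w hw).2 hc).eq, mul_inv_cancel_right]
  have hi : u⁻¹ = u := FischerTypes.inv_eq H₁.group.1 hu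
  have huwD : u * w * u⁻¹ ∈ D₁ := H₁.group.2.1 u w hw
  have hc' : ¬ Commute u (u * w * u⁻¹) := fun h => hc ((commute_conj_iff' u u w).1 (by
    rwa [mul_inv_cancel_right]))
  have hne : u * w * u⁻¹ ≠ w := fun he => hc (show u * w = w * u by
    calc u * w = u * w * u⁻¹ * u := by group
      _ = w * u := by rw [he])
  rcases line_property H₂ (hmem u hu) (hmem w hw) (hmem _ huwD)
      (fun h => hc ((hcomm u hu w hw).1 h)) (fun h => hc' ((hcomm u hu _ huwD).1 h)) (by
    rintro t ⟨ht1, ht2⟩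
    obtain ⟨s, hs, rfl⟩ := hsurj t ht1.1
    have hsu : Commute u s := (hcomm u hu s hs).1 ht1.2.2
    have hsw : Commute w s := (hcomm w hw s hs).1 ht2.2.2
    have hsc : Commute (u * w * u⁻¹) s := (hsu.mul_left hsw).mul_left hsu.inv_left
    refine ⟨ht1.1, fun he => hc' ?_, (hcomm _ huwD s hs).2 hsc⟩
    rw [← hinj s hs _ huwD he]
    exact hsu) with h | h
  · exact absurd (hinj _ huwD w hw h) hne
  · rw [h, FischerTypes.inv_eq H₂.group.1 (hmem u hu)]

/-- The isomorphism. -/
theorem exists_equiv_of_graph : ∃ e : G₁ ≃* G₂, e '' D₁ = D₂ ∧ ∀ u ∈ D₁, e u = β u := by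
  set S : Subgroup (G₁ × G₂) := Subgroup.closure ((fun u => (u, β u)) '' D₁) with hS
  have inv : ∀ p ∈ S, ∀ w ∈ D₁, β (p.1 * w * p.1⁻¹) = p.2 * β w * p.2⁻¹ := by
    intro p hp
    induction hp using Subgroup.closure_induction with
    | mem q hq =>
      obtain ⟨u, hu, rfl⟩ := hq
      exact fun w hw => map_conj_member H₁ H₂ β hmem hinj hsurj hcomm hu hw
    | one => intro w _; simp
    | mul q r _ _ hq hr =>
      intro w hw
      rw [Prod.fst_mul, Prod.snd_mul, show q.1 * r.1 * w * (q.1 * r.1)⁻¹ = q.1 * (r.1 * w * r.1⁻¹) * q.1⁻¹ by group,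
        hq _ (H₁.group.2.1 r.1 w hw), hr w hw]
      group
    | inv q _ hq =>
      intro w hw
      have := hq _ (H₁.group.2.1 q.1⁻¹ w hw)
      rw [show q.1 * (q.1⁻¹ * w * q.1⁻¹⁻¹) * q.1⁻¹ = w by group] at this
      rw [Prod.fst_inv, Prod.snd_inv, this]
      group
  let π₁ : ↥S →* G₁ := (MonoidHom.fst G₁ G₂).comp S.subtype
  let π₂ : ↥S →* G₂ := (MonoidHom.snd G₁ G₂).comp S.subtype
  have mem : ∀ u ∈ D₁, (u, β u) ∈ S := fun u hu => Subgroup.subset_closure ⟨u, hu, rfl⟩
  have b₁ : Function.Bijective π₁ := by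
    refine ⟨(injective_iff_map_eq_one π₁).2 fun p hp => ?_, MonoidHom.range_eq_top.1 ?_⟩
    · have h1 : (p : G₁ × G₂).1 = 1 := hp
      have hz : (p : G₁ × G₂).2 ∈ Subgroup.center G₂ := by
        rw [← Subgroup.centralizer_univ, ← Subgroup.coe_top, ← H₂.group.2.2, Subgroup.centralizer_closure,
          Subgroup.mem_centralizer_iff]
        intro v hv
        obtain ⟨u, hu, rfl⟩ := hsurj v hv
        have := inv p p.2 u hu
        rw [h1, one_mul, inv_one, mul_one, eq_mul_inv_iff_mul_eq] at this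
        exact this
      rw [H₂.type.1, Subgroup.mem_bot] at hz
      exact Subtype.ext (Prod.ext h1 hz)
    · rw [eq_top_iff, ← H₁.group.2.2, Subgroup.closure_le]
      exact fun u hu => ⟨⟨_, mem u hu⟩, rfl⟩
  have b₂ : Function.Bijective π₂ := by
    refine ⟨(injective_iff_map_eq_one π₂).2 fun p hp => ?_, MonoidHom.range_eq_top.1 ?_⟩
    · have h2 : (p : G₁ × G₂).2 = 1 := hp
      have hz : (p : G₁ × G₂).1 ∈ Subgroup.center G₁ := by
        rw [← Subgroup.centralizer_univ, ← Subgroup.coe_top, ← H₁.group.2.2, Subgroup.centralizer_closure,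
          Subgroup.mem_centralizer_iff]
        intro u hu
        have := inv p p.2 u hu
        rw [h2, one_mul, inv_one, mul_one] at this
        exact (mul_inv_eq_iff_eq_mul.1 (hinj _ (H₁.group.2.1 _ u hu) u hu this)).symm
      rw [H₁.type.1, Subgroup.mem_bot] at hz
      exact Subtype.ext (Prod.ext hz h2)
    · rw [eq_top_iff, ← H₂.group.2.2, Subgroup.closure_le]
      intro v hv
      obtain ⟨u, hu, rfl⟩ := hsurj v hv
      exact ⟨⟨_, mem u hu⟩, rfl⟩
  set e := (MulEquiv.ofBijective π₁ b₁).symm.trans (MulEquiv.ofBijective π₂ b₂)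
  have he : ∀ u ∈ D₁, e u = β u := fun u hu => by
    have h1 : (MulEquiv.ofBijective π₁ b₁).symm u = ⟨_, mem u hu⟩ := by
      rw [MulEquiv.symm_apply_eq]
      rfl
    simp only [e, MulEquiv.trans_apply, h1]
    rfl
  refine ⟨e, Set.Subset.antisymm ?_ ?_, he⟩
  · rintro _ ⟨u, hu, rfl⟩
    rw [he u hu]
    exact hmem u hu
  · intro v hv
    obtain ⟨u, hu, rfl⟩ := hsurj v hv
    exact ⟨u, hu, he u hu⟩

end CfsgLib.Transpositions.M24Unique
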