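import Cfsg.Agent.Transpositions.M24Facts
import Cfsg.Agent.Transpositions.M24Graph
import Cfsg.Agent.Transpositions.M23Unique
import Cfsg.Agent.Transpositions.TypeM24Sign

/-!
# Uniqueness in type M(24)

The uniqueness in type M(23) applied to the neighbourhoods of `x` matches two configurations; the pairs
of corresponding members then give a bijection of the two classes which preserves commutation.
-/

set_option autoImplicit false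
set_option linter.unusedSectionVars false

namespace CfsgLib.Transpositions.M24Unique

open Cfsg CfsgLib.FischerTypes
open CfsgLib.Transpositions.Braid (pw pw_cons)
open CfsgLib.Transpositions.M23Unique (barF barF_eq stepWord stepWord_lt pairF pw_pair)
open CfsgLib.Transpositions.M22Unique (flip flip_lt)

variable {G₁ G₂ : Type*} [Group G₁] [Group G₂] [Finite G₁] [Finite G₂] {D₁ : Set G₁} {D₂ : Set G₂}
  {x₁ y₁ a₁ b₁ : G₁} {x₂ y₂ a₂ b₂ : G₂} {F₁ : ℕ → G₁} {F₂ : ℕ → G₂}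
  {e : PerpQuot D₁ x₁ ≃* PerpQuot D₂ x₂}

/-- An isomorphism of the neighbourhoods matching two configurations. -/
structure Link (D₁ : Set G₁) (D₂ : Set G₂) (x₁ y₁ a₁ b₁ : G₁) (x₂ y₂ a₂ b₂ : G₂) (F₁ : ℕ → G₁) (F₂ : ℕ → G₂)
    (e : PerpQuot D₁ x₁ ≃* PerpQuot D₂ x₂) : Prop where
  H₁ : M24.Hyp G₁ D₁
  H₂ : M24.Hyp G₂ D₂
  c₁ : Conf24 D₁ x₁ y₁ a₁ b₁ F₁
  c₂ : Conf24 D₂ x₂ y₂ a₂ b₂ F₂
  himg : e '' img D₁ x₁ = img D₂ x₂
  ha : ∀ h₁ : a₁ ∈ FischerTypes.perp D₁ x₁, ∀ h₂ : a₂ ∈ FischerTypes.perp D₂ x₂, e (bar h₁) = bar h₂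
  hb : ∀ h₁ : b₁ ∈ FischerTypes.perp D₁ x₁, ∀ h₂ : b₂ ∈ FischerTypes.perp D₂ x₂, e (bar h₁) = bar h₂
  hF : ∀ s < 9, ∀ h₁ : F₁ s ∈ FischerTypes.perp D₁ x₁, ∀ h₂ : F₂ s ∈ FischerTypes.perp D₂ x₂,
    e (bar h₁) = bar h₂

/-- Corresponding members. -/
def gen (e : PerpQuot D₁ x₁ ≃* PerpQuot D₂ x₂) : Set (G₁ × G₂) :=
  {p | ∃ h₁ : p.1 ∈ FischerTypes.perp D₁ x₁, ∃ h₂ : p.2 ∈ FischerTypes.perp D₂ x₂, e (bar h₁) = bar h₂}

/-- The group of corresponding elements. -/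
def pairs (e : PerpQuot D₁ x₁ ≃* PerpQuot D₂ x₂) : Subgroup (G₁ × G₂) := Subgroup.closure (gen e)

theorem gen_swap {p : G₁ × G₂} (hp : p ∈ gen e) : p.swap ∈ gen e.symm := by
  obtain ⟨h₁, h₂, he⟩ := hp
  exact ⟨h₂, h₁, by rw [MulEquiv.symm_apply_eq]; exact he.symm⟩

theorem pairs_swap {p : G₁ × G₂} (hp : p ∈ pairs e) : p.swap ∈ pairs e.symm := by
  have : (pairs e).map (MulEquiv.prodComm : G₁ × G₂ ≃* G₂ × G₁).toMonoidHom ≤ pairs e.symm := by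
    rw [pairs, MonoidHom.map_closure, Subgroup.closure_le]
    rintro _ ⟨q, hq, rfl⟩
    exact Subgroup.subset_closure (gen_swap hq)
  exact this ⟨p, hp, rfl⟩

theorem mk_props {p : G₁ × G₂} (hp : p ∈ pairs e) :
    ∃ h₁ : p.1 ∈ Subgroup.closure (FischerTypes.perp D₁ x₁), ∃ h₂ : p.2 ∈ Subgroup.closure (FischerTypes.perp D₂ x₂),
      e (QuotientGroup.mk ⟨p.1, h₁⟩) = QuotientGroup.mk ⟨p.2, h₂⟩ := by
  induction hp using Subgroup.closure_induction with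
  | mem q hq =>
    obtain ⟨h₁, h₂, he⟩ := hq
    exact ⟨mem_perp_closure h₁, mem_perp_closure h₂, he⟩
  | one => exact ⟨one_mem _, one_mem _, map_one e⟩
  | mul q r _ _ hq hr =>
    obtain ⟨u₁, u₂, hu⟩ := hq
    obtain ⟨v₁, v₂, hv⟩ := hr
    refine ⟨mul_mem u₁ v₁, mul_mem u₂ v₂, ?_⟩
    show e (QuotientGroup.mk (⟨_, u₁⟩ * ⟨_, v₁⟩)) = QuotientGroup.mk (⟨_, u₂⟩ * ⟨_, v₂⟩)
    rw [QuotientGroup.mk_mul, QuotientGroup.mk_mul, map_mul, hu, hv]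
  | inv q _ hq =>
    obtain ⟨u₁, u₂, hu⟩ := hq
    refine ⟨inv_mem u₁, inv_mem u₂, ?_⟩
    show e (QuotientGroup.mk (⟨_, u₁⟩ : ↥(Subgroup.closure (FischerTypes.perp D₁ x₁)))⁻¹) =
      QuotientGroup.mk (⟨_, u₂⟩ : ↥(Subgroup.closure (FischerTypes.perp D₂ x₂)))⁻¹
    rw [QuotientGroup.mk_inv, QuotientGroup.mk_inv, map_inv, hu]

theorem sign_eq {χ₁ : G₁ →* ℤˣ} {χ₂ : G₂ →* ℤˣ} (h₁ : ∀ d ∈ D₁, χ₁ d = -1) (h₂ : ∀ d ∈ D₂, χ₂ d = -1)
    {p : G₁ × G₂} (hp : p ∈ pairs e) : χ₁ p.1 = χ₂ p.2 := by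
  induction hp using Subgroup.closure_induction with
  | mem q hq =>
    obtain ⟨u₁, u₂, -⟩ := hq
    rw [h₁ _ u₁.1, h₂ _ u₂.1]
  | one => simp
  | mul q r _ _ hq hr => rw [Prod.fst_mul, Prod.snd_mul, map_mul, map_mul, hq, hr]
  | inv q _ hq => rw [Prod.fst_inv, Prod.snd_inv, map_inv, map_inv, hq]

theorem perp_commute {p : G₁ × G₂} (hp : p ∈ pairs e) : Commute p.1 x₁ ∧ Commute p.2 x₂ := by
  obtain ⟨h₁, h₂, -⟩ := mk_props hp
  exact ⟨Subgroup.mem_centralizer_singleton_iff.1 (closure_le_centralizer _ h₁),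
    Subgroup.mem_centralizer_singleton_iff.1 (closure_le_centralizer _ h₂)⟩

variable (L : Link D₁ D₂ x₁ y₁ a₁ b₁ x₂ y₂ a₂ b₂ F₁ F₂ e)

include L

theorem Link.symm : Link D₂ D₁ x₂ y₂ a₂ b₂ x₁ y₁ a₁ b₁ F₂ F₁ e.symm where
  H₁ := L.H₂
  H₂ := L.H₁
  c₁ := L.c₂
  c₂ := L.c₁
  himg := by
    ext z
    constructor
    · rintro ⟨w, hw, rfl⟩
      rw [← L.himg] at hw
      obtain ⟨v, hv, rfl⟩ := hw
      rwa [e.symm_apply_apply]
    · intro hz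
      exact ⟨e z, L.himg ▸ ⟨z, hz, rfl⟩, e.symm_apply_apply z⟩
  ha h₁ h₂ := by rw [MulEquiv.symm_apply_eq, L.ha h₂ h₁]
  hb h₁ h₂ := by rw [MulEquiv.symm_apply_eq, L.hb h₂ h₁]
  hF s hs h₁ h₂ := by rw [MulEquiv.symm_apply_eq, L.hF s hs h₂ h₁]

theorem Link.exists_partner {u : G₁} (hu : u ∈ FischerTypes.perp D₁ x₁) : ∃ v, (u, v) ∈ gen e := by
  obtain ⟨v, hv, he⟩ := M23.exists_lift (L.himg ▸ ⟨_, M24.bar_mem L.H₁ L.c₁.memx hu, rfl⟩ :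
    e (bar hu) ∈ img D₂ x₂)
  exact ⟨v, hu, hv, he.symm⟩

theorem Link.partner_unique {u : G₁} {v v' : G₂} (h : (u, v) ∈ gen e) (h' : (u, v') ∈ gen e) : v = v' := by
  obtain ⟨u1, v1, e1⟩ := h
  obtain ⟨u2, v2, e2⟩ := h'
  exact M24.bar_inj L.H₂ L.c₂.memx v1 v2 (e1.symm.trans e2)

theorem Link.gen_commute {u u' : G₁} {v v' : G₂} (h : (u, v) ∈ gen e) (h' : (u', v') ∈ gen e)
    (hc : Commute u u') : Commute v v' := by
  obtain ⟨u1, v1, e1⟩ := h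
  obtain ⟨u2, v2, e2⟩ := h'
  refine (M24.bar_commute L.H₂ v1 v2).1 ?_
  rw [← e1, ← e2]
  exact ((M24.bar_commute L.H₁ u1 u2).2 hc).map e.toMonoidHom

theorem Link.gen_conj {p q : G₁ × G₂} (hp : p ∈ pairs e) (hq : q ∈ gen e) : p * q * p⁻¹ ∈ gen e := by
  obtain ⟨h₁, h₂, he⟩ := mk_props hp
  obtain ⟨u, v, hu⟩ := hq
  refine ⟨conj_mem_perp' L.H₁.group h₁ u, conj_mem_perp' L.H₂.group h₂ v, ?_⟩
  show e (QuotientGroup.mk (⟨_, h₁⟩ * ⟨_, mem_perp_closure u⟩ * ⟨_, h₁⟩⁻¹)) =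
    QuotientGroup.mk (⟨_, h₂⟩ * ⟨_, mem_perp_closure v⟩ * ⟨_, h₂⟩⁻¹)
  simp only [QuotientGroup.mk_mul, QuotientGroup.mk_inv, map_mul, map_inv, he]
  have hu' : e (QuotientGroup.mk ⟨q.1, mem_perp_closure u⟩) = QuotientGroup.mk ⟨q.2, mem_perp_closure v⟩ := hu
  rw [hu']

theorem Link.exists_lift {k : G₁} (hk : k ∈ Subgroup.closure (FischerTypes.perp D₁ x₁)) :
    ∃ p ∈ pairs e, p.1 = k := by
  have hle : Subgroup.closure (FischerTypes.perp D₁ x₁) ≤ (pairs e).map (MonoidHom.fst G₁ G₂) := by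
    rw [Subgroup.closure_le]
    intro u hu
    obtain ⟨v, hv⟩ := L.exists_partner hu
    exact ⟨(u, v), Subgroup.subset_closure hv, rfl⟩
  exact hle hk

theorem Link.eq_one_of_fst {p : G₁ × G₂} (hp : p ∈ pairs e) (h1 : p.1 = 1) : p = 1 := by
  obtain ⟨χ₁, hχ₁⟩ := TypeM24.exists_sign L.H₁
  obtain ⟨χ₂, hχ₂⟩ := TypeM24.exists_sign L.H₂
  have hs := sign_eq hχ₁ hχ₂ hp
  obtain ⟨h₁, h₂, he⟩ := mk_props hp
  rw [show (⟨p.1, h₁⟩ : ↥(Subgroup.closure (FischerTypes.perp D₁ x₁))) = 1 from Subtype.ext h1, QuotientGroup.mk_one,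
    map_one] at he
  rw [h1, map_one] at hs
  rcases mul_cases L.H₂ L.c₂.memx (one_mem _) h₂ he with h | h <;> rw [inv_one, one_mul] at h
  · exact Prod.ext h1 h
  · rw [h, hχ₂ _ L.c₂.memx] at hs
    exact absurd hs (by decide)

theorem Link.eq_of_fst {p q : G₁ × G₂} (hp : p ∈ pairs e) (hq : q ∈ pairs e) (h : p.1 = q.1) : p = q :=
  inv_mul_eq_one.1 (L.eq_one_of_fst (mul_mem (inv_mem hp) hq)
    (by rw [Prod.fst_mul, Prod.fst_inv, h, inv_mul_cancel]))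

/-- The common neighbours correspond. -/
theorem Link.common_map {u : G₁} {v : G₂} (h : (u, v) ∈ gen e)
    (hu : u ∈ FischerTypes.perp D₁ x₁ ∩ FischerTypes.perp D₁ y₁) :
    v ∈ FischerTypes.perp D₂ x₂ ∩ FischerTypes.perp D₂ y₂ := by
  set S₁ := FischerTypes.perp D₁ x₁ ∩ FischerTypes.perp D₁ y₁ with hS₁
  set A : Set G₂ := {v | ∃ u ∈ S₁, (u, v) ∈ gen e} with hA
  have hsub : A ⊆ FischerTypes.perp D₂ x₂ := by
    rintro v ⟨u, -, -, hv, -⟩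
    exact hv
  have hcard : A.ncard = 3240 := by
    have h0 : S₁.ncard = 3240 := (TypeM24.mu_props L.H₁ L.c₁.memx L.c₁.memy L.c₁.nxy).1
    rw [← h0]
    symm
    refine Set.ncard_congr (fun u hu => (L.exists_partner hu.1).choose)
      (fun u hu => ⟨u, hu, (L.exists_partner hu.1).choose_spec⟩) (fun u u' hu hu' he => ?_) fun v hv => ?_
    · have h1 := gen_swap (L.exists_partner hu.1).choose_spec
      have h2 := gen_swap (L.exists_partner hu'.1).choose_spec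
      rw [he] at h1
      exact L.symm.partner_unique h1 h2
    · obtain ⟨u, hu, hv⟩ := hv
      exact ⟨u, hu, L.partner_unique (L.exists_partner hu.1).choose_spec hv⟩
  have hgens : ∀ g ∈ gensL a₂ b₂ F₂, ∃ g₁ ∈ Subgroup.closure (gensL a₁ b₁ F₁), (g₁, g) ∈ gen e := by
    rintro g ((rfl | rfl) | ⟨s, hs, rfl⟩)
    · exact ⟨a₁, Subgroup.subset_closure (Or.inl (Or.inl rfl)), L.c₁.ax L.H₁, L.c₂.ax L.H₂, L.ha _ _⟩
    · exact ⟨b₁, Subgroup.subset_closure (Or.inl (Or.inr rfl)), L.c₁.bx L.H₁, L.c₂.bx L.H₂, L.hb _ _⟩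
    · exact ⟨F₁ s, Subgroup.subset_closure (Or.inr ⟨s, hs, rfl⟩), (L.c₁.mem s hs.1).2, (L.c₂.mem s hs.1).2,
        L.hF s hs.1 _ _⟩
  have hinv : ∀ g ∈ gensL a₂ b₂ F₂, ∀ w ∈ A, g * w * g⁻¹ ∈ A := by
    rintro g hg w ⟨u, hu, huw⟩
    obtain ⟨g₁, hg₁, hgg⟩ := hgens g hg
    have hc := L.c₁.gens_le L.H₁ hg₁
    rw [Subgroup.mem_centralizer_iff] at hc
    exact ⟨g₁ * u * g₁⁻¹, ⟨conj_mem_perp L.H₁.group (hc x₁ (by simp)).symm hu.1,
      conj_mem_perp L.H₁.group (hc y₁ (by simp)).symm hu.2⟩,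
      L.gen_conj (Subgroup.subset_closure hgg) huw⟩
  rw [← L.c₂.eq_common_of_invariant L.H₂ hsub hcard hinv]
  exact ⟨u, hu, h⟩

/-- Lifts of the centralizer of the pair. -/
theorem Link.exists_lift_pair {k : G₁} (hk : k ∈ Subgroup.centralizer ({x₁, y₁} : Set G₁)) :
    ∃ r ∈ pairs e, r.1 = k ∧ Commute r.2 y₂ := by
  have hle : Subgroup.closure (FischerTypes.perp D₁ x₁ ∩ FischerTypes.perp D₁ y₁) ≤
      (pairs e ⊓ (Subgroup.centralizer ({y₂} : Set G₂)).comap (MonoidHom.snd G₁ G₂)).map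
        (MonoidHom.fst G₁ G₂) := by
    rw [Subgroup.closure_le]
    intro u hu
    obtain ⟨v, hv⟩ := L.exists_partner hu.1
    exact ⟨(u, v), ⟨Subgroup.subset_closure hv,
      Subgroup.mem_centralizer_singleton_iff.2 (L.common_map hv hu).2.2.2.eq.symm⟩, rfl⟩
  obtain ⟨r, ⟨hr, hry⟩, he⟩ := hle (L.c₁.centralizer_pair L.H₁ hk)
  exact ⟨r, hr, he, Subgroup.mem_centralizer_singleton_iff.1 hry⟩

theorem Link.fix_y {p : G₁ × G₂} (hp : p ∈ pairs e) (hc : Commute p.1 y₁) : Commute p.2 y₂ := by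
  obtain ⟨r, hr, he, hry⟩ := L.exists_lift_pair (k := p.1) (by
    rw [Subgroup.mem_centralizer_iff]
    rintro t (rfl | rfl)
    exacts [(perp_commute hp).1.eq.symm, hc.eq.symm])
  rwa [← L.eq_of_fst hr hp he]

omit L in
/-- The correspondence of the classes. -/
def Rel (y₁ : G₁) (y₂ : G₂) (e : PerpQuot D₁ x₁ ≃* PerpQuot D₂ x₂) (u : G₁) (v : G₂) : Prop :=
  (u = x₁ ∧ v = x₂) ∨ (u, v) ∈ gen e ∨ ∃ p ∈ pairs e, u = p.1 * y₁ * p.1⁻¹ ∧ v = p.2 * y₂ * p.2⁻¹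

omit L in
theorem Rel.symm {u : G₁} {v : G₂} (h : Rel y₁ y₂ e u v) : Rel y₂ y₁ e.symm v u := by
  rcases h with ⟨h1, h2⟩ | h | ⟨p, hp, h1, h2⟩
  exacts [Or.inl ⟨h2, h1⟩, Or.inr (Or.inl (gen_swap h)), Or.inr (Or.inr ⟨_, pairs_swap hp, h2, h1⟩)]

theorem Link.far {p : G₁ × G₂} (hp : p ∈ pairs e) : ¬ Commute x₁ (p.1 * y₁ * p.1⁻¹) := by
  intro hc
  refine L.c₁.nxy ?_
  rw [← commute_conj_iff' p.1, (perp_commute hp).1.eq, mul_inv_cancel_right]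
  exact hc

theorem Link.rel_mem {u : G₁} {v : G₂} (h : Rel y₁ y₂ e u v) : v ∈ D₂ := by
  rcases h with ⟨-, rfl⟩ | ⟨-, hv, -⟩ | ⟨p, -, -, rfl⟩
  exacts [L.c₂.memx, hv.1, L.H₂.group.2.1 _ _ L.c₂.memy]

theorem Link.exists_right {u : G₁} (hu : u ∈ D₁) : ∃ v, Rel y₁ y₂ e u v := by
  by_cases hux : u = x₁
  · exact ⟨x₂, Or.inl ⟨hux, rfl⟩⟩
  by_cases hc : Commute x₁ u
  · obtain ⟨v, hv⟩ := L.exists_partner (mk_perp hu hux hc)
    exact ⟨v, Or.inr (Or.inl hv)⟩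
  · obtain ⟨k, k1, k2⟩ := M24.exists_conj_noncommute L.H₁ L.c₁.memx L.c₁.memy L.c₁.nxy L.c₁.memx hu hc
    obtain ⟨p, hp, rfl⟩ := L.exists_lift (k := k) (by
      rw [← M24.centralizer_eq L.H₁.group L.H₁ L.c₁.memx]
      exact Subgroup.mem_centralizer_singleton_iff.2 (mul_inv_eq_iff_eq_mul.1 k1))
    exact ⟨_, Or.inr (Or.inr ⟨p, hp, k2.symm, rfl⟩)⟩

theorem Link.functional {u : G₁} {v v' : G₂} (h : Rel y₁ y₂ e u v) (h' : Rel y₁ y₂ e u v') : v = v' := by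
  rcases h with ⟨e1, e2⟩ | h | ⟨p, hp, e1, e2⟩ <;> rcases h' with ⟨f1, f2⟩ | h' | ⟨q, hq, f1, f2⟩
  · rw [e2, f2]
  · exact absurd e1 h'.1.2.1
  · exact absurd ((f1.symm.trans e1).symm ▸ Commute.refl x₁) (L.far hq)
  · exact absurd f1 h.1.2.1
  · exact L.partner_unique h h'
  · exact absurd (f1 ▸ h.1.2.2) (L.far hq)
  · exact absurd ((e1.symm.trans f1).symm ▸ Commute.refl x₁) (L.far hp)
  · exact absurd (e1 ▸ h'.1.2.2) (L.far hp)
  · rw [e2, f2]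
    have := L.fix_y (mul_mem (inv_mem hp) hq) (by
      rw [Prod.fst_mul, Prod.fst_inv]; exact (conj_eq_conj_iff.1 (e1.symm.trans f1)))
    rw [Prod.snd_mul, Prod.snd_inv] at this
    exact conj_eq_conj_iff.2 this

theorem Link.commute {u u' : G₁} {v v' : G₂} (h : Rel y₁ y₂ e u v) (h' : Rel y₁ y₂ e u' v')
    (hc : Commute u u') : Commute v v' := by
  have hnf : ∀ {w : G₁} {z : G₂} {q : G₁ × G₂}, (w, z) ∈ gen e → q ∈ pairs e →
      Commute w (q.1 * y₁ * q.1⁻¹) → Commute z (q.2 * y₂ * q.2⁻¹) := by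
    intro w z q hw hq hc
    have hg := L.gen_conj (inv_mem hq) hw
    rw [inv_inv] at hg
    have hy : Commute (q.1⁻¹ * w * q.1) y₁ := by
      rw [← commute_conj_iff' q.1, show q.1 * (q.1⁻¹ * w * q.1) * q.1⁻¹ = w by group]
      exact hc
    have hu : q.1⁻¹ * w * q.1 ∈ FischerTypes.perp D₁ x₁ ∩ FischerTypes.perp D₁ y₁ :=
      ⟨hg.1, mk_perp hg.1.1 (fun he => L.c₁.nxy (by have := hg.1.2.2; exact he ▸ this)) hy.symm⟩
    have h2 := (L.common_map (u := q.1⁻¹ * w * q.1) (v := q.2⁻¹ * z * q.2) hg hu).2.2.2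
    rw [← commute_conj_iff' q.2, show q.2 * (q.2⁻¹ * z * q.2) * q.2⁻¹ = z by group] at h2
    exact h2.symm
  rcases h with ⟨rfl, rfl⟩ | h | ⟨p, hp, rfl, rfl⟩ <;> rcases h' with ⟨rfl, rfl⟩ | h' | ⟨q, hq, rfl, rfl⟩
  · exact Commute.refl _
  · exact h'.2.1.2.2
  · exact absurd hc (L.far hq)
  · exact h.2.1.2.2.symm
  · exact L.gen_commute h h' hc
  · exact hnf h hq hc
  · exact absurd hc.symm (L.far hp)
  · exact (hnf h' hp hc.symm).symm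
  · -- two members not commuting with `x`
    set w := q⁻¹ * p with hw
    have hwS : w ∈ pairs e := mul_mem (inv_mem hq) hp
    suffices hz : Commute (w.2 * y₂ * w.2⁻¹) y₂ by
      rw [← commute_conj_iff' q.2, hw, Prod.snd_mul, Prod.snd_inv] at hz
      rwa [show q.2 * (q.2⁻¹ * p.2 * y₂ * (q.2⁻¹ * p.2)⁻¹) * q.2⁻¹ = p.2 * y₂ * p.2⁻¹ by group] at hz
    have hz₁ : Commute (w.1 * y₁ * w.1⁻¹) y₁ := by
      rw [← commute_conj_iff' q.1, hw, Prod.fst_mul, Prod.fst_inv,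
        show q.1 * (q.1⁻¹ * p.1 * y₁ * (q.1⁻¹ * p.1)⁻¹) * q.1⁻¹ = p.1 * y₁ * p.1⁻¹ by group]
      exact hc
    by_cases he : w.1 * y₁ * w.1⁻¹ = y₁
    · have := L.fix_y hwS (mul_inv_eq_iff_eq_mul.1 he)
      rw [this.eq, mul_inv_cancel_right]
    obtain ⟨-, s2, s3⟩ := L.c₁.step L.H₁
    obtain ⟨-, t2, -⟩ := L.c₂.step L.H₂
    obtain ⟨k, hk, hke⟩ := L.c₁.exists_conj_outer L.H₁ s2 s3
      (mk_perp (L.H₁.group.2.1 w.1 _ L.c₁.memy) he hz₁.symm) (L.far hwS)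
    obtain ⟨r, hr, rfl, hry⟩ := L.exists_lift_pair hk
    set W := pw (pairF F₁ F₂) stepWord with hW
    have hWS : W ∈ pairs e := Subgroup.list_prod_mem _ fun u hu => by
      obtain ⟨s, hs, rfl⟩ := List.mem_map.1 hu
      exact Subgroup.subset_closure ⟨(L.c₁.mem s (stepWord_lt s hs)).2, (L.c₂.mem s (stepWord_lt s hs)).2,
        L.hF s (stepWord_lt s hs) _ _⟩
    have e1 : (r * W).1 = r.1 * pw F₁ stepWord := by rw [Prod.fst_mul, hW, pw_pair]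
    have e2 : (r * W).2 = r.2 * pw F₂ stepWord := by rw [Prod.snd_mul, hW, pw_pair]
    have hfix := L.fix_y (p := (r * W)⁻¹ * w) (mul_mem (inv_mem (mul_mem hr hWS)) hwS) (by
      rw [Prod.fst_mul ((r * W)⁻¹), Prod.fst_inv, e1]
      exact conj_eq_conj_iff.1 (by rw [← hke]; group))
    rw [Prod.snd_mul ((r * W)⁻¹), Prod.snd_inv, e2] at hfix
    rw [← conj_eq_conj_iff.2 hfix]
    have h4 := (commute_conj_iff' r.2 _ _).2 t2.2.2.symm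
    rw [hry.eq, mul_inv_cancel_right] at h4
    rw [show r.2 * pw F₂ stepWord * y₂ * (r.2 * pw F₂ stepWord)⁻¹ =
      r.2 * (pw F₂ stepWord * y₂ * (pw F₂ stepWord)⁻¹) * r.2⁻¹ by group]
    exact h4

omit L

/-- Two groups of type M(24) are isomorphic, the classes corresponding. -/
theorem exists_equiv (H₁ : M24.Hyp G₁ D₁) (H₂ : M24.Hyp G₂ D₂) : ∃ f : G₁ ≃* G₂, f '' D₁ = D₂ := by
  obtain ⟨x₁, y₁, a₁, b₁, F₁, c₁⟩ := exists_conf24 H₁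
  obtain ⟨x₂, y₂, a₂, b₂, F₂, c₂⟩ := exists_conf24 H₂
  obtain ⟨e, himg, ea, eb, eF⟩ := M23Unique.exists_equiv_conf (c₁.conf_x H₁) (c₂.conf_x H₂)
    (M24.quot H₁ c₁.memx) (M24.quot H₂ c₂.memx)
  have hflip : ∀ s < 9, flip (flip s) = s := fun s hs => by interval_cases s <;> rfl
  have L : Link D₁ D₂ x₁ y₁ a₁ b₁ x₂ y₂ a₂ b₂ F₁ F₂ e := by
    refine ⟨H₁, H₂, c₁, c₂, himg, fun h₁ h₂ => ea, fun h₁ h₂ => eb, fun s hs h₁ h₂ => ?_⟩
    have := eF (flip s) (flip_lt hs)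
    have m₁ : (F₁ ∘ flip) (flip s) ∈ FischerTypes.perp D₁ x₁ := by rwa [Function.comp_apply, hflip s hs]
    have m₂ : (F₂ ∘ flip) (flip s) ∈ FischerTypes.perp D₂ x₂ := by rwa [Function.comp_apply, hflip s hs]
    rw [barF_eq m₁, barF_eq m₂] at this
    convert this using 2 <;> simp only [Function.comp_apply, hflip s hs]
  classical
  set β : G₁ → G₂ := fun u => if h : u ∈ D₁ then (L.exists_right h).choose else 1 with hβ
  have spec : ∀ u ∈ D₁, Rel y₁ y₂ e u (β u) := fun u hu => by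
    simp only [hβ, dif_pos hu]
    exact (L.exists_right hu).choose_spec
  obtain ⟨f, hf, -⟩ := exists_equiv_of_graph H₁ H₂ β (fun u hu => L.rel_mem (spec u hu))
    (fun u hu v hv he => L.symm.functional (spec u hu).symm (he ▸ (spec v hv).symm))
    (fun v hv => by
      obtain ⟨u, hu⟩ := L.symm.exists_right hv
      have hu' := hu.symm
      rw [MulEquiv.symm_symm] at hu'
      have huD : u ∈ D₁ := L.symm.rel_mem hu
      exact ⟨u, huD, L.functional (spec u huD) hu'⟩) fun u hu v hv =>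
      ⟨L.symm.commute (spec u hu).symm (spec v hv).symm, L.commute (spec u hu) (spec v hv)⟩
  exact ⟨f, hf⟩

end CfsgLib.Transpositions.M24Unique
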