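import Cfsg.Prelude.Def_Transfer
import Cfsg.Agent.Solvable.Frattini
import Mathlib

/-!
# Extraspecial 2-groups of both types, with their 2-ranks

The group of a bilinear cocycle on `2n`-dimensional space over the field with two elements; the
quadratic form of squares is a sum of `n` binary forms, each hyperbolic or anisotropic.
-/

set_option autoImplicit false

namespace CfsgLib.Transpositions

open Finset
open scoped commutatorElement

variable {n : ℕ} {ε : Fin n → ZMod 2}

/-- The ambient space. -/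
abbrev PlaneSum (n : ℕ) : Type := Fin n → ZMod 2 × ZMod 2

/-- The cocycle. -/
def planeCocycle (ε : Fin n → ZMod 2) (v w : PlaneSum n) : ZMod 2 :=
  ∑ i, ((v i).1 * (w i).2 + ε i * ((v i).1 * (w i).1 + (v i).2 * (w i).2))

/-- The commutator form. -/
def planeForm (v w : PlaneSum n) : ZMod 2 := ∑ i, ((v i).1 * (w i).2 + (v i).2 * (w i).1)

theorem planeCocycle_add_left (v v' w : PlaneSum n) :
    planeCocycle ε (v + v') w = planeCocycle ε v w + planeCocycle ε v' w := by
  simp only [planeCocycle, ← sum_add_distrib]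
  exact sum_congr rfl fun i _ => by simp only [Pi.add_apply, Prod.fst_add, Prod.snd_add]; ring

theorem planeCocycle_add_right (v w w' : PlaneSum n) :
    planeCocycle ε v (w + w') = planeCocycle ε v w + planeCocycle ε v w' := by
  simp only [planeCocycle, ← sum_add_distrib]
  exact sum_congr rfl fun i _ => by simp only [Pi.add_apply, Prod.fst_add, Prod.snd_add]; ring

theorem planeCocycle_comm (v w : PlaneSum n) :
    planeCocycle ε v w + planeCocycle ε w v = planeForm v w := by
  simp only [planeCocycle, planeForm, ← sum_add_distrib]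
  refine sum_congr rfl fun i _ => ?_
  generalize v i = a, w i = b, ε i = e
  revert a b e; decide

theorem planeForm_add_right (v w w' : PlaneSum n) :
    planeForm v (w + w') = planeForm v w + planeForm v w' := by
  simp only [planeForm, ← sum_add_distrib]
  exact sum_congr rfl fun i _ => by simp only [Pi.add_apply, Prod.fst_add, Prod.snd_add]; ring

theorem planeForm_comm (v w : PlaneSum n) : planeForm v w = planeForm w v := by
  unfold planeForm
  exact sum_congr rfl fun i _ => by ring

theorem planeForm_single (v : PlaneSum n) (i : Fin n) (a : ZMod 2 × ZMod 2) :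
    planeForm v (Pi.single i a) = (v i).1 * a.2 + (v i).2 * a.1 := by
  rw [planeForm, sum_eq_single i (fun j _ hj => by simp [hj]) (by simp)]
  simp

theorem eq_zero_of_planeForm {v : PlaneSum n} (h : ∀ w, planeForm v w = 0) : v = 0 := by
  funext i
  have h1 := h (Pi.single i (0, 1))
  have h2 := h (Pi.single i (1, 0))
  rw [planeForm_single] at h1 h2
  refine Prod.ext ?_ ?_
  · simpa using h1
  · simpa using h2

/-- The group of the cocycle. -/
@[ext]
structure PlaneGroup (ε : Fin n → ZMod 2) : Type where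
  vec : PlaneSum n
  tail : ZMod 2

instance : Mul (PlaneGroup ε) :=
  ⟨fun a b => ⟨a.vec + b.vec, a.tail + b.tail + planeCocycle ε a.vec b.vec⟩⟩
instance : One (PlaneGroup ε) := ⟨⟨0, 0⟩⟩
instance : Inv (PlaneGroup ε) := ⟨fun a => ⟨-a.vec, -a.tail + planeCocycle ε a.vec a.vec⟩⟩

theorem planeCocycle_zero_left (w : PlaneSum n) : planeCocycle ε 0 w = 0 := by
  simp [planeCocycle]

theorem planeCocycle_zero_right (w : PlaneSum n) : planeCocycle ε w 0 = 0 := by
  simp [planeCocycle]

theorem planeCocycle_neg_left (v w : PlaneSum n) :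
    planeCocycle ε (-v) w = -planeCocycle ε v w :=
  eq_neg_of_add_eq_zero_left (by
    rw [← planeCocycle_add_left, neg_add_cancel, planeCocycle_zero_left])

instance : Group (PlaneGroup ε) := Group.ofLeftAxioms
  (fun a b c => by
    refine PlaneGroup.ext (add_assoc _ _ _) ?_
    show a.tail + b.tail + planeCocycle ε a.vec b.vec + c.tail + planeCocycle ε (a.vec + b.vec) c.vec =
      a.tail + (b.tail + c.tail + planeCocycle ε b.vec c.vec) + planeCocycle ε a.vec (b.vec + c.vec)
    rw [planeCocycle_add_left, planeCocycle_add_right]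
    ring)
  (fun a => by
    refine PlaneGroup.ext (zero_add _) ?_
    show 0 + a.tail + planeCocycle ε 0 a.vec = a.tail
    rw [planeCocycle_zero_left]; ring)
  (fun a => by
    refine PlaneGroup.ext (neg_add_cancel _) ?_
    show -a.tail + planeCocycle ε a.vec a.vec + a.tail + planeCocycle ε (-a.vec) a.vec = 0
    rw [planeCocycle_neg_left]
    ring)

def planeGroupEquiv (ε : Fin n → ZMod 2) : PlaneGroup ε ≃ PlaneSum n × ZMod 2 :=
  ⟨fun a => (a.vec, a.tail), fun a => ⟨a.1, a.2⟩, fun _ => rfl, fun _ => rfl⟩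

instance : Finite (PlaneGroup ε) := Finite.of_equiv _ (planeGroupEquiv ε).symm

theorem card_planeGroup : Nat.card (PlaneGroup ε) = 2 ^ (2 * n + 1) := by
  rw [Nat.card_congr (planeGroupEquiv ε)]
  simp [Nat.card_eq_fintype_card, pow_succ, pow_mul]

theorem planeGroup_mul_vec (a b : PlaneGroup ε) : (a * b).vec = a.vec + b.vec := rfl
theorem planeGroup_mul_tail (a b : PlaneGroup ε) :
    (a * b).tail = a.tail + b.tail + planeCocycle ε a.vec b.vec := rfl
theorem planeGroup_one_vec : (1 : PlaneGroup ε).vec = 0 := rfl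

theorem planeGroup_commute_iff (a b : PlaneGroup ε) :
    Commute a b ↔ planeForm a.vec b.vec = 0 := by
  have key : ∀ s t x y : ZMod 2, s + t + x = t + s + y ↔ x + y = 0 := by decide
  show a * b = b * a ↔ _
  rw [PlaneGroup.ext_iff, planeGroup_mul_vec, planeGroup_mul_vec, planeGroup_mul_tail,
    planeGroup_mul_tail, key, planeCocycle_comm]
  exact ⟨And.right, fun h => ⟨add_comm _ _, h⟩⟩

theorem planeGroup_sq (a : PlaneGroup ε) :
    a ^ 2 = ⟨0, planeCocycle ε a.vec a.vec⟩ := by
  rw [pow_two]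
  refine PlaneGroup.ext ?_ ?_
  · funext i
    show a.vec i + a.vec i = 0
    generalize a.vec i = x
    revert x; decide
  · rw [planeGroup_mul_tail]
    exact (by decide : ∀ t x : ZMod 2, t + t + x = x) _ _

theorem mem_center_planeGroup {a : PlaneGroup ε} :
    a ∈ Subgroup.center (PlaneGroup ε) ↔ a.vec = 0 := by
  rw [Subgroup.mem_center_iff]
  constructor
  · intro h
    exact eq_zero_of_planeForm fun w => (planeGroup_commute_iff a ⟨w, 0⟩).1 (h ⟨w, 0⟩).symm
  · intro h b
    refine (planeGroup_commute_iff b a).2 ?_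
    simp [planeForm, h]

theorem eq_of_ne_zero_zmod_two : ∀ s t : ZMod 2, s ≠ 0 → t ≠ 0 → s = t := by decide

theorem isExtraspecial_planeGroup (hn : 1 ≤ n) :
    Cfsg.IsExtraspecial 2 (PlaneGroup ε) := by
  haveI : Fact (Nat.Prime 2) := ⟨Nat.prime_two⟩
  have hP : IsPGroup 2 (PlaneGroup ε) := IsPGroup.of_card card_planeGroup
  have hsqZ : ∀ x : PlaneGroup ε, x ^ 2 ∈ Subgroup.center _ := fun x =>
    mem_center_planeGroup.2 (by rw [planeGroup_sq])
  have hcomm : ∀ a b : PlaneGroup ε, ⁅a, b⁆.vec = 0 := fun a b => by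
    show a.vec + b.vec + -a.vec + -b.vec = 0
    abel
  let i0 : Fin n := ⟨0, hn⟩
  have hc : commutator (PlaneGroup ε) = Subgroup.center _ := by
    refine le_antisymm ?_ fun z hz => ?_
    · rw [commutator_def, Subgroup.commutator_le]
      exact fun a _ b _ => mem_center_planeGroup.2 (hcomm a b)
    · have hv := mem_center_planeGroup.1 hz
      by_cases ht : z.tail = 0
      · have : z = 1 := PlaneGroup.ext hv ht
        rw [this]; exact one_mem _
      obtain ⟨a, b, hab⟩ : ∃ a b : PlaneGroup ε, ¬ Commute a b := by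
        refine ⟨⟨Pi.single i0 (1, 0), 0⟩, ⟨Pi.single i0 (0, 1), 0⟩, fun h => ?_⟩
        rw [planeGroup_commute_iff, planeForm_single] at h
        simp at h
      have hmem : ⁅a, b⁆ ∈ commutator (PlaneGroup ε) := by
        rw [commutator_def]
        exact Subgroup.commutator_mem_commutator (Subgroup.mem_top a) (Subgroup.mem_top b)
      have hne : ⁅a, b⁆.tail ≠ 0 := fun h =>
        hab (commutatorElement_eq_one_iff_commute.1 (PlaneGroup.ext (hcomm a b) h))
      have : z = ⁅a, b⁆ := PlaneGroup.ext (hv.trans (hcomm a b).symm)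
        (eq_of_ne_zero_zmod_two _ _ ht hne)
      rwa [this]
  refine ⟨⟨hP, le_antisymm (CfsgLib.Solvable.frattini_le_of_elementary hc.le hsqZ)
    (hc ▸ CfsgLib.Solvable.commutator_le_frattini hP), hc⟩, ?_⟩
  let e : Subgroup.center (PlaneGroup ε) ≃ ZMod 2 :=
    ⟨fun a => a.1.tail, fun t => ⟨⟨0, t⟩, mem_center_planeGroup.2 rfl⟩,
      fun a => Subtype.ext (PlaneGroup.ext (mem_center_planeGroup.1 a.2).symm rfl), fun _ => rfl⟩
  rw [Nat.card_congr e]
  simp

/-! ### Totally singular subspaces -/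

/-- The sign character. -/
def sgn2 (x : ZMod 2) : ℤ := if x = 0 then 1 else -1

theorem sgn2_add : ∀ x y : ZMod 2, sgn2 (x + y) = sgn2 x * sgn2 y := by decide

theorem sgn2_sum {α : Type*} (s : Finset α) (f : α → ZMod 2) :
    sgn2 (∑ i ∈ s, f i) = ∏ i ∈ s, sgn2 (f i) := by
  classical
  induction s using Finset.induction_on with
  | empty => rfl
  | insert a s ha ih => rw [sum_insert ha, prod_insert ha, sgn2_add, ih]

/-- The value of the sum of signs of the squaring form. -/
theorem sum_sgn2_square (ε : Fin n → ZMod 2) :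
    ∑ v : PlaneSum n, sgn2 (planeCocycle ε v v) = ∏ i, if ε i = 0 then 2 else (-2 : ℤ) := by
  have key : ∀ e : ZMod 2, ∑ a : ZMod 2 × ZMod 2,
      sgn2 (a.1 * a.2 + e * (a.1 * a.1 + a.2 * a.2)) = if e = 0 then 2 else (-2 : ℤ) := by decide
  simp only [← key]
  rw [Fintype.prod_sum]
  exact sum_congr rfl fun v _ => sgn2_sum _ _

theorem sum_sgn2_of_additive (W : Finset (PlaneSum n)) (h0 : 0 ∈ W)
    (hadd : ∀ a ∈ W, ∀ b ∈ W, a + b ∈ W) (g : PlaneSum n → ZMod 2)
    (hg : ∀ a b, g (a + b) = g a + g b) :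
    ∑ w ∈ W, sgn2 (g w) = if ∀ w ∈ W, g w = 0 then (W.card : ℤ) else 0 := by
  split_ifs with h
  · rw [sum_congr rfl fun w hw => by rw [h w hw]]
    simp [sgn2]
  · push Not at h
    obtain ⟨w₀, hw₀, hne⟩ := h
    have h2 : ∀ a : PlaneSum n, a + w₀ + w₀ = a := fun a => funext fun i => by
      show a i + w₀ i + w₀ i = a i
      generalize a i = x, w₀ i = y
      revert x y; decide
    have hflip : ∑ w ∈ W, sgn2 (g w) = ∑ w ∈ W, sgn2 (g (w + w₀)) :=
      sum_nbij' (· + w₀) (· + w₀) (fun a ha => hadd a ha _ hw₀) (fun a ha => hadd a ha _ hw₀)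
        (fun a _ => h2 a) (fun a _ => h2 a) (fun a _ => by rw [h2])
    have hneg : sgn2 (g w₀) = -1 := by simp [sgn2, hne]
    have : ∑ w ∈ W, sgn2 (g (w + w₀)) = -∑ w ∈ W, sgn2 (g w) := by
      rw [← sum_neg_distrib]
      exact sum_congr rfl fun w _ => by rw [hg, sgn2_add, hneg, mul_neg_one]
    omega

/-- A totally singular additive set has at most `2^n` members, fewer if the sum of signs of the
squaring form is negative. -/
theorem card_singular_le (W : Finset (PlaneSum n)) (h0 : 0 ∈ W)
    (hadd : ∀ a ∈ W, ∀ b ∈ W, a + b ∈ W) (hq : ∀ a ∈ W, planeCocycle ε a a = 0)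
    (hf : ∀ a ∈ W, ∀ b ∈ W, planeForm a b = 0) :
    W.card ≤ 2 ^ n ∧ ((∑ v : PlaneSum n, sgn2 (planeCocycle ε v v)) < 0 → W.card < 2 ^ n) := by
  obtain ⟨P, hP⟩ : ∃ P, P = Finset.univ.filter fun v : PlaneSum n => ∀ w ∈ W, planeForm v w = 0 :=
    ⟨_, rfl⟩
  have hWP : W ⊆ P := fun a ha => hP ▸ mem_filter.2 ⟨mem_univ _, hf a ha⟩
  have hWpos : 0 < W.card := card_pos.2 ⟨0, h0⟩
  have hin : ∀ v, ∑ w ∈ W, sgn2 (planeForm v w) = if v ∈ P then (W.card : ℤ) else 0 := fun v => by
    rw [sum_sgn2_of_additive W h0 hadd _ (planeForm_add_right v)]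
    exact if_congr (by rw [hP]; simp) rfl rfl
  have hprod : (W.card : ℤ) * P.card = 4 ^ n := by
    have h1 : ∑ v : PlaneSum n, ∑ w ∈ W, sgn2 (planeForm v w) = (W.card : ℤ) * P.card := by
      simp only [hin]
      rw [← sum_filter, sum_const, nsmul_eq_mul, mul_comm]
      congr 2
      rw [filter_mem_eq_inter, univ_inter]
    rw [← h1, sum_comm]
    have h2 : ∀ w : PlaneSum n, ∑ v : PlaneSum n, sgn2 (planeForm v w) =
        if w = 0 then (4 : ℤ) ^ n else 0 := fun w => by
      rw [sum_sgn2_of_additive univ (mem_univ _) (fun _ _ _ _ => mem_univ _)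
        (fun v => planeForm v w) (fun a b => by
          rw [planeForm_comm, planeForm_add_right, planeForm_comm w, planeForm_comm w])]
      refine if_congr ⟨fun h => eq_zero_of_planeForm fun v => ?_, ?_⟩ ?_ rfl
      · rw [planeForm_comm]; exact h v (mem_univ _)
      · rintro rfl v -
        simp [planeForm]
      · simp
    simp only [h2, sum_ite_eq', h0, if_true]
  have hle : W.card ≤ P.card := card_le_card hWP
  have h4 : (4 : ℤ) ^ n = ((2 ^ n * 2 ^ n : ℕ) : ℤ) := by push_cast; rw [← mul_pow]; norm_num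
  have hprod' : W.card * P.card = 2 ^ n * 2 ^ n := by
    rw [h4] at hprod; exact_mod_cast hprod
  have hWle : W.card ≤ 2 ^ n := by
    by_contra hlt
    push Not at hlt
    have := Nat.mul_lt_mul_of_lt_of_le hlt (hlt.le.trans hle) (Nat.two_pow_pos n |>.trans_le
      (hlt.le.trans hle))
    omega
  refine ⟨hWle, fun hneg => lt_of_le_of_ne hWle fun heq => ?_⟩
  have hPW : P = W := by
    refine (eq_of_subset_of_card_le hWP ?_).symm
    rw [heq] at hprod'
    exact (Nat.eq_of_mul_eq_mul_left (Nat.two_pow_pos n) hprod').le.trans heq.ge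
  have hexp : ∀ v w : PlaneSum n, planeCocycle ε (v + w) (v + w) =
      planeCocycle ε v v + planeCocycle ε w w + planeForm v w := fun v w => by
    rw [planeCocycle_add_left, planeCocycle_add_right, planeCocycle_add_right,
      ← planeCocycle_comm (ε := ε) v w]
    ring
  have key : (W.card : ℤ) * ∑ v : PlaneSum n, sgn2 (planeCocycle ε v v) = W.card * W.card := by
    have h1 : ∀ w : PlaneSum n, ∑ v : PlaneSum n, sgn2 (planeCocycle ε (v + w) (v + w)) =
        ∑ v : PlaneSum n, sgn2 (planeCocycle ε v v) := fun w =>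
      Equiv.sum_comp (Equiv.addRight w) fun v => sgn2 (planeCocycle ε v v)
    calc (W.card : ℤ) * ∑ v : PlaneSum n, sgn2 (planeCocycle ε v v)
        = ∑ w ∈ W, ∑ v : PlaneSum n, sgn2 (planeCocycle ε (v + w) (v + w)) := by
          simp only [h1, sum_const, nsmul_eq_mul]
      _ = ∑ v : PlaneSum n, sgn2 (planeCocycle ε v v) * ∑ w ∈ W, sgn2 (planeForm v w) := by
          rw [sum_comm]
          refine sum_congr rfl fun v _ => ?_
          rw [mul_sum]
          refine sum_congr rfl fun w hw => ?_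
          rw [hexp, hq w hw, add_zero, sgn2_add]
      _ = ∑ v ∈ W, sgn2 (planeCocycle ε v v) * W.card := by
          simp only [hin, hPW, mul_ite, mul_zero, sum_ite_mem, univ_inter]
      _ = W.card * W.card := by
          rw [sum_congr rfl fun v hv => by rw [hq v hv]]
          simp [sgn2]
  have : (W.card : ℤ) ≤ ∑ v : PlaneSum n, sgn2 (planeCocycle ε v v) :=
    (mul_left_cancel₀ (by exact_mod_cast hWpos.ne') key).ge
  omega

/-- An elementary abelian subgroup has at most `2^(n+1)` members, fewer in the minus type. -/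
theorem card_elementary_le {A : Subgroup (PlaneGroup ε)} (hA : Cfsg.IsElementaryAbelian 2 A) :
    Nat.card A ≤ 2 ^ (n + 1) ∧
      ((∏ i, if ε i = 0 then 2 else (-2 : ℤ)) < 0 → Nat.card A < 2 ^ (n + 1)) := by
  classical
  obtain ⟨W, hW⟩ : ∃ W, W = Finset.univ.filter fun v : PlaneSum n => ∃ a ∈ A, a.vec = v :=
    ⟨_, rfl⟩
  have mem : ∀ v, v ∈ W ↔ ∃ a ∈ A, a.vec = v := fun v => by rw [hW]; simp
  have hb := card_singular_le (ε := ε) W ((mem 0).2 ⟨1, one_mem A, rfl⟩)
    (fun a ha b hb => by
      obtain ⟨x, hx, rfl⟩ := (mem a).1 ha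
      obtain ⟨y, hy, rfl⟩ := (mem b).1 hb
      exact (mem _).2 ⟨x * y, mul_mem hx hy, rfl⟩)
    (fun a ha => by
      obtain ⟨x, hx, rfl⟩ := (mem a).1 ha
      have := planeGroup_sq x
      rw [hA.2 x hx] at this
      exact (congrArg PlaneGroup.tail this).symm)
    (fun a ha b hb => by
      obtain ⟨x, hx, rfl⟩ := (mem a).1 ha
      obtain ⟨y, hy, rfl⟩ := (mem b).1 hb
      haveI := hA.1
      exact (planeGroup_commute_iff x y).1 (congrArg Subtype.val (mul_comm' (⟨x, hx⟩ : A) ⟨y, hy⟩)))
  have hle : Nat.card A ≤ 2 * W.card := by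
    let f : A → {v // v ∈ W} × ZMod 2 := fun a => (⟨a.1.vec, (mem _).2 ⟨a, a.2, rfl⟩⟩, a.1.tail)
    refine (Nat.card_le_card_of_injective f fun a b h => ?_).trans ?_
    · simp only [f, Prod.mk.injEq, Subtype.mk.injEq] at h
      exact Subtype.ext (PlaneGroup.ext h.1 h.2)
    · rw [Nat.card_eq_fintype_card, Fintype.card_prod, Fintype.card_coe, ZMod.card, mul_comm]
  rw [← sum_sgn2_square]
  refine ⟨?_, fun h => ?_⟩
  · have := hb.1; rw [pow_succ]; omega
  · have := hb.2 h; rw [pow_succ]; omega

/-- The subgroup over the first coordinates outside the anisotropic index. -/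
theorem exists_elementary (ε : Fin n → ZMod 2) :
    ∃ A : Subgroup (PlaneGroup ε), Cfsg.IsElementaryAbelian 2 A ∧
      Nat.card A = 2 ^ ((Finset.univ.filter fun i => ε i = 0).card + 1) := by
  classical
  let A : Subgroup (PlaneGroup ε) :=
    { carrier := {a | ∀ i, (a.vec i).2 = 0 ∧ (ε i ≠ 0 → (a.vec i).1 = 0)}
      one_mem' := fun i => ⟨rfl, fun _ => rfl⟩
      mul_mem' := fun {a b} ha hb i => by
        rw [planeGroup_mul_vec]
        exact ⟨by simp [(ha i).1, (hb i).1], fun h => by simp [(ha i).2 h, (hb i).2 h]⟩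
      inv_mem' := fun {a} ha i => by
        show (-(a.vec i)).2 = 0 ∧ (ε i ≠ 0 → (-(a.vec i)).1 = 0)
        exact ⟨by simp [(ha i).1], fun h => by simp [(ha i).2 h]⟩ }
  refine ⟨A, ⟨⟨⟨fun a b => Subtype.ext ?_⟩⟩, fun a ha => ?_⟩, ?_⟩
  · refine ((planeGroup_commute_iff a.1 b.1).2 (sum_eq_zero fun i _ => ?_)).eq
    simp [(a.2 i).1, (b.2 i).1]
  · rw [planeGroup_sq]
    refine PlaneGroup.ext rfl ?_
    show planeCocycle ε a.vec a.vec = 0
    refine sum_eq_zero fun i _ => ?_
    by_cases h : ε i = 0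
    · simp [(ha i).1, h]
    · simp [(ha i).1, (ha i).2 h]
  · let e : A ≃ ({i // ε i = 0} → ZMod 2) × ZMod 2 :=
      { toFun := fun a => (fun i => (a.1.vec i.1).1, a.1.tail)
        invFun := fun p => ⟨⟨fun i => (if h : ε i = 0 then p.1 ⟨i, h⟩ else 0, 0), p.2⟩,
          fun i => ⟨rfl, fun h => dif_neg h⟩⟩
        left_inv := fun a => by
          refine Subtype.ext (PlaneGroup.ext (funext fun i => Prod.ext ?_ (a.2 i).1.symm) rfl)
          by_cases h : ε i = 0
          · exact dif_pos h
          · exact (dif_neg h).trans ((a.2 i).2 h).symm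
        right_inv := fun p => Prod.ext (funext fun i => dif_pos i.2) rfl }
    rw [Nat.card_congr e, Nat.card_eq_fintype_card, Fintype.card_prod, Fintype.card_fun, ZMod.card,
      Fintype.card_subtype, pow_succ]

/-- Both 2-ranks occur. -/
theorem exists_extraspecial_rank (n : ℕ) (hn : 1 ≤ n) (minus : Bool) :
    ∃ (E : Type) (_ : Group E) (_ : Finite E), Cfsg.IsExtraspecial 2 E ∧
      Nat.card E = 2 ^ (2 * n + 1) ∧
      sSup {k : ℕ | ∃ A : Subgroup E, Cfsg.IsElementaryAbelian 2 A ∧ Nat.card A = 2 ^ k} =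
        (if minus then n else n + 1) := by
  let ε : Fin n → ZMod 2 := if minus then Pi.single ⟨0, hn⟩ 1 else 0
  refine ⟨PlaneGroup ε, inferInstance, inferInstance, isExtraspecial_planeGroup hn,
    card_planeGroup, ?_⟩
  obtain ⟨A, hA, hcard⟩ := exists_elementary ε
  have hcnt : (Finset.univ.filter fun i => ε i = 0).card + 1 = if minus then n else n + 1 := by
    cases minus with
    | false => simp [ε]
    | true =>
      have : (Finset.univ.filter fun i : Fin n => ε i = 0) = Finset.univ.erase ⟨0, hn⟩ := by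
        ext i
        simp [ε, Pi.single_apply]
      rw [this, Finset.card_erase_of_mem (mem_univ _), card_univ, Fintype.card_fin]
      simp only [if_true]
      omega
  rw [hcnt] at hcard
  refine (IsGreatest.csSup_eq ⟨⟨A, hA, hcard⟩, ?_⟩)
  rintro k ⟨B, hB, hBk⟩
  obtain ⟨h1, h2⟩ := card_elementary_le hB
  rw [hBk] at h1 h2
  cases minus with
  | false => exact (Nat.pow_le_pow_iff_right Nat.one_lt_two).1 h1
  | true =>
    have hneg : (∏ i, if ε i = 0 then 2 else (-2 : ℤ)) < 0 := by
      rw [← Finset.mul_prod_erase univ _ (mem_univ (⟨0, hn⟩ : Fin n))]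
      refine mul_neg_of_neg_of_pos (by simp [ε]) (prod_pos fun i hi => ?_)
      have : ε i = 0 := by simp [ε, Finset.ne_of_mem_erase hi]
      simp [this]
    have := (Nat.pow_lt_pow_iff_right Nat.one_lt_two).1 (h2 hneg)
    simp only [if_true]
    omega

end CfsgLib.Transpositions
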