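import Cfsg.Prelude.Def_Classical

/-!
The derived group of `SU₃(2)` sits in the monomial matrices; it has a non-abelian subgroup of
order 27 and index at most two.
-/

set_option autoImplicit false

namespace CfsgLib.Transpositions.SUThreeTwo

open Cfsg
open scoped Matrix

/-- Addition table of the field with four elements. -/
def addT (a b : Fin 4) : Fin 4 := ![![0,1,2,3],![1,0,3,2],![2,3,0,1],![3,2,1,0]] a b
/-- Multiplication table of the field with four elements. -/
def mulT (a b : Fin 4) : Fin 4 := ![![0,0,0,0],![0,1,2,3],![0,2,3,1],![0,3,1,2]] a b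
/-- Hermitian product on triples. -/
def hermT (u v : Fin 3 → Fin 4) : Fin 4 :=
  addT (addT (mulT (u 0) (mulT (v 0) (v 0))) (mulT (u 1) (mulT (v 1) (v 1))))
    (mulT (u 2) (mulT (v 2) (v 2)))
/-- Product of the coordinates: zero for the vectors with a zero coordinate. -/
def classT (v : Fin 3 → Fin 4) : Fin 4 := mulT (mulT (v 0) (v 1)) (v 2)

theorem orth_class : ∀ a b : Fin 4 × Fin 4 × Fin 4,
    hermT ![a.1, a.2.1, a.2.2] ![a.1, a.2.1, a.2.2] = 1 →
    hermT ![b.1, b.2.1, b.2.2] ![b.1, b.2.1, b.2.2] = 1 →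
    hermT ![a.1, a.2.1, a.2.2] ![b.1, b.2.1, b.2.2] = 0 →
    classT ![a.1, a.2.1, a.2.2] = classT ![b.1, b.2.1, b.2.2] := by decide +kernel

set_option synthInstance.maxSize 2000 in
theorem same_class : ∀ a b : Fin 4 × Fin 4 × Fin 4,
    hermT ![a.1, a.2.1, a.2.2] ![a.1, a.2.1, a.2.2] = 1 →
    hermT ![b.1, b.2.1, b.2.2] ![b.1, b.2.1, b.2.2] = 1 →
    classT ![a.1, a.2.1, a.2.2] = classT ![b.1, b.2.1, b.2.2] →
    hermT ![a.1, a.2.1, a.2.2] ![b.1, b.2.1, b.2.2] = 0 ∨ ∃ l : Fin 4, l ≠ 0 ∧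
      a.1 = mulT l b.1 ∧ a.2.1 = mulT l b.2.1 ∧ a.2.2 = mulT l b.2.2 := by decide +kernel

theorem class_zero : ∀ a : Fin 4 × Fin 4 × Fin 4,
    hermT ![a.1, a.2.1, a.2.2] ![a.1, a.2.1, a.2.2] = 1 → classT ![a.1, a.2.1, a.2.2] = 0 →
    ∃ i : Fin 3, ∀ j : Fin 3, j ≠ i → ![a.1, a.2.1, a.2.2] j = 0 := by decide +kernel

theorem vec_eta (v : Fin 3 → Fin 4) : ![v 0, v 1, v 2] = v := by
  funext i; fin_cases i <;> rfl

/-- Matrix product over the table field. -/
def mulM (A B : Fin 3 → Fin 3 → Fin 4) : Fin 3 → Fin 3 → Fin 4 := fun i j =>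
  addT (addT (mulT (A i 0) (B 0 j)) (mulT (A i 1) (B 1 j))) (mulT (A i 2) (B 2 j))
/-- Identity matrix over the table field. -/
def oneM : Fin 3 → Fin 3 → Fin 4 := ![![1,0,0],![0,1,0],![0,0,1]]
/-- A three-cycle. -/
def cycM : Fin 3 → Fin 3 → Fin 4 := ![![0,0,1],![1,0,0],![0,1,0]]
/-- A transposition matrix. -/
def swapM : Fin 3 → Fin 3 → Fin 4 := ![![0,1,0],![1,0,0],![0,0,1]]
/-- Another transposition matrix. -/
def swapM' : Fin 3 → Fin 3 → Fin 4 := ![![0,0,1],![0,1,0],![1,0,0]]
/-- A diagonal matrix. -/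
def diagM : Fin 3 → Fin 3 → Fin 4 := ![![2,0,0],![0,3,0],![0,0,1]]
/-- The inverse of `diagM`. -/
def diagM' : Fin 3 → Fin 3 → Fin 4 := ![![3,0,0],![0,2,0],![0,0,1]]
/-- A scalar matrix. -/
def scalM : Fin 3 → Fin 3 → Fin 4 := ![![3,0,0],![0,3,0],![0,0,3]]
/-- Powers up to two. -/
def powM (A : Fin 3 → Fin 3 → Fin 4) : Fin 3 → (Fin 3 → Fin 3 → Fin 4) :=
  ![oneM, A, mulM A A]
/-- The product attached to a triple of exponents. -/
def codeM (p : Fin 3 × Fin 3 × Fin 3) : Fin 3 → Fin 3 → Fin 4 :=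
  mulM (powM cycM p.1) (mulM (powM diagM p.2.1) (powM scalM p.2.2))

theorem codeM_inj : ∀ p q, (∀ i j, codeM p i j = codeM q i j) → p = q := by decide +kernel

theorem exists_coords (F : Type*) [Field F] [Fintype F] (hF : Fintype.card F = 4) :
    ∃ ι : Fin 4 → F, Function.Bijective ι ∧ ι 0 = 0 ∧ ι 1 = 1 ∧
      (∀ a b, ι (addT a b) = ι a + ι b) ∧ ∀ a b, ι (mulT a b) = ι a * ι b := by
  classical
  have : CharP F 2 := charP_of_card_eq_prime_pow (f := 2) (p := 2) (by rw [hF]; norm_num)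
  obtain ⟨w, hw0, hw1⟩ : ∃ w : F, w ≠ 0 ∧ w ≠ 1 := by
    by_contra h
    push Not at h
    have hsub : (Finset.univ : Finset F) ⊆ {0, 1} := by
      intro x _
      by_cases hx : x = 0
      · simp [hx]
      · simp [h x hx]
    have := (Finset.card_le_card hsub).trans Finset.card_le_two
    rw [Finset.card_univ, hF] at this; omega
  have h4 : w ^ 3 = 1 := by
    have := FiniteField.pow_card_sub_one_eq_one w hw0
    simpa [hF] using this
  have h2 : (2 : F) = 0 := CharTwo.two_eq_zero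
  have hq : w ^ 2 + w + 1 = 0 := by
    have : (w - 1) * (w ^ 2 + w + 1) = 0 := by linear_combination h4
    exact (mul_eq_zero.1 this).resolve_left (sub_ne_zero.2 hw1)
  have hw2 : w + 1 ≠ 0 := fun h => hw1 (by linear_combination h - h2)
  refine ⟨![0, 1, w, w + 1], ?_, rfl, rfl, ?_, ?_⟩
  · rw [Fintype.bijective_iff_injective_and_card]
    refine ⟨?_, by simp [hF]⟩
    intro i j h
    fin_cases i <;> fin_cases j <;> simp [hw0, hw1, hw2, Ne.symm hw0, Ne.symm hw1, Ne.symm hw2] at h ⊢
  · intro a b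
    fin_cases a <;> fin_cases b <;> simp [addT] <;> grobner
  · intro a b
    fin_cases a <;> fin_cases b <;> simp [mulT] <;> grobner

section Field

variable {F : Type*} [Field F] [Fintype F]

/-- The matrix of an element of `SU₃`. -/
def mat (g : ↥(SU 3 F 2)) : Matrix (Fin 3) (Fin 3) F := (g.1).1

omit [Fintype F] in
theorem mat_mul (g h : ↥(SU 3 F 2)) : mat (g * h) = mat g * mat h := rfl

omit [Fintype F] in
theorem mat_one : mat (1 : ↥(SU 3 F 2)) = 1 := rfl

omit [Fintype F] in
theorem mat_inj {g h : ↥(SU 3 F 2)} (e : mat g = mat h) : g = h :=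
  Subtype.ext (Subtype.ext e)

omit [Fintype F] in
theorem herm_col (g : ↥(SU 3 F 2)) (j k : Fin 3) :
    hermForm 3 F 2 (fun i => mat g i j) (fun i => mat g i k) = if j = k then 1 else 0 := by
  have h := g.2 (Pi.single j 1) (Pi.single k 1)
  change hermForm 3 F 2 (mat g *ᵥ Pi.single j 1) (mat g *ᵥ Pi.single k 1) = _ at h
  simp only [Matrix.mulVec_single, Matrix.of_apply, Matrix.col_apply, MulOpposite.op_one,
    one_smul] at h
  refine h.trans ?_
  rw [hermForm]
  by_cases e : j = k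
  · subst e; simp [Pi.single_apply]
  · simp [Pi.single_apply, e, Ne.symm e, eq_comm]

/-- Every column has a single nonzero entry. -/
def IsMonomial (g : ↥(SU 3 F 2)) : Prop :=
  ∀ j i i' : Fin 3, mat g i j ≠ 0 → mat g i' j ≠ 0 → i = i'

/-- The nonzero entries lie on one broken diagonal. -/
def IsEven (g : ↥(SU 3 F 2)) : Prop :=
  ∃ k : Fin 3, ∀ i j : Fin 3, mat g i j ≠ 0 → i = j + k

/-- The nonzero entries lie on one broken antidiagonal. -/
def IsOdd (g : ↥(SU 3 F 2)) : Prop :=
  ∃ k : Fin 3, ∀ i j : Fin 3, mat g i j ≠ 0 → i + j = k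

omit [Fintype F] in
theorem exists_ne_zero_of_mul (g h : ↥(SU 3 F 2)) {i j : Fin 3} (e : mat (g * h) i j ≠ 0) :
    ∃ l, mat g i l ≠ 0 ∧ mat h l j ≠ 0 := by
  rw [mat_mul, Matrix.mul_apply] at e
  obtain ⟨l, -, hl⟩ := Finset.exists_ne_zero_of_sum_ne_zero e
  exact ⟨l, mul_ne_zero_iff.1 hl⟩

omit [Fintype F] in
theorem col_ne_zero (g : ↥(SU 3 F 2)) (j : Fin 3) : ∃ i, mat g i j ≠ 0 := by
  by_contra h
  push Not at h
  have := herm_col g j j
  simp [hermForm, h] at this

omit [Fintype F] in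
theorem monomial_cases {g : ↥(SU 3 F 2)} (hg : IsMonomial g) : IsEven g ∨ IsOdd g := by
  classical
  choose f hf using col_ne_zero g
  have hinj : Function.Injective f := by
    intro j k e
    by_contra hne
    have := herm_col g j k
    rw [if_neg hne, hermForm, Finset.sum_eq_single (f j)] at this
    · exact mul_ne_zero (hf j) (pow_ne_zero _ (e ▸ hf k)) this
    · intro i _ hi
      by_contra h
      exact hi (hg j i (f j) (left_ne_zero_of_mul h) (hf j))
    · simp
  have key : ∀ f : Fin 3 → Fin 3, Function.Injective f →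
      (∃ k, ∀ j, f j = j + k) ∨ ∃ k, ∀ j, f j + j = k := by decide +kernel
  rcases key f hinj with ⟨k, hk⟩ | ⟨k, hk⟩
  · exact Or.inl ⟨k, fun i j h => (hg j i (f j) h (hf j)).trans (hk j)⟩
  · exact Or.inr ⟨k, fun i j h => by rw [hg j i (f j) h (hf j)]; exact hk j⟩

omit [Fintype F] in
theorem odd_mul_odd {g h : ↥(SU 3 F 2)} (hg : IsOdd g) (hh : IsOdd h) : IsEven (g * h) := by
  obtain ⟨k, hk⟩ := hg
  obtain ⟨l, hl⟩ := hh
  refine ⟨k - l, fun i j e => ?_⟩
  obtain ⟨m, h1, h2⟩ := exists_ne_zero_of_mul g h e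
  rw [← hk i m h1, ← hl m j h2]; abel

/-- The diagonal-cyclic subgroup. -/
def evenGroup : Subgroup ↥(SU 3 F 2) :=
  Subgroup.closure {g | IsEven g}

theorem mem_evenGroup {g : ↥(SU 3 F 2)} : g ∈ (evenGroup : Subgroup ↥(SU 3 F 2)) ↔ IsEven g := by
  classical
  refine ⟨fun h => ?_, fun h => Subgroup.subset_closure h⟩
  have one : IsEven (1 : ↥(SU 3 F 2)) := ⟨0, fun i j e => by
    by_contra hne; simp at hne; exact e (by simp [mat_one, Matrix.one_apply, hne])⟩
  have mul : ∀ a b : ↥(SU 3 F 2), IsEven a → IsEven b → IsEven (a * b) := by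
    rintro a b ⟨k, hk⟩ ⟨l, hl⟩
    refine ⟨l + k, fun i j e => ?_⟩
    obtain ⟨m, h1, h2⟩ := exists_ne_zero_of_mul a b e
    rw [hk i m h1, hl m j h2]; abel
  have : Finite ↥(SU 3 F 2) := Finite.of_injective mat fun _ _ e => mat_inj e
  refine Subgroup.closure_induction (fun x hx => hx) one (fun a b _ _ => mul a b)
    (fun a _ ha => ?_) h
  have hp : ∀ n : ℕ, IsEven (a ^ n) := fun n => by
    induction n with
    | zero => simpa using one
    | succ n ih => rw [pow_succ]; exact mul _ _ ih ha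
  have e : a ^ (orderOf a - 1) * a = 1 := by
    rw [← pow_succ, Nat.sub_add_cancel (orderOf_pos a), pow_orderOf_eq_one]
  rw [← eq_inv_of_mul_eq_one_left e]
  exact hp _

theorem card_evenGroup_le (hF : Fintype.card F = 4) :
    Nat.card ↥(evenGroup : Subgroup ↥(SU 3 F 2)) ≤ 27 := by
  classical
  choose k hk using fun g : ↥(evenGroup : Subgroup ↥(SU 3 F 2)) => mem_evenGroup.1 g.2
  have hne : ∀ (g : ↥(evenGroup : Subgroup ↥(SU 3 F 2))) (j : Fin 3),
      mat (g : ↥(SU 3 F 2)) (j + k g) j ≠ 0 := fun g j => by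
    obtain ⟨i, hi⟩ := col_ne_zero g.1 j
    rwa [← hk g i j hi]
  let f : ↥(evenGroup : Subgroup ↥(SU 3 F 2)) → Fin 3 × Fˣ × Fˣ := fun g =>
    (k g, Units.mk0 _ (hne g 0), Units.mk0 _ (hne g 1))
  have hinj : Function.Injective f := by
    intro g h e
    simp only [f, Prod.mk.injEq, Units.mk0_inj] at e
    obtain ⟨ek, e0, e1⟩ := e
    have hdet : ∀ g : ↥(evenGroup : Subgroup ↥(SU 3 F 2)),
        mat g.1 (0 + k g) 0 * mat g.1 (1 + k g) 1 * mat g.1 (2 + k g) 2 = 1 := by
      intro g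
      have hd : (mat g.1).det = 1 := g.1.1.2
      have hz : ∀ i j, i ≠ j + k g → mat g.1 i j = 0 := fun i j hij => by
        by_contra hh; exact hij (hk g i j hh)
      rw [Matrix.det_fin_three] at hd
      generalize k g = k₀ at hz ⊢
      fin_cases k₀ <;> simp_all <;> linear_combination hd
    have e2 : mat g.1 (2 + k g) 2 = mat h.1 (2 + k h) 2 := by
      have a1 := hdet g
      rw [e0, e1, ← hdet h] at a1
      exact mul_left_cancel₀ (mul_ne_zero (hne h 0) (hne h 1)) a1
    apply Subtype.ext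
    apply mat_inj
    ext i j
    by_cases hij : i = j + k g
    · subst hij
      have : ∀ j : Fin 3, mat g.1 (j + k g) j = mat h.1 (j + k h) j := fun j => by
        fin_cases j <;> assumption
      rw [this j, ek]
    · have h1 : mat g.1 i j = 0 := by by_contra hh; exact hij (hk g i j hh)
      have h2 : mat h.1 i j = 0 := by by_contra hh; exact hij (ek ▸ hk h i j hh)
      rw [h1, h2]
  refine (Nat.card_le_card_of_injective f hinj).trans ?_
  simp [Fintype.card_units, hF]

/-- The derived group of `SU₃(2)` consists of monomial matrices. -/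
theorem commutator_le_monomial (hF : Fintype.card F = 4) :
    ∀ g ∈ commutator ↥(SU 3 F 2), IsMonomial g := by
  classical
  obtain ⟨ι, hι, h0, h1, hadd, hmul⟩ := exists_coords F hF
  let e : F → Fin 4 := Function.surjInv hι.2
  have he : ∀ x, ι (e x) = x := Function.surjInv_eq hι.2
  let col : ↥(SU 3 F 2) → Fin 3 → (Fin 3 → Fin 4) := fun g j i => e (mat g i j)
  have hherm : ∀ g h j k, ι (hermT (col g j) (col h k))
      = hermForm 3 F 2 (fun i => mat g i j) (fun i => mat h i k) := by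
    intro g h j k
    simp [hermT, hadd, hmul, col, he, hermForm, Fin.sum_univ_three, pow_two]
  have hunit : ∀ g j, hermT (col g j) (col g j) = 1 := fun g j =>
    hι.1 (by rw [hherm, herm_col, h1, if_pos rfl])
  have horth : ∀ g j k, j ≠ k → hermT (col g j) (col g k) = 0 := fun g j k hne =>
    hι.1 (by rw [hherm, herm_col, h0, if_neg hne])
  let cl : ↥(SU 3 F 2) → Fin 4 := fun g => classT (col g 0)
  have hcl : ∀ g j, classT (col g j) = cl g := by
    intro g j
    by_cases hj : j = 0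
    · rw [hj]
    · have := orth_class (col g j 0, col g j 1, col g j 2) (col g 0 0, col g 0 1, col g 0 2)
      simp only [vec_eta] at this
      exact this (hunit g j) (hunit g 0) (horth g j 0 hj)
  have mono_iff : ∀ g, cl g = 0 → IsMonomial g := by
    intro g hg j i i' hi hi'
    have := class_zero (col g j 0, col g j 1, col g j 2)
    simp only [vec_eta] at this
    obtain ⟨m, hm⟩ := this (hunit g j) (by rw [hcl, hg])
    have key : ∀ l, mat g l j ≠ 0 → l = m := fun l hl => by
      by_contra hne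
      exact hl (by rw [← he (mat g l j), show e (mat g l j) = 0 from hm l hne, h0])
    rw [key i hi, key i' hi']
  -- two elements of one class differ by a monomial element
  have diff : ∀ g h, cl g = cl h → IsMonomial (h⁻¹ * g) := by
    intro g h hgh j i i' hi hi'
    by_contra hne
    have hexp : ∀ l j, hermForm 3 F 2 (fun r => mat g r j) (fun r => mat h r l)
        = mat (h⁻¹ * g) l j := by
      intro l j
      set m := h⁻¹ * g with hm
      have hg' : mat g = mat h * mat m := by rw [← mat_mul, hm, mul_inv_cancel_left]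
      have := h.2 (fun r => mat m r j) (Pi.single l 1)
      change hermForm 3 F 2 (mat h *ᵥ fun r => mat m r j) (mat h *ᵥ Pi.single l 1) = _ at this
      simp only [Matrix.mulVec_single, Matrix.col_apply, MulOpposite.op_one, one_smul] at this
      rw [show (fun r => mat g r j) = mat h *ᵥ (fun r => mat m r j) by
        funext r; simp [hg', Matrix.mul_apply, Matrix.mulVec, dotProduct]]
      refine this.trans ?_
      simp [hermForm, Pi.single_apply]
    have prop : ∀ l, mat (h⁻¹ * g) l j ≠ 0 →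
        ∃ c : Fin 4, c ≠ 0 ∧ ∀ r, mat g r j = ι c * mat h r l := by
      intro l hl
      have hs := same_class (col g j 0, col g j 1, col g j 2) (col h l 0, col h l 1, col h l 2)
      simp only [vec_eta] at hs
      rcases hs (hunit g j) (hunit h l) (by rw [hcl, hcl, hgh]) with z | ⟨c, hc, e0, e1, e2⟩
      · exfalso; apply hl
        rw [← hexp, ← hherm, z, h0]
      · refine ⟨c, hc, fun r => ?_⟩
        have : col g j r = mulT c (col h l r) := by fin_cases r <;> assumption
        rw [← he (mat g r j), show e (mat g r j) = _ from this, hmul, he]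
    obtain ⟨c, hc, ec⟩ := prop i hi
    obtain ⟨c', hc', ec'⟩ := prop i' hi'
    have hc0 : ι c ≠ 0 := fun z => hc (hι.1 (z.trans h0.symm))
    have o : hermForm 3 F 2 (fun r => mat h r i) (fun r => mat h r i') = 0 := by
      rw [herm_col, if_neg hne]
    apply hi'
    rw [← hexp]
    simp only [hermForm, ec, mul_assoc, ← Finset.mul_sum] at o ⊢
    rw [o, mul_zero]
  -- left multiplication by a monomial element preserves the class
  have lmul : ∀ m g, IsMonomial m → cl (m * g) = cl g := by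
    intro m g hm
    apply hι.1
    simp only [cl, classT, hmul, col, he, mat_mul]
    obtain ⟨k, hk⟩ | ⟨k, hk⟩ := monomial_cases hm <;>
    · have hd : (mat m).det = 1 := m.1.2
      have hc2 : CharP F 2 := charP_of_card_eq_prime_pow (f := 2) (p := 2) (by rw [hF]; norm_num)
      rw [Matrix.det_fin_three] at hd
      have h00 := mt (hk 0 0); have h01 := mt (hk 0 1); have h02 := mt (hk 0 2)
      have h10 := mt (hk 1 0); have h11 := mt (hk 1 1); have h12 := mt (hk 1 2)
      have h20 := mt (hk 2 0); have h21 := mt (hk 2 1); have h22 := mt (hk 2 2)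
      fin_cases k <;> simp at h00 h01 h02 h10 h11 h12 h20 h21 h22 <;>
        simp_all [Matrix.mul_apply, Fin.sum_univ_three, CharTwo.neg_eq, CharTwo.sub_eq_add] <;>
        linear_combination (mat g 0 0 * mat g 1 0 * mat g 2 0) * hd
  have hone : cl (1 : ↥(SU 3 F 2)) = 0 := hι.1 (by simp [cl, classT, hmul, col, he, mat_one, h0])
  have hiff : ∀ g, IsMonomial g ↔ cl g = 0 := fun g =>
    ⟨fun h => by rw [← mul_one g, lmul g 1 h, hone], mono_iff g⟩
  let M : Subgroup ↥(SU 3 F 2) :=
    { carrier := {g | IsMonomial g}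
      mul_mem' := fun {a b} ha hb => (hiff _).2 (by rw [lmul a b ha]; exact (hiff b).1 hb)
      one_mem' := (hiff 1).2 hone
      inv_mem' := fun {a} ha => (hiff _).2 (by
        have := lmul a a⁻¹ ha; rw [mul_inv_cancel, hone] at this; exact this.symm) }
  have hn : M.Normal := ⟨fun m hm g => by
    have h := diff (m * g⁻¹) g⁻¹ (lmul m g⁻¹ hm)
    rwa [inv_inv, ← mul_assoc] at h⟩
  have hcard : Nat.card (↥(SU 3 F 2) ⧸ M) ≤ 4 := by
    let f : ↥(SU 3 F 2) ⧸ M → Fin 4 := fun q => cl q.out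
    have : Function.Injective f := by
      intro p q e
      rw [← p.out_eq, ← q.out_eq]
      exact (QuotientGroup.eq.2 (diff p.out q.out e)).symm
    simpa using Nat.card_le_card_of_injective f this
  intro g hg
  have hcomm : IsMulCommutative (↥(SU 3 F 2) ⧸ M) := by
    have : Finite ↥(SU 3 F 2) := Finite.of_injective mat fun _ _ e => mat_inj e
    have hpos : 0 < Nat.card (↥(SU 3 F 2) ⧸ M) := Nat.card_pos
    rcases (by omega : Nat.card (↥(SU 3 F 2) ⧸ M) = 1 ∨ Nat.card (↥(SU 3 F 2) ⧸ M) = 2 ∨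
      Nat.card (↥(SU 3 F 2) ⧸ M) = 3 ∨ Nat.card (↥(SU 3 F 2) ⧸ M) = 4) with h | h | h | h
    · have := (Nat.card_eq_one_iff_unique.1 h).1
      exact .of_comm fun a b => Subsingleton.elim _ _
    · have : Fact (Nat.Prime 2) := ⟨Nat.prime_two⟩
      have := isCyclic_of_prime_card h
      exact .of_comm fun a b => IsCyclic.commGroup.mul_comm a b
    · have : Fact (Nat.Prime 3) := ⟨Nat.prime_three⟩
      have := isCyclic_of_prime_card h
      exact .of_comm fun a b => IsCyclic.commGroup.mul_comm a b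
    · have : Fact (Nat.Prime 2) := ⟨Nat.prime_two⟩
      exact IsPGroup.isMulCommutative_of_card_eq_prime_sq (p := 2) (by rw [h]; norm_num)
  have hcm : commutator ↥(SU 3 F 2) ≤ M :=
    Subgroup.Normal.quotient_commutative_iff_commutator_le.1 hcomm
  exact hcm hg

omit [Fintype F] in
/-- An element of `SU₃` from a matrix. -/
theorem exists_elt (A : Matrix (Fin 3) (Fin 3) F) (hd : A.det = 1)
    (hc : ∀ u v, hermForm 3 F 2 (A *ᵥ u) (A *ᵥ v) = hermForm 3 F 2 u v) :
    ∃ g : ↥(SU 3 F 2), mat g = A :=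
  ⟨⟨⟨A, hd⟩, fun u v => hc u v⟩, rfl⟩

set_option maxHeartbeats 1000000 in
/-- Structure of the derived group of `SU₃(2)`. -/
theorem derived_structure (hF : Fintype.card F = 4) :
    ∃ P : Subgroup ↥(commutator ↥(SU 3 F 2)), Nat.card P = 27 ∧
      (∀ a b, a ∉ P → b ∉ P → a * b ∈ P) ∧ ∃ x ∈ P, ∃ y ∈ P, x * y ≠ y * x := by
  classical
  obtain ⟨ι, hι, h0, h1, hadd, hmul⟩ := exists_coords F hF
  let L : (Fin 3 → Fin 3 → Fin 4) → Matrix (Fin 3) (Fin 3) F :=
    fun A => Matrix.of fun i j => ι (A i j)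
  have Lapply : ∀ A i j, L A i j = ι (A i j) := fun _ _ _ => rfl
  have Lmul : ∀ A B, L A * L B = L (mulM A B) := fun A B => by
    ext i j; simp [L, Matrix.mul_apply, Fin.sum_univ_three, mulM, hadd, hmul]
  have Linj : ∀ A B, L A = L B → ∀ i j, A i j = B i j := fun A B e i j =>
    hι.1 (congrFun₂ e i j)
  have Lone : L oneM = 1 := by
    ext i j; fin_cases i <;> fin_cases j <;> simp [L, oneM, h0, h1]
  have hneg : ∀ x : F, -x = x := by
    have : CharP F 2 := charP_of_card_eq_prime_pow (f := 2) (p := 2) (by rw [hF]; norm_num)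
    exact CharTwo.neg_eq
  have ww' : ι 2 * ι 3 = 1 := by rw [← hmul, show mulT 2 3 = 1 by decide, h1]
  have cube : ∀ x : Fin 4, x ≠ 0 → ι x * ι x ^ 2 = 1 := fun x hx => by
    rw [pow_two, ← hmul, ← hmul, ← h1]; congr 1; revert x; decide
  obtain ⟨t₁, ht₁⟩ := exists_elt (F := F) (L swapM)
    (by simp [L, swapM, h0, h1, Matrix.det_fin_three, hneg])
    (fun u v => by
      simp [L, swapM, h0, h1, hermForm, Matrix.mulVec, dotProduct, Fin.sum_univ_three]; ring)
  obtain ⟨t₂, ht₂⟩ := exists_elt (F := F) (L swapM')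
    (by simp [L, swapM', h0, h1, Matrix.det_fin_three, hneg])
    (fun u v => by
      simp [L, swapM', h0, h1, hermForm, Matrix.mulVec, dotProduct, Fin.sum_univ_three]; ring)
  obtain ⟨a, ha⟩ := exists_elt (F := F) (L diagM)
    (by simp [L, diagM, h0, h1, Matrix.det_fin_three, ww'])
    (fun u v => by
      simp [L, diagM, h0, h1, hermForm, Matrix.mulVec, dotProduct, Fin.sum_univ_three]
      linear_combination (u 0 * v 0 ^ 2) * cube 2 (by decide) +
        (u 1 * v 1 ^ 2) * cube 3 (by decide))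
  obtain ⟨a', ha'⟩ := exists_elt (F := F) (L diagM')
    (by simp [L, diagM', h0, h1, Matrix.det_fin_three, mul_comm (ι 3), ww'])
    (fun u v => by
      simp [L, diagM', h0, h1, hermForm, Matrix.mulVec, dotProduct, Fin.sum_univ_three]
      linear_combination (u 0 * v 0 ^ 2) * cube 3 (by decide) +
        (u 1 * v 1 ^ 2) * cube 2 (by decide))
  have q1 : t₁⁻¹ = t₁ := inv_eq_of_mul_eq_one_right (mat_inj (by
    rw [mat_mul, mat_one, ht₁, Lmul, ← Lone]; congr 1; decide +kernel))
  have q2 : t₂⁻¹ = t₂ := inv_eq_of_mul_eq_one_right (mat_inj (by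
    rw [mat_mul, mat_one, ht₂, Lmul, ← Lone]; congr 1; decide +kernel))
  have qa : a⁻¹ = a' := inv_eq_of_mul_eq_one_right (mat_inj (by
    rw [mat_mul, mat_one, ha, ha', Lmul, ← Lone]; congr 1; decide +kernel))
  have hEven : ∀ (x : ↥(SU 3 F 2)) A, mat x = L A → ∀ k : Fin 3,
      (∀ i j, A i j ≠ 0 → i = j + k) → x ∈ (evenGroup : Subgroup ↥(SU 3 F 2)) :=
    fun x A hx k hA => mem_evenGroup.2 ⟨k, fun i j e => hA i j fun z => e (by
      rw [hx, Lapply, z, h0])⟩
  have cmem : ∀ x y : ↥(SU 3 F 2), x * y * x⁻¹ * y⁻¹ ∈ commutator ↥(SU 3 F 2) := fun x y =>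
    Subgroup.commutator_mem_commutator (Subgroup.mem_top x) (Subgroup.mem_top y)
  set s := t₁ * t₂ * t₁⁻¹ * t₂⁻¹ with hs
  have hsm : mat s = L cycM := by
    rw [hs, q1, q2]; simp only [mat_mul, ht₁, ht₂, Lmul]; congr 1; decide +kernel
  have ham : a = t₁ * a * t₁⁻¹ * a⁻¹ := mat_inj (by
    rw [q1, qa]; simp only [mat_mul, ht₁, ha, ha', Lmul]; congr 1; decide +kernel)
  have hS : s ∈ commutator ↥(SU 3 F 2) := cmem _ _
  have hA : a ∈ commutator ↥(SU 3 F 2) := by rw [ham]; exact cmem _ _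
  let P : Subgroup ↥(commutator ↥(SU 3 F 2)) := evenGroup.subgroupOf _
  have hsP : (⟨s, hS⟩ : ↥(commutator ↥(SU 3 F 2))) ∈ P := hEven _ _ hsm 1 (by decide +kernel)
  have haP : (⟨a, hA⟩ : ↥(commutator ↥(SU 3 F 2))) ∈ P := hEven _ _ ha 0 (by decide +kernel)
  refine ⟨P, ?_, ?_, _, hsP, _, haP, ?_⟩
  · apply le_antisymm
    · have : Finite ↥(SU 3 F 2) := Finite.of_injective mat fun _ _ e => mat_inj e
      exact (Nat.card_le_card_of_injective (fun p : ↥P => (⟨(p : ↥(SU 3 F 2)), p.2⟩ :
        ↥(evenGroup : Subgroup ↥(SU 3 F 2)))) (fun p q e =>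
          Subtype.ext (Subtype.ext (congrArg (fun t : ↥evenGroup => (t : ↥(SU 3 F 2))) e)))).trans (card_evenGroup_le hF)
    · have hz : s * a * s⁻¹ * a⁻¹ ∈ commutator ↥(SU 3 F 2) := cmem _ _
      set z := s * a * s⁻¹ * a⁻¹ with hzdef
      have hsinv : s⁻¹ = s * s := inv_eq_of_mul_eq_one_right (mat_inj (by
        rw [show mat (s * (s * s)) = mat s * (mat s * mat s) from rfl, mat_one, hsm, Lmul, Lmul,
          ← Lone]
        congr 1; decide +kernel))
      have hzm : mat z = L scalM := by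
        rw [hzdef, hsinv, qa]
        rw [show mat (s * a * (s * s) * a') = mat s * mat a * (mat s * mat s) * mat a' from rfl,
          hsm, ha, ha']
        simp only [Lmul]; congr 1; decide +kernel
      have hzP : (⟨z, hz⟩ : ↥(commutator ↥(SU 3 F 2))) ∈ P := hEven _ _ hzm 0 (by decide +kernel)
      have hpow : ∀ (x : ↥(SU 3 F 2)) (A : Fin 3 → Fin 3 → Fin 4), mat x = L A → ∀ n : Fin 3,
          mat (x ^ (n : ℕ)) = L (powM A n) := by
        intro x A hx n
        fin_cases n
        · simp [powM, mat_one, Lone]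
        · simp [powM, hx]
        · simp [powM, pow_two, mat_mul, hx, Lmul]
      let g : Fin 3 × Fin 3 × Fin 3 → ↥P := fun p =>
        ⟨_, hsP⟩ ^ (p.1 : ℕ) * (⟨_, haP⟩ ^ (p.2.1 : ℕ) * ⟨_, hzP⟩ ^ (p.2.2 : ℕ))
      have hg : Function.Injective g := by
        intro p q e
        have e' := congrArg (fun x : ↥P => mat (x : ↥(SU 3 F 2))) e
        simp only [g, Subgroup.coe_mul, SubmonoidClass.coe_pow, mat_mul, hpow _ _ hsm,
          hpow _ _ ha, hpow _ _ hzm, Lmul] at e'
        exact codeM_inj p q (Linj _ _ e')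
      simpa using Nat.card_le_card_of_injective g hg
  · intro x y hx hy
    have ho : ∀ x : ↥(commutator ↥(SU 3 F 2)), x ∉ P → IsOdd (x : ↥(SU 3 F 2)) := fun x hx =>
      (monomial_cases (commutator_le_monomial hF _ x.2)).resolve_left
        fun h => hx (mem_evenGroup.2 h)
    exact mem_evenGroup.2 (odd_mul_odd (ho x hx) (ho y hy))
  · intro e
    have e' := congrArg (fun x : ↥(commutator ↥(SU 3 F 2)) => mat (x : ↥(SU 3 F 2))) e
    simp only [Subgroup.coe_mul, mat_mul, hsm, ha, Lmul] at e'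
    exact absurd (Linj _ _ e') (by decide +kernel)

end Field

end CfsgLib.Transpositions.SUThreeTwo
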