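import Cfsg.Prelude.Def_SporadicB
import Cfsg.Agent.FgsSix.SmallOrders
import Mathlib

/-!
# The quotient by the 2-core of a 3-transposition group of type `O_{2,3,2}`

Let `K` be a finite group with a normal 3-subgroup `P` of index two, `t ∉ P` an involution, and
suppose that `K` acts on an elementary abelian 2-group `V`, faithfully on `P`, in such a way that
`t` fixes every fixed vector of every non-trivial element of `P` inverted by `t`.  Then `P` has
order 3 or is generated by two inverted elements with central commutator of order 3.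
-/

set_option autoImplicit false

namespace CfsgLib.Transpositions.ThreeQuotient

/-! ## Groups of order 54 with the relations of the derived group of `SU₃(2)` -/

section Relations

/-- Relations of the derived group of `SU₃(2)`. -/
structure Rels {M : Type*} [Group M] (t x y z : M) : Prop where
  tt : t * t = 1
  xxx : x ^ 3 = 1
  yyy : y ^ 3 = 1
  zzz : z ^ 3 = 1
  tx : t * x = x ^ 2 * t
  ty : t * y = y ^ 2 * t
  tz : t * z = z * t
  xz : x * z = z * x
  yz : y * z = z * y
  xy : x * y = y * x * z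

variable {M : Type*} [Group M] {t x y z : M}

/-- The normal form. -/
def nf (t x y z : M) (c : Fin 3 × Fin 3 × Fin 3 × Fin 2) : M :=
  y ^ (c.1 : ℕ) * x ^ (c.2.1 : ℕ) * z ^ (c.2.2.1 : ℕ) * t ^ (c.2.2.2 : ℕ)

theorem Rels.inv_eq (h : Rels t x y z) :
    t⁻¹ = t ∧ x⁻¹ = x ^ 2 ∧ y⁻¹ = y ^ 2 := by
  refine ⟨inv_eq_of_mul_eq_one_right h.tt, inv_eq_of_mul_eq_one_right ?_,
    inv_eq_of_mul_eq_one_right ?_⟩
  · rw [← pow_succ']; exact h.xxx
  · rw [← pow_succ']; exact h.yyy

theorem Rels.t_pow (h : Rels t x y z) (n : ℕ) :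
    t * x ^ n = x ^ (2 * n) * t ∧ t * y ^ n = y ^ (2 * n) * t := by
  constructor
  · rw [pow_mul]; exact (SemiconjBy.pow_right (show SemiconjBy t x (x ^ 2) from h.tx) n).eq
  · rw [pow_mul]; exact (SemiconjBy.pow_right (show SemiconjBy t y (y ^ 2) from h.ty) n).eq

theorem Rels.x_mul_y_pow (h : Rels t x y z) (n : ℕ) : x * y ^ n = y ^ n * x * z ^ n := by
  induction n with
  | zero => simp
  | succ n ih =>
    have hzy : z ^ n * y = y * z ^ n := ((show Commute z y from h.yz.symm).pow_left n).eq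
    calc x * y ^ (n + 1) = y ^ n * x * z ^ n * y := by rw [pow_succ, ← mul_assoc, ih]
      _ = y ^ n * (x * y) * z ^ n := by simp only [mul_assoc, hzy]
      _ = y ^ n * (y * x * z) * z ^ n := by rw [h.xy]
      _ = y ^ (n + 1) * x * z ^ (n + 1) := by
          simp only [pow_succ y n, pow_succ' z n, mul_assoc]

/-- Any element of the subgroup generated by `t, x, y` has a normal form. -/
theorem Rels.exists_nf (h : Rels t x y z) {g : M} (hg : g ∈ Subgroup.closure ({t, x, y} : Set M)) :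
    ∃ c, nf t x y z c = g := by
  have red : ∀ a b c d : ℕ, ∃ e, nf t x y z e = y ^ a * x ^ b * z ^ c * t ^ d := by
    intro a b c d
    refine ⟨(⟨a % 3, Nat.mod_lt _ (by norm_num)⟩, ⟨b % 3, Nat.mod_lt _ (by norm_num)⟩,
      ⟨c % 3, Nat.mod_lt _ (by norm_num)⟩, ⟨d % 2, Nat.mod_lt _ (by norm_num)⟩), ?_⟩
    simp only [nf]
    rw [← pow_eq_pow_mod a h.yyy, ← pow_eq_pow_mod b h.xxx, ← pow_eq_pow_mod c h.zzz,
      ← pow_eq_pow_mod d (show t ^ 2 = 1 by rw [pow_two]; exact h.tt)]
  suffices ∃ a b c d : ℕ, g = y ^ a * x ^ b * z ^ c * t ^ d by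
    obtain ⟨a, b, c, d, rfl⟩ := this
    exact red a b c d
  have stepy : ∀ a b c d : ℕ, y * (y ^ a * x ^ b * z ^ c * t ^ d) =
      y ^ (a + 1) * x ^ b * z ^ c * t ^ d := fun a b c d => by
    rw [pow_succ']; simp only [mul_assoc]
  have stepx : ∀ a b c d : ℕ, x * (y ^ a * x ^ b * z ^ c * t ^ d) =
      y ^ a * x ^ (b + 1) * z ^ (a + c) * t ^ d := fun a b c d => by
    have hc : z ^ a * x ^ b = x ^ b * z ^ a :=
      (((show Commute z x from h.xz.symm).pow_left a).pow_right b).eq
    calc x * (y ^ a * x ^ b * z ^ c * t ^ d) = x * y ^ a * x ^ b * z ^ c * t ^ d := by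
          simp only [mul_assoc]
      _ = y ^ a * x * (z ^ a * x ^ b) * z ^ c * t ^ d := by
          rw [h.x_mul_y_pow]; simp only [mul_assoc]
      _ = y ^ a * x ^ (b + 1) * z ^ (a + c) * t ^ d := by
          rw [hc, pow_succ', pow_add]; simp only [mul_assoc]
  have stept : ∀ a b c d : ℕ, t * (y ^ a * x ^ b * z ^ c * t ^ d) =
      y ^ (2 * a) * x ^ (2 * b) * z ^ c * t ^ (d + 1) := fun a b c d => by
    have hc : t * z ^ c = z ^ c * t := ((show Commute t z from h.tz).pow_right c).eq
    calc t * (y ^ a * x ^ b * z ^ c * t ^ d) = t * y ^ a * x ^ b * z ^ c * t ^ d := by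
          simp only [mul_assoc]
      _ = y ^ (2 * a) * (t * x ^ b) * z ^ c * t ^ d := by
          rw [(h.t_pow a).2]; simp only [mul_assoc]
      _ = y ^ (2 * a) * x ^ (2 * b) * (t * z ^ c) * t ^ d := by
          rw [(h.t_pow b).1]; simp only [mul_assoc]
      _ = y ^ (2 * a) * x ^ (2 * b) * z ^ c * t ^ (d + 1) := by
          rw [hc, pow_succ']; simp only [mul_assoc]
  induction hg using Subgroup.closure_induction_left with
  | one => exact ⟨0, 0, 0, 0, by simp⟩
  | mul_left s hs k _ ih =>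
    obtain ⟨a, b, c, d, rfl⟩ := ih
    rcases hs with rfl | rfl | rfl
    · exact ⟨_, _, _, _, stept a b c d⟩
    · exact ⟨_, _, _, _, stepx a b c d⟩
    · exact ⟨_, _, _, _, stepy a b c d⟩
  | inv_mul_cancel s hs k _ ih =>
    obtain ⟨a, b, c, d, rfl⟩ := ih
    obtain ⟨e1, e2, e3⟩ := h.inv_eq
    rcases hs with rfl | rfl | rfl
    · exact ⟨_, _, _, _, by rw [e1]; exact stept a b c d⟩
    · exact ⟨a, b + 1 + 1, a + (a + c), d, by rw [e2, pow_two, mul_assoc, stepx, stepx]⟩
    · exact ⟨a + 1 + 1, b, c, d, by rw [e3, pow_two, mul_assoc, stepy, stepy]⟩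

/-- Two groups of order 54 generated by elements satisfying the relations are isomorphic. -/
theorem Rels.nonempty_mulEquiv (h : Rels t x y z) {L : Type*} [Group L] [Finite M] [Finite L]
    {t' x' y' z' : L} (h' : Rels t' x' y' z')
    (hM : Subgroup.closure ({t, x, y} : Set M) = ⊤)
    (hL : Subgroup.closure ({t', x', y'} : Set L) = ⊤)
    (cM : Nat.card M = 54) (cL : Nat.card L = 54) : Nonempty (M ≃* L) := by
  have hp : Rels ((t, t') : M × L) (x, x') (y, y') (z, z') :=
    ⟨Prod.ext h.tt h'.tt, Prod.ext h.xxx h'.xxx, Prod.ext h.yyy h'.yyy, Prod.ext h.zzz h'.zzz,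
      Prod.ext h.tx h'.tx, Prod.ext h.ty h'.ty, Prod.ext h.tz h'.tz, Prod.ext h.xz h'.xz,
      Prod.ext h.yz h'.yz, Prod.ext h.xy h'.xy⟩
  set R := Subgroup.closure ({(t, t'), (x, x'), (y, y')} : Set (M × L)) with hR
  have hsM : Function.Surjective ((MonoidHom.fst M L).comp R.subtype) := by
    intro m
    have : R.map (MonoidHom.fst M L) = ⊤ := by
      rw [hR, MonoidHom.map_closure, Set.image_insert_eq, Set.image_insert_eq,
        Set.image_singleton, ← hM]
      rfl
    obtain ⟨r, hr, e⟩ := (this ▸ Subgroup.mem_top m : m ∈ R.map (MonoidHom.fst M L))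
    exact ⟨⟨r, hr⟩, e⟩
  have hsL : Function.Surjective ((MonoidHom.snd M L).comp R.subtype) := by
    intro m
    have : R.map (MonoidHom.snd M L) = ⊤ := by
      rw [hR, MonoidHom.map_closure, Set.image_insert_eq, Set.image_insert_eq,
        Set.image_singleton, ← hL]
      rfl
    obtain ⟨r, hr, e⟩ := (this ▸ Subgroup.mem_top m : m ∈ R.map (MonoidHom.snd M L))
    exact ⟨⟨r, hr⟩, e⟩
  choose f hf using fun r : ↥R => hp.exists_nf r.2
  have hc : Nat.card ↥R ≤ 54 := by
    have := Nat.card_le_card_of_injective f fun a b e => Subtype.ext (by rw [← hf a, ← hf b, e])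
    simpa using this
  have c1 : Nat.card ↥R = 54 :=
    le_antisymm hc (cM ▸ Nat.card_le_card_of_surjective _ hsM)
  have b1 : Function.Bijective ((MonoidHom.fst M L).comp R.subtype) :=
    (Nat.bijective_iff_surjective_and_card _).2 ⟨hsM, by rw [c1, cM]⟩
  have b2 : Function.Bijective ((MonoidHom.snd M L).comp R.subtype) :=
    (Nat.bijective_iff_surjective_and_card _).2 ⟨hsL, by rw [c1, cL]⟩
  exact ⟨(MulEquiv.ofBijective _ b1).symm.trans (MulEquiv.ofBijective _ b2)⟩

end Relations

/-! ## The module argument -/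

section Module

variable {V : Type*} [Group V]

/-- The orbit product of a vector under an automorphism of order three. -/
def nrm (X : MulAut V) (v : V) : V := v * X v * X (X v)

/-- A vector is the product of its five orbit products under a group of order nine. -/
theorem four_norms (hVc : ∀ a b : V, a * b = b * a) (hV2 : ∀ a : V, a * a = 1)
    {X U A B : MulAut V} {v : V}
    (hA : A v = X (U v)) (hAA : A (A v) = X (X (U (U v))))
    (hB : B v = X (X (U v))) (hBB : B (B v) = X (U (U v))) :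
    v = nrm X v * nrm U v * nrm A v * nrm B v * nrm X (nrm U v) := by
  let _ : CommGroup V := { (inferInstance : Group V) with mul_comm := hVc }
  have key : ∀ w a b c d e f g h : V, w =
      w * a * b * (w * c * d) * (w * e * f) * (w * g * h) *
        (w * c * d * (a * e * h) * (b * g * f)) := by
    intro w a b c d e f g h
    calc w = w * (w * w * (w * w)) * ((a * a) * (b * b) * (c * c) * (d * d) * (e * e) * (f * f) *
          (g * g) * (h * h)) := by simp only [hV2, mul_one]
      _ = _ := by ac_rfl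
  have e : nrm X (nrm U v) = v * U v * U (U v) * (X v * X (U v) * X (U (U v))) *
      (X (X v) * X (X (U v)) * X (X (U (U v)))) := by simp only [nrm, map_mul]
  rw [e]
  simp only [nrm]
  rw [hAA, hBB, hA, hB]
  exact key _ _ _ _ _ _ _ _ _

theorem nrm_fixed (hVc : ∀ a b : V, a * b = b * a) {X : MulAut V} {v : V}
    (h : X (X (X v)) = v) : X (nrm X v) = nrm X v := by
  simp only [nrm, map_mul, h]
  rw [hVc _ v, ← mul_assoc]

variable {K : Type*} [Group K] {P : Subgroup K} {t : K}

/-- The standing hypotheses. -/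
structure Setup (P : Subgroup K) (t : K) (ρ : K →* MulAut V) : Prop where
  comm : ∀ a b : V, a * b = b * a
  two : ∀ a : V, a * a = 1
  tt : t * t = 1
  normal : P.Normal
  cover : ∀ k : K, k ∈ P ∨ t * k ∈ P
  gen : P ≤ Subgroup.closure {u | u ∈ P ∧ t * u * t = u⁻¹}
  cube : ∀ u ∈ P, t * u * t = u⁻¹ → u ^ 3 = 1
  fix : ∀ u ∈ P, t * u * t = u⁻¹ → u ≠ 1 → ∀ v, ρ u v = v → ρ t v = v
  faithful : ∀ u ∈ P, ρ u = 1 → u = 1

variable {ρ : K →* MulAut V}

/-- `t` fixes the vectors on which two suitable inverted elements commute. -/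
theorem Setup.fixed_of_pair (S : Setup P t ρ) {x u c : K} (hx : x ∈ P) (hu : u ∈ P)
    (ix : t * x * t = x⁻¹) (iu : t * u * t = u⁻¹) (hc : ∀ k, Commute c k)
    (hxu : x * u = u * x * c)
    (hne : u ≠ 1 ∧ x ≠ 1 ∧ x * u * x ≠ 1 ∧ x * x * u * (x * x) ≠ 1) {v : V}
    (hv : ρ c v = v) : ρ t v = v := by
  have happ : ∀ (g h : K) (w : V), ρ (g * h) w = ρ g (ρ h w) := fun g h w => by
    rw [map_mul]; rfl
  have hone : ∀ w : V, ρ 1 w = w := fun w => by rw [map_one]; rfl
  have hinv : ∀ {g : K} {w : V}, ρ c w = w → ρ c (ρ g w) = ρ g w := fun {g w} h => by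
    rw [← happ, (hc g).eq, happ, h]
  have hcm : ∀ w : V, ρ c w = w → ρ u (ρ x w) = ρ x (ρ u w) := fun w h => by
    rw [← happ x u, hxu, happ, h, happ]
  have x3 : ∀ w, ρ x (ρ x (ρ x w)) = w := fun w => by
    rw [← happ, ← happ, show x * x * x = x ^ 3 by simp [pow_succ],
      S.cube x hx ix, hone]
  have u3 : ∀ w, ρ u (ρ u (ρ u w)) = w := fun w => by
    rw [← happ, ← happ, show u * u * u = u ^ 3 by simp [pow_succ],
      S.cube u hu iu, hone]
  have ti : ∀ g h : K, t * (g * h) * t = (t * g * t) * (t * h * t) := fun g h => by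
    simp [mul_assoc, reassoc_tt S.tt]
  have ib : t * (x * u * x) * t = (x * u * x)⁻¹ := by
    rw [ti, ti, ix, iu]; group
  have ia : t * (x * x * u * (x * x)) * t = (x * x * u * (x * x))⁻¹ := by
    rw [ti, ti, ti, ix, iu]; group
  have hb : x * u * x ∈ P := P.mul_mem (P.mul_mem hx hu) hx
  have ha : x * x * u * (x * x) ∈ P :=
    P.mul_mem (P.mul_mem (P.mul_mem hx hx) hu) (P.mul_mem hx hx)
  have eb : ∀ w, ρ c w = w → ρ (x * u * x) w = ρ x (ρ x (ρ u w)) := fun w h => by
    rw [happ, happ, hcm w h]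
  have ea : ∀ w, ρ c w = w → ρ (x * x * u * (x * x)) w = ρ x (ρ u w) := fun w h => by
    rw [happ, happ, happ, happ, hcm _ (hinv h), hcm w h, x3]
  have key := four_norms S.comm S.two (X := ρ x) (U := ρ u) (A := ρ (x * x * u * (x * x)))
    (B := ρ (x * u * x)) (v := v) (ea v hv)
    (by rw [ea v hv, ea _ (hinv (hinv hv)), hcm _ (hinv hv)])
    (eb v hv)
    (by rw [eb v hv, eb _ (hinv (hinv (hinv hv))), hcm _ (hinv (hinv hv)), hcm _ (hinv hv), x3])
  have n3 : ∀ g ∈ P, t * g * t = g⁻¹ → g ≠ 1 → ∀ w, ρ t (nrm (ρ g) w) = nrm (ρ g) w :=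
    fun g hg ig g1 w => S.fix g hg ig g1 _ (nrm_fixed S.comm (by
      rw [← happ, ← happ, show g * g * g = g ^ 3 by simp [pow_succ],
        S.cube g hg ig, hone]))
  rw [key, map_mul, map_mul, map_mul, map_mul, n3 x hx ix hne.2.1, n3 u hu iu hne.1,
    n3 _ ha ia hne.2.2.2, n3 _ hb ib hne.2.2.1, n3 x hx ix hne.2.1]
where
  reassoc_tt {t : K} (h : t * t = 1) : ∀ k : K, t * (t * k) = k := fun k => by
    rw [← mul_assoc, h, one_mul]

theorem Setup.t_t (S : Setup P t ρ) (k : K) : t * (t * k) = k := by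
  rw [← mul_assoc, S.tt, one_mul]

theorem Setup.conj_mul (S : Setup P t ρ) (g h : K) :
    t * (g * h) * t = (t * g * t) * (t * h * t) := by simp [mul_assoc, S.t_t]

theorem Setup.conj_mem (S : Setup P t ρ) {g : K} (hg : g ∈ P) : t * g * t ∈ P := by
  have h := S.normal.conj_mem g hg t
  rwa [inv_eq_of_mul_eq_one_right S.tt] at h

/-- A central vector space on which `t` is trivial is centralised by `P`. -/
theorem Setup.fixed_P (S : Setup P t ρ) {c : K} (hc : ∀ k, Commute c k)
    (h : ∀ w, ρ c w = w → ρ t w = w) {g : K} (hg : g ∈ P) {v : V} (hv : ρ c v = v) :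
    ρ g v = v := by
  have happ : ∀ (g h : K) (w : V), ρ (g * h) w = ρ g (ρ h w) := fun g h w => by
    rw [map_mul]; rfl
  have hone : ∀ w : V, ρ 1 w = w := fun w => by rw [map_one]; rfl
  suffices P ≤ { carrier := {g | ∀ w, ρ c w = w → ρ g w = w}
                 one_mem' := fun w _ => hone w
                 mul_mem' := fun {a b} ha hb w hw => by rw [happ, hb w hw, ha w hw]
                 inv_mem' := fun {a} ha w hw => by
                   conv_lhs => rw [← ha w hw]
                   rw [← happ, inv_mul_cancel, hone] : Subgroup K } from this hg v hv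
  refine le_trans S.gen ((Subgroup.closure_le _).2 ?_)
  rintro u ⟨hu, iu⟩ w hw
  have h1 : ρ c (ρ u w) = ρ u w := by rw [← happ, (hc u).eq, happ, hw]
  have e : ρ u⁻¹ w = ρ u w := by
    rw [← iu, happ, happ, h w hw]
    exact h _ h1
  calc ρ u w = ρ (u ^ 3) (ρ u w) := by rw [S.cube u hu iu, hone]
    _ = ρ u (ρ u (ρ u (ρ u w))) := by simp [pow_succ, map_mul]
    _ = w := by
      have : ρ u (ρ u w) = w := by
        conv_lhs => rw [← e]
        rw [← happ, mul_inv_cancel, hone]
      rw [this, this]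

/-- Commuting inverted elements lie in one cyclic subgroup. -/
theorem Setup.mem_of_commute (S : Setup P t ρ) {x u : K} (hx : x ∈ P) (hu : u ∈ P)
    (ix : t * x * t = x⁻¹) (iu : t * u * t = u⁻¹) (x1 : x ≠ 1) (h : Commute x u) :
    u = 1 ∨ u = x ∨ u = x * x := by
  by_contra hcon
  push Not at hcon
  obtain ⟨u1, u2, u3⟩ := hcon
  have x3 : x * (x * x) = 1 := by rw [← mul_assoc]; simpa [pow_succ] using S.cube x hx ix
  have hb : x * u * x ≠ 1 := fun e => u2 (by
    have : u * (x * x) = 1 := by rw [← mul_assoc, ← h.eq]; exact e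
    rw [eq_inv_of_mul_eq_one_left this]
    exact inv_eq_of_mul_eq_one_left x3)
  have ha : x * x * u * (x * x) ≠ 1 := fun e => u3 (by
    have : u * x = 1 := by
      rw [(h.mul_left h).eq, mul_assoc] at e
      simpa [mul_assoc, x3] using e
    rw [eq_inv_of_mul_eq_one_left this]
    exact inv_eq_of_mul_eq_one_right x3)
  apply x1
  refine S.faithful x hx (MulEquiv.ext fun v => ?_)
  exact S.fixed_P (c := 1) (fun k => Commute.one_left k) (fun w hw => S.fixed_of_pair hx hu ix iu
    (fun k => Commute.one_left k) (by rw [mul_one]; exact h.eq) ⟨u1, x1, hb, ha⟩ hw) hx (by simp)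

/-- The structure of `P`. -/
theorem Setup.structure (S : Setup P t ρ) [Finite K] (h3 : IsPGroup 3 P) (hne : P ≠ ⊥) :
    (∃ x ∈ P, t * x * t = x⁻¹ ∧ orderOf x = 3 ∧ Nat.card P = 3) ∨
    (∃ x y z : K, Rels t x y z ∧ Subgroup.closure ({t, x, y} : Set K) = ⊤ ∧
      Nat.card P = 27) := by
  classical
  haveI : Fact (Nat.Prime 3) := ⟨Nat.prime_three⟩
  have tinv : t⁻¹ = t := inv_eq_of_mul_eq_one_right S.tt
  -- squares detect the identity in `P`
  have sq1 : ∀ g ∈ P, g * g = 1 → g = 1 := by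
    intro g hg e
    obtain ⟨k, hk⟩ := h3 ⟨g, hg⟩
    have hk' : g ^ 3 ^ k = 1 := congrArg Subtype.val hk
    exact (pow_eq_one_iff_of_coprime (Nat.Coprime.pow_right k (by norm_num : Nat.Coprime 2 3))).1
      ⟨by rw [pow_two]; exact e, hk'⟩
  have inv2 : ∀ g : K, t * (g * (t * g⁻¹ * t)) * t = (g * (t * g⁻¹ * t))⁻¹ := fun g => by
    simp [mul_assoc, S.t_t, S.tt, tinv]
  by_cases hZ : ∃ z ∈ P, z ≠ 1 ∧ t * z * t = z⁻¹ ∧ ∀ g ∈ P, Commute z g
  · -- a central inverted element: `P` has order three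
    left
    obtain ⟨z, hz, z1, iz, zc⟩ := hZ
    have hord : orderOf z = 3 := orderOf_eq_prime (S.cube z hz iz) z1
    refine ⟨z, hz, iz, hord, ?_⟩
    have : P = Subgroup.zpowers z := by
      refine le_antisymm (le_trans S.gen ((Subgroup.closure_le _).2 ?_))
        (Subgroup.zpowers_le.2 hz)
      rintro u ⟨hu, iu⟩
      rcases S.mem_of_commute hz hu iz iu z1 (zc u hu) with e | e | e <;> subst e
      · exact Subgroup.one_mem _
      · exact Subgroup.mem_zpowers _
      · exact Subgroup.mul_mem _ (Subgroup.mem_zpowers _) (Subgroup.mem_zpowers _)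
    rw [this, Nat.card_zpowers, hord]
  right
  push Not at hZ
  have hfixZ : ∀ z ∈ P, (∀ g ∈ P, Commute z g) → t * z = z * t := by
    intro z hz zc
    have zc' : ∀ g ∈ P, Commute (t * z⁻¹ * t) g := fun g hg => by
      have h1 : Commute z⁻¹ (t * g * t) := (zc _ (S.conj_mem hg)).inv_left
      show t * z⁻¹ * t * g = g * (t * z⁻¹ * t)
      have h2 := congrArg (fun k => t * k * t) h1.eq
      simpa [mul_assoc, S.t_t, S.tt] using h2
    by_contra hne'
    have hw : z * (t * z⁻¹ * t) ∈ P := P.mul_mem hz (S.conj_mem (P.inv_mem hz))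
    obtain ⟨g, hg, hg'⟩ := hZ _ hw (fun e => hne' (by
      have h2 : t * z⁻¹ * t = z⁻¹ := (inv_eq_of_mul_eq_one_right e).symm
      have h4 := congrArg (·⁻¹) h2
      simp only [mul_inv_rev, inv_inv, tinv] at h4
      calc t * z = t * z * t * t := by rw [mul_assoc (t * z), S.tt, mul_one]
        _ = z * t := by rw [mul_assoc t z t, h4])) (inv2 z)
    exact hg' ((zc g hg).mul_left (zc' g hg))
  -- a non-central element of the second centre, and then an inverted one
  haveI : Nontrivial ↥P := (Subgroup.nontrivial_iff_ne_bot P).2 hne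
  obtain ⟨g₀, hg₀, hnc, hcz⟩ : ∃ g₀ ∈ P, (∃ h ∈ P, ¬ Commute g₀ h) ∧
      ∀ h ∈ P, ∀ k ∈ P, Commute ((h * g₀)⁻¹ * (g₀ * h)) k := by
    let C := Subgroup.center ↥P
    have hC : C ≠ ⊤ := by
      intro hC
      have hcomm : ∀ z ∈ P, ∀ g ∈ P, Commute z g := fun z hz g hg => by
        have hm : (⟨z, hz⟩ : ↥P) ∈ C := hC ▸ Subgroup.mem_top _
        exact (congrArg Subtype.val (Subgroup.mem_center_iff.1 hm ⟨g, hg⟩)).symm
      apply hne
      refine eq_bot_iff.2 (le_trans S.gen ((Subgroup.closure_le _).2 ?_))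
      rintro u ⟨hu, iu⟩
      by_contra hu1
      obtain ⟨g, hg, hg'⟩ := hZ u hu hu1 iu
      exact hg' (hcomm u hu g hg)
    haveI : Nontrivial (↥P ⧸ C) := QuotientGroup.nontrivial_iff.mpr hC
    haveI := (h3.to_quotient C).center_nontrivial
    obtain ⟨⟨q, hq⟩, hq1⟩ := exists_ne (1 : Subgroup.center (↥P ⧸ C))
    obtain ⟨g, rfl⟩ := QuotientGroup.mk_surjective q
    refine ⟨g, g.2, ?_, fun h hh k hk => ?_⟩
    · by_contra hall
      push Not at hall
      refine hq1 (Subtype.ext ((QuotientGroup.eq_one_iff g).2 ?_))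
      exact Subgroup.mem_center_iff.2 fun h => Subtype.ext (hall h h.2).eq.symm
    · have hm := Subgroup.mem_center_iff.1 hq (QuotientGroup.mk (⟨h, hh⟩ : ↥P))
      rw [← QuotientGroup.mk_mul, ← QuotientGroup.mk_mul, QuotientGroup.eq] at hm
      exact (congrArg Subtype.val (Subgroup.mem_center_iff.1 hm ⟨k, hk⟩)).symm
  set x := g₀ * (t * g₀⁻¹ * t) with hxdef
  have hx : x ∈ P := P.mul_mem hg₀ (S.conj_mem (P.inv_mem hg₀))
  have ix : t * x * t = x⁻¹ := inv2 g₀
  -- the commutator map of `g₀` and of `x`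
  have hc₀ : ∀ h ∈ P, t * ((h * g₀)⁻¹ * (g₀ * h)) = ((h * g₀)⁻¹ * (g₀ * h)) * t := fun h hh =>
    hfixZ _ (P.mul_mem (P.inv_mem (P.mul_mem hh hg₀)) (P.mul_mem hg₀ hh)) (hcz h hh)
  have hx1 : x ≠ 1 := by
    intro e
    have e' : t * g₀ * t = g₀ := by
      have h1 : t * g₀⁻¹ * t = g₀⁻¹ := (inv_eq_of_mul_eq_one_right e).symm
      have h4 := congrArg (·⁻¹) h1
      simpa [mul_inv_rev, tinv, mul_assoc] using h4
    obtain ⟨h, hh, hgh⟩ := hnc
    apply hgh
    suffices P ≤ Subgroup.centralizer ({g₀} : Set K) from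
      (Subgroup.mem_centralizer_singleton_iff.1 (this hh)).symm
    refine le_trans S.gen ((Subgroup.closure_le _).2 ?_)
    rintro u ⟨hu, iu⟩
    refine Subgroup.mem_centralizer_singleton_iff.2 ?_
    obtain ⟨c, hc⟩ : ∃ c, (u * g₀)⁻¹ * (g₀ * u) = c := ⟨_, rfl⟩
    have cdef : g₀ * u = u * g₀ * c := by rw [← hc, mul_inv_cancel_left]
    have cu : c * u = u * c := hc ▸ (hcz u hu u hu).eq
    have ct : t * c = c * t := hc ▸ hc₀ u hu
    have h1 : g₀ * u⁻¹ = u⁻¹ * g₀ * c := by
      have h2 := congrArg (fun k => t * k * t) cdef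
      simp only [S.conj_mul, iu, e'] at h2
      rw [ct] at h2
      simpa [mul_assoc, S.tt] using h2
    have h2 : g₀ * (c * c) = g₀ := by
      calc g₀ * (c * c) = u⁻¹ * (u * g₀ * c) * c := by simp [mul_assoc]
        _ = u⁻¹ * (g₀ * u) * c := by rw [cdef]
        _ = u⁻¹ * g₀ * c * u := by simp [mul_assoc, cu]
        _ = g₀ * u⁻¹ * u := by rw [h1]
        _ = g₀ := by simp
    have hc1 : c = 1 := sq1 c (hc ▸ P.mul_mem (P.inv_mem (P.mul_mem hu hg₀)) (P.mul_mem hg₀ hu))
      (mul_eq_left.1 h2)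
    rw [cdef, hc1, mul_one]
  let c : K → K := fun h => (h * x)⁻¹ * (x * h)
  have cdef : ∀ h, x * h = h * x * c h := fun h => (mul_inv_cancel_left _ _).symm
  have cP : ∀ h ∈ P, c h ∈ P := fun h hh =>
    P.mul_mem (P.inv_mem (P.mul_mem hh hx)) (P.mul_mem hx hh)
  have cZ : ∀ h ∈ P, ∀ k ∈ P, Commute (c h) k := by
    intro h hh k hk
    -- conjugate the statement for `g₀` by `t`
    have htg : t * g₀⁻¹ * t ∈ P := S.conj_mem (P.inv_mem hg₀)
    have hinvg : ∀ h ∈ P, ∀ k ∈ P, Commute ((h * g₀⁻¹)⁻¹ * (g₀⁻¹ * h)) k := by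
      intro h hh k hk
      have e : (h * g₀⁻¹)⁻¹ * (g₀⁻¹ * h) = g₀ * ((h * g₀)⁻¹ * (g₀ * h))⁻¹ * g₀⁻¹ := by group
      have e' : g₀ * ((h * g₀)⁻¹ * (g₀ * h))⁻¹ * g₀⁻¹ = ((h * g₀)⁻¹ * (g₀ * h))⁻¹ := by
        rw [← ((hcz h hh g₀ hg₀).inv_left).eq]; group
      rw [e, e']
      exact (hcz h hh k hk).inv_left
    have hconj : ∀ h ∈ P, ∀ k ∈ P,
        Commute ((h * (t * g₀⁻¹ * t))⁻¹ * ((t * g₀⁻¹ * t) * h)) k := by
      intro h hh k hk
      have h1 := (hinvg _ (S.conj_mem hh) _ (S.conj_mem hk)).eq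
      have h2 := congrArg (fun j => t * j * t) h1
      simpa [Commute, SemiconjBy, mul_assoc, S.t_t, S.tt, tinv] using h2
    have ec : c h = (h * (t * g₀⁻¹ * t))⁻¹ * ((t * g₀⁻¹ * t) * h) * ((h * g₀)⁻¹ * (g₀ * h)) := by
      set n := t * g₀⁻¹ * t with hn
      have hd : g₀ * h = h * g₀ * ((h * g₀)⁻¹ * (g₀ * h)) := by group
      have he : n * h = h * n * ((h * n)⁻¹ * (n * h)) := by group
      have h5 : x * h = h * x * ((h * n)⁻¹ * (n * h) * ((h * g₀)⁻¹ * (g₀ * h))) := by
        set a := (h * g₀)⁻¹ * (g₀ * h) with ha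
        set b := (h * n)⁻¹ * (n * h) with hb
        have hab : a * n = n * a := (hcz h hh n htg).eq
        have hab2 : a * b = b * a := (hconj h hh a
          (P.mul_mem (P.inv_mem (P.mul_mem hh hg₀)) (P.mul_mem hg₀ hh))).eq.symm
        calc x * h = g₀ * (n * h) := by rw [hxdef, mul_assoc]
          _ = g₀ * h * n * b := by rw [he]; simp [mul_assoc]
          _ = h * g₀ * (a * n) * b := by rw [hd]; simp [mul_assoc]
          _ = h * g₀ * n * (a * b) := by rw [hab]; simp [mul_assoc]
          _ = h * x * (b * a) := by rw [hab2, hxdef]; simp [mul_assoc]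
      show (h * x)⁻¹ * (x * h) = _
      rw [h5, inv_mul_cancel_left]
    rw [ec]
    exact (hconj h hh k hk).mul_left (hcz h hh k hk)
  have cK : ∀ h ∈ P, ∀ k, Commute (c h) k := by
    intro h hh k
    have ct : Commute (c h) t := (hfixZ _ (cP h hh) (cZ h hh)).symm
    rcases S.cover k with hk | hk
    · exact cZ h hh k hk
    · have := ct.mul_right (cZ h hh _ hk)
      rwa [S.t_t] at this
  have cmul : ∀ g h, g ∈ P → h ∈ P → c (g * h) = c g * c h := by
    intro g h hg hh
    have e : x * (g * h) = g * h * x * (c g * c h) := by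
      calc x * (g * h) = g * x * (c g * h) := by rw [← mul_assoc, cdef g, mul_assoc]
        _ = g * (x * h) * c g := by rw [(cK g hg h).eq]; simp [mul_assoc]
        _ = g * h * x * (c h * c g) := by rw [cdef h]; simp [mul_assoc]
        _ = g * h * x * (c g * c h) := by rw [(cK g hg (c h)).eq]
    show (g * h * x)⁻¹ * (x * (g * h)) = _
    rw [e, inv_mul_cancel_left]
  have c1 : ∀ h, c h = 1 ↔ Commute x h := fun h => by
    show (h * x)⁻¹ * (x * h) = 1 ↔ _
    rw [inv_mul_eq_one]; exact ⟨fun e => e.symm, fun e => e.eq.symm⟩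
  have cinv : ∀ h ∈ P, c (h⁻¹) = (c h)⁻¹ := fun h hh => by
    refine (inv_eq_of_mul_eq_one_right ?_).symm
    rw [← cmul h h⁻¹ hh (P.inv_mem hh), mul_inv_cancel]; exact (c1 1).2 (Commute.one_right x)
  have ccube : ∀ h ∈ P, c h ^ 3 = 1 := by
    intro h hh
    have hp : ∀ n : ℕ, x ^ n * h = h * x ^ n * c h ^ n := fun n => by
      induction n with
      | zero => simp
      | succ n ih =>
        calc x ^ (n + 1) * h = x * (h * x ^ n * c h ^ n) := by rw [pow_succ', mul_assoc, ih]
          _ = h * x * (c h * x ^ n) * c h ^ n := by rw [← mul_assoc, ← mul_assoc, cdef]; simp [mul_assoc]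
          _ = h * x ^ (n + 1) * c h ^ (n + 1) := by
              rw [(cK h hh (x ^ n)).eq, pow_succ' x, pow_succ' (c h)]; simp [mul_assoc]
    have := hp 3
    rw [S.cube x hx ix, one_mul, mul_one] at this
    exact (mul_eq_left.1 this.symm)
  -- inverted elements with a prescribed commutator
  have hlift : ∀ g ∈ P, ∃ u ∈ P, t * u * t = u⁻¹ ∧ c u = c g * c g := by
    intro g hg
    refine ⟨g * (t * g⁻¹ * t), P.mul_mem hg (S.conj_mem (P.inv_mem hg)), inv2 g, ?_⟩
    rw [cmul _ _ hg (S.conj_mem (P.inv_mem hg))]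
    congr 1
    set n := t * g⁻¹ * t with hn
    set a := c g with ha
    have h1 : x * g⁻¹ = g⁻¹ * x * a⁻¹ := by rw [ha, ← cinv g hg]; exact cdef _
    have ta : t * a⁻¹ * t = a⁻¹ := by
      rw [← ((cK g hg t).inv_left).eq, mul_assoc, S.tt, mul_one]
    have h2 : x⁻¹ * n = n * x⁻¹ * a⁻¹ := by
      have := congrArg (fun k => t * k * t) h1
      simp only [S.conj_mul, ix, ta] at this
      exact this
    have h3' : x * n = n * x * a := by
      refine Eq.symm ?_
      calc n * x * a = x * (x⁻¹ * n) * x * a := by rw [mul_inv_cancel_left]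
        _ = x * n * x⁻¹ * (a⁻¹ * x) * a := by rw [h2]; simp [mul_assoc]
        _ = x * n * x⁻¹ * (x * a⁻¹) * a := by rw [((cK g hg x).inv_left).eq]
        _ = x * n := by group
    show (n * x)⁻¹ * (x * n) = a
    rw [h3', inv_mul_cancel_left]
  obtain ⟨y, hy, iy, cy⟩ : ∃ y ∈ P, t * y * t = y⁻¹ ∧ c y ≠ 1 := by
    by_contra hall
    push Not at hall
    obtain ⟨g, hg, hg'⟩ := hZ x hx hx1 ix
    apply hg'
    suffices P ≤ Subgroup.centralizer ({x} : Set K) from
      (Subgroup.mem_centralizer_singleton_iff.1 (this hg)).symm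
    refine le_trans S.gen ((Subgroup.closure_le _).2 ?_)
    rintro u ⟨hu, iu⟩
    exact Subgroup.mem_centralizer_singleton_iff.2 ((c1 u).1 (hall u hu iu)).eq.symm
  set z := c y with hz
  -- `t` fixes the fixed vectors of a non-trivial commutator
  have hW : ∀ g ∈ P, c g ≠ 1 → ∀ w, ρ (c g) w = w → ρ t w = w := by
    intro g hg g1 w hw
    obtain ⟨u, hu, iu, cu⟩ := hlift g hg
    have cu1 : c u ≠ 1 := fun e => g1 (sq1 _ (cP g hg) (cu ▸ e))
    have nc : ¬ Commute x u := fun e => cu1 ((c1 u).2 e)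
    refine S.fixed_of_pair hx hu ix iu (cK u hu) (cdef u) ⟨?_, hx1, ?_, ?_⟩ (v := w) ?_
    · intro e; exact nc (e ▸ Commute.one_right x)
    · intro e
      refine nc ?_
      have : u = x⁻¹ * x⁻¹ := by
        calc u = x⁻¹ * (x * u * x) * x⁻¹ := by group
          _ = _ := by rw [e, mul_one]
      rw [this]; exact ((Commute.refl x).inv_right).mul_right ((Commute.refl x).inv_right)
    · intro e
      refine nc ?_
      have : u = (x * x)⁻¹ * (x * x)⁻¹ := by
        calc u = (x * x)⁻¹ * (x * x * u * (x * x)) * (x * x)⁻¹ := by group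
          _ = _ := by rw [e, mul_one]
      rw [this]
      have hxx := ((Commute.refl x).mul_right (Commute.refl x)).inv_right
      exact hxx.mul_right hxx
    · rw [cu, map_mul]; exact (congrArg _ hw).trans hw
  -- all commutators are powers of `z`
  have hcyc : ∀ g ∈ P, c g = 1 ∨ c g = z ∨ c g = z * z := by
    intro g hg
    by_contra hcon
    push Not at hcon
    obtain ⟨g1, g2, g3⟩ := hcon
    apply hx1
    refine S.faithful x hx (MulEquiv.ext fun v => ?_)
    refine S.fixed_P (c := 1) (fun k => Commute.one_left k) (fun w _ => ?_) hx (by simp)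
    have happ : ∀ (g h : K) (w : V), ρ (g * h) w = ρ g (ρ h w) := fun g h w => by
      rw [map_mul]; rfl
    have z3 := ccube y hy
    rw [← hz] at z3
    have hcc : Commute z (c g) := cK y hy (c g)
    have hb : c (y * y * g) = z * z * c g := by
      rw [cmul _ _ (P.mul_mem hy hy) hg, cmul _ _ hy hy]
    have ha : c (y * g) = z * c g := cmul _ _ hy hg
    have key := four_norms S.comm S.two (X := ρ z) (U := ρ (c g)) (A := ρ (z * c g))
      (B := ρ (z * z * c g)) (v := w) (happ _ _ _)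
      (by rw [← happ, show z * c g * (z * c g) = z * z * (c g * c g) from hcc.mul_mul_mul_comm _ _ |>.symm]
          simp)
      (by simp)
      (by rw [← happ]
          have : z * z * c g * (z * z * c g) = z * (c g * c g) := by
            calc z * z * c g * (z * z * c g) = z * z * (c g * (z * z)) * c g := by
                  simp [mul_assoc]
              _ = z ^ 3 * z * (c g * c g) := by
                  rw [← ((hcc.mul_left hcc)).eq]; simp [pow_succ, mul_assoc]
              _ = _ := by rw [z3, one_mul]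
          rw [this]; simp)
    have n3 : ∀ g ∈ P, c g ≠ 1 → ∀ w, ρ t (nrm (ρ (c g)) w) = nrm (ρ (c g)) w :=
      fun g hg g1 w => hW g hg g1 _ (nrm_fixed S.comm (by
        rw [← happ, ← happ, show c g * c g * c g = c g ^ 3 by simp [pow_succ],
          ccube g hg, map_one]; rfl))
    have a1 : c (y * g) ≠ 1 := fun e => g3 (by
      rw [ha] at e
      rw [← inv_eq_of_mul_eq_one_right e]
      exact inv_eq_of_mul_eq_one_right (by rw [← mul_assoc]; simpa [pow_succ] using z3))
    have b1 : c (y * y * g) ≠ 1 := fun e => g2 (by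
      rw [hb] at e
      rw [← inv_eq_of_mul_eq_one_right e]
      exact inv_eq_of_mul_eq_one_right (by simpa [pow_succ] using z3))
    rw [key]
    simp only [map_mul (ρ t)]
    rw [n3 y hy cy, n3 g hg g1, ← ha, n3 _ (P.mul_mem hy hg) a1, ← hb,
      n3 _ (P.mul_mem (P.mul_mem hy hy) hg) b1, n3 y hy cy]
  have z3 : z ^ 3 = 1 := ccube y hy
  have y3 := S.cube y hy iy
  have R : Rels t x y z := by
    refine ⟨S.tt, S.cube x hx ix, y3, z3, ?_, ?_, (cK y hy t).eq.symm, (cK y hy x).eq.symm,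
      (cK y hy y).eq.symm, cdef y⟩
    · rw [← inv_eq_of_mul_eq_one_right (show x * x ^ 2 = 1 by
        rw [← pow_succ']; exact S.cube x hx ix), ← ix, mul_assoc, S.tt, mul_one]
    · rw [← inv_eq_of_mul_eq_one_right (show y * y ^ 2 = 1 by
        rw [← pow_succ']; exact y3), ← iy, mul_assoc, S.tt, mul_one]
  have hle : P ≤ Subgroup.closure ({x, y} : Set K) := by
    refine le_trans S.gen ((Subgroup.closure_le _).2 ?_)
    rintro u ⟨hu, iu⟩
    have mx : x ∈ Subgroup.closure ({x, y} : Set K) := Subgroup.subset_closure (by simp)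
    have my : y ∈ Subgroup.closure ({x, y} : Set K) := Subgroup.subset_closure (by simp)
    have fin : ∀ u ∈ P, t * u * t = u⁻¹ → c u = 1 → u ∈ Subgroup.closure ({x, y} : Set K) := by
      intro u hu iu e
      rcases S.mem_of_commute hx hu ix iu hx1 ((c1 u).1 e) with e | e | e <;> subst e
      · exact Subgroup.one_mem _
      · exact mx
      · exact Subgroup.mul_mem _ mx mx
    rcases hcyc u hu with e | e | e
    · exact fin u hu iu e
    · have := fin (y * u * y) (P.mul_mem (P.mul_mem hy hu) hy)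
        (by rw [S.conj_mul, S.conj_mul, iy, iu]; group)
        (by rw [cmul _ _ (P.mul_mem hy hu) hy, cmul _ _ hy hu, e]; simpa [pow_succ] using z3)
      have h2 := Subgroup.mul_mem _ (Subgroup.mul_mem _ (Subgroup.inv_mem _ my) this)
        (Subgroup.inv_mem _ my)
      have e2 : y⁻¹ * (y * u * y) * y⁻¹ = u := by group
      rwa [e2] at h2
    · have := fin (y * y * u * (y * y)) (P.mul_mem (P.mul_mem (P.mul_mem hy hy) hu)
        (P.mul_mem hy hy))
        (by rw [S.conj_mul, S.conj_mul, S.conj_mul, iy, iu]; group)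
        (by rw [cmul _ _ (P.mul_mem (P.mul_mem hy hy) hu) (P.mul_mem hy hy),
              cmul _ _ (P.mul_mem hy hy) hu, cmul _ _ hy hy, e]
            calc z * z * (z * z) * (z * z) = z ^ 3 * z ^ 3 := by simp [pow_succ, mul_assoc]
              _ = 1 := by rw [z3, one_mul])
      have h2 := Subgroup.mul_mem _ (Subgroup.mul_mem _
        (Subgroup.inv_mem _ (Subgroup.mul_mem _ my my)) this)
        (Subgroup.inv_mem _ (Subgroup.mul_mem _ my my))
      have e2 : (y * y)⁻¹ * (y * y * u * (y * y)) * (y * y)⁻¹ = u := by group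
      rwa [e2] at h2
  refine ⟨x, y, z, R, ?_, ?_⟩
  · refine eq_top_iff.2 fun k _ => ?_
    have hs : Subgroup.closure ({x, y} : Set K) ≤ Subgroup.closure ({t, x, y} : Set K) :=
      Subgroup.closure_mono (by simp)
    rcases S.cover k with hk | hk
    · exact hs (hle hk)
    · rw [← S.t_t k]
      exact Subgroup.mul_mem _ (Subgroup.subset_closure (by simp)) (hs (hle hk))
  -- the order of `P`
  let f : Fin 3 × Fin 3 × Fin 3 → ↥P := fun e =>
    ⟨nf t x y z (e.1, e.2.1, e.2.2, 0), by
      simpa [nf] using P.mul_mem (P.mul_mem (P.pow_mem hy _) (P.pow_mem hx _))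
        (P.pow_mem (cP y hy) _)⟩
  have tP : t ∉ P := fun h => by
    have ht1 := sq1 t h S.tt
    rw [ht1, one_mul, mul_one] at ix
    exact hx1 (sq1 x hx (by nth_rewrite 2 [ix]; exact mul_inv_cancel x))
  have hsurj : Function.Surjective f := by
    rintro ⟨g, hg⟩
    obtain ⟨⟨a, b, d, l⟩, he⟩ := R.exists_nf (g := g) (Subgroup.closure_mono (by simp) (hle hg))
    refine ⟨(a, b, d), Subtype.ext ?_⟩
    fin_cases l
    · exact he
    · exfalso
      apply tP
      have hp : y ^ (a : ℕ) * x ^ (b : ℕ) * z ^ (d : ℕ) ∈ P :=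
        P.mul_mem (P.mul_mem (P.pow_mem hy _) (P.pow_mem hx _)) (P.pow_mem (cP y hy) _)
      have hh : y ^ (a : ℕ) * x ^ (b : ℕ) * z ^ (d : ℕ) * t ∈ P := by
        have : g = y ^ (a : ℕ) * x ^ (b : ℕ) * z ^ (d : ℕ) * t := by simpa [nf] using he.symm
        exact this ▸ hg
      exact (P.mul_mem_cancel_left hp).1 hh
  have hle27 : Nat.card ↥P ≤ 27 := by simpa using Nat.card_le_card_of_surjective f hsurj
  obtain ⟨k, hk⟩ := IsPGroup.iff_card.1 h3
  have hk3 : k ≤ 3 := by
    by_contra hk4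
    have := Nat.pow_le_pow_right (show 1 ≤ 3 by norm_num) (show 4 ≤ k by omega)
    omega
  have hnc2 : ¬ IsMulCommutative ↥P := fun h => cy ((c1 y).2
    (congrArg Subtype.val (h.is_comm.comm (⟨x, hx⟩ : ↥P) ⟨y, hy⟩)))
  interval_cases k
  · exfalso
    exact hne (Subgroup.card_eq_one.1 (by simpa using hk))
  · exfalso
    haveI := isCyclic_of_prime_card (α := ↥P) (p := 3) (by simpa using hk)
    exact hnc2 (.of_comm fun a b => IsCyclic.commGroup.mul_comm a b)
  · exact absurd (IsPGroup.isMulCommutative_of_card_eq_prime_sq (p := 3) hk) hnc2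
  · simpa using hk

end Module

end CfsgLib.Transpositions.ThreeQuotient
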