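import Cfsg.Agent.Transpositions.SUThreeTwo
import Cfsg.Agent.Transpositions.ThreeQuotient

/-!
# Generators and relations of the derived group of `SU₃(2)`
-/

set_option autoImplicit false

namespace CfsgLib.Transpositions.SUThreeTwoRels

open Cfsg Matrix SUThreeTwo ThreeQuotient

/-- A matrix with commutator `swapM` together with `comH`. -/
def comG : Fin 3 → Fin 3 → Fin 4 := ![![1,2,2],![2,1,2],![1,1,3]]

/-- See `comG`. -/
def comH : Fin 3 → Fin 3 → Fin 4 := ![![1,2,1],![2,1,1],![2,2,3]]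

/-- The inverse of `comG`. -/
def comG' : Fin 3 → Fin 3 → Fin 4 := ![![1,3,1],![3,1,1],![3,3,2]]

/-- The inverse of `comH`. -/
def comH' : Fin 3 → Fin 3 → Fin 4 := ![![1,3,3],![3,1,3],![1,1,2]]

/-- Powers of `swapM`. -/
def powS : Fin 2 → (Fin 3 → Fin 3 → Fin 4) := ![oneM, swapM]

/-- Normal forms. -/
def codeN (p : Fin 3 × Fin 3 × Fin 3 × Fin 2) : Fin 3 → Fin 3 → Fin 4 :=
  mulM (mulM (mulM (powM diagM p.1) (powM cycM p.2.1)) (powM scalM p.2.2.1)) (powS p.2.2.2)

theorem codeN_inj : ∀ p q, (∀ i j, codeN p i j = codeN q i j) → p = q := by decide +kernel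

variable {F : Type} [Field F] [Fintype F]

set_option maxHeartbeats 1000000 in
/-- The derived group of `SU₃(2)` is generated by elements with the standard relations. -/
theorem exists_rels (hF : Fintype.card F = 4) :
    ∃ t x y z : ↥(commutator ↥(SU 3 F 2)), Rels t x y z ∧
      Subgroup.closure ({t, x, y} : Set ↥(commutator ↥(SU 3 F 2))) = ⊤ ∧
      Nat.card ↥(commutator ↥(SU 3 F 2)) = 54 := by
  classical
  obtain ⟨ι, hι, h0, h1, hadd, hmul⟩ := exists_coords F hF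
  let L : (Fin 3 → Fin 3 → Fin 4) → Matrix (Fin 3) (Fin 3) F :=
    fun A => Matrix.of fun i j => ι (A i j)
  have Lmul : ∀ A B, L A * L B = L (mulM A B) := fun A B => by
    ext i j; simp [L, Matrix.mul_apply, Fin.sum_univ_three, mulM, hadd, hmul]
  have Linj : ∀ A B, L A = L B → ∀ i j, A i j = B i j := fun A B e i j =>
    hι.1 (congrFun₂ e i j)
  have Lone : L oneM = 1 := by
    ext i j; fin_cases i <;> fin_cases j <;> simp [L, oneM, h0, h1]
  have hch : CharP F 2 := charP_of_card_eq_prime_pow (f := 2) (p := 2) (by rw [hF]; norm_num)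
  -- membership in `SU` is a finite computation
  let cj : Fin 4 → Fin 4 := fun a => mulT a a
  let tr : (Fin 3 → Fin 3 → Fin 4) → (Fin 3 → Fin 3 → Fin 4) := fun A i j => cj (A j i)
  let dT : (Fin 3 → Fin 3 → Fin 4) → Fin 4 := fun A =>
    addT (addT (addT (addT (addT (mulT (mulT (A 0 0) (A 1 1)) (A 2 2))
      (mulT (mulT (A 0 0) (A 1 2)) (A 2 1))) (mulT (mulT (A 0 1) (A 1 0)) (A 2 2)))
      (mulT (mulT (A 0 1) (A 1 2)) (A 2 0))) (mulT (mulT (A 0 2) (A 1 0)) (A 2 1)))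
      (mulT (mulT (A 0 2) (A 1 1)) (A 2 0))
  have Ldet : ∀ A, (L A).det = ι (dT A) := fun A => by
    rw [Matrix.det_fin_three]
    simp only [L, Matrix.of_apply, dT, hadd, hmul]
    simp only [CharTwo.sub_eq_add]
  have mk : ∀ A, dT A = 1 → (∀ i j, mulM (tr A) A i j = oneM i j) →
      ∃ g : ↥(SU 3 F 2), mat g = L A := by
    intro A hd hu
    refine exists_elt (F := F) (L A) (by rw [Ldet, hd, h1]) fun u v => ?_
    have hcol : ∀ k j, ι (A 0 j) * ι (A 0 k) ^ 2 + ι (A 1 j) * ι (A 1 k) ^ 2 +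
        ι (A 2 j) * ι (A 2 k) ^ 2 = ι (oneM k j) := by
      intro k j
      rw [← hu k j]
      simp [mulM, tr, cj, hadd, hmul]
      ring
    have c00 := hcol 0 0; have c01 := hcol 0 1; have c02 := hcol 0 2
    have c10 := hcol 1 0; have c11 := hcol 1 1; have c12 := hcol 1 2
    have c20 := hcol 2 0; have c21 := hcol 2 1; have c22 := hcol 2 2
    simp [oneM, h0, h1] at c00 c01 c02 c10 c11 c12 c20 c21 c22
    simp [L, hermForm, Matrix.mulVec, dotProduct, Fin.sum_univ_three, CharTwo.add_sq, mul_pow]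
    linear_combination (u 0 * v 0 ^ 2) * c00 + (u 1 * v 0 ^ 2) * c01 + (u 2 * v 0 ^ 2) * c02 +
      (u 0 * v 1 ^ 2) * c10 + (u 1 * v 1 ^ 2) * c11 + (u 2 * v 1 ^ 2) * c12 +
      (u 0 * v 2 ^ 2) * c20 + (u 1 * v 2 ^ 2) * c21 + (u 2 * v 2 ^ 2) * c22
  obtain ⟨g, hg⟩ := mk comG (by decide +kernel) (by decide +kernel)
  obtain ⟨h, hh⟩ := mk comH (by decide +kernel) (by decide +kernel)
  obtain ⟨g', hg'⟩ := mk comG' (by decide +kernel) (by decide +kernel)
  obtain ⟨h', hh'⟩ := mk comH' (by decide +kernel) (by decide +kernel)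
  obtain ⟨t₁, ht₁⟩ := mk swapM (by decide +kernel) (by decide +kernel)
  obtain ⟨t₂, ht₂⟩ := mk swapM' (by decide +kernel) (by decide +kernel)
  obtain ⟨a, ha⟩ := mk diagM (by decide +kernel) (by decide +kernel)
  obtain ⟨a', ha'⟩ := mk diagM' (by decide +kernel) (by decide +kernel)
  have inv : ∀ (p p' : ↥(SU 3 F 2)) A A', mat p = L A → mat p' = L A' →
      (∀ i j, mulM A A' i j = oneM i j) → p⁻¹ = p' := fun p p' A A' hp hp' e =>
    inv_eq_of_mul_eq_one_right (mat_inj (by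
      rw [mat_mul, mat_one, hp, hp', Lmul, ← Lone, show mulM A A' = oneM from
        funext fun i => funext fun j => e i j]))
  have gi := inv g g' _ _ hg hg' (by decide +kernel)
  have hi := inv h h' _ _ hh hh' (by decide +kernel)
  have ti₁ := inv t₁ t₁ _ _ ht₁ ht₁ (by decide +kernel)
  have ti₂ := inv t₂ t₂ _ _ ht₂ ht₂ (by decide +kernel)
  have ai := inv a a' _ _ ha ha' (by decide +kernel)
  have cmem : ∀ p r : ↥(SU 3 F 2), p * r * p⁻¹ * r⁻¹ ∈ commutator ↥(SU 3 F 2) := fun p r =>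
    Subgroup.commutator_mem_commutator (Subgroup.mem_top p) (Subgroup.mem_top r)
  have ec : t₁ = g * h * g⁻¹ * h⁻¹ := mat_inj (by
    rw [gi, hi]; simp only [mat_mul, hg, hg', hh, hh', ht₁, Lmul]; refine congrArg L ?_; decide +kernel)
  have ea : a = t₁ * a * t₁⁻¹ * a⁻¹ := mat_inj (by
    rw [ti₁, ai]; simp only [mat_mul, ht₁, ha, ha', Lmul]; refine congrArg L ?_; decide +kernel)
  set s := t₁ * t₂ * t₁⁻¹ * t₂⁻¹ with hs
  have hsm : mat s = L cycM := by
    rw [hs, ti₁, ti₂]; simp only [mat_mul, ht₁, ht₂, Lmul]; refine congrArg L ?_; decide +kernel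
  obtain ⟨s', hs'⟩ := mk (mulM cycM cycM) (by decide +kernel) (by decide +kernel)
  have si := inv s s' _ _ hsm hs' (by decide +kernel)
  set w := s * a * s⁻¹ * a⁻¹ with hw
  have hwm : mat w = L scalM := by
    rw [hw, si, ai]; simp only [mat_mul, hsm, hs', ha, ha', Lmul]; refine congrArg L ?_; decide +kernel
  let T : ↥(commutator ↥(SU 3 F 2)) := ⟨t₁, ec ▸ cmem g h⟩
  let X : ↥(commutator ↥(SU 3 F 2)) := ⟨s, cmem _ _⟩
  let Y : ↥(commutator ↥(SU 3 F 2)) := ⟨a, ea ▸ cmem t₁ a⟩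
  let Z : ↥(commutator ↥(SU 3 F 2)) := ⟨w, cmem _ _⟩
  have ext : ∀ p r : ↥(commutator ↥(SU 3 F 2)),
      mat (p : ↥(SU 3 F 2)) = mat (r : ↥(SU 3 F 2)) → p = r :=
    fun p r e => Subtype.ext (mat_inj e)
  have p2 : ∀ (u : ↥(SU 3 F 2)), mat (u ^ 2) = mat u * mat u := fun u => by rw [pow_two, mat_mul]
  have p3 : ∀ (u : ↥(SU 3 F 2)), mat (u ^ 3) = mat u * mat u * mat u := fun u => by
    rw [pow_succ, mat_mul, p2]
  have R : Rels T X Y Z := by
    constructor <;> refine ext _ _ ?_ <;>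
      simp only [T, X, Y, Z, Subgroup.coe_mul, SubmonoidClass.coe_pow, OneMemClass.coe_one,
        mat_mul, mat_one, p2, p3, hsm, ha, ht₁, hwm, Lmul, ← Lone] <;>
      refine congrArg L ?_ <;> decide +kernel
  have hpow : ∀ (u : ↥(SU 3 F 2)) A, mat u = L A → ∀ n : Fin 3,
      mat (u ^ (n : ℕ)) = L (powM A n) := by
    intro u A hu n
    fin_cases n
    · simp [powM, mat_one, Lone]
    · simp [powM, hu]
    · simp [powM, p2, hu, Lmul]
  have hpowS : ∀ n : Fin 2, mat (t₁ ^ (n : ℕ)) = L (powS n) := by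
    intro n
    fin_cases n
    · simp [powS, mat_one, Lone]
    · simp [powS, ht₁]
  have hinj : Function.Injective (nf T X Y Z) := by
    intro p q e
    have e' := congrArg (fun u : ↥(commutator ↥(SU 3 F 2)) => mat (u : ↥(SU 3 F 2))) e
    simp only [nf, Subgroup.coe_mul, SubmonoidClass.coe_pow, T, X, Y, Z, mat_mul,
      hpow _ _ ha, hpow _ _ hsm, hpow _ _ hwm, hpowS, Lmul] at e'
    exact codeN_inj p q (Linj _ _ e')
  have : Finite ↥(SU 3 F 2) := Finite.of_injective mat fun _ _ e => mat_inj e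
  obtain ⟨P, hP, hPP, -⟩ := derived_structure (F := F) hF
  have hidx : P.index ≤ 2 := by
    by_cases hall : ∀ u, u ∈ P
    · rw [(eq_top_iff.2 fun u _ => hall u : P = ⊤), Subgroup.index_top]; norm_num
    · push Not at hall
      obtain ⟨u, hu⟩ := hall
      refine le_of_eq (Subgroup.index_eq_two_iff.2 ⟨u, fun b => ?_⟩)
      by_cases hb : b ∈ P
      · exact Or.inr ⟨hb, fun h' => hu ((P.mul_mem_cancel_left hb).1 h')⟩
      · exact Or.inl ⟨hPP b u hb hu, hb⟩
  have hle : Nat.card ↥(commutator ↥(SU 3 F 2)) ≤ 54 := by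
    rw [← P.card_mul_index, hP]; omega
  have hge := Nat.card_le_card_of_injective _ hinj
  simp only [Nat.card_prod, Nat.card_fin] at hge
  have hcard : Nat.card ↥(commutator ↥(SU 3 F 2)) = 54 := by omega
  refine ⟨T, X, Y, Z, R, eq_top_iff.2 fun u _ => ?_, hcard⟩
  obtain ⟨c, rfl⟩ := ((Nat.bijective_iff_injective_and_card _).2
    ⟨hinj, by rw [hcard]; simp⟩).2 u
  have mT : T ∈ Subgroup.closure ({T, X, Y} : Set ↥(commutator ↥(SU 3 F 2))) :=
    Subgroup.subset_closure (by simp)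
  have mX : X ∈ Subgroup.closure ({T, X, Y} : Set ↥(commutator ↥(SU 3 F 2))) :=
    Subgroup.subset_closure (by simp)
  have mY : Y ∈ Subgroup.closure ({T, X, Y} : Set ↥(commutator ↥(SU 3 F 2))) :=
    Subgroup.subset_closure (by simp)
  have mZ : Z ∈ Subgroup.closure ({T, X, Y} : Set ↥(commutator ↥(SU 3 F 2))) := by
    have e : Z = (Y * X)⁻¹ * (X * Y) := by rw [R.xy]; group
    rw [e]
    exact Subgroup.mul_mem _ (Subgroup.inv_mem _ (Subgroup.mul_mem _ mY mX))
      (Subgroup.mul_mem _ mX mY)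
  exact Subgroup.mul_mem _ (Subgroup.mul_mem _ (Subgroup.mul_mem _ (Subgroup.pow_mem _ mY _)
    (Subgroup.pow_mem _ mX _)) (Subgroup.pow_mem _ mZ _)) (Subgroup.pow_mem _ mT _)

end CfsgLib.Transpositions.SUThreeTwoRels
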