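import Cfsg.Agent.FischerTypes.Relations

/-!
# Products over subsets of a set of pairwise commuting involutions

For a finite set `M` of pairwise commuting involutions, `val M T` is the product of the members of
`T ∩ M`; it turns symmetric differences into products and has as values the subgroup generated by `M`.
-/

set_option autoImplicit false

open scoped symmDiff

namespace CfsgLib.Transpositions.CliqueAlgebra

open Cfsg

variable {G : Type*} [Group G]

open Classical in
/-- The product of `T ∩ M`, in some order. -/
noncomputable def val (M : Finset G) (T : Finset G) : G :=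
  ((T ∩ M).toList).prod

/-- The set of hypotheses: pairwise commuting involutions. -/
structure Comm (M : Finset G) : Prop where
  sq : ∀ a ∈ M, a * a = 1
  comm : ∀ a ∈ M, ∀ b ∈ M, Commute a b

variable {M : Finset G}

theorem val_eq_prod (hM : Comm M) {T : Finset G} (hT : T ⊆ M) {l : List G} (hl : l.Nodup)
    (hmem : ∀ x, x ∈ l ↔ x ∈ T) : val M T = l.prod := by
  classical
  rw [val, Finset.inter_eq_left.2 hT]
  have hp : T.toList.Perm l := (List.perm_ext_iff_of_nodup T.nodup_toList hl).2 fun x => by
    rw [Finset.mem_toList, hmem]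
  refine List.Perm.prod_eq' hp (List.Pairwise.imp_of_mem (fun ha hb _ => ?_) T.nodup_toList)
  exact hM.comm _ (hT (Finset.mem_toList.1 ha)) _ (hT (Finset.mem_toList.1 hb))

theorem val_empty : val M (∅ : Finset G) = 1 := by
  classical
  simp [val]

variable [DecidableEq G]

theorem val_insert (hM : Comm M) {a : G} {T : Finset G} (hT : T ⊆ M) (ha : a ∈ M) (haT : a ∉ T) :
    val M (insert a T) = a * val M T := by
  rw [val_eq_prod hM (Finset.insert_subset ha hT) (l := a :: T.toList)
    (List.nodup_cons.2 ⟨fun h => haT (Finset.mem_toList.1 h), T.nodup_toList⟩) (fun x => by simp),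
    val_eq_prod hM hT T.nodup_toList (fun x => Finset.mem_toList), List.prod_cons]

theorem val_singleton (hM : Comm M) {a : G} (ha : a ∈ M) : val M {a} = a := by
  rw [← insert_empty_eq, val_insert hM (Finset.empty_subset _) ha (Finset.notMem_empty a), val_empty,
    mul_one]

theorem commute_val (hM : Comm M) {x : G} {T : Finset G} (hT : T ⊆ M) (h : ∀ a ∈ T, Commute x a) :
    Commute x (val M T) := by
  rw [val_eq_prod hM hT T.nodup_toList (fun x => Finset.mem_toList)]
  exact Commute.list_prod_right _ _ fun a ha => h a (Finset.mem_toList.1 ha)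

theorem val_comm (hM : Comm M) {a : G} (ha : a ∈ M) {T : Finset G} (hT : T ⊆ M) :
    Commute a (val M T) :=
  commute_val hM hT fun b hb => hM.comm a ha b (hT hb)

theorem val_symmDiff (hM : Comm M) {T U : Finset G} (hT : T ⊆ M) (hU : U ⊆ M) :
    val M (T ∆ U) = val M T * val M U := by
  induction U using Finset.induction_on generalizing T with
  | empty => rw [show T ∆ (∅ : Finset G) = T from symmDiff_bot T, val_empty, mul_one]
  | @insert a U haU ih =>
    obtain ⟨ha, hU'⟩ := Finset.insert_subset_iff.1 hU
    rw [val_insert hM hU' ha haU]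
    have hsplit : T ∆ insert a U = (if a ∈ T then T.erase a else insert a T) ∆ U := by
      ext x
      by_cases hx : x = a
      · subst hx
        by_cases haT : x ∈ T <;> simp [haT, haU, Finset.mem_symmDiff]
      · by_cases haT : a ∈ T <;> simp [haT, hx, Finset.mem_symmDiff]
    rw [hsplit]
    by_cases haT : a ∈ T
    · rw [if_pos haT, ih ((Finset.erase_subset a T).trans hT) hU']
      have he := val_insert hM ((Finset.erase_subset a T).trans hT) ha (Finset.notMem_erase a T)
      rw [Finset.insert_erase haT] at he
      rw [he, (val_comm hM ha ((Finset.erase_subset a T).trans hT)).eq, mul_assoc, ← mul_assoc a,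
        hM.sq a ha, one_mul]
    · rw [if_neg haT, ih (Finset.insert_subset ha hT) hU', val_insert hM hT ha haT,
        (val_comm hM ha hT).eq, mul_assoc]

theorem val_mul_self (hM : Comm M) {T : Finset G} (hT : T ⊆ M) : val M T * val M T = 1 := by
  rw [← val_symmDiff hM hT hT, symmDiff_self]
  exact val_empty

theorem val_commute_val (hM : Comm M) {T U : Finset G} (hT : T ⊆ M) (hU : U ⊆ M) :
    Commute (val M T) (val M U) :=
  commute_val hM hU fun a ha => (val_comm hM (hU ha) hT).symm

/-- The subsets of `M` of even size and all subsets give subgroups. -/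
def evenSub (hM : Comm M) : Subgroup G where
  carrier := {a | ∃ T ⊆ M, Even T.card ∧ val M T = a}
  one_mem' := ⟨∅, Finset.empty_subset _, by simp, val_empty⟩
  mul_mem' := by
    rintro _ _ ⟨T, hT, heT, rfl⟩ ⟨U, hU, heU, rfl⟩
    refine ⟨T ∆ U, fun x hx => ?_, ?_, val_symmDiff hM hT hU⟩
    · rcases Finset.mem_symmDiff.1 hx with ⟨h, -⟩ | ⟨h, -⟩
      exacts [hT h, hU h]
    · have h1 := Finset.card_sdiff_add_card_inter T U
      have h2 := Finset.card_sdiff_add_card_inter U T
      have h3 : (T ∆ U).card = (T \ U).card + (U \ T).card := Finset.card_union_of_disjoint disjoint_sdiff_sdiff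
      rw [Finset.inter_comm U T] at h2
      rw [Nat.even_iff] at heT heU ⊢
      omega
  inv_mem' := by
    rintro _ ⟨T, hT, heT, rfl⟩
    exact ⟨T, hT, heT, (inv_eq_of_mul_eq_one_right (val_mul_self hM hT)).symm⟩

theorem mem_evenSub (hM : Comm M) {a : G} :
    a ∈ evenSub hM ↔ ∃ T ⊆ M, Even T.card ∧ val M T = a := Iff.rfl

/-- The elements of the generated subgroup. -/
theorem mem_closure_iff (hM : Comm M) {a : G} :
    a ∈ Subgroup.closure (M : Set G) ↔ ∃ T ⊆ M, val M T = a := by
  constructor
  · intro ha
    induction ha using Subgroup.closure_induction with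
    | mem x hx => exact ⟨{x}, Finset.singleton_subset_iff.2 hx, val_singleton hM hx⟩
    | one => exact ⟨∅, Finset.empty_subset _, val_empty⟩
    | mul x y _ _ hx hy =>
      obtain ⟨T, hT, rfl⟩ := hx
      obtain ⟨U, hU, rfl⟩ := hy
      refine ⟨T ∆ U, fun z hz => ?_, val_symmDiff hM hT hU⟩
      rcases Finset.mem_symmDiff.1 hz with ⟨h, -⟩ | ⟨h, -⟩
      exacts [hT h, hU h]
    | inv x _ hx =>
      obtain ⟨T, hT, rfl⟩ := hx
      exact ⟨T, hT, (inv_eq_of_mul_eq_one_right (val_mul_self hM hT)).symm⟩
  · rintro ⟨T, hT, rfl⟩
    rw [val_eq_prod hM hT T.nodup_toList (fun x => Finset.mem_toList)]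
    exact list_prod_mem fun x hx => Subgroup.subset_closure (hT (Finset.mem_toList.1 hx))

end CfsgLib.Transpositions.CliqueAlgebra
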