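import Mathlib

/-!
# Double counting and the intersection numbers of a Steiner system `S(5,8,24)`

Two blocks of a Steiner system on 24 points with blocks of size 8 through every five points meet in
an even number of points.
-/

set_option autoImplicit false

namespace CfsgLib.Transpositions.DoubleCount

/-- The moments of the degrees of a relation. -/
theorem sum_choose {α β : Type*} [DecidableEq β] (R : Finset α) (X : Finset β) (r : α → β → Prop)
    [∀ z x, Decidable (r z x)] (i : ℕ) :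
    ∑ z ∈ R, (X.filter fun x => r z x).card.choose i =
      ∑ T ∈ X.powersetCard i, (R.filter fun z => ∀ x ∈ T, r z x).card := by
  have h := Finset.sum_card_bipartiteAbove_eq_sum_card_bipartiteBelow
    (fun z T => ∀ x ∈ T, r z x) (s := R) (t := X.powersetCard i)
  refine Eq.trans (Finset.sum_congr rfl fun z _ => ?_) h
  rw [← Finset.card_powersetCard]
  congr 1
  ext T
  simp only [Finset.bipartiteAbove, Finset.mem_filter, Finset.mem_powersetCard, Finset.subset_iff,
    Finset.mem_filter]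
  constructor
  · exact fun ⟨h1, h2⟩ => ⟨⟨fun x hx => (h1 hx).1, h2⟩, fun x hx => (h1 hx).2⟩
  · exact fun ⟨⟨h1, h2⟩, h3⟩ => ⟨fun x hx => ⟨h1 hx, h3 x hx⟩, h2⟩

variable {α : Type*} [DecidableEq α]

/-- The number of blocks through a set of at most five points. -/
theorem card_through {X : Finset α} (hX : X.card = 24) {ℬ : Finset (Finset α)}
    (hsub : ∀ B ∈ ℬ, B ⊆ X ∧ B.card = 8) (huniq : ∀ F ∈ X.powersetCard 5, ∃! B, B ∈ ℬ ∧ F ⊆ B)
    {T : Finset α} (hT : T ⊆ X) (hT5 : T.card ≤ 5) :
    (ℬ.filter fun B => T ⊆ B).card * (8 - T.card).choose (5 - T.card) =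
      (24 - T.card).choose (5 - T.card) := by
  have h := Finset.sum_card_bipartiteAbove_eq_sum_card_bipartiteBelow
    (fun B U => U ⊆ B) (s := ℬ.filter fun B => T ⊆ B) (t := (X \ T).powersetCard (5 - T.card))
  have e1 : ∀ B ∈ ℬ.filter (fun B => T ⊆ B),
      (((X \ T).powersetCard (5 - T.card)).bipartiteAbove (fun B U => U ⊆ B) B).card =
        (8 - T.card).choose (5 - T.card) := by
    intro B hB
    rw [Finset.mem_filter] at hB
    have hset : ((X \ T).powersetCard (5 - T.card)).bipartiteAbove (fun B U => U ⊆ B) B =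
        (B \ T).powersetCard (5 - T.card) := by
      ext U
      simp only [Finset.bipartiteAbove, Finset.mem_filter, Finset.mem_powersetCard, Finset.subset_sdiff]
      exact ⟨fun ⟨⟨⟨_, h1⟩, h2⟩, h3⟩ => ⟨⟨h3, h1⟩, h2⟩,
        fun ⟨⟨h3, h1⟩, h2⟩ => ⟨⟨⟨h3.trans (hsub B hB.1).1, h1⟩, h2⟩, h3⟩⟩
    rw [hset, Finset.card_powersetCard, Finset.card_sdiff_of_subset hB.2, (hsub B hB.1).2]
  have e2 : ∀ U ∈ (X \ T).powersetCard (5 - T.card),
      ((ℬ.filter fun B => T ⊆ B).bipartiteBelow (fun B U => U ⊆ B) U).card = 1 := by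
    intro U hU
    rw [Finset.mem_powersetCard, Finset.subset_sdiff] at hU
    have hF : T ∪ U ∈ X.powersetCard 5 := by
      rw [Finset.mem_powersetCard, Finset.card_union_of_disjoint hU.1.2.symm, hU.2]
      exact ⟨Finset.union_subset hT hU.1.1, by omega⟩
    obtain ⟨B, ⟨hB, hFB⟩, hBu⟩ := huniq _ hF
    rw [Finset.card_eq_one]
    refine ⟨B, ?_⟩
    ext B'
    simp only [Finset.bipartiteBelow, Finset.mem_filter, Finset.mem_singleton]
    constructor
    · exact fun ⟨⟨h1, h2⟩, h3⟩ => hBu B' ⟨h1, Finset.union_subset h2 h3⟩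
    · rintro rfl
      exact ⟨⟨hB, Finset.union_subset_left hFB⟩, Finset.union_subset_right hFB⟩
  rw [Finset.sum_congr rfl e1, Finset.sum_congr rfl e2, Finset.sum_const, Finset.sum_const, smul_eq_mul,
    smul_eq_mul, mul_one, Finset.card_powersetCard, Finset.card_sdiff_of_subset hT, hX] at h
  exact h

/-- Two blocks meet in an even number of points. -/
theorem inter_even {X : Finset α} (hX : X.card = 24) {ℬ : Finset (Finset α)}
    (hsub : ∀ B ∈ ℬ, B ⊆ X ∧ B.card = 8) (huniq : ∀ F ∈ X.powersetCard 5, ∃! B, B ∈ ℬ ∧ F ⊆ B)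
    {O B : Finset α} (hO : O ∈ ℬ) (hB : B ∈ ℬ) :
    (O ∩ B).card = 0 ∨ (O ∩ B).card = 2 ∨ (O ∩ B).card = 4 ∨ O = B := by
  have hbig : ∀ C ∈ ℬ, C ≠ O → (O ∩ C).card ≤ 4 := by
    intro C hC hne
    by_contra hlt
    obtain ⟨F, hF, hF5⟩ := Finset.exists_subset_card_eq (show 5 ≤ (O ∩ C).card by omega)
    have hFX : F ∈ X.powersetCard 5 :=
      Finset.mem_powersetCard.2 ⟨(hF.trans Finset.inter_subset_left).trans (hsub O hO).1, hF5⟩
    obtain ⟨B₀, -, hu⟩ := huniq F hFX
    exact hne ((hu C ⟨hC, hF.trans Finset.inter_subset_right⟩).trans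
      (hu O ⟨hO, hF.trans Finset.inter_subset_left⟩).symm)
  by_cases hne : B = O
  · exact Or.inr (Or.inr (Or.inr hne.symm))
  set R := ℬ.erase O with hR
  -- the moments
  have hmom : ∀ i : ℕ, i ≤ 4 → ∀ lam : ℕ,
      lam * (8 - i).choose (5 - i) = (24 - i).choose (5 - i) →
      ∑ C ∈ R, (O ∩ C).card.choose i = (8 : ℕ).choose i * (lam - 1) := by
    intro i hi lam hlam
    have h := sum_choose R O (fun C x => x ∈ C) i
    have e0 : ∀ C : Finset α, (O.filter fun x => x ∈ C) = O ∩ C := fun C => by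
      ext x; simp
    simp only [e0] at h
    rw [h]
    rw [Finset.sum_congr rfl (g := fun _ => lam - 1) fun T hT => ?_, Finset.sum_const,
      Finset.card_powersetCard, (hsub O hO).2, smul_eq_mul]
    rw [Finset.mem_powersetCard] at hT
    have h1 := card_through hX hsub huniq (hT.1.trans (hsub O hO).1) (by omega)
    rw [hT.2] at h1
    have h2 : (ℬ.filter fun C => T ⊆ C).card = lam :=
      Nat.eq_of_mul_eq_mul_right (Nat.choose_pos (by omega)) (h1.trans hlam.symm)
    rw [← h2, show (R.filter fun C => ∀ x ∈ T, x ∈ C) = (ℬ.filter fun C => T ⊆ C).erase O by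
      rw [hR, ← Finset.filter_erase]; rfl, Finset.card_erase_of_mem (Finset.mem_filter.2 ⟨hO, hT.1⟩)]
  have hcase : ∀ C ∈ R, (O ∩ C).card ≤ 4 := fun C hC =>
    hbig C (Finset.mem_of_mem_erase hC) (Finset.ne_of_mem_erase hC)
  -- weighted sums killing the even values and four
  have h1 := hmom 1 (by norm_num) 253 (by decide)
  have h2 := hmom 2 (by norm_num) 77 (by decide)
  have h3 := hmom 3 (by norm_num) 21 (by decide)
  have h4 := hmom 4 (by norm_num) 5 (by decide)
  norm_num [Nat.choose] at h1 h2 h3 h4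
  have hz : ∑ C ∈ R, (if (O ∩ C).card = 1 then 1 else 0) + ∑ C ∈ R, (if (O ∩ C).card = 3 then 1 else 0) = 0 := by
    have e : ∀ C ∈ R, (if (O ∩ C).card = 1 then (1 : ℕ) else 0) + (if (O ∩ C).card = 3 then 1 else 0) +
        2 * (O ∩ C).card.choose 2 + 8 * (O ∩ C).card.choose 4 =
        (O ∩ C).card + 4 * (O ∩ C).card.choose 3 := by
      intro C hC
      have := hcase C hC
      interval_cases (O ∩ C).card <;> decide
    have h := Finset.sum_congr rfl e
    simp only [Finset.sum_add_distrib, ← Finset.mul_sum] at h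
    omega
  have hodd : ∀ C ∈ R, (O ∩ C).card ≠ 1 ∧ (O ∩ C).card ≠ 3 := by
    intro C hC
    rw [← Finset.sum_add_distrib] at hz
    have := Finset.sum_eq_zero_iff.1 hz C hC
    constructor <;> intro h0 <;> rw [h0] at this <;> simp at this
  have hBR : B ∈ R := Finset.mem_erase.2 ⟨hne, hB⟩
  have := hcase B hBR
  have := hodd B hBR
  omega

end CfsgLib.Transpositions.DoubleCount
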