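import Cfsg.Agent.Transpositions.TypeM24Tuples
import Cfsg.Agent.Transpositions.DoubleCount
import Cfsg.Agent.Transpositions.CliqueAlgebra

/-!
# Maximal commuting sets in type M(24)

Such a set has 24 members; a member outside commutes with two or with eight of them, the eight forming
a block (a relation). The members commuting with a given one of the latter kind, of the same kind, with
a disjoint block, number 480.
-/

set_option autoImplicit false
set_option linter.unusedSectionVars false
set_option linter.unusedDecidableInType false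

open scoped symmDiff

namespace CfsgLib.Transpositions.TypeM24

open Cfsg CfsgLib.FischerTypes
open CfsgLib.Transpositions.CliqueAlgebra (val evenSub)

attribute [local instance] Classical.propDecidable

variable {G : Type*} [Group G] [Finite G] {D : Set G}

/-- The members of `M` commuting with, and different from, `z`. -/
noncomputable def adj (D : Set G) (M : Finset G) (z : G) : Finset G :=
  M.filter fun x => x ∈ FischerTypes.perp D z

theorem mem_adj {M : Finset G} {z x : G} : x ∈ adj D M z ↔ x ∈ M ∧ x ∈ FischerTypes.perp D z :=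
  Finset.mem_filter

/-- The image of a maximal commuting set in the quotient at one of its members. -/
theorem clique_succ (h : IsThreeTranspositionGroup D) {d : G}
    (hinj : ∀ {x y : G} (hx : x ∈ FischerTypes.perp D d) (hy : y ∈ FischerTypes.perp D d),
      bar hx = bar hy → x = y)
    (himg : ∀ {x : G} (hx : x ∈ FischerTypes.perp D d), bar hx ∈ img D d)
    {M : Set G} (hM : IsMaxClique D M) (hd : d ∈ M) :
    ∃ T, IsMaxClique (img D d) T ∧ T.ncard + 1 = M.ncard ∧
      ∀ z, ∀ hz : z ∈ FischerTypes.perp D d, z ∉ M →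
        bar hz ∉ T ∧ (T ∩ FischerTypes.perp (img D d) (bar hz)).ncard + 1 =
          (M ∩ FischerTypes.perp D z).ncard := by
  have hcomm : ∀ {x y : G} (hx : x ∈ FischerTypes.perp D d) (hy : y ∈ FischerTypes.perp D d),
      Commute (bar hx) (bar hy) ↔ Commute x y := fun {x y} hx hy =>
    commute_mk_iff h (x := ⟨x, mem_perp_closure hx⟩) (y := ⟨y, mem_perp_closure hy⟩) hx hy
  have hlift : ∀ p ∈ img D d, ∃ x, ∃ hx : x ∈ FischerTypes.perp D d, bar hx = p := by
    rintro p ⟨⟨⟨x, hx'⟩, hx, he⟩, -⟩
    exact ⟨x, hx, he⟩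
  refine ⟨{p | ∃ x, ∃ hx : x ∈ FischerTypes.perp D d, x ∈ M ∧ bar hx = p}, ⟨?_, ?_, ?_⟩, ?_, ?_⟩
  · rintro p ⟨x, hx, -, rfl⟩
    exact himg hx
  · rintro p ⟨x, hx, hxM, rfl⟩ q ⟨y, hy, hyM, rfl⟩
    exact (hcomm hx hy).2 (hM.comm x hxM y hyM)
  · intro p hp hall
    obtain ⟨x, hx, rfl⟩ := hlift p hp
    refine ⟨x, hx, hM.max x hx.1 fun m hm => ?_, rfl⟩
    by_cases hmd : m = d
    · rw [hmd]; exact hx.2.2.symm
    · have hmp : m ∈ FischerTypes.perp D d := ⟨hM.sub hm, hmd, hM.comm d hd m hm⟩
      exact (hcomm hx hmp).1 (hall _ ⟨m, hmp, hm, rfl⟩)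
  · have e : ({p | ∃ x, ∃ hx : x ∈ FischerTypes.perp D d, x ∈ M ∧ bar hx = p} : Set _).ncard = (M \ {d}).ncard := by
      symm
      refine Set.ncard_congr (fun x hx => bar (⟨hM.sub hx.1, hx.2, hM.comm d hd x hx.1⟩ : x ∈ FischerTypes.perp D d))
        (fun x hx => ⟨x, _, hx.1, rfl⟩) (fun x y hx hy he => hinj _ _ he) ?_
      rintro p ⟨x, hx, hxM, rfl⟩
      exact ⟨x, ⟨hxM, hx.2.1⟩, rfl⟩
    rw [e, Set.ncard_sdiff_singleton_add_one hd (Set.toFinite _)]
  · intro z hz hzM
    refine ⟨fun ⟨x, hx, hxM, he⟩ => hzM (hinj hx hz he ▸ hxM), ?_⟩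
    have hdz : d ∈ M ∩ FischerTypes.perp D z := ⟨hd, perp_symm (hM.sub hd) hz⟩
    have e : ({p | ∃ x, ∃ hx : x ∈ FischerTypes.perp D d, x ∈ M ∧ bar hx = p} ∩
        FischerTypes.perp (img D d) (bar hz) : Set _).ncard = ((M ∩ FischerTypes.perp D z) \ {d}).ncard := by
      symm
      refine Set.ncard_congr
        (fun x hx => bar (⟨hM.sub hx.1.1, hx.2, hM.comm d hd x hx.1.1⟩ : x ∈ FischerTypes.perp D d))
        (fun x hx => ?_) (fun x y hx hy he => hinj _ _ he) ?_
      · refine ⟨⟨x, _, hx.1.1, rfl⟩, himg _, fun he => hzM ?_, (hcomm hz _).2 hx.1.2.2.2⟩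
        exact hinj _ hz he ▸ hx.1.1
      · rintro p ⟨⟨x, hx, hxM, rfl⟩, hp⟩
        exact ⟨x, ⟨⟨hxM, hx.1, fun he => hzM (he ▸ hxM), (hcomm hz hx).1 hp.2.2⟩, hx.2.1⟩, rfl⟩
    rw [e, Set.ncard_sdiff_singleton_add_one hdz (Set.toFinite _)]

/-- Maximal commuting sets in type M(23): 23 members, and an outside member commutes with 0, 1 or 7. -/
theorem clique_M23 (H : M23.Hyp G D) {M : Set G} (hM : IsMaxClique D M) :
    M.ncard = 23 ∧ ∀ z ∈ D, z ∉ M → (M ∩ FischerTypes.perp D z).ncard = 0 ∨
      (M ∩ FischerTypes.perp D z).ncard = 1 ∨ (M ∩ FischerTypes.perp D z).ncard = 7 := by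
  have hne : ∃ m, m ∈ M := by
    obtain ⟨a, ha, -⟩ := H.prim.2.1
    by_contra hno
    push Not at hno
    exact hno a (hM.max a ha fun m hm => absurd hm (hno m))
  have key : ∀ d ∈ M, M.ncard = 23 ∧ ∀ z ∈ FischerTypes.perp D d, z ∉ M →
      (M ∩ FischerTypes.perp D z).ncard = 1 ∨ (M ∩ FischerTypes.perp D z).ncard = 7 := by
    intro d hd
    have hdD := hM.sub hd
    obtain ⟨T, hT, hcard, hadj⟩ := clique_succ H.group (fun hx hy he => M23.bar_inj H hdD hx hy he)
      (fun hx => M23.bar_mem H hdD hx) hM hd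
    have h22 := M23.quot22 H hdD
    have hq := M23.quotGroup H.group d
    obtain ⟨t, ht⟩ : ∃ t, t ∈ T := by
      obtain ⟨x, hx⟩ : (FischerTypes.perp D d).Nonempty :=
        Set.nonempty_of_ncard_ne_zero (by rw [M23.ncard_perp H hdD]; norm_num)
      by_contra hno
      push Not at hno
      exact hno _ (hT.max _ (M23.bar_mem H hdD hx) fun m hm => absurd hm (hno m))
    refine ⟨by rw [← hcard, (ncard_clique hq h22 hT ht).2], fun z hz hzM => ?_⟩
    obtain ⟨hzT, hz1⟩ := hadj z hz hzM
    rcases (T ∩ FischerTypes.perp (img D d) (bar hz)).eq_empty_or_nonempty with h0 | ⟨m, hm⟩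
    · left; rw [← hz1, h0, Set.ncard_empty]
    · right; rw [← hz1, ncard_inter_perp hq h22 hT (M23.bar_mem H hdD hz) hzT hm.1 hm.2.2.2]
  obtain ⟨m, hm⟩ := hne
  refine ⟨(key m hm).1, fun z hz hzM => ?_⟩
  rcases (M ∩ FischerTypes.perp D z).eq_empty_or_nonempty with h0 | ⟨d, hd⟩
  · exact Or.inl (by rw [h0, Set.ncard_empty])
  · exact Or.inr ((key d hd.1).2 z (perp_symm hz hd.2) hzM)

variable (H : M24.Hyp G D) {M : Finset G} (hM : IsMaxClique D (M : Set G))

include H hM

theorem commM : CliqueAlgebra.Comm M :=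
  ⟨fun _ ha => FischerTypes.mul_self H.group.1 (hM.sub ha), fun a ha b hb => hM.comm a ha b hb⟩

omit H hM in
theorem coe_adj (z : G) : ((adj D M z : Finset G) : Set G) = (M : Set G) ∩ FischerTypes.perp D z := by
  ext x; exact mem_adj

theorem card_clique : M.card = 24 ∧ ∀ z ∈ D, z ∉ M →
    (adj D M z).card = 0 ∨ (adj D M z).card = 1 ∨ (adj D M z).card = 2 ∨ (adj D M z).card = 8 := by
  have key : ∀ d ∈ M, M.card = 24 ∧ ∀ z ∈ FischerTypes.perp D d, z ∉ M →
      (adj D M z).card = 1 ∨ (adj D M z).card = 2 ∨ (adj D M z).card = 8 := by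
    intro d hd
    have hdD := hM.sub hd
    obtain ⟨T, hT, hcard, hadj⟩ := clique_succ H.group (fun hx hy he => M24.bar_inj H hdD hx hy he)
      (fun hx => M24.bar_mem H hdD hx) hM hd
    obtain ⟨hT23, hTadj⟩ := clique_M23 (M24.quot H hdD) hT
    rw [Set.ncard_coe_finset] at hcard
    refine ⟨by omega, fun z hz hzM => ?_⟩
    obtain ⟨hzT, hz1⟩ := hadj z hz hzM
    rw [← coe_adj, Set.ncard_coe_finset] at hz1
    rcases hTadj _ (M24.bar_mem H hdD hz) hzT with h0 | h0 | h0 <;> omega
  obtain ⟨m, hm⟩ : ∃ m, m ∈ M := by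
    obtain ⟨a, ha, -⟩ := H.prim.2.1
    by_contra hno
    push Not at hno
    exact hno a (hM.max a ha fun m hm => absurd hm (hno m))
  refine ⟨(key m hm).1, fun z hz hzM => ?_⟩
  rcases (adj D M z).eq_empty_or_nonempty with h0 | ⟨d, hd⟩
  · exact Or.inl (by rw [h0, Finset.card_empty])
  · exact Or.inr ((key d (mem_adj.1 hd).1).2 z (perp_symm hz (mem_adj.1 hd).2) hzM)

/-- No relation of length between one and seven inside `M`. -/
theorem eq_empty_of_val {T : Finset G} (hT : T ⊆ M) (hv : val M T = 1) (h7 : T.card ≤ 7) : T = ∅ := by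
  by_contra hne
  refine noRel_le H (n := T.card) (Finset.card_pos.2 (Finset.nonempty_iff_ne_empty.2 hne)) h7 T.toList
    T.nodup_toList (Finset.length_toList T) (fun a ha => hM.sub (hT (Finset.mem_toList.1 ha)))
    (fun a ha b hb => hM.comm a (hT (Finset.mem_toList.1 ha)) b (hT (Finset.mem_toList.1 hb))) ?_
  rw [← CliqueAlgebra.val_eq_prod (commM H hM) hT T.nodup_toList (fun x => Finset.mem_toList)]
  exact hv

/-- A member commuting with a product of at most three members of `M` commutes with each. -/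
theorem commute_of_val {y : G} (hy : y ∈ D) {T : Finset G} (hT : T ⊆ M) (h3 : T.card ≤ 3)
    (hc : Commute y (val M T)) : ∀ a ∈ T, Commute y a := by
  have hm := commM H hM
  have hD : ∀ a ∈ T, a ∈ D := fun a ha => hM.sub (hT ha)
  interval_cases h : T.card
  · simp [Finset.card_eq_zero.1 h]
  · obtain ⟨a, rfl⟩ := Finset.card_eq_one.1 h
    rw [CliqueAlgebra.val_singleton hm (hT (Finset.mem_singleton_self a))] at hc
    simpa using hc
  · obtain ⟨a, b, hab, rfl⟩ := Finset.card_eq_two.1 h
    have ha : a ∈ M := hT (by simp)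
    have hb : b ∈ M := hT (by simp)
    rw [CliqueAlgebra.val_insert hm (Finset.singleton_subset_iff.2 hb) ha (by simpa using hab),
      CliqueAlgebra.val_singleton hm hb] at hc
    have h2 := commute_of_commute_mul H.group.1 (hM.sub ha) (hM.sub hb) hy (hM.comm a ha b hb) hab hc
    simp [h2.1, h2.2]
  · obtain ⟨a, b, c, hab, hac, hbc, rfl⟩ := Finset.card_eq_three.1 h
    have ha : a ∈ M := hT (by simp)
    have hb : b ∈ M := hT (by simp)
    have hcM : c ∈ M := hT (by simp)
    rw [CliqueAlgebra.val_insert hm (Finset.insert_subset hb (Finset.singleton_subset_iff.2 hcM)) ha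
        (by simp [hab, hac]),
      CliqueAlgebra.val_insert hm (Finset.singleton_subset_iff.2 hcM) hb (by simpa using hbc),
      CliqueAlgebra.val_singleton hm hcM] at hc
    have haD := hM.sub ha
    have hbD := hM.sub hb
    have hcD := hM.sub hcM
    have cab : Commute a b := hM.comm a ha b hb
    have cac : Commute a c := hM.comm a ha c hcM
    have cbc : Commute b c := hM.comm b hb c hcM
    by_cases hya : Commute y a
    · have hbc' : Commute y (b * c) := by
        have := hya.mul_right hc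
        rwa [FischerTypes.mul_self_cancel H.group.1 haD] at this
      have h2 := commute_of_commute_mul H.group.1 hbD hcD hy cbc hbc hbc'
      simp [hya, h2.1, h2.2]
    have hyb : ¬ Commute y b := fun hyb => hya (by
      have hac' : Commute y (a * c) := by
        have := hyb.mul_right hc
        rwa [← mul_assoc, cab.symm.eq, mul_assoc, FischerTypes.mul_self_cancel H.group.1 hbD] at this
      exact (commute_of_commute_mul H.group.1 haD hcD hy cac hac hac').1)
    have hyc : ¬ Commute y c := fun hyc => hya (by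
      have hab' : Commute y (a * b) := by
        have := hc.mul_right hyc
        rwa [mul_assoc, mul_assoc, FischerTypes.mul_self H.group.1 hcD, mul_one] at this
      exact (commute_of_commute_mul H.group.1 haD hbD hy cab hab hab').1)
    exfalso
    refine FischerTypes.not_commute_conj H.group.1 haD hy (fun h0 => hya h0.symm) ?_
    have key : b * c * y * c * b = a * y * a := by
      have h1 := hc.eq
      have ha2 := FischerTypes.mul_self H.group.1 haD
      have hb2 := FischerTypes.mul_self H.group.1 hbD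
      have hc2 := FischerTypes.mul_self H.group.1 hcD
      calc b * c * y * c * b = a * (a * (b * c) * y) * c * b := by
            simp [mul_assoc, FischerTypes.mul_self_cancel H.group.1 haD]
        _ = a * (y * (a * (b * c))) * c * b := by rw [h1]
        _ = a * y * a := by
            simp [mul_assoc, FischerTypes.mul_self_cancel H.group.1 hbD,
              FischerTypes.mul_self_cancel H.group.1 hcD, hb2, hc2]
    rw [← key]
    exact FischerTypes.commute_conj_pair H.group.1 hbD hcD hy cbc (fun h0 => hyb h0.symm)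
      (fun h0 => hyc h0.symm)

/-- Five members of `M` lie in a block. -/
theorem exists_block {F : Finset G} (hF : F ⊆ M) (h5 : F.card = 5) :
    ∃ B ⊆ M, B.card = 8 ∧ F ⊆ B ∧ val M B = 1 := by
  have hm := commM H hM
  obtain ⟨t, ht3, hnd, hD, hc, hp⟩ := extends_five H F.toList F.nodup_toList (by simp [h5])
    (fun a ha => hM.sub (hF (Finset.mem_toList.1 ha)))
    (fun a ha b hb => hM.comm a (hF (Finset.mem_toList.1 ha)) b (hF (Finset.mem_toList.1 hb)))
  rw [List.nodup_append] at hnd
  obtain ⟨t0, t1, t2, rfl⟩ := List.length_eq_three.1 ht3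
  simp only [List.nodup_cons, List.mem_cons, List.not_mem_nil, not_false_iff, List.nodup_nil, and_true,
    or_false, not_or] at hnd
  have hd0 : t0 ∈ D := hD t0 (by simp)
  have hd1 : t1 ∈ D := hD t1 (by simp)
  have hd2 : t2 ∈ D := hD t2 (by simp)
  have c01 : Commute t0 t1 := hc t0 (by simp) t1 (by simp)
  have c02 : Commute t0 t2 := hc t0 (by simp) t2 (by simp)
  have c12 : Commute t1 t2 := hc t1 (by simp) t2 (by simp)
  have hpF : val M F * (t0 * (t1 * t2)) = 1 := by
    rw [CliqueAlgebra.val_eq_prod hm hF F.nodup_toList (fun x => Finset.mem_toList)]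
    simpa [List.prod_append] using hp
  have hprod : t0 * (t1 * t2) = val M F := by
    rw [← inv_eq_of_mul_eq_one_right hpF, inv_eq_of_mul_eq_one_right (CliqueAlgebra.val_mul_self hm hF)]
  -- a member commuting with the five commutes with the other three
  have htM : ∀ x ∈ [t0, t1, t2], x ∈ M := by
    have hall : ∀ m ∈ M, Commute m t0 ∧ Commute m t1 ∧ Commute m t2 := by
      intro m hmM
      have h3 : Commute m (t0 * (t1 * t2)) := hprod ▸ CliqueAlgebra.commute_val hm hF
        fun a ha => hM.comm m hmM a (hF ha)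
      have hmD := hM.sub hmM
      by_cases h0 : Commute m t0
      · have h12 : Commute m (t1 * t2) := by
          have := h0.mul_right h3
          rwa [FischerTypes.mul_self_cancel H.group.1 hd0] at this
        exact ⟨h0, commute_of_commute_mul H.group.1 hd1 hd2 hmD c12 hnd.2.1.2 h12⟩
      exfalso
      by_cases h1 : Commute m t1
      · have h02 : Commute m (t0 * t2) := by
          have := h1.mul_right h3
          rwa [← mul_assoc, c01.symm.eq, mul_assoc, FischerTypes.mul_self_cancel H.group.1 hd1] at this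
        exact h0 (commute_of_commute_mul H.group.1 hd0 hd2 hmD c02 hnd.2.1.1.2 h02).1
      by_cases h2 : Commute m t2
      · have h01 : Commute m (t0 * t1) := by
          have := h3.mul_right h2
          rwa [mul_assoc, mul_assoc, FischerTypes.mul_self H.group.1 hd2, mul_one] at this
        exact h0 (commute_of_commute_mul H.group.1 hd0 hd1 hmD c01 hnd.2.1.1.1 h01).1
      refine FischerTypes.not_commute_conj H.group.1 hd0 hmD (fun h => h0 h.symm) ?_
      have hb2 := FischerTypes.mul_self H.group.1 hd1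
      have hc2 := FischerTypes.mul_self H.group.1 hd2
      have key : t1 * t2 * m * t2 * t1 = t0 * m * t0 :=
        calc t1 * t2 * m * t2 * t1 = t0 * (t0 * (t1 * t2) * m) * t2 * t1 := by
              simp [mul_assoc, FischerTypes.mul_self_cancel H.group.1 hd0]
          _ = t0 * (m * (t0 * (t1 * t2))) * t2 * t1 := by rw [h3.eq]
          _ = t0 * m * t0 := by
              simp [mul_assoc, FischerTypes.mul_self_cancel H.group.1 hd1,
                FischerTypes.mul_self_cancel H.group.1 hd2, hb2, hc2]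
      rw [← key]
      exact FischerTypes.commute_conj_pair H.group.1 hd1 hd2 hmD c12 (fun h => h1 h.symm) (fun h => h2 h.symm)
    intro x hx
    simp only [List.mem_cons, List.not_mem_nil, or_false] at hx
    rcases hx with rfl | rfl | rfl
    exacts [hM.max _ hd0 fun m hmM => (hall m hmM).1.symm, hM.max _ hd1 fun m hmM => (hall m hmM).2.1.symm,
      hM.max _ hd2 fun m hmM => (hall m hmM).2.2.symm]
  have h0F : t0 ∉ F := fun h => hnd.2.2 t0 (Finset.mem_toList.2 h) t0 (Or.inl rfl) rfl
  have h1F : t1 ∉ F := fun h => hnd.2.2 t1 (Finset.mem_toList.2 h) t1 (Or.inr (Or.inl rfl)) rfl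
  have h2F : t2 ∉ F := fun h => hnd.2.2 t2 (Finset.mem_toList.2 h) t2 (Or.inr (Or.inr rfl)) rfl
  have hT : ({t0, t1, t2} : Finset G) ⊆ M := by
    intro x hx
    simp only [Finset.mem_insert, Finset.mem_singleton] at hx
    exact htM x (by simpa using hx)
  have hdisj : Disjoint F ({t0, t1, t2} : Finset G) := by
    simp [Finset.disjoint_insert_right, h0F, h1F, h2F]
  refine ⟨F ∪ {t0, t1, t2}, Finset.union_subset hF hT, ?_, Finset.subset_union_left, ?_⟩
  · rw [Finset.card_union_of_disjoint hdisj, h5, Finset.card_eq_three.2 ⟨t0, t1, t2, hnd.2.1.1.1,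
      hnd.2.1.1.2, hnd.2.1.2, rfl⟩]
  · rw [show F ∪ {t0, t1, t2} = F ∆ {t0, t1, t2} from hdisj.symmDiff_eq_sup.symm,
      CliqueAlgebra.val_symmDiff hm hF hT,
      CliqueAlgebra.val_eq_prod hm hT (l := [t0, t1, t2]) (by simp [hnd.2.1.1.1, hnd.2.1.1.2, hnd.2.1.2])
        (fun x => by simp),
      List.prod_cons, List.prod_cons, List.prod_singleton]
    exact hpF

/-- Every product of members of `M` is one of at most four, of the same parity. -/
theorem exists_small {T : Finset G} (hT : T ⊆ M) :
    ∃ U ⊆ M, U.card ≤ 4 ∧ val M U = val M T ∧ (Even U.card ↔ Even T.card) := by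
  induction h : T.card using Nat.strong_induction_on generalizing T with
  | _ n ih =>
    by_cases h4 : T.card ≤ 4
    · exact ⟨T, hT, h4, rfl, by rw [h]⟩
    obtain ⟨F, hF, hF5⟩ := Finset.exists_subset_card_eq (show 5 ≤ T.card by omega)
    obtain ⟨B, hB, hB8, hFB, hBv⟩ := exists_block H hM (hF.trans hT) hF5
    have hsub : T ∆ B ⊆ M := fun x hx => by
      rcases Finset.mem_symmDiff.1 hx with ⟨hx, -⟩ | ⟨hx, -⟩
      exacts [hT hx, hB hx]
    have h1 := Finset.card_sdiff_add_card_inter T B
    have h2 := Finset.card_sdiff_add_card_inter B T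
    have h3 : (T ∆ B).card = (T \ B).card + (B \ T).card := Finset.card_union_of_disjoint disjoint_sdiff_sdiff
    have h5 : 5 ≤ (T ∩ B).card := hF5 ▸ Finset.card_le_card (Finset.subset_inter hF hFB)
    rw [Finset.inter_comm B T] at h2
    obtain ⟨U, hU, hU4, hUv, hUp⟩ := ih _ (by omega) hsub rfl
    refine ⟨U, hU, hU4, ?_, hUp.trans ?_⟩
    · rw [hUv, CliqueAlgebra.val_symmDiff (commM H hM) hT hB, hBv, mul_one]
    · rw [Nat.even_iff, Nat.even_iff, ← h]
      omega

/-- A block is determined by five of its members. -/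
theorem block_unique {B B' : Finset G} (hB : B ⊆ M) (hB8 : B.card = 8) (hBv : val M B = 1) (hB' : B' ⊆ M)
    (hB'8 : B'.card = 8) (hB'v : val M B' = 1) (h5 : 5 ≤ (B ∩ B').card) : B = B' := by
  have h1 := Finset.card_sdiff_add_card_inter B B'
  have h2 := Finset.card_sdiff_add_card_inter B' B
  have h3 : (B ∆ B').card = (B \ B').card + (B' \ B).card := Finset.card_union_of_disjoint disjoint_sdiff_sdiff
  rw [Finset.inter_comm B' B] at h2
  have hsub : B ∆ B' ⊆ M := fun x hx => by
    rcases Finset.mem_symmDiff.1 hx with ⟨hx, -⟩ | ⟨hx, -⟩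
    exacts [hB hx, hB' hx]
  have := eq_empty_of_val H hM hsub
    (by rw [CliqueAlgebra.val_symmDiff (commM H hM) hB hB', hBv, hB'v, one_mul]) (by omega)
  rwa [← Finset.bot_eq_empty, symmDiff_eq_bot] at this

/-- The eight members of `M` commuting with an outside member form a block. -/
theorem val_adj {z : G} (hz : z ∈ D) (hzM : z ∉ M) (h8 : (adj D M z).card = 8) :
    val M (adj D M z) = 1 := by
  have hm := commM H hM
  have hsub : adj D M z ⊆ M := Finset.filter_subset _ _
  obtain ⟨F, hF, hF5⟩ := Finset.exists_subset_card_eq (show 5 ≤ (adj D M z).card by omega)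
  obtain ⟨B, hB, hB8, hFB, hBv⟩ := exists_block H hM (hF.trans hsub) hF5
  suffices hBA : B ⊆ adj D M z by
    rwa [Finset.eq_of_subset_of_card_le hBA (by omega)] at hBv
  have hW : B \ F ⊆ M := Finset.sdiff_subset.trans hB
  have hval : val M (B \ F) = val M F := by
    have e : B \ F = B ∆ F := by
      ext x
      simp only [Finset.mem_sdiff, Finset.mem_symmDiff]
      exact ⟨fun h => Or.inl h, fun h => h.elim id fun h => absurd (hFB h.1) h.2⟩
    rw [e, CliqueAlgebra.val_symmDiff hm hB (hF.trans hsub), hBv, one_mul]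
  have hc : Commute z (val M (B \ F)) :=
    hval ▸ CliqueAlgebra.commute_val hm (hF.trans hsub) fun a ha => (mem_adj.1 (hF ha)).2.2.2
  have h3 : (B \ F).card ≤ 3 := by rw [Finset.card_sdiff_of_subset hFB]; omega
  intro x hx
  by_cases hxF : x ∈ F
  · exact hF hxF
  refine mem_adj.2 ⟨hB hx, hM.sub (hB hx), fun he => hzM (he ▸ hB hx), ?_⟩
  exact commute_of_val H hM hz hW h3 hc x (Finset.mem_sdiff.2 ⟨hx, hxF⟩)

/-- Two blocks meet evenly. -/
theorem block_inter {B B' : Finset G} (hB : B ⊆ M) (hB8 : B.card = 8) (hBv : val M B = 1) (hB' : B' ⊆ M)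
    (hB'8 : B'.card = 8) (hB'v : val M B' = 1) :
    (B ∩ B').card = 0 ∨ (B ∩ B').card = 2 ∨ (B ∩ B').card = 4 ∨ B = B' := by
  refine DoubleCount.inter_even (card_clique H hM).1 (ℬ := (M.powersetCard 8).filter fun C => val M C = 1)
    (fun C hC => ?_) (fun F hF => ?_) ?_ ?_
  · exact Finset.mem_powersetCard.1 (Finset.mem_filter.1 hC).1
  · rw [Finset.mem_powersetCard] at hF
    obtain ⟨C, hC, hC8, hFC, hCv⟩ := exists_block H hM hF.1 hF.2
    refine ⟨C, ⟨Finset.mem_filter.2 ⟨Finset.mem_powersetCard.2 ⟨hC, hC8⟩, hCv⟩, hFC⟩, ?_⟩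
    rintro C' ⟨hC', hFC'⟩
    obtain ⟨hC'p, hC'v⟩ := Finset.mem_filter.1 hC'
    rw [Finset.mem_powersetCard] at hC'p
    refine block_unique H hM hC'p.1 hC'p.2 hC'v hC hC8 hCv ?_
    rw [← hF.2]
    exact Finset.card_le_card (Finset.subset_inter hFC' hFC)
  · exact Finset.mem_filter.2 ⟨Finset.mem_powersetCard.2 ⟨hB, hB8⟩, hBv⟩
  · exact Finset.mem_filter.2 ⟨Finset.mem_powersetCard.2 ⟨hB', hB'8⟩, hB'v⟩

/-- A single member is not an even product. -/
theorem not_mem_evenSub {m : G} (hm : m ∈ M) : m ∉ evenSub (commM H hM) := by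
  rintro ⟨T, hT, heT, hv⟩
  obtain ⟨U, hU, hU4, hUv, hUe⟩ := exists_small H hM hT
  have hcm := commM H hM
  have hsub : U ∆ {m} ⊆ M := fun x hx => by
    rcases Finset.mem_symmDiff.1 hx with ⟨hx, -⟩ | ⟨hx, -⟩
    exacts [hU hx, Finset.singleton_subset_iff.2 hm hx]
  have h1 := Finset.card_sdiff_add_card_inter U {m}
  have h2 := Finset.card_sdiff_add_card_inter {m} U
  have h3 : (U ∆ {m}).card = (U \ {m}).card + ({m} \ U).card := Finset.card_union_of_disjoint disjoint_sdiff_sdiff
  rw [Finset.inter_comm {m} U, Finset.card_singleton] at h2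
  have h0 := eq_empty_of_val H hM hsub (by
    rw [CliqueAlgebra.val_symmDiff hcm hU (Finset.singleton_subset_iff.2 hm), CliqueAlgebra.val_singleton hcm hm,
      hUv, hv]
    exact hcm.sq m hm) (by omega)
  rw [← Finset.bot_eq_empty, symmDiff_eq_bot] at h0
  rw [h0, Finset.card_singleton] at hUe
  exact absurd (hUe.2 heT) (by decide)

/-- An element of `⟨M⟩` fixing an outside member with a neighbour in `M` is a product of neighbours. -/
theorem exists_adj_val {z : G} (hz : z ∈ D) (hzM : z ∉ M) (hne : (adj D M z).Nonempty) {T : Finset G}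
    (hT : T ⊆ M) (hc : Commute z (val M T)) : ∃ U ⊆ adj D M z, val M U = val M T := by
  have hm := commM H hM
  obtain ⟨U, hU, hU4, hUv, -⟩ := exists_small H hM hT
  rw [← hUv] at hc ⊢
  have hadj : ∀ a ∈ M, Commute z a → a ∈ adj D M z := fun a ha h =>
    mem_adj.2 ⟨ha, hM.sub ha, fun he => hzM (he ▸ ha), h⟩
  by_cases h3 : U.card ≤ 3
  · exact ⟨U, fun a ha => hadj a (hU ha) (commute_of_val H hM hz hU h3 hc a ha), rfl⟩
  by_cases hex : ∃ a ∈ U, Commute z a
  · obtain ⟨a, ha, hza⟩ := hex
    have he := CliqueAlgebra.val_insert hm ((Finset.erase_subset a U).trans hU) (hU ha) (Finset.notMem_erase a U)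
    rw [Finset.insert_erase ha] at he
    have hc' : Commute z (val M (U.erase a)) := by
      have := hza.mul_right hc
      rwa [he, ← mul_assoc, hm.sq a (hU ha), one_mul] at this
    refine ⟨U, fun b hb => ?_, rfl⟩
    by_cases hba : b = a
    · exact hba ▸ hadj a (hU ha) hza
    exact hadj b (hU hb) (commute_of_val H hM hz ((Finset.erase_subset a U).trans hU)
      (by rw [Finset.card_erase_of_mem ha]; omega) hc' b (Finset.mem_erase.2 ⟨hba, hb⟩))
  push Not at hex
  obtain ⟨d, hd⟩ := hne
  obtain ⟨hdM, hdz⟩ := mem_adj.1 hd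
  have hdU : d ∉ U := fun h => hex d h hdz.2.2
  have hF : insert d U ⊆ M := Finset.insert_subset hdM hU
  obtain ⟨B, hB, hB8, hFB, hBv⟩ := exists_block H hM hF (by rw [Finset.card_insert_of_notMem hdU]; omega)
  have hW : B \ insert d U ⊆ M := Finset.sdiff_subset.trans hB
  have hWe : B \ insert d U = B ∆ insert d U := by
    ext x
    simp only [Finset.mem_sdiff, Finset.mem_symmDiff]
    exact ⟨fun h => Or.inl h, fun h => h.elim id fun h => absurd (hFB h.1) h.2⟩
  have hWv : val M (B \ insert d U) = d * val M U := by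
    rw [hWe, CliqueAlgebra.val_symmDiff hm hB hF, hBv, one_mul, CliqueAlgebra.val_insert hm hU hdM hdU]
  have hcW : Commute z (val M (B \ insert d U)) := hWv ▸ Commute.mul_right hdz.2.2 hc
  have hWc := commute_of_val H hM hz hW
    (by rw [Finset.card_sdiff_of_subset hFB, Finset.card_insert_of_notMem hdU]; omega) hcW
  refine ⟨insert d (B \ insert d U), Finset.insert_subset hd fun a ha => hadj a (hW ha) (hWc a ha), ?_⟩
  rw [CliqueAlgebra.val_insert hm hW hdM (by simp), hWv, ← mul_assoc, hm.sq d hdM, one_mul]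

end CfsgLib.Transpositions.TypeM24
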