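import Cfsg.Agent.FischerTypes.M22Graph
import Cfsg.Agent.FischerTypes.M22Mu

/-!
# Hyperbolic planes inside `D_d` in type M(22)

In the model of `D_d` as the isotropic points of `SU(6,2)`: common neighbours of three members spanning a
plane and a point are 12 in number, those of two orthogonal planes three, pairwise non-commuting; a path
of six members spans.
-/

set_option autoImplicit false
set_option linter.unusedSectionVars false

namespace CfsgLib.Transpositions.M22Unique

open Cfsg CfsgLib.FischerTypes CfsgLib.U62 CfsgLib.RepBounds.Unit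

section field

variable {F : Type*} [Field F] [Fintype F] (C : ConjField F) {ι : Type*} [Fintype ι]

/-- Translations along an isotropic vector make the four values of a functional equally frequent. -/
theorem card_fibre (hC : C.q = 2) (P : (ι → F) → Prop) (s w : ι → F) (hsw : herm C s w ≠ 0)
    (hP : ∀ v, P v → ∀ k : F, P (v + k • s)) :
    Nat.card {v // P v} = 4 * Nat.card {v // P v ∧ herm C v w = 0} := by
  have e : {v // P v} ≃ F × {v // P v ∧ herm C v w = 0} :=
    { toFun := fun v => (herm C v.1 w / herm C s w, ⟨v.1 + (-(herm C v.1 w / herm C s w)) • s, hP _ v.2 _, by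
        rw [herm_add_left, herm_smul_left, neg_mul, div_mul_cancel₀ _ hsw, add_neg_cancel]⟩)
      invFun := fun p => ⟨p.2.1 + p.1 • s, hP _ p.2.2.1 _⟩
      left_inv := fun v => Subtype.ext (by
        show v.1 + (-(herm C v.1 w / herm C s w)) • s + (herm C v.1 w / herm C s w) • s = v.1
        rw [add_assoc, ← add_smul, neg_add_cancel, zero_smul, add_zero])
      right_inv := fun p => by
        have hk : herm C (p.2.1 + p.1 • s) w / herm C s w = p.1 := by
          rw [herm_add_left, herm_smul_left, p.2.2.2, zero_add, mul_div_cancel_right₀ _ hsw]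
        refine Prod.ext hk (Subtype.ext ?_)
        show p.2.1 + p.1 • s + (-(herm C (p.2.1 + p.1 • s) w / herm C s w)) • s = p.2.1
        rw [hk, add_assoc, ← add_smul, add_neg_cancel, zero_smul, add_zero] }
  rw [Nat.card_congr e, Nat.card_prod, Nat.card_eq_fintype_card, C.card, hC]
  rfl

/-- A vector orthogonal to a spanning family is zero. -/
theorem eq_zero_of_orth [DecidableEq ι] {κ : Type*} [Fintype κ] {w : κ → ι → F}
    (hκ : Fintype.card κ = Fintype.card ι) (hli : LinearIndependent F w) {v : ι → F}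
    (hv : ∀ k, herm C v (w k) = 0) : v = 0 := by
  by_contra hv0
  obtain ⟨y, hy⟩ := exists_herm_eq C hv0 1
  have hspan : Submodule.span F (Set.range w) = ⊤ :=
    hli.span_eq_top_of_card_eq_finrank' (by rw [hκ, Module.finrank_fintype_fun_eq_card])
  have h : ∀ z ∈ Submodule.span F (Set.range w), herm C z v = 0 := by
    intro z hz
    induction hz using Submodule.span_induction with
    | mem x hx =>
      obtain ⟨k, rfl⟩ := hx
      rw [← conj_herm, hv, map_zero]
    | zero => exact herm_zero_left C v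
    | add x y _ _ hx hy => rw [herm_add_left, hx, hy, add_zero]
    | smul a x _ hx => rw [herm_smul_left, hx, mul_zero]
  rw [h y (by rw [hspan]; trivial)] at hy
  exact zero_ne_one hy

/-- The pairing of a combination of six vectors. -/
theorem herm_sum_six (g : Fin 6 → F) (w : Fin 6 → ι → F) (z : ι → F) :
    herm C (∑ k, g k • w k) z = g 0 * herm C (w 0) z + g 1 * herm C (w 1) z + g 2 * herm C (w 2) z +
      g 3 * herm C (w 3) z + g 4 * herm C (w 4) z + g 5 * herm C (w 5) z := by
  simp only [Fin.sum_univ_six, herm_add_left, herm_smul_left]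

/-- A path of six isotropic vectors is independent. -/
theorem path_independent {w : Fin 6 → ι → F}
    (h0 : ∀ j k : Fin 6, ¬ ((j : ℕ) + 1 = k ∨ (k : ℕ) + 1 = j) → herm C (w j) (w k) = 0)
    (h1 : ∀ j k : Fin 6, (j : ℕ) + 1 = k ∨ (k : ℕ) + 1 = j → herm C (w j) (w k) ≠ 0) :
    LinearIndependent F w := by
  rw [Fintype.linearIndependent_iff]
  intro g hg
  have key : ∀ z, g 0 * herm C (w 0) z + g 1 * herm C (w 1) z + g 2 * herm C (w 2) z +
      g 3 * herm C (w 3) z + g 4 * herm C (w 4) z + g 5 * herm C (w 5) z = 0 := fun z => by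
    rw [← herm_sum_six, hg, herm_zero_left]
  have e1 : g 1 = 0 := by
    have := key (w 0)
    simpa [h0 0 0 (by decide), h0 2 0 (by decide), h0 3 0 (by decide), h0 4 0 (by decide), h0 5 0 (by decide),
      h1 1 0 (by decide)] using this
  have e3 : g 3 = 0 := by
    have := key (w 2)
    simpa [h0 0 2 (by decide), h0 2 2 (by decide), h0 4 2 (by decide), h0 5 2 (by decide), e1,
      h1 3 2 (by decide)] using this
  have e5 : g 5 = 0 := by
    have := key (w 4)
    simpa [h0 0 4 (by decide), h0 1 4 (by decide), h0 2 4 (by decide), h0 4 4 (by decide), e3,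
      h1 5 4 (by decide)] using this
  have e4 : g 4 = 0 := by
    have := key (w 5)
    simpa [h0 0 5 (by decide), h0 1 5 (by decide), h0 2 5 (by decide), h0 3 5 (by decide), h0 5 5 (by decide),
      h1 4 5 (by decide)] using this
  have e2 : g 2 = 0 := by
    have := key (w 3)
    simpa [h0 0 3 (by decide), h0 1 3 (by decide), h0 3 3 (by decide), h0 5 3 (by decide), e4,
      h1 2 3 (by decide)] using this
  have e0 : g 0 = 0 := by
    have := key (w 1)
    simpa [h0 1 1 (by decide), h0 3 1 (by decide), h0 4 1 (by decide), h0 5 1 (by decide), e2,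
      h1 0 1 (by decide)] using this
  intro k
  fin_cases k <;> assumption

/-- Two hyperbolic pairs and a further two vectors orthogonal to them span, if the latter are independent. -/
theorem planes_independent {x y u t z z' : ι → F} (hxx : herm C x x = 0) (hyy : herm C y y = 0)
    (huu : herm C u u = 0) (htt : herm C t t = 0) (hxy : herm C x y ≠ 0) (hut : herm C u t ≠ 0)
    (hxu : herm C x u = 0) (hxt : herm C x t = 0) (hyu : herm C y u = 0) (hyt : herm C y t = 0)
    (hz : ∀ w ∈ [x, y, u, t], herm C z w = 0) (hz' : ∀ w ∈ [x, y, u, t], herm C z' w = 0)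
    (hzz : ∀ a b : F, a • z + b • z' = 0 → a = 0 ∧ b = 0) :
    LinearIndependent F ![x, y, u, t, z, z'] := by
  have sy : ∀ {p q : ι → F}, herm C p q = 0 → herm C q p = 0 := fun {p q} h => by
    rw [← conj_herm, h, map_zero]
  have sn : ∀ {p q : ι → F}, herm C p q ≠ 0 → herm C q p ≠ 0 := fun {p q} h h0 => h (sy h0)
  rw [Fintype.linearIndependent_iff]
  intro g hg
  have key : ∀ p, g 0 * herm C x p + g 1 * herm C y p + g 2 * herm C u p + g 3 * herm C t p +
      g 4 * herm C z p + g 5 * herm C z' p = 0 := fun p => by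
    have := herm_sum_six C g ![x, y, u, t, z, z'] p
    rw [hg, herm_zero_left] at this
    exact this.symm
  have e1 : g 1 = 0 := by
    simpa [hxx, sy hxu, sy hxt, hz x (by simp), hz' x (by simp), sn hxy] using key x
  have e0 : g 0 = 0 := by
    simpa [hyy, sy hyu, sy hyt, hz y (by simp), hz' y (by simp), hxy] using key y
  have e3 : g 3 = 0 := by
    simpa [huu, hxu, hyu, hz u (by simp), hz' u (by simp), sn hut] using key u
  have e2 : g 2 = 0 := by
    simpa [htt, hxt, hyt, hz t (by simp), hz' t (by simp), hut] using key t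
  have h45 : g 4 = 0 ∧ g 5 = 0 := hzz _ _ (by
    simpa [Fin.sum_univ_six, e0, e1, e2, e3] using hg)
  intro k
  fin_cases k
  exacts [e0, e1, e2, e3, h45.1, h45.2]

end field

variable {G : Type*} [Group G] {D : Set G} {d : G} (M : PerpModel D d)

include M

/-- A vector of each member. -/
theorem exists_rep : ∃ v : G → I6 → M.K, ∀ x, ∀ hx : x ∈ FischerTypes.perp D d,
    herm M.C (v x) (v x) = 0 ∧ v x ≠ 0 ∧ bar hx = M.θ (tv M.C (v x)) := by
  classical
  refine ⟨fun x => if hx : x ∈ FischerTypes.perp D d then (M.exists_pt hx).choose else 0, fun x hx => ?_⟩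
  simp only [dif_pos hx]
  exact (M.exists_pt hx).choose_spec

/-- Two members commuting with two orthogonal planes and with each other are equal. -/
theorem eq_of_planes {a b u w z z' : G} (ha : a ∈ FischerTypes.perp D d) (hb : b ∈ FischerTypes.perp D d)
    (hu : u ∈ FischerTypes.perp D d) (hw : w ∈ FischerTypes.perp D d) (hab : ¬ Commute a b) (huw : ¬ Commute u w)
    (hc : ∀ p ∈ [a, b], ∀ q ∈ [u, w], Commute p q) (hz : z ∈ FischerTypes.perp D d)
    (hz' : z' ∈ FischerTypes.perp D d) (hzc : ∀ p ∈ [a, b, u, w], Commute z p)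
    (hz'c : ∀ p ∈ [a, b, u, w], Commute z' p) (hzz : Commute z z') : z = z' := by
  by_contra hne
  obtain ⟨v, hv⟩ := exists_rep M
  have iso := fun {x} hx => (hv x hx).1
  have nz := fun {x} hx => (hv x hx).2.1
  have cm : ∀ {x y}, ∀ hx : x ∈ FischerTypes.perp D d, ∀ hy : y ∈ FischerTypes.perp D d,
      Commute x y ↔ herm M.C (v y) (v x) = 0 := fun {x y} hx hy =>
    M.commute_iff hx hy (iso hx) (iso hy) (nz hy) (hv x hx).2.2 (hv y hy).2.2
  have hli := planes_independent M.C (iso ha) (iso hb) (iso hu) (iso hw)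
    (fun h0 => hab ((cm hb ha).2 h0).symm) (fun h0 => huw ((cm hw hu).2 h0).symm)
    ((cm hu ha).1 (hc a (by simp) u (by simp)).symm) ((cm hw ha).1 (hc a (by simp) w (by simp)).symm)
    ((cm hu hb).1 (hc b (by simp) u (by simp)).symm) ((cm hw hb).1 (hc b (by simp) w (by simp)).symm)
    (z := v z) (z' := v z')
    (by
      simp only [List.mem_cons, List.not_mem_nil, or_false, forall_eq_or_imp, forall_eq]
      exact ⟨(cm ha hz).1 (hzc a (by simp)).symm, (cm hb hz).1 (hzc b (by simp)).symm,
        (cm hu hz).1 (hzc u (by simp)).symm, (cm hw hz).1 (hzc w (by simp)).symm⟩)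
    (by
      simp only [List.mem_cons, List.not_mem_nil, or_false, forall_eq_or_imp, forall_eq]
      exact ⟨(cm ha hz').1 (hz'c a (by simp)).symm, (cm hb hz').1 (hz'c b (by simp)).symm,
        (cm hu hz').1 (hz'c u (by simp)).symm, (cm hw hz').1 (hz'c w (by simp)).symm⟩)
    (fun p q h0 => by
      by_cases hq : q = 0
      · rw [hq, zero_smul, add_zero, smul_eq_zero] at h0
        exact ⟨h0.resolve_right (nz hz), hq⟩
      · refine absurd ?_ (M.not_smul_of_ne hz hz' (iso hz) (nz hz') (hv z hz).2.2 (hv z' hz').2.2 hne (-(q⁻¹ * p)))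
        rw [neg_smul, mul_smul, eq_neg_iff_add_eq_zero, add_comm]
        have := congrArg (fun t => q⁻¹ • t) h0
        simpa [smul_add, inv_smul_smul₀ hq] using this)
  refine nz hz (eq_zero_of_orth M.C (by simp) hli fun k => ?_)
  fin_cases k
  exacts [(cm ha hz).1 (hzc a (by simp)).symm, (cm hb hz).1 (hzc b (by simp)).symm,
    (cm hu hz).1 (hzc u (by simp)).symm, (cm hw hz).1 (hzc w (by simp)).symm, iso hz, (cm hz' hz).1 hzz.symm]

/-- A member commuting with two non-commuting members of the line of two planes, and with all but one of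
the latter, is the remaining partner. -/
theorem eq_of_line {a b u w z z' y : G} (ha : a ∈ FischerTypes.perp D d) (hb : b ∈ FischerTypes.perp D d)
    (hu : u ∈ FischerTypes.perp D d) (hw : w ∈ FischerTypes.perp D d) (hab : ¬ Commute a b) (huw : ¬ Commute u w)
    (hc : ∀ p ∈ [a, b], ∀ q ∈ [u, w], Commute p q) (hz : z ∈ FischerTypes.perp D d)
    (hz' : z' ∈ FischerTypes.perp D d) (hzc : ∀ p ∈ [a, b, u, w], Commute z p)
    (hz'c : ∀ p ∈ [a, b, u, w], Commute z' p) (hzz : ¬ Commute z z') (hy : y ∈ FischerTypes.perp D d)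
    (hya : Commute y a) (hyb : Commute y b) (hyw : Commute y w) (hyz : Commute y z) (hyz' : Commute y z') :
    y = w := by
  obtain ⟨v, hv⟩ := exists_rep M
  have iso := fun {x} hx => (hv x hx).1
  have nz := fun {x} hx => (hv x hx).2.1
  have cm : ∀ {x y}, ∀ hx : x ∈ FischerTypes.perp D d, ∀ hy : y ∈ FischerTypes.perp D d,
      Commute x y ↔ herm M.C (v y) (v x) = 0 := fun {x y} hx hy =>
    M.commute_iff hx hy (iso hx) (iso hy) (nz hy) (hv x hx).2.2 (hv y hy).2.2
  have hzz1 : herm M.C (v z) (v z') ≠ 0 := fun h0 => hzz ((cm hz' hz).2 h0).symm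
  have hzz2 : herm M.C (v z') (v z) ≠ 0 := fun h0 => hzz ((cm hz hz').2 h0)
  have hli := planes_independent M.C (iso ha) (iso hb) (iso hu) (iso hw)
    (fun h0 => hab ((cm hb ha).2 h0).symm) (fun h0 => huw ((cm hw hu).2 h0).symm)
    ((cm hu ha).1 (hc a (by simp) u (by simp)).symm) ((cm hw ha).1 (hc a (by simp) w (by simp)).symm)
    ((cm hu hb).1 (hc b (by simp) u (by simp)).symm) ((cm hw hb).1 (hc b (by simp) w (by simp)).symm)
    (z := v z) (z' := v z')
    (by
      simp only [List.mem_cons, List.not_mem_nil, or_false, forall_eq_or_imp, forall_eq]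
      exact ⟨(cm ha hz).1 (hzc a (by simp)).symm, (cm hb hz).1 (hzc b (by simp)).symm,
        (cm hu hz).1 (hzc u (by simp)).symm, (cm hw hz).1 (hzc w (by simp)).symm⟩)
    (by
      simp only [List.mem_cons, List.not_mem_nil, or_false, forall_eq_or_imp, forall_eq]
      exact ⟨(cm ha hz').1 (hz'c a (by simp)).symm, (cm hb hz').1 (hz'c b (by simp)).symm,
        (cm hu hz').1 (hz'c u (by simp)).symm, (cm hw hz').1 (hz'c w (by simp)).symm⟩)
    (fun p q h0 => by
      have h1 := congrArg (fun t => herm M.C t (v z)) h0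
      have h2 := congrArg (fun t => herm M.C t (v z')) h0
      simp only [herm_add_left, herm_smul_left, herm_zero_left, iso hz, iso hz', mul_zero, zero_add, add_zero] at h1 h2
      exact ⟨(mul_eq_zero.1 h2).resolve_right hzz1, (mul_eq_zero.1 h1).resolve_right hzz2⟩)
  have hwu : herm M.C (v w) (v u) ≠ 0 := fun h0 => huw ((cm hu hw).2 h0)
  set k : M.K := -(herm M.C (v y) (v u) / herm M.C (v w) (v u)) with hk
  have h0 : v y + k • v w = 0 := by
    refine eq_zero_of_orth M.C (by simp) hli fun j => ?_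
    have e : ∀ q, herm M.C (v y + k • v w) q = herm M.C (v y) q + k * herm M.C (v w) q := fun q => by
      rw [herm_add_left, herm_smul_left]
    fin_cases j
    · exact (e (v a)).trans (by rw [(cm ha hy).1 hya.symm, (cm ha hw).1 (hc a (by simp) w (by simp)), mul_zero, add_zero])
    · exact (e (v b)).trans (by rw [(cm hb hy).1 hyb.symm, (cm hb hw).1 (hc b (by simp) w (by simp)), mul_zero, add_zero])
    · exact (e (v u)).trans (by rw [hk, neg_mul, div_mul_cancel₀ _ hwu, add_neg_cancel])
    · exact (e (v w)).trans (by rw [(cm hw hy).1 hyw.symm, iso hw, mul_zero, add_zero])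
    · exact (e (v z)).trans (by rw [(cm hz hy).1 hyz.symm, (cm hz hw).1 (hzc w (by simp)), mul_zero, add_zero])
    · exact (e (v z')).trans (by rw [(cm hz' hy).1 hyz'.symm, (cm hz' hw).1 (hz'c w (by simp)), mul_zero, add_zero])
  refine (M.eq_of_smul hw hy (iso hw) (nz hy) (hv w hw).2.2 (hv y hy).2.2 (a := -k) ?_).symm
  rw [neg_smul, eq_neg_iff_add_eq_zero, h0]

/-- No member commutes with the six members of a path. -/
theorem false_of_path {w : Fin 6 → G} (hw : ∀ k, w k ∈ FischerTypes.perp D d)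
    (h0 : ∀ j k : Fin 6, ¬ ((j : ℕ) + 1 = k ∨ (k : ℕ) + 1 = j) → Commute (w j) (w k))
    (h1 : ∀ j k : Fin 6, (j : ℕ) + 1 = k ∨ (k : ℕ) + 1 = j → ¬ Commute (w j) (w k))
    {y : G} (hy : y ∈ FischerTypes.perp D d) (hyc : ∀ k, Commute y (w k)) : False := by
  obtain ⟨v, hv⟩ := exists_rep M
  have cm : ∀ {x y}, ∀ hx : x ∈ FischerTypes.perp D d, ∀ hy : y ∈ FischerTypes.perp D d,
      Commute x y ↔ herm M.C (v y) (v x) = 0 := fun {x y} hx hy =>
    M.commute_iff hx hy (hv x hx).1 (hv y hy).1 (hv y hy).2.1 (hv x hx).2.2 (hv y hy).2.2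
  refine (hv y hy).2.1 (eq_zero_of_orth M.C (w := fun k => v (w k)) (by simp)
    (path_independent M.C (fun j k h => (cm (hw k) (hw j)).1 (h0 k j (by tauto)))
      (fun j k h h' => h1 k j (by tauto) ((cm (hw k) (hw j)).2 h'))) fun k => ?_)
  exact (cm (hw k) hy).1 (hyc k).symm

variable [Finite G]

/-- The common neighbours of a plane and a further point. -/
theorem ncard_common_three {a b u : G} (ha : a ∈ FischerTypes.perp D d) (hb : b ∈ FischerTypes.perp D d)
    (hu : u ∈ FischerTypes.perp D d) (hab : ¬ Commute a b) (hua : Commute u a) (hub : Commute u b) :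
    (FischerTypes.perp D d ∩ (FischerTypes.perp D a ∩ FischerTypes.perp D b ∩ FischerTypes.perp D u)).ncard = 12 := by
  obtain ⟨v, hv⟩ := exists_rep M
  have iso := fun {x} hx => (hv x hx).1
  have nz := fun {x} hx => (hv x hx).2.1
  have hne : u ≠ a := fun he => hab (he ▸ hub)
  have hva : herm M.C (v a) (v b) ≠ 0 := fun h0 => hab
    ((M.commute_iff hb ha (iso hb) (iso ha) (nz ha) (hv b hb).2.2 (hv a ha).2.2).2 h0).symm
  have hau : herm M.C (v a) (v u) = 0 :=
    (M.commute_iff hu ha (iso hu) (iso ha) (nz ha) (hv u hu).2.2 (hv a ha).2.2).1 hua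
  have h160 := card_orth_orth M.C M.hq (iso ha) (iso hu) (nz ha)
    (by rw [← conj_herm, hau, map_zero]) (M.not_smul_of_ne ha hu (iso ha) (nz hu) (hv a ha).2.2 (hv u hu).2.2 hne.symm)
  have h40 := card_fibre M.C M.hq
    (fun x => herm M.C x x = 0 ∧ herm M.C x (v a) = 0 ∧ herm M.C x (v u) = 0) (v a) (v b) hva
    (fun x hx k => by
      obtain ⟨h1, h2, h3⟩ := hx
      have h2' : herm M.C (v a) x = 0 := by rw [← conj_herm, h2, map_zero]
      simp [herm_add_left, herm_add_right, herm_smul_left, herm_smul_right, iso ha, h1, h2, h2', h3, hau])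
  have hnot : u ∉ FischerTypes.perp D d ∩
      (FischerTypes.perp D a ∩ FischerTypes.perp D b ∩ FischerTypes.perp D u) := fun h => h.2.2.2.1 rfl
  have h := M.card_vectors (insert u (FischerTypes.perp D d ∩
      (FischerTypes.perp D a ∩ FischerTypes.perp D b ∩ FischerTypes.perp D u)))
    (Set.insert_subset hu Set.inter_subset_left)
    (fun x => herm M.C x (v a) = 0 ∧ herm M.C x (v u) = 0 ∧ herm M.C x (v b) = 0)
    ⟨herm_zero_left M.C _, herm_zero_left M.C _, herm_zero_left M.C _⟩
    (fun x hx p hp hp0 hxp => by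
      rw [← M.commute_iff ha hx (iso ha) hp hp0 (hv a ha).2.2 hxp,
        ← M.commute_iff hu hx (iso hu) hp hp0 (hv u hu).2.2 hxp,
        ← M.commute_iff hb hx (iso hb) hp hp0 (hv b hb).2.2 hxp]
      constructor
      · rintro (rfl | hh)
        · exact ⟨hua.symm, Commute.refl _, hub.symm⟩
        · exact ⟨hh.2.1.1.2.2, hh.2.2.2.2, hh.2.1.2.2.2⟩
      · rintro ⟨hxa, hxu, hxb⟩
        by_cases he : x = u
        · exact Or.inl he
        · exact Or.inr ⟨hx, ⟨⟨hx.1, fun he' => hab (he' ▸ hxb).symm, hxa⟩,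
            ⟨hx.1, fun he' => hab (he' ▸ hxa), hxb⟩⟩, hx.1, he, hxu⟩)
  rw [Set.ncard_insert_of_notMem hnot] at h
  rw [Nat.card_congr (Equiv.subtypeEquivRight (q := fun x => (herm M.C x x = 0 ∧ herm M.C x (v a) = 0 ∧
    herm M.C x (v u) = 0) ∧ herm M.C x (v b) = 0) fun x => by tauto)] at h
  rw [h160] at h40
  omega

/-- The common neighbours of two orthogonal planes. -/
theorem ncard_common_four {a b u w : G} (ha : a ∈ FischerTypes.perp D d) (hb : b ∈ FischerTypes.perp D d)
    (hu : u ∈ FischerTypes.perp D d) (hw : w ∈ FischerTypes.perp D d) (hab : ¬ Commute a b)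
    (hua : Commute u a) (hub : Commute u b) (huw : ¬ Commute u w) :
    (FischerTypes.perp D d ∩ (FischerTypes.perp D a ∩ FischerTypes.perp D b ∩
      (FischerTypes.perp D u ∩ FischerTypes.perp D w))).ncard = 3 := by
  obtain ⟨v, hv⟩ := exists_rep M
  have iso := fun {x} hx => (hv x hx).1
  have nz := fun {x} hx => (hv x hx).2.1
  have hne : u ≠ a := fun he => hab (he ▸ hub)
  have hva : herm M.C (v a) (v b) ≠ 0 := fun h0 => hab
    ((M.commute_iff hb ha (iso hb) (iso ha) (nz ha) (hv b hb).2.2 (hv a ha).2.2).2 h0).symm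
  have hvu : herm M.C (v u) (v w) ≠ 0 := fun h0 => huw
    ((M.commute_iff hw hu (iso hw) (iso hu) (nz hu) (hv w hw).2.2 (hv u hu).2.2).2 h0).symm
  have hau : herm M.C (v a) (v u) = 0 :=
    (M.commute_iff hu ha (iso hu) (iso ha) (nz ha) (hv u hu).2.2 (hv a ha).2.2).1 hua
  have hua' : herm M.C (v u) (v a) = 0 := by rw [← conj_herm, hau, map_zero]
  have hub' : herm M.C (v u) (v b) = 0 :=
    (M.commute_iff hb hu (iso hb) (iso hu) (nz hu) (hv b hb).2.2 (hv u hu).2.2).1 hub.symm
  have h160 := card_orth_orth M.C M.hq (iso ha) (iso hu) (nz ha) hua'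
    (M.not_smul_of_ne ha hu (iso ha) (nz hu) (hv a ha).2.2 (hv u hu).2.2 hne.symm)
  have h40 := card_fibre M.C M.hq
    (fun x => herm M.C x x = 0 ∧ herm M.C x (v a) = 0 ∧ herm M.C x (v u) = 0) (v a) (v b) hva
    (fun x hx k => by
      obtain ⟨h1, h2, h3⟩ := hx
      have h2' : herm M.C (v a) x = 0 := by rw [← conj_herm, h2, map_zero]
      simp [herm_add_left, herm_add_right, herm_smul_left, herm_smul_right, iso ha, h1, h2, h2', h3, hau])
  have h10 := card_fibre M.C M.hq
    (fun x => (herm M.C x x = 0 ∧ herm M.C x (v a) = 0 ∧ herm M.C x (v u) = 0) ∧ herm M.C x (v b) = 0)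
    (v u) (v w) hvu
    (fun x hx k => by
      obtain ⟨⟨h1, h2, h3⟩, h4⟩ := hx
      have h3' : herm M.C (v u) x = 0 := by rw [← conj_herm, h3, map_zero]
      simp [herm_add_left, herm_add_right, herm_smul_left, herm_smul_right, iso hu, h1, h2, h3', h3, h4, hua', hub'])
  have h := M.card_vectors (FischerTypes.perp D d ∩ (FischerTypes.perp D a ∩ FischerTypes.perp D b ∩
      (FischerTypes.perp D u ∩ FischerTypes.perp D w))) Set.inter_subset_left
    (fun x => herm M.C x (v a) = 0 ∧ herm M.C x (v u) = 0 ∧ herm M.C x (v b) = 0 ∧ herm M.C x (v w) = 0)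
    ⟨herm_zero_left M.C _, herm_zero_left M.C _, herm_zero_left M.C _, herm_zero_left M.C _⟩
    (fun x hx p hp hp0 hxp => by
      rw [← M.commute_iff ha hx (iso ha) hp hp0 (hv a ha).2.2 hxp,
        ← M.commute_iff hu hx (iso hu) hp hp0 (hv u hu).2.2 hxp,
        ← M.commute_iff hb hx (iso hb) hp hp0 (hv b hb).2.2 hxp,
        ← M.commute_iff hw hx (iso hw) hp hp0 (hv w hw).2.2 hxp]
      constructor
      · exact fun hh => ⟨hh.2.1.1.2.2, hh.2.2.1.2.2, hh.2.1.2.2.2, hh.2.2.2.2.2⟩
      · exact fun ⟨hxa, hxu, hxb, hxw⟩ => ⟨hx, ⟨⟨hx.1, fun he => hab (he ▸ hxb).symm, hxa⟩,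
          ⟨hx.1, fun he => hab (he ▸ hxa), hxb⟩⟩, ⟨hx.1, fun he => huw (he ▸ hxw).symm, hxu⟩,
          ⟨hx.1, fun he => huw (he ▸ hxu), hxw⟩⟩)
  rw [Nat.card_congr (Equiv.subtypeEquivRight (q := fun x => ((herm M.C x x = 0 ∧ herm M.C x (v a) = 0 ∧
    herm M.C x (v u) = 0) ∧ herm M.C x (v b) = 0) ∧ herm M.C x (v w) = 0) fun x => by tauto)] at h
  rw [h160] at h40
  omega

end CfsgLib.Transpositions.M22Unique
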