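import Mathlib

/-!
# Checked rewriting of words in a graph of braided involutions

The graph is `Y₃₃₂` on the letters `0, …, 8` (centre `3`; arms `3-2-1-0`, `3-4-5-6`, `3-7-8`). A list of
moves, packed in one number with twelve bits for each, deletes a repeated letter, exchanges two letters
that are not joined, or braids two joined ones. A word so reduced to the empty word has product one.
-/

set_option autoImplicit false

namespace CfsgLib.Transpositions.Braid

/-- The edges of the graph. -/
def adjb (x y : ℕ) : Bool :=
  [(0, 1), (1, 2), (2, 3), (3, 4), (3, 7), (4, 5), (5, 6), (7, 8)].any fun e =>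
    (e.1 == x && e.2 == y) || (e.1 == y && e.2 == x)

/-- A move at the front of a word: `0` deletes, `1` exchanges, anything else braids. -/
def front : ℕ → List ℕ → Option (List ℕ)
  | 0, x :: y :: r => if x == y then some r else none
  | 1, x :: y :: r => if adjb x y then none else some (y :: x :: r)
  | _ + 2, x :: y :: z :: r => if x == z && adjb x y then some (y :: x :: y :: r) else none
  | _, _ => none

/-- Put a letter in front of an optional word. -/
noncomputable def consOpt (x : ℕ) (o : Option (List ℕ)) : Option (List ℕ) :=
  Option.rec none (fun a => some (x :: a)) o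

/-- A move at a position. -/
noncomputable def move (k p : ℕ) : List ℕ → Option (List ℕ) :=
  Nat.rec (front k) (fun _ ih l => List.rec none (fun x r _ => consOpt x (ih r)) l) p

/-- Evaluate `m` to a numeral before passing it on. -/
noncomputable def forceNat {α : Type} (m : ℕ) (f : ℕ → α) : α :=
  Nat.rec (f Nat.zero) (fun p _ => f (Nat.succ p)) m

theorem forceNat_eq {α : Type} (m : ℕ) (f : ℕ → α) : forceNat m f = f m := by cases m <;> rfl

/-- A packed list of moves. -/
noncomputable def run : ℕ → ℕ → List ℕ → Option (List ℕ)
  | 0, _, l => some l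
  | n + 1, N, l =>
    forceNat (N / 4096) fun M => (move (N % 4096 % 3) (N % 4096 / 3) l).bind (run n M)

/-- The word is reduced to nothing. -/
noncomputable def check (n N : ℕ) (l : List ℕ) : Bool := run n N l == some []

variable {G : Type*} [Group G]

/-- The product of a word. -/
def pw (f : ℕ → G) (l : List ℕ) : G := (l.map f).prod

theorem pw_nil (f : ℕ → G) : pw f [] = 1 := rfl

theorem pw_cons (f : ℕ → G) (x : ℕ) (l : List ℕ) : pw f (x :: l) = f x * pw f l := rfl

theorem pw_append (f : ℕ → G) (l m : List ℕ) : pw f (l ++ m) = pw f l * pw f m := by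
  simp [pw]

theorem pw_singleton (f : ℕ → G) (x : ℕ) : pw f [x] = f x := by simp [pw]

theorem pw_replicate (f : ℕ → G) (l : List ℕ) (k : ℕ) :
    pw f (List.replicate k l).flatten = pw f l ^ k := by
  induction k with
  | zero => simp [pw]
  | succ k ih => rw [List.replicate_succ, List.flatten_cons, pw_append, ih, pow_succ']

theorem commute_pw {f : ℕ → G} {x : G} {l : List ℕ} (h : ∀ s ∈ l, Commute x (f s)) :
    Commute x (pw f l) :=
  Commute.list_prod_right _ _ fun y hy => by
    obtain ⟨s, hs, rfl⟩ := List.mem_map.1 hy
    exact h s hs

/-- Involutions braided as the graph says. -/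
structure Braided (f : ℕ → G) : Prop where
  sq : ∀ s, f s * f s = 1
  comm : ∀ s t, adjb s t = false → Commute (f s) (f t)
  braid : ∀ s t, adjb s t = true → f s * f t * f s = f t * f s * f t

variable {f : ℕ → G}

theorem pw_reverse (hf : Braided f) (l : List ℕ) : pw f l.reverse = (pw f l)⁻¹ := by
  induction l with
  | nil => simp [pw]
  | cons x l ih =>
    rw [List.reverse_cons, pw_append, ih, pw_singleton, pw_cons, mul_inv_rev,
      inv_eq_of_mul_eq_one_right (hf.sq x)]

theorem pw_front (hf : Braided f) : ∀ (k : ℕ) (l m : List ℕ), front k l = some m → pw f l = pw f m := by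
  intro k l m h
  match k, l with
  | 0, [] => simp [front] at h
  | 0, [_] => simp [front] at h
  | 0, x :: y :: r =>
    simp only [front, beq_iff_eq] at h
    split at h
    · subst_vars
      cases h
      rw [pw_cons, pw_cons, ← mul_assoc, hf.sq, one_mul]
    · exact absurd h (by simp)
  | 1, [] => simp [front] at h
  | 1, [_] => simp [front] at h
  | 1, x :: y :: r =>
    simp only [front] at h
    split at h
    · exact absurd h (by simp)
    · rename_i hxy
      cases h
      rw [pw_cons, pw_cons, pw_cons, pw_cons, ← mul_assoc, ← mul_assoc,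
        (hf.comm x y (by simpa using hxy)).eq]
  | _ + 2, [] => simp [front] at h
  | _ + 2, [_] => simp [front] at h
  | _ + 2, [_, _] => simp [front] at h
  | _ + 2, x :: y :: z :: r =>
    simp only [front, Bool.and_eq_true, beq_iff_eq] at h
    split at h
    · rename_i hxy
      obtain ⟨rfl, hxy⟩ := hxy
      cases h
      rw [pw_cons, pw_cons, pw_cons, pw_cons, pw_cons, pw_cons, ← mul_assoc, ← mul_assoc, hf.braid x y hxy]
      simp [mul_assoc]
    · exact absurd h (by simp)

theorem pw_move (hf : Braided f) (k : ℕ) : ∀ (p : ℕ) (l m : List ℕ), move k p l = some m → pw f l = pw f m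
  | 0, l, m, h => pw_front hf k l m h
  | p + 1, [], m, h => by simp [move] at h
  | p + 1, x :: r, m, h => by
    have h' : consOpt x (move k p r) = some m := h
    cases ha : move k p r with
    | none => simp [ha, consOpt] at h'
    | some a =>
      rw [ha] at h'
      obtain rfl : x :: a = m := Option.some.inj h'
      rw [pw_cons, pw_cons, pw_move hf k p r a ha]

theorem pw_run (hf : Braided f) : ∀ (n N : ℕ) (l m : List ℕ), run n N l = some m → pw f l = pw f m
  | 0, N, l, m, h => by
    cases h
    rfl
  | n + 1, N, l, m, h => by
    simp only [run, forceNat_eq, Option.bind_eq_some_iff] at h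
    obtain ⟨a, ha, ha'⟩ := h
    rw [pw_move hf _ _ l a ha, pw_run hf n _ a m ha']

theorem pw_of_check (hf : Braided f) {n N : ℕ} {l : List ℕ} (h : check n N l = true) : pw f l = 1 := by
  rw [check, beq_iff_eq] at h
  rw [pw_run hf n N l [] h, pw_nil]

end CfsgLib.Transpositions.Braid
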