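import Cfsg.Agent.Transpositions.BraidWords0
import Cfsg.Agent.Transpositions.BraidWords1
import Cfsg.Agent.Transpositions.BraidWords2
import Cfsg.Agent.Transpositions.BraidWords3
import Cfsg.Agent.Transpositions.BraidWords4
import Cfsg.Agent.Transpositions.BraidWords5
import Cfsg.Agent.Transpositions.BraidWords6
import Cfsg.Agent.Transpositions.BraidWords7

/-!
# Word identities on the graph `Y₃₃₂` (generated)

The identities are in `BraidWords0` to `BraidWords7`, the words in `BraidWordsDefs`.
-/
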