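import Cfsg.Agent.Transpositions.BraidMoves

/-!
# Word identities on the graph `Y₃₃₂` (generated)

`z1` is the ninth power of a Coxeter word of the diagram `E₇` on `0, 1, 2, 3, 4, 5, 7`; `theta1`, `theta6`
are the reflections in the highest roots of that diagram and of the `E₆` on `2, 3, 4, 5, 7, 8`; `rest` is
the spider word to the tenth up to cubes of conjugates of the translation `trans`.
-/

set_option autoImplicit false
set_option maxRecDepth 100000

namespace CfsgLib.Transpositions.Braid.Words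

open CfsgLib.Transpositions.Braid

def theta1 : List ℕ := [5, 4, 3, 7, 2, 3, 4, 1, 2, 3, 7, 5, 4, 3, 2, 1, 0, 1, 2, 3, 4, 5, 7, 3, 2, 1, 4, 3, 2, 7, 3, 4, 5]

def theta6 : List ℕ := [2, 3, 7, 8, 4, 3, 7, 5, 4, 3, 2, 3, 4, 5, 7, 3, 4, 8, 7, 3, 2]

def z1 : List ℕ := (List.replicate 9 [0, 1, 2, 3, 4, 5, 7]).flatten

def z1' : List ℕ := (List.replicate 9 [6, 5, 4, 3, 2, 1, 7]).flatten

def z2 : List ℕ := (List.replicate 9 [1, 2, 3, 4, 5, 6, 7]).flatten

def spider : List ℕ := (List.replicate 10 [3, 2, 1, 3, 4, 5, 3, 7, 8]).flatten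

/-- The translation. -/
def trans : List ℕ := theta6 ++ [1]

def y1 : List ℕ := [2, 3, 7, 4, 5, 3, 4, 2, 3, 7, 0, 1, 2, 3, 4, 5, 0, 1, 2, 3, 4]

def y6 : List ℕ := [4, 3, 7, 8, 2, 3, 7, 4, 3, 2]

def u4 : List ℕ := [3, 7, 8, 2, 3, 7, 5, 4, 3, 2]

def u5 : List ℕ := [4, 3, 7, 8, 2, 3, 7, 4, 3, 2]

def u7 : List ℕ := [8, 3, 4, 2, 3, 7, 5, 4, 3, 2]

def u8 : List ℕ := [7, 3, 4, 2, 3, 7, 5, 4, 3, 2]

def T4 : List ℕ := u4 ++ trans ++ u4.reverse

def T5 : List ℕ := u5 ++ trans ++ u5.reverse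

def T7 : List ℕ := u7 ++ trans ++ u7.reverse

def T8 : List ℕ := u8 ++ trans ++ u8.reverse

def u2 : List ℕ := [3, 7, 8, 4, 3, 7, 5, 4, 3, 2]

def u3 : List ℕ := [7, 8, 4, 2, 3, 7, 5, 4, 3, 2]

/-- The cubes removed from the spider word. -/
def spiderCubes : List ℕ :=
  u2 ++ (List.replicate 3 trans).flatten ++ u2.reverse ++ (u3 ++ (List.replicate 3 trans).flatten ++ u3.reverse) ++
    (u8 ++ (List.replicate 3 trans.reverse).flatten ++ u8.reverse)

/-- The rest. -/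
def rest : List ℕ := T4 ++ T5.reverse ++ T7.reverse ++ T8

end CfsgLib.Transpositions.Braid.Words
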