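import Cfsg.Agent.Transpositions.M22NoSeven
import Cfsg.Agent.Transpositions.BraidMoves

/-!
# Configurations of nine members on the graph `Y₃₃₂` in type M(22)
-/

set_option autoImplicit false
set_option linter.unusedSectionVars false

namespace CfsgLib.Transpositions.M22Unique

open Cfsg CfsgLib.FischerTypes CfsgLib.U62 CfsgLib.RepBounds.Unit
open CfsgLib.Transpositions.Braid (adjb pw Braided)

variable {G : Type*} [Group G] {D : Set G}

/-- Nine members commuting and not commuting as the graph `Y₃₃₂` says. -/
structure Config (D : Set G) (F : ℕ → G) : Prop where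
  braided : Braided F
  mem : ∀ s < 9, F s ∈ D
  non : ∀ s t, adjb s t = true → ¬ Commute (F s) (F t)

/-- The letters of the graph. -/
def gens (a b c : G) (w : Fin 6 → G) : ℕ → G
  | 0 => a
  | 1 => b
  | 2 => c
  | 3 => w 3
  | 4 => w 2
  | 5 => w 1
  | 6 => w 0
  | 7 => w 4
  | 8 => w 5
  | _ + 9 => 1

theorem adjb_lt {s t : ℕ} (h : adjb s t = true) : s < 9 ∧ t < 9 := by
  simp [adjb] at h
  omega

theorem Config.ne {F : ℕ → G} (hF : Config D F) {s t r : ℕ} (h1 : adjb s r = true) (h2 : adjb t r = false) :
    F s ≠ F t := fun he => hF.non s r h1 (he ▸ hF.braided.comm t r h2)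

theorem isPath_cons {n : ℕ} {w : Fin (n + 1) → G} (hw : IsPath w) {y : G} (h0 : ¬ Commute y (w 0))
    (h1 : ∀ k : Fin (n + 1), (k : ℕ) ≠ 0 → Commute y (w k)) : IsPath (Fin.cons y w) := by
  constructor
  · intro j k h
    induction j using Fin.cases with
    | zero =>
      induction k using Fin.cases with
      | zero => exact Commute.refl _
      | succ k =>
        simp only [Fin.cons_zero, Fin.cons_succ]
        refine h1 k fun hk => h (Or.inl ?_)
        simp [hk]
    | succ j =>
      induction k using Fin.cases with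
      | zero =>
        simp only [Fin.cons_zero, Fin.cons_succ]
        refine (h1 j fun hj => h (Or.inr ?_)).symm
        simp [hj]
      | succ k =>
        simp only [Fin.cons_succ]
        exact hw.comm j k fun hh => h (by simp only [Fin.val_succ]; omega)
  · intro j k h
    induction j using Fin.cases with
    | zero =>
      induction k using Fin.cases with
      | zero => simp at h
      | succ k =>
        simp only [Fin.val_zero, Fin.val_succ] at h
        rw [Fin.cons_zero, Fin.cons_succ, show k = 0 from Fin.ext (show (k : ℕ) = 0 by omega)]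
        exact h0
    | succ j =>
      induction k using Fin.cases with
      | zero =>
        simp only [Fin.val_zero, Fin.val_succ] at h
        rw [Fin.cons_zero, Fin.cons_succ, show j = 0 from Fin.ext (show (j : ℕ) = 0 by omega)]
        exact fun hc => h0 hc.symm
      | succ k =>
        simp only [Fin.cons_succ]
        exact hw.not_comm j k (by simp only [Fin.val_succ] at h; omega)

theorem isPath_snoc {n : ℕ} {w : Fin (n + 1) → G} (hw : IsPath w) {y : G}
    (h0 : ¬ Commute y (w (Fin.last n))) (h1 : ∀ k : Fin (n + 1), (k : ℕ) ≠ n → Commute y (w k)) :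
    IsPath (Fin.snoc w y) := by
  constructor
  · intro j k h
    induction j using Fin.lastCases with
    | last =>
      induction k using Fin.lastCases with
      | last => exact Commute.refl _
      | cast k =>
        simp only [Fin.snoc_last, Fin.snoc_castSucc]
        refine h1 k fun hk => h (Or.inr ?_)
        simp [hk]
    | cast j =>
      induction k using Fin.lastCases with
      | last =>
        simp only [Fin.snoc_last, Fin.snoc_castSucc]
        refine (h1 j fun hj => h (Or.inl ?_)).symm
        simp [hj]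
      | cast k =>
        simp only [Fin.snoc_castSucc]
        exact hw.comm j k fun hh => h (by simp only [Fin.val_castSucc]; omega)
  · intro j k h
    induction j using Fin.lastCases with
    | last =>
      induction k using Fin.lastCases with
      | last => simp at h
      | cast k =>
        simp only [Fin.val_last, Fin.val_castSucc] at h
        rw [Fin.snoc_last, Fin.snoc_castSucc, show k = Fin.last n from Fin.ext (by simp; omega)]
        exact h0
    | cast j =>
      induction k using Fin.lastCases with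
      | last =>
        simp only [Fin.val_last, Fin.val_castSucc] at h
        rw [Fin.snoc_last, Fin.snoc_castSucc, show j = Fin.last n from Fin.ext (by simp; omega)]
        exact fun hc => h0 hc.symm
      | cast k =>
        simp only [Fin.snoc_castSucc]
        exact hw.not_comm j k (by simp only [Fin.val_castSucc] at h; omega)

variable [Finite G] (h : IsThreeTranspositionGroup D) (hp : IsPrimitiveUnderConj D) (h22 : IsOfTypeM22 G D)

include h hp h22

/-- A path of six in the common neighbourhood of two members which do not commute gives a configuration. -/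
theorem config_of_path {a b : G} (ha : a ∈ D) (hb : b ∈ D) (hab : ¬ Commute a b) {w : Fin 6 → G}
    (hw : ∀ k, w k ∈ FischerTypes.perp D a ∧ w k ∈ FischerTypes.perp D b) (hP : IsPath w) :
    ∃ c, Config D (gens a b c w) := by
  obtain ⟨M⟩ := exists_perpModel h h22 ha
  obtain ⟨v, hv⟩ := exists_rep M
  have iso := fun k => (hv _ (hw k).1).1
  have cm : ∀ j k, Commute (w j) (w k) ↔ herm M.C (v (w k)) (v (w j)) = 0 := fun j k =>
    M.commute_iff (hw j).1 (hw k).1 (iso j) (iso k) (hv _ (hw k).1).2.1 (hv _ (hw j).1).2.2 (hv _ (hw k).1).2.2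
  have h0 : ∀ j k : Fin 6, ¬ ((j : ℕ) + 1 = k ∨ (k : ℕ) + 1 = j) → herm M.C (v (w j)) (v (w k)) = 0 :=
    fun j k hh => (cm k j).1 (hP.comm k j (by tauto))
  have h1 : ∀ j k : Fin 6, (j : ℕ) + 1 = k ∨ (k : ℕ) + 1 = j → herm M.C (v (w j)) (v (w k)) ≠ 0 :=
    fun j k hh he => hP.not_comm k j (by tauto) ((cm k j).2 he)
  set u := herm M.C (v (w 0)) (v (w 1)) • v (w 2) + (-herm M.C (v (w 2)) (v (w 1))) • v (w 0) with hu
  have hpair : ∀ k, herm M.C u (v (w k)) = herm M.C (v (w 0)) (v (w 1)) * herm M.C (v (w 2)) (v (w k)) +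
      (-herm M.C (v (w 2)) (v (w 1))) * herm M.C (v (w 0)) (v (w k)) := fun k => by
    rw [hu, herm_add_left, herm_smul_left, herm_smul_left]
  have u0 : herm M.C u (v (w 0)) = 0 := by rw [hpair, h0 2 0 (by decide), h0 0 0 (by decide)]; ring
  have u1 : herm M.C u (v (w 1)) = 0 := by rw [hpair]; ring
  have u2 : herm M.C u (v (w 2)) = 0 := by rw [hpair, h0 2 2 (by decide), h0 0 2 (by decide)]; ring
  have u3 : herm M.C u (v (w 3)) ≠ 0 := by
    rw [hpair, h0 0 3 (by decide), mul_zero, add_zero]
    exact mul_ne_zero (h1 0 1 (by decide)) (h1 2 3 (by decide))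
  have u4 : herm M.C u (v (w 4)) = 0 := by rw [hpair, h0 2 4 (by decide), h0 0 4 (by decide)]; ring
  have u5 : herm M.C u (v (w 5)) = 0 := by rw [hpair, h0 2 5 (by decide), h0 0 5 (by decide)]; ring
  have huu : herm M.C u u = 0 := by
    conv_lhs => arg 3; rw [hu]
    rw [herm_add_right, herm_smul_right, herm_smul_right, u2, u0, mul_zero, mul_zero, add_zero]
  have hu0 : u ≠ 0 := fun he => u3 (by rw [he, herm_zero_left])
  obtain ⟨c, hc, hcu⟩ := M.exists_mem huu hu0
  have cw : ∀ k, Commute c (w k) ↔ herm M.C u (v (w k)) = 0 := fun k => by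
    rw [M.commute_iff hc (hw k).1 huu (iso k) (hv _ (hw k).1).2.1 hcu (hv _ (hw k).1).2.2]
    exact ⟨fun he => by rw [← conj_herm, he, map_zero], fun he => by rw [← conj_herm, he, map_zero]⟩
  have c0 := (cw 0).2 u0
  have c1 := (cw 1).2 u1
  have c2 := (cw 2).2 u2
  have c4 := (cw 4).2 u4
  have c5 := (cw 5).2 u5
  have c3 : ¬ Commute c (w 3) := fun hh => u3 ((cw 3).1 hh)
  have hbc : ¬ Commute b c := by
    intro hbc
    have hbc' : c ∈ FischerTypes.perp D b := ⟨hc.1, fun he => hab (he ▸ hc.2.2), hbc⟩
    obtain ⟨Mc⟩ := exists_perpModel h h22 hc.1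
    have mk : ∀ k, w k ≠ c → Commute c (w k) → w k ∈ FischerTypes.perp D c := fun k hne hh =>
      ⟨(hw k).1.1, hne, hh⟩
    have heq : w 0 = w 2 := by
      refine eq_of_planes Mc (perp_symm ha hc) (perp_symm hb hbc')
        (mk 4 (fun he => hP.not_comm 4 5 (by decide) (he ▸ c5)) c4)
        (mk 5 (fun he => hP.not_comm 5 4 (by decide) (he ▸ c4)) c5) hab (hP.not_comm 4 5 (by decide))
        ?_ (mk 0 (fun he => hP.not_comm 0 1 (by decide) (he ▸ c1)) c0)
        (mk 2 (fun he => hP.not_comm 2 1 (by decide) (he ▸ c1)) c2) ?_ ?_ (hP.comm 0 2 (by decide)) <;>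
        simp only [List.mem_cons, List.not_mem_nil, or_false, forall_eq_or_imp, forall_eq]
      exacts [⟨⟨(hw 4).1.2.2, (hw 5).1.2.2⟩, (hw 4).2.2.2, (hw 5).2.2.2⟩,
        ⟨(hw 0).1.2.2.symm, (hw 0).2.2.2.symm, hP.comm 0 4 (by decide), hP.comm 0 5 (by decide)⟩,
        ⟨(hw 2).1.2.2.symm, (hw 2).2.2.2.symm, hP.comm 2 4 (by decide), hP.comm 2 5 (by decide)⟩]
    exact hP.not_comm 2 3 (by decide) (heq ▸ hP.comm 0 3 (by decide))
  -- the nine
  have hD : ∀ s < 9, gens a b c w s ∈ D := by
    intro s hs
    interval_cases s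
    exacts [ha, hb, hc.1, (hw 3).1.1, (hw 2).1.1, (hw 1).1.1, (hw 0).1.1, (hw 4).1.1, (hw 5).1.1]
  have key : ∀ s < 9, ∀ t < 9, if adjb s t then ¬ Commute (gens a b c w s) (gens a b c w t)
      else Commute (gens a b c w s) (gens a b c w t) := by
    have hac := hc.2.2
    have A := fun k => (hw k).1.2.2
    have B := fun k => (hw k).2.2.2
    intro s hs t ht
    interval_cases s <;> interval_cases t <;> simp (config := { decide := true }) only [adjb, gens, if_true, if_false]
    all_goals first
      | exact Commute.refl _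
      | exact hab
      | exact fun hh => hab hh.symm
      | exact hbc
      | exact fun hh => hbc hh.symm
      | exact c3
      | exact fun hh => c3 hh.symm
      | exact hac
      | exact hac.symm
      | exact A _
      | exact (A _).symm
      | exact B _
      | exact (B _).symm
      | assumption
      | (apply Commute.symm; assumption)
      | exact hP.comm _ _ (by decide)
      | exact hP.not_comm _ _ (by decide)
  refine ⟨c, ⟨⟨fun s => ?_, fun s t hst => ?_, fun s t hst => ?_⟩, hD, fun s t hst => ?_⟩⟩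
  · by_cases hs : s < 9
    · exact FischerTypes.mul_self h.1 (hD s hs)
    · obtain ⟨n, rfl⟩ : ∃ n, s = n + 9 := ⟨s - 9, by omega⟩
      exact mul_one 1
  · by_cases hs : s < 9
    · by_cases ht : t < 9
      · have := key s hs t ht
        rwa [hst, if_neg Bool.false_ne_true] at this
      · obtain ⟨n, rfl⟩ : ∃ n, t = n + 9 := ⟨t - 9, by omega⟩
        exact Commute.one_right _
    · obtain ⟨n, rfl⟩ : ∃ n, s = n + 9 := ⟨s - 9, by omega⟩
      exact Commute.one_left _
  · obtain ⟨hs, ht⟩ := adjb_lt hst
    have := key s hs t ht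
    rw [hst, if_pos rfl] at this
    exact FischerTypes.braid h.1 (hD s hs) (hD t ht) this
  · obtain ⟨hs, ht⟩ := adjb_lt hst
    have := key s hs t ht
    rwa [hst, if_pos rfl] at this

/-- Configurations exist, through any two members which do not commute. -/
theorem exists_config {a b : G} (ha : a ∈ D) (hb : b ∈ D) (hab : ¬ Commute a b) :
    ∃ F, Config D F ∧ F 0 = a ∧ F 1 = b := by
  obtain ⟨w, hw, hP⟩ := exists_path h hp h22 ha hb hab
  obtain ⟨c, hc⟩ := config_of_path h hp h22 ha hb hab hw hP
  exact ⟨_, hc, rfl, rfl⟩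

variable {F : ℕ → G} (hF : Config D F)

include hF

theorem Config.mem_perp_zero {s : ℕ} (h2 : 2 ≤ s) (h9 : s < 9) : F s ∈ FischerTypes.perp D (F 0) := by
  refine ⟨hF.mem s h9, ?_, hF.braided.comm 0 s ?_⟩
  · interval_cases s
    exacts [hF.ne (r := 3) (by decide) (by decide), hF.ne (r := 2) (by decide) (by decide),
      hF.ne (r := 3) (by decide) (by decide), hF.ne (r := 4) (by decide) (by decide),
      hF.ne (r := 5) (by decide) (by decide), hF.ne (r := 3) (by decide) (by decide),
      hF.ne (r := 7) (by decide) (by decide)]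
  · interval_cases s <;> decide

theorem Config.mem_perp_one {s : ℕ} (h3 : 3 ≤ s) (h9 : s < 9) : F s ∈ FischerTypes.perp D (F 1) := by
  refine ⟨hF.mem s h9, ?_, hF.braided.comm 1 s ?_⟩
  · interval_cases s
    exacts [hF.ne (r := 4) (by decide) (by decide), hF.ne (r := 3) (by decide) (by decide),
      hF.ne (r := 4) (by decide) (by decide), hF.ne (r := 5) (by decide) (by decide),
      hF.ne (r := 3) (by decide) (by decide), hF.ne (r := 7) (by decide) (by decide)]
  · interval_cases s <;> decide

/-- The long path. -/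
theorem Config.path : IsPath ![F 6, F 5, F 4, F 3, F 7, F 8] ∧
    ∀ k : Fin 6, (![F 6, F 5, F 4, F 3, F 7, F 8] k) ∈ FischerTypes.perp D (F 0) ∧
      (![F 6, F 5, F 4, F 3, F 7, F 8] k) ∈ FischerTypes.perp D (F 1) := by
  have c := hF.braided.comm
  refine ⟨isPath_six (hF.non 6 5 (by decide)) (hF.non 5 4 (by decide)) (hF.non 4 3 (by decide))
    (hF.non 3 7 (by decide)) (hF.non 7 8 (by decide)) (c 6 4 (by decide)) (c 6 3 (by decide))
    (c 6 7 (by decide)) (c 6 8 (by decide)) (c 5 3 (by decide)) (c 5 7 (by decide)) (c 5 8 (by decide))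
    (c 4 7 (by decide)) (c 4 8 (by decide)) (c 3 8 (by decide)), fun k => ?_⟩
  fin_cases k
  exacts [⟨mem_perp_zero h hp h22 hF (by norm_num) (by norm_num), mem_perp_one h hp h22 hF (by norm_num) (by norm_num)⟩,
    ⟨mem_perp_zero h hp h22 hF (by norm_num) (by norm_num), mem_perp_one h hp h22 hF (by norm_num) (by norm_num)⟩,
    ⟨mem_perp_zero h hp h22 hF (by norm_num) (by norm_num), mem_perp_one h hp h22 hF (by norm_num) (by norm_num)⟩,
    ⟨mem_perp_zero h hp h22 hF (by norm_num) (by norm_num), mem_perp_one h hp h22 hF (by norm_num) (by norm_num)⟩,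
    ⟨mem_perp_zero h hp h22 hF (by norm_num) (by norm_num), mem_perp_one h hp h22 hF (by norm_num) (by norm_num)⟩,
    ⟨mem_perp_zero h hp h22 hF (by norm_num) (by norm_num), mem_perp_one h hp h22 hF (by norm_num) (by norm_num)⟩]

/-- No member commutes with the eight members other than the end of the short arm. -/
theorem Config.no_eight {x : G} (hx : x ∈ D) (hc : ∀ s < 8, Commute x (F s)) : False := by
  have h01 : ¬ Commute (F 0) (F 1) := hF.non 0 1 (by decide)
  obtain ⟨hP, hw⟩ := Config.path h hp h22 hF
  have hx0 : x ∈ FischerTypes.perp D (F 0) :=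
    ⟨hx, fun he => h01 (he ▸ hc 1 (by norm_num)), (hc 0 (by norm_num)).symm⟩
  have hx1 : x ∈ FischerTypes.perp D (F 1) :=
    ⟨hx, fun he => h01 (he ▸ hc 0 (by norm_num)).symm, (hc 1 (by norm_num)).symm⟩
  have hc' : ∀ k : Fin 6, (k : ℕ) ≠ 5 → Commute x (![F 6, F 5, F 4, F 3, F 7, F 8] k) := by
    intro k hk
    fin_cases k <;> first
      | exact absurd rfl hk
      | exact hc _ (by norm_num)
  by_cases h8 : Commute x (F 8)
  · obtain ⟨M⟩ := exists_perpModel h h22 (hF.mem 0 (by norm_num))
    refine false_of_path M (fun k => (hw k).1) hP.comm hP.not_comm hx0 fun k => ?_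
    by_cases hk : (k : ℕ) = 5
    · rw [show k = 5 from Fin.ext hk]; exact h8
    · exact hc' k hk
  · refine false_of_seven h hp h22 (hF.mem 0 (by norm_num)) (hF.mem 1 (by norm_num)) h01
      (w := Fin.snoc ![F 6, F 5, F 4, F 3, F 7, F 8] x) (fun k => ?_) (isPath_snoc hP h8 hc')
    induction k using Fin.lastCases with
    | last => rw [Fin.snoc_last]; exact ⟨hx0, hx1⟩
    | cast k => rw [Fin.snoc_castSucc]; exact hw k

/-- The highest root of the diagram on `2, 3, 4, 5, 7, 8` does not commute with the letter `1`. -/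
theorem Config.not_commute_one {y : G} (hy : y ∈ FischerTypes.perp D (F 0))
    (hc : ∀ s ∈ [3, 4, 5, 7, 8], Commute y (F s)) (h6 : ¬ Commute y (F 6)) : ¬ Commute (F 1) y := by
  intro h1
  have h01 : ¬ Commute (F 0) (F 1) := hF.non 0 1 (by decide)
  obtain ⟨hP, hw⟩ := Config.path h hp h22 hF
  have hy1 : y ∈ FischerTypes.perp D (F 1) := ⟨hy.1, fun he => h01 (he ▸ hy.2.2), h1⟩
  refine false_of_seven h hp h22 (hF.mem 0 (by norm_num)) (hF.mem 1 (by norm_num)) h01
    (w := Fin.cons y ![F 6, F 5, F 4, F 3, F 7, F 8]) (fun k => ?_) (isPath_cons hP h6 fun k hk => ?_)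
  · induction k using Fin.cases with
    | zero => exact ⟨hy, hy1⟩
    | succ k => rw [Fin.cons_succ]; exact hw k
  · fin_cases k <;> first
      | exact absurd rfl hk
      | exact hc _ (by simp)

end CfsgLib.Transpositions.M22Unique
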