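import Cfsg.Agent.Transpositions.M22Path
import Cfsg.Agent.CoxeterSym.Basic

/-!
# No path of seven inside `D_a ∩ D_b` in type M(22)

Such a path gives the 28 transpositions of a symmetric group of degree eight among the 126; each has 30
further neighbours, while a further member commutes with at most eight of them.
-/

set_option autoImplicit false
set_option linter.unusedSectionVars false
set_option linter.unusedDecidableInType false

namespace CfsgLib.Transpositions.M22Unique

open Cfsg CfsgLib.FischerTypes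
open Equiv (swap)

/-- Two pairs share one point. -/
def ov (p q : Fin 8 × Fin 8) : Bool :=
  decide (p ≠ q ∧ (p.1 = q.1 ∨ p.1 = q.2 ∨ p.2 = q.1 ∨ p.2 = q.2))

/-- The pairs. -/
def pairs8 : Finset (Fin 8 × Fin 8) := Finset.univ.filter fun p => p.1 < p.2

theorem mem_pairs8 {p : Fin 8 × Fin 8} : p ∈ pairs8 ↔ p.1 < p.2 := by simp [pairs8]

theorem card_pairs8 : pairs8.card = 28 := by decide +kernel

theorem card_far : ∀ p ∈ pairs8, (pairs8.filter fun q => q ≠ p ∧ ov p q = false).card = 15 := by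
  decide +kernel

theorem separated : ∀ p ∈ pairs8, ∀ q ∈ pairs8, p ≠ q → ∃ r ∈ pairs8, ov p r ≠ ov q r := by
  decide +kernel

theorem exists_perm {p q r : Fin 8} (hpq : p ≠ q) (hpr : p ≠ r) (hqr : q ≠ r) :
    ∃ σ : Equiv.Perm (Fin 8), σ 0 = p ∧ σ 1 = q ∧ σ 2 = r := by
  set s1 := swap 0 p with hs1
  set s2 := swap 1 (s1 q) with hs2
  have h10 : s1 q ≠ 0 := fun h0 => hpq (s1.injective (by rw [h0]; simp [hs1]))
  have h2 : s2 (s1 r) ≠ 0 := fun h0 => by
    have h20 : s2 0 = 0 := Equiv.swap_apply_of_ne_of_ne (by decide) h10.symm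
    have := s2.injective (h0.trans h20.symm)
    exact hpr (s1.injective (by rw [this]; simp [hs1]))
  have h3 : s2 (s1 r) ≠ 1 := fun h0 => by
    have h21 : s2 (s1 q) = 1 := Equiv.swap_apply_right _ _
    exact hqr (s1.injective (s2.injective (h21.trans h0.symm)))
  refine ⟨s1 * s2 * swap 2 (s2 (s1 r)), ?_, ?_, ?_⟩
  · rw [Equiv.Perm.mul_apply, Equiv.Perm.mul_apply, Equiv.swap_apply_of_ne_of_ne (by decide) h2.symm,
      Equiv.swap_apply_of_ne_of_ne (by decide) h10.symm, Equiv.swap_apply_left]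
  · rw [Equiv.Perm.mul_apply, Equiv.Perm.mul_apply, Equiv.swap_apply_of_ne_of_ne (by decide) h3.symm,
      Equiv.swap_apply_left, hs1, Equiv.swap_apply_self]
  · rw [Equiv.Perm.mul_apply, Equiv.Perm.mul_apply, Equiv.swap_apply_left, hs2, Equiv.swap_apply_self, hs1,
      Equiv.swap_apply_self]

attribute [irreducible] pairs8

/-- A relation closed under the third side and without an edge disjoint from two meeting ones has at most
eight edges. -/
theorem card_edges_le {R : Fin 8 → Fin 8 → Prop} [∀ i j, Decidable (R i j)] (hne : ∀ i j, R i j → i ≠ j)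
    (hsymm : ∀ i j, R i j → R j i) (htr : ∀ i j k, R i j → R j k → i ≠ k → R i k)
    (hno : ∀ i j k l m, R i j → R k l → R k m → l ≠ m → i ≠ k → i ≠ l → i ≠ m → j ≠ k → j ≠ l → j ≠ m → False) :
    (pairs8.filter fun p => R p.1 p.2).card ≤ 8 := by
  by_cases hdeg : ∃ i j k, R i j ∧ R i k ∧ j ≠ k
  · obtain ⟨i, j, k, hij, hik, hjk⟩ := hdeg
    have hjk' : R j k := htr j i k (hsymm i j hij) hik hjk
    have hmeet : ∀ p q, R p q → p ≠ i ∧ p ≠ j ∧ p ≠ k → R i p := by
      intro p q hpq ⟨h1, h2, h3⟩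
      by_cases hq : q = i
      · exact hq ▸ hsymm p q hpq
      by_cases hqj : q = j
      · exact htr i j p hij (hqj ▸ hsymm p q hpq) h1.symm
      by_cases hqk : q = k
      · exact htr i k p hik (hqk ▸ hsymm p q hpq) h1.symm
      exact (hno p q i j k hpq hij hik hjk h1 h2 h3 hq hqj hqk).elim
    obtain ⟨l, hl⟩ : ∃ l, ∀ p q, R p q → p = i ∨ p = j ∨ p = k ∨ p = l := by
      by_cases hex : ∃ l q, R l q ∧ l ≠ i ∧ l ≠ j ∧ l ≠ k
      · obtain ⟨l, q, hlq, hl⟩ := hex
        refine ⟨l, fun p q' hpq => ?_⟩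
        by_contra hp
        simp only [not_or] at hp
        have h1 := hmeet p q' hpq ⟨hp.1, hp.2.1, hp.2.2.1⟩
        have h2 := hmeet l q hlq hl
        exact hno p l i j k (htr p i l (hsymm i p h1) h2 hp.2.2.2) hij hik hjk hp.1 hp.2.1 hp.2.2.1 hl.1 hl.2.1 hl.2.2
      · push Not at hex
        refine ⟨i, fun p q hpq => ?_⟩
        by_cases h1 : p = i
        · exact Or.inl h1
        by_cases h2 : p = j
        · exact Or.inr (Or.inl h2)
        exact Or.inr (Or.inr (Or.inl (hex p q hpq h1 h2)))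
    refine le_trans ?_ (show ((({i, j, k, l} : Finset (Fin 8))).powersetCard 2).card ≤ 8 from ?_)
    · refine Finset.card_le_card_of_injOn (fun p => {p.1, p.2}) (fun p hp => ?_) (fun p hp q hq he => ?_)
      · simp only [Finset.coe_filter, Set.mem_ofPred_eq] at hp
        rw [Finset.mem_coe, Finset.mem_powersetCard]
        refine ⟨fun x hx => ?_, Finset.card_pair (hne _ _ hp.2)⟩
        have hx' : x = p.1 ∨ x = p.2 := by simpa using hx
        rcases hx' with rfl | rfl
        · simpa using hl _ _ hp.2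
        · simpa using hl _ _ (hsymm _ _ hp.2)
      · simp only [Finset.coe_filter, Set.mem_ofPred_eq, mem_pairs8] at hp hq
        have he' : ({p.1, p.2} : Finset (Fin 8)) = {q.1, q.2} := he
        have h1 : p.1 = q.1 ∨ p.1 = q.2 := by
          have : p.1 ∈ ({q.1, q.2} : Finset (Fin 8)) := he' ▸ Finset.mem_insert_self _ _
          simpa using this
        have h2 : p.2 = q.1 ∨ p.2 = q.2 := by
          have : p.2 ∈ ({q.1, q.2} : Finset (Fin 8)) := he' ▸ Finset.mem_insert_of_mem (Finset.mem_singleton_self _)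
          simpa using this
        rcases h1 with h1 | h1 <;> rcases h2 with h2 | h2
        · exact absurd hp.1 (by rw [h1, h2]; exact lt_irrefl _)
        · exact Prod.ext h1 h2
        · exact absurd (lt_trans hp.1 (h2 ▸ h1 ▸ hq.1)) (lt_irrefl _)
        · exact absurd hp.1 (by rw [h1, h2]; exact lt_irrefl _)
    · rw [Finset.card_powersetCard]
      have h4 : ({i, j, k, l} : Finset (Fin 8)).card ≤ 4 := Finset.card_le_four
      calc ({i, j, k, l} : Finset (Fin 8)).card.choose 2 ≤ (4 : ℕ).choose 2 := Nat.choose_le_choose 2 h4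
        _ ≤ 8 := by decide
  · push Not at hdeg
    refine le_trans (Finset.card_le_card_of_injOn (fun p => p.1) (fun p _ => Finset.mem_univ _)
      (fun p hp q hq he => ?_)) (le_of_eq (Finset.card_fin 8))
    simp only [Finset.coe_filter, Set.mem_ofPred_eq] at hp hq
    exact Prod.ext he (hdeg p.1 p.2 q.2 hp.2 (by rw [show p.1 = q.1 from he]; exact hq.2))

variable {G : Type*} [Group G] [Finite G] {D : Set G}
variable (h : IsThreeTranspositionGroup D) (hp : IsPrimitiveUnderConj D) (h22 : IsOfTypeM22 G D)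

include h hp h22

/-- No path of seven in the common neighbourhood of two members which do not commute. -/
theorem false_of_seven {a b : G} (ha : a ∈ D) (hb : b ∈ D) (hab : ¬ Commute a b) {w : Fin 7 → G}
    (hw : ∀ k, w k ∈ FischerTypes.perp D a ∧ w k ∈ FischerTypes.perp D b) (hP : IsPath w) : False := by
  classical
  have := Fintype.ofFinite G
  have hwD : ∀ k, w k ∈ D := fun k => (hw k).1.1
  set t : ℕ → G := fun n => if hn : n < 7 then w ⟨n, hn⟩ else 1 with ht
  have hsym : CoxeterSym.IsSymGens 7 t := by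
    refine ⟨fun n hn => ?_, fun n hn => ?_, fun j k hjk hk => ?_⟩
    · simp only [ht, dif_pos hn]
      exact FischerTypes.mul_self h.1 (hwD _)
    · simp only [ht, dif_pos hn, dif_pos (show n < 7 by omega)]
      exact FischerTypes.braid h.1 (hwD _) (hwD _) (hP.not_comm _ _ (Or.inl rfl))
    · simp only [ht, dif_pos hk, dif_pos (show j < 7 by omega)]
      exact (hP.comm ⟨j, by omega⟩ ⟨k, hk⟩ (by simp only []; omega)).eq
  obtain ⟨φ, hφ⟩ := CoxeterSym.exists_hom hsym
  have hφ' : ∀ k : Fin 7, φ (swap k.castSucc k.succ) = w k := fun k => by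
    rw [hφ k, ht]; simp [k.isLt]
  have h01 : φ (swap 0 1) = w 0 := hφ' 0
  have h12 : φ (swap 1 2) = w 1 := hφ' 1
  set τ : Fin 8 × Fin 8 → G := fun p => φ (swap p.1 p.2) with hτ
  have hcent : ∀ σ, Commute (φ σ) a ∧ Commute (φ σ) b := by
    intro σ
    have hmem : σ ∈ Subgroup.closure (Set.range fun k : Fin 7 => swap k.castSucc k.succ) := by
      have htop : Submonoid.closure (Set.range fun k : Fin 7 => swap k.castSucc k.succ) = ⊤ :=
        Equiv.Perm.mclosure_swap_castSucc_succ 7
      exact Subgroup.le_closure_toSubmonoid _ (htop ▸ Submonoid.mem_top σ)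
    induction hmem using Subgroup.closure_induction with
    | mem x hx =>
      obtain ⟨k, rfl⟩ := hx
      rw [hφ']
      exact ⟨(hw k).1.2.2.symm, (hw k).2.2.2.symm⟩
    | one => rw [map_one]; exact ⟨Commute.one_left _, Commute.one_left _⟩
    | mul x y _ _ hx hy => rw [map_mul]; exact ⟨hx.1.mul_left hy.1, hx.2.mul_left hy.2⟩
    | inv x _ hx => rw [map_inv]; exact ⟨hx.1.inv_left, hx.2.inv_left⟩
  have hconj : ∀ σ x y, φ (swap (σ x) (σ y)) = φ σ * φ (swap x y) * (φ σ)⁻¹ := fun σ x y => by
    rw [Equiv.swap_apply_apply, map_mul, map_mul, map_inv]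
  have hτX : ∀ i j : Fin 8, i ≠ j → φ (swap i j) ∈ FischerTypes.perp D a ∧ φ (swap i j) ∈ FischerTypes.perp D b := by
    intro i j hij
    obtain ⟨r, hr1, hr2⟩ : ∃ r, i ≠ r ∧ j ≠ r := by
      revert i j; decide
    obtain ⟨σ, rfl, rfl, -⟩ := exists_perm hij hr1 hr2
    rw [hconj, h01]
    exact ⟨conj_mem_perp h (hcent σ).1 (hw 0).1, conj_mem_perp h (hcent σ).2 (hw 0).2⟩
  have hncomm : ∀ i j k : Fin 8, i ≠ j → i ≠ k → j ≠ k → ¬ Commute (φ (swap i j)) (φ (swap j k)) := by
    intro i j k hij hik hjk hc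
    obtain ⟨σ, rfl, rfl, rfl⟩ := exists_perm hij hik hjk
    rw [hconj, hconj, h01, h12, commute_conj_iff'] at hc
    exact hP.not_comm 0 1 (Or.inl rfl) hc
  have hcomm : ∀ i j k l : Fin 8, i ≠ k → i ≠ l → j ≠ k → j ≠ l → Commute (φ (swap i j)) (φ (swap k l)) := by
    intro i j k l h1 h2 h3 h4
    refine (Equiv.Perm.Disjoint.commute ?_).map φ
    intro x
    by_cases hx : x = i ∨ x = j
    · rcases hx with rfl | rfl
      · exact Or.inr (Equiv.swap_apply_of_ne_of_ne h1 h2)
      · exact Or.inr (Equiv.swap_apply_of_ne_of_ne h3 h4)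
    · push Not at hx
      exact Or.inl (Equiv.swap_apply_of_ne_of_ne hx.1 hx.2)
  have hov : ∀ p ∈ pairs8, ∀ q ∈ pairs8, Commute (τ p) (τ q) ↔ ov p q = false := by
    intro p hp q hq
    have hp' := ne_of_lt (mem_pairs8.1 hp)
    have hq' := ne_of_lt (mem_pairs8.1 hq)
    by_cases he : p = q
    · subst he
      simp [ov]
    obtain ⟨p1, p2⟩ := p
    obtain ⟨q1, q2⟩ := q
    simp only [hτ, ov, ne_eq, he, not_false_eq_true, true_and, decide_eq_false_iff_not, not_or]
    constructor
    · intro hc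
      refine ⟨fun e => ?_, fun e => ?_, fun e => ?_, fun e => ?_⟩ <;> subst e
      · refine hncomm p2 p1 q2 (Ne.symm hp') (fun e => he (by rw [e])) hq' ?_
        rwa [Equiv.swap_comm p2 p1]
      · refine hncomm p2 p1 q1 (Ne.symm hp') (fun e => ?_) (Ne.symm hq') ?_
        · subst e
          exact absurd (lt_trans (mem_pairs8.1 hp) (mem_pairs8.1 hq)) (lt_irrefl _)
        · rwa [Equiv.swap_comm p2 p1, Equiv.swap_comm p1 q1]
      · refine hncomm p1 p2 q2 hp' (fun e => ?_) hq' hc
        subst e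
        exact absurd (lt_trans (mem_pairs8.1 hp) (mem_pairs8.1 hq)) (lt_irrefl _)
      · refine hncomm p1 p2 q1 hp' (fun e => he (by rw [e])) (Ne.symm hq') ?_
        rwa [Equiv.swap_comm p2 q1]
    · exact fun ⟨h1, h2, h3, h4⟩ => hcomm p1 p2 q1 q2 h1 h2 h3 h4
  have hinj : Set.InjOn τ (pairs8 : Finset (Fin 8 × Fin 8)) := by
    intro p hp q hq he
    by_contra hne
    obtain ⟨r, hr, hrne⟩ := separated p hp q hq hne
    refine hrne ?_
    have h1 := hov p hp r hr
    have h2 := hov q hq r hr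
    rw [← he] at h2
    cases e1 : ov p r <;> cases e2 : ov q r <;> simp_all
  have hne' : ∀ i j u v : Fin 8, i ≠ j → u ≠ i → u ≠ j → v ≠ i → v ≠ j → φ (swap u v) ≠ φ (swap i j) := by
    intro i j u v hij u1 u2 v1 v2 he
    obtain ⟨x, x1, x2, x3, x4⟩ : ∃ x : Fin 8, x ≠ i ∧ x ≠ j ∧ x ≠ u ∧ x ≠ v := by
      obtain ⟨x, hx⟩ : ∃ x, x ∈ ({i, j, u, v} : Finset (Fin 8))ᶜ := Finset.card_pos.1 (by
        rw [Finset.card_compl, Fintype.card_fin]
        have := Finset.card_le_four (a := i) (b := j) (c := u) (d := v)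
        omega)
      exact ⟨x, by simpa using hx⟩
    refine hncomm j i x hij.symm x2.symm x1.symm ?_
    rw [Equiv.swap_comm j i, ← he]
    exact hcomm u v i x u1 x3.symm v1 x4.symm
  set X : Finset G := (FischerTypes.perp D a ∩ FischerTypes.perp D b).toFinset with hXdef
  have hX : ∀ {x}, x ∈ X ↔ x ∈ FischerTypes.perp D a ∧ x ∈ FischerTypes.perp D b := fun {x} => Set.mem_toFinset
  have hXcard : X.card = 126 := by
    rw [hXdef, ← Set.ncard_eq_toFinset_card', ncard_common h hp h22 ha hb hab]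
  set K := pairs8.image τ with hK
  have hKX : K ⊆ X := by
    intro x hx
    obtain ⟨p, hp, rfl⟩ := Finset.mem_image.1 hx
    exact hX.2 (hτX _ _ (ne_of_lt (mem_pairs8.1 hp)))
  have hKcard : K.card = 28 := by rw [hK, Finset.card_image_of_injOn hinj, card_pairs8]
  have hdeg : ∀ x ∈ K, ((X \ K).filter fun z => z ∈ FischerTypes.perp D x).card = 30 := by
    intro x hx
    obtain ⟨c, hc, rfl⟩ := Finset.mem_image.1 hx
    have hx' := hX.1 (hKX hx)
    have h45 : (X.filter fun z => z ∈ FischerTypes.perp D (τ c)).card = 45 := by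
      rw [← ncard_common_perp h hp h22 ha hb hab hx'.1 hx'.2, Set.ncard_eq_toFinset_card']
      refine congrArg Finset.card (Finset.ext fun z => ?_)
      simp only [Finset.mem_filter, hX, Set.mem_toFinset, Set.mem_inter_iff, and_assoc]
    have h15 : (K.filter fun z => z ∈ FischerTypes.perp D (τ c)).card = 15 := by
      rw [hK, Finset.filter_image, Finset.card_image_of_injOn (hinj.mono fun q hq =>
        (Finset.mem_filter.1 hq).1)]
      refine (congrArg Finset.card (Finset.filter_congr fun q hq => ?_)).trans (card_far c hc)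
      rw [← hov c hc q hq]
      exact ⟨fun hh => ⟨fun he => hh.2.1 (by rw [he]), hh.2.2⟩, fun hh => ⟨(hτX _ _ (ne_of_lt (mem_pairs8.1 hq))).1.1,
        fun he => hh.1 (hinj hq hc he), hh.2⟩⟩
    have h3 := Finset.card_union_of_disjoint (Finset.disjoint_filter_filter
      (p := fun z => z ∈ FischerTypes.perp D (τ c)) (q := fun z => z ∈ FischerTypes.perp D (τ c))
      (Finset.sdiff_disjoint : Disjoint (X \ K) K))
    rw [← Finset.filter_union, Finset.sdiff_union_of_subset hKX, h45, h15] at h3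
    omega
  have hbound : ∀ y ∈ X \ K, (K.filter fun z => y ∈ FischerTypes.perp D z).card ≤ 8 := by
    intro y hy
    obtain ⟨hyX, hyK⟩ := Finset.mem_sdiff.1 hy
    obtain ⟨hya, hyb⟩ := hX.1 hyX
    have hK' : ∀ i j : Fin 8, i ≠ j → φ (swap i j) ∈ K := fun i j hij => by
      rcases lt_or_gt_of_ne hij with hlt | hlt
      · exact Finset.mem_image.2 ⟨(i, j), mem_pairs8.2 hlt, rfl⟩
      · exact Finset.mem_image.2 ⟨(j, i), mem_pairs8.2 hlt, by simp [hτ, Equiv.swap_comm]⟩
    refine le_trans ?_ (card_edges_le (R := fun i j => i ≠ j ∧ Commute y (φ (swap i j))) (fun i j hh => hh.1)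
      (fun i j hh => ⟨hh.1.symm, by rw [Equiv.swap_comm]; exact hh.2⟩)
      (fun i j k h1 h2 hik => ⟨hik, ?_⟩) ?_)
    · rw [hK, Finset.filter_image]
      refine Finset.card_image_le.trans (Finset.card_le_card fun q hq => ?_)
      obtain ⟨hq1, hq2⟩ := Finset.mem_filter.1 hq
      exact Finset.mem_filter.2 ⟨hq1, ne_of_lt (mem_pairs8.1 hq1), hq2.2.2.symm⟩
    · have e : swap i k = swap i j * swap j k * swap i j := by
        conv_lhs => rw [show i = swap i j j from (Equiv.swap_apply_right i j).symm,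
          show k = swap i j k from (Equiv.swap_apply_of_ne_of_ne hik.symm h2.1.symm).symm]
        rw [Equiv.swap_apply_apply, Equiv.swap_inv]
      rw [e, map_mul, map_mul]
      exact (h1.2.mul_right h2.2).mul_right h1.2
    · intro i j k l m hij hkl hkm hlm h1 h2 h3 h4 h5 h6
      obtain ⟨p, q, r, hpq, hpr, hqr, hset⟩ := Finset.card_eq_three.1 (show (({i, j, k, l, m} : Finset (Fin 8))ᶜ).card = 3 by
        rw [Finset.card_compl, Fintype.card_fin]
        rw [Finset.card_insert_of_notMem (by simp [hij.1, h1, h2, h3]),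
          Finset.card_insert_of_notMem (by simp [h4, h5, h6]),
          Finset.card_insert_of_notMem (by simp [hkl.1, hkm.1]), Finset.card_pair hlm])
      have hout : ∀ x ∈ ({p, q, r} : Finset (Fin 8)), x ≠ i ∧ x ≠ j ∧ x ≠ k ∧ x ≠ l ∧ x ≠ m := by
        intro x hx
        rw [← hset, Finset.mem_compl] at hx
        simpa using hx
      set T := φ (swap i j) with hT
      have hTX := hτX i j hij.1
      have hTD := hTX.1.1
      have inT : ∀ u v : Fin 8, u ≠ v → u ≠ i → u ≠ j → v ≠ i → v ≠ j → φ (swap u v) ∈ FischerTypes.perp D T := by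
        intro u v huv u1 u2 v1 v2
        exact ⟨(hτX u v huv).1.1, hne' i j u v hij.1 u1 u2 v1 v2, hcomm i j u v u1.symm v1.symm u2.symm v2.symm⟩
      have hkl' := inT k l hkl.1 h1.symm h4.symm h2.symm h5.symm
      have hkm' := inT k m hkm.1 h1.symm h4.symm h3.symm h6.symm
      have hfour := ncard_four h h22 hTD (perp_symm ha hTX.1) (perp_symm hb hTX.2) hkl' hkm' hab
        (hτX k l hkl.1).1.2.2.symm (hτX k l hkl.1).2.2.2.symm
        (by rw [Equiv.swap_comm k l]; exact hncomm l k m hkl.1.symm hlm hkm.1)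
      set Eset := FischerTypes.perp D T ∩ (FischerTypes.perp D a ∩ FischerTypes.perp D b ∩
        (FischerTypes.perp D (φ (swap k l)) ∩ FischerTypes.perp D (φ (swap k m)))) with hEset
      have hmemE : ∀ u v : Fin 8, u ∈ ({p, q, r} : Finset (Fin 8)) → v ∈ ({p, q, r} : Finset (Fin 8)) → u ≠ v →
          φ (swap u v) ∈ Eset := by
        intro u v hu hv huv
        obtain ⟨u1, u2, u3, u4, u5⟩ := hout u hu
        obtain ⟨v1, v2, v3, v4, v5⟩ := hout v hv
        exact ⟨inT u v huv u1 u2 v1 v2, hτX u v huv,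
          ⟨(hτX u v huv).1.1, hne' k l u v hkl.1 u3 u4 v3 v4, hcomm k l u v u3.symm v3.symm u4.symm v4.symm⟩,
          ⟨(hτX u v huv).1.1, hne' k m u v hkm.1 u3 u5 v3 v5, hcomm k m u v u3.symm v3.symm u5.symm v5.symm⟩⟩
      have hyE : y ∈ Eset := by
        have hne : ∀ u v : Fin 8, u ≠ v → y ≠ φ (swap u v) := fun u v huv he => hyK (he ▸ hK' u v huv)
        exact ⟨⟨hya.1, hne i j hij.1, hij.2.symm⟩, ⟨hya, hyb⟩, ⟨hya.1, hne k l hkl.1, hkl.2.symm⟩,
          hya.1, hne k m hkm.1, hkm.2.symm⟩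
      have hsub : ({φ (swap p q), φ (swap p r), φ (swap q r), y} : Set G) ⊆ Eset := by
        intro x hx
        simp only [Set.mem_insert_iff, Set.mem_singleton_iff] at hx
        rcases hx with rfl | rfl | rfl | rfl
        exacts [hmemE p q (by simp) (by simp) hpq, hmemE p r (by simp) (by simp) hpr,
          hmemE q r (by simp) (by simp) hqr, hyE]
      have h4' : ({φ (swap p q), φ (swap p r), φ (swap q r), y} : Set G).ncard = 4 := by
        have n1 : φ (swap p q) ≠ φ (swap p r) := fun he => hncomm q p r hpq.symm hqr hpr (by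
          rw [Equiv.swap_comm q p, he])
        have n2 : φ (swap p q) ≠ φ (swap q r) := fun he => hncomm p q r hpq hpr hqr (by rw [he])
        have n3 : φ (swap p r) ≠ φ (swap q r) := fun he => hncomm p r q hpr hpq hqr.symm (by
          rw [he, Equiv.swap_comm r q])
        have n4 : φ (swap p q) ≠ y := fun he => hyK (he ▸ hK' p q hpq)
        have n5 : φ (swap p r) ≠ y := fun he => hyK (he ▸ hK' p r hpr)
        rw [Set.ncard_insert_of_notMem (by simp [n1, n2, n4] ) (Set.toFinite _),
          Set.ncard_insert_of_notMem (by simp [n3, n5]) (Set.toFinite _),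
          Set.ncard_pair (fun he : φ (swap q r) = y => hyK (he ▸ hK' q r hqr))]
      have := Set.ncard_le_ncard hsub (Set.toFinite _)
      omega
  have hh := Finset.sum_card_bipartiteAbove_eq_sum_card_bipartiteBelow
    (fun z y => y ∈ FischerTypes.perp D z) (s := K) (t := X \ K)
  simp only [Finset.bipartiteAbove, Finset.bipartiteBelow] at hh
  rw [Finset.sum_congr rfl (g := fun _ => 30) fun x hx => hdeg x hx, Finset.sum_const, hKcard, smul_eq_mul] at hh
  have hle := Finset.sum_le_sum hbound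
  rw [Finset.sum_const, smul_eq_mul, Finset.card_sdiff_of_subset hKX, hXcard, hKcard] at hle
  omega

end CfsgLib.Transpositions.M22Unique
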