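import Cfsg.Agent.Transpositions.M22Planes

/-!
# A path of six inside `D_a ∩ D_b` in type M(22)

For non-commuting `a`, `b` some members `g, f, e, d, h, i` commute with both and satisfy the relations of
`g - f - e - d - h - i`.
-/

set_option autoImplicit false
set_option linter.unusedSectionVars false

namespace CfsgLib.Transpositions.M22Unique

open Cfsg CfsgLib.FischerTypes

variable {G : Type*} [Group G] {D : Set G}

/-- Members commuting and not commuting as a path says. -/
structure IsPath {n : ℕ} (w : Fin n → G) : Prop where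
  comm : ∀ j k : Fin n, ¬ ((j : ℕ) + 1 = k ∨ (k : ℕ) + 1 = j) → Commute (w j) (w k)
  not_comm : ∀ j k : Fin n, (j : ℕ) + 1 = k ∨ (k : ℕ) + 1 = j → ¬ Commute (w j) (w k)

/-- A path given by its pairs. -/
theorem isPath_six {x0 x1 x2 x3 x4 x5 : G} (n01 : ¬ Commute x0 x1) (n12 : ¬ Commute x1 x2)
    (n23 : ¬ Commute x2 x3) (n34 : ¬ Commute x3 x4) (n45 : ¬ Commute x4 x5)
    (c02 : Commute x0 x2) (c03 : Commute x0 x3) (c04 : Commute x0 x4) (c05 : Commute x0 x5)
    (c13 : Commute x1 x3) (c14 : Commute x1 x4) (c15 : Commute x1 x5)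
    (c24 : Commute x2 x4) (c25 : Commute x2 x5) (c35 : Commute x3 x5) :
    IsPath ![x0, x1, x2, x3, x4, x5] := by
  refine ⟨fun j k h => ?_, fun j k h => ?_⟩
  · fin_cases j <;> fin_cases k <;> simp at h ⊢ <;> first
      | assumption
      | (apply Commute.symm; assumption)
  · fin_cases j <;> fin_cases k <;> simp at h ⊢ <;> first
      | assumption
      | (intro hc; have := hc.symm; contradiction)

variable [Finite G] (h : IsThreeTranspositionGroup D) (hp : IsPrimitiveUnderConj D) (h22 : IsOfTypeM22 G D)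

include h h22

/-- Two planes have three common neighbours in the neighbourhood of a member. -/
theorem ncard_four {a b u w x : G} (hxD : x ∈ D) (ha : a ∈ FischerTypes.perp D x) (hb : b ∈ FischerTypes.perp D x)
    (hu : u ∈ FischerTypes.perp D x) (hw : w ∈ FischerTypes.perp D x) (hab : ¬ Commute a b)
    (hua : Commute u a) (hub : Commute u b) (huw : ¬ Commute u w) :
    (FischerTypes.perp D x ∩ (FischerTypes.perp D a ∩ FischerTypes.perp D b ∩
      (FischerTypes.perp D u ∩ FischerTypes.perp D w))).ncard = 3 := by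
  obtain ⟨M⟩ := exists_perpModel h h22 hxD
  exact ncard_common_four M ha hb hu hw hab hua hub huw

include hp

/-- A path of six in the common neighbourhood of two members which do not commute. -/
theorem exists_path {a b : G} (ha : a ∈ D) (hb : b ∈ D) (hab : ¬ Commute a b) :
    ∃ w : Fin 6 → G, (∀ k, w k ∈ FischerTypes.perp D a ∧ w k ∈ FischerTypes.perp D b) ∧ IsPath w := by
  classical
  have := Fintype.ofFinite G
  set X : Finset G := (FischerTypes.perp D a ∩ FischerTypes.perp D b).toFinset with hXdef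
  have hX : ∀ {x}, x ∈ X ↔ x ∈ FischerTypes.perp D a ∧ x ∈ FischerTypes.perp D b := fun {x} => Set.mem_toFinset
  have hXcard : X.card = 126 := by
    rw [hXdef, ← Set.ncard_eq_toFinset_card', ncard_common h hp h22 ha hb hab]
  have hdeg : ∀ x ∈ X, (X.filter fun z => z ∈ FischerTypes.perp D x).card = 45 := by
    intro x hx
    rw [← ncard_common_perp h hp h22 ha hb hab (hX.1 hx).1 (hX.1 hx).2, Set.ncard_eq_toFinset_card']
    congr 1
    ext z
    simp only [Finset.mem_filter, hX, Set.mem_toFinset, Set.mem_inter_iff, and_assoc]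
  obtain ⟨g, hg⟩ : X.Nonempty := Finset.card_pos.1 (by omega)
  obtain ⟨hga, hgb⟩ := hX.1 hg
  have hgD := hga.1
  have hag : a ∈ FischerTypes.perp D g := perp_symm ha hga
  have hbg : b ∈ FischerTypes.perp D g := perp_symm hb hgb
  obtain ⟨Mg⟩ := exists_perpModel h h22 hgD
  -- a member not commuting with `g` with many common neighbours
  set Xg := X.filter fun z => z ∈ FischerTypes.perp D g with hXg
  have hcount : ∑ x ∈ X, (Xg.filter fun u => u ∈ FischerTypes.perp D x).card = 2025 := by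
    have hh := Finset.sum_card_bipartiteAbove_eq_sum_card_bipartiteBelow
      (fun x u => u ∈ FischerTypes.perp D x) (s := X) (t := Xg)
    rw [Finset.sum_congr rfl (s₁ := Xg) (g := fun _ => 45) fun u hu => ?_, Finset.sum_const, smul_eq_mul,
      hdeg g hg] at hh
    · exact hh
    rw [← hdeg u (Finset.mem_filter.1 hu).1]
    congr 1
    refine Finset.filter_congr fun z hz => ?_
    exact ⟨fun hh => perp_symm (hX.1 hz).1.1 hh, fun hh => perp_symm (hX.1 (Finset.mem_filter.1 hu).1).1.1 hh⟩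
  have hlam : ∀ u ∈ Xg, (Xg.filter fun z => z ∈ FischerTypes.perp D u).card = 12 := by
    intro u hu
    obtain ⟨hu1, hu2⟩ := Finset.mem_filter.1 hu
    obtain ⟨hua, hub⟩ := hX.1 hu1
    rw [← ncard_common_three Mg hag hbg hu2 hab hua.2.2.symm hub.2.2.symm, Set.ncard_eq_toFinset_card']
    congr 1
    ext z
    simp only [Xg, Finset.mem_filter, hX, Set.mem_toFinset, Set.mem_inter_iff]
    tauto
  obtain ⟨f, hf, hgf, hS18⟩ : ∃ f ∈ X, ¬ Commute g f ∧ 18 ≤ (Xg.filter fun u => u ∈ FischerTypes.perp D f).card := by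
    by_contra hno
    push Not at hno
    have hg45 : (Xg.filter fun u => u ∈ FischerTypes.perp D g).card = 45 := by
      rw [Finset.filter_true_of_mem fun u hu => (Finset.mem_filter.1 hu).2]
      exact hdeg g hg
    have h2 : ∀ x ∈ Xg, (Xg.filter fun u => u ∈ FischerTypes.perp D x).card + 5 ≤ 17 := fun x hx => by
      rw [hlam x hx]
    have h3 : ∑ x ∈ X, (Xg.filter fun u => u ∈ FischerTypes.perp D x).card + ∑ x ∈ X, (if x ∈ Xg then 5 else 0) ≤
        ∑ x ∈ X, (17 + if x = g then 28 else 0) := by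
      rw [← Finset.sum_add_distrib]
      refine Finset.sum_le_sum fun x hx => ?_
      by_cases hxg : x = g
      · subst hxg
        rw [if_neg fun hh => (Finset.mem_filter.1 hh).2.2.1 rfl, if_pos rfl, hg45]
      by_cases hc : x ∈ Xg
      · rw [if_pos hc, if_neg hxg]; exact (h2 x hc).trans (le_add_right le_rfl)
      · rw [if_neg hc, if_neg hxg]
        have := hno x hx fun hcc => hc (Finset.mem_filter.2 ⟨hx, (hX.1 hx).1.1, hxg, hcc⟩)
        omega
    rw [hcount, Finset.sum_add_distrib, Finset.sum_const, hXcard, Finset.sum_ite_eq' X g, if_pos hg,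
      ← Finset.sum_filter, Finset.sum_const, smul_eq_mul, smul_eq_mul,
      show (X.filter fun x => x ∈ Xg) = Xg by ext x; simp [Xg], hdeg g hg] at h3
    omega
  obtain ⟨hfa, hfb⟩ := hX.1 hf
  have hfD := hfa.1
  set S := Xg.filter fun u => u ∈ FischerTypes.perp D f with hSdef
  have hS : ∀ {u}, u ∈ S ↔ ((u ∈ FischerTypes.perp D a ∧ u ∈ FischerTypes.perp D b) ∧ u ∈ FischerTypes.perp D g) ∧
      u ∈ FischerTypes.perp D f := fun {u} => by simp [S, Xg, hX, and_assoc]
  have hdegS : ∀ u ∈ S, (S.filter fun z => z ∈ FischerTypes.perp D u).card = 3 := by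
    intro u hu
    obtain ⟨⟨⟨hua, hub⟩, hug⟩, huf⟩ := hS.1 hu
    rw [← ncard_four h h22 hua.1 (perp_symm ha hua) (perp_symm hb hub) (perp_symm hgD hug) (perp_symm hfD huf)
      hab hga.2.2.symm hgb.2.2.symm hgf, Set.ncard_eq_toFinset_card']
    congr 1
    ext z
    simp only [Finset.mem_filter, hS, Set.mem_toFinset, Set.mem_inter_iff]
    tauto
  -- `i` and `h` without common neighbour
  obtain ⟨i, hi⟩ : S.Nonempty := Finset.card_pos.1 (by omega)
  set B : Finset G := insert i ((S.filter fun z => z ∈ FischerTypes.perp D i) ∪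
    (S.filter fun z => z ∈ FischerTypes.perp D i).biUnion fun t => S.filter fun z => z ∈ FischerTypes.perp D t)
    with hBdef
  have hB : B.card ≤ 13 := by
    refine (Finset.card_insert_le _ _).trans ?_
    have e1 := hdegS i hi
    have e2 := Finset.card_union_le (S.filter fun z => z ∈ FischerTypes.perp D i)
      ((S.filter fun z => z ∈ FischerTypes.perp D i).biUnion fun t => S.filter fun z => z ∈ FischerTypes.perp D t)
    have e3 := Finset.card_biUnion_le_card_mul (S.filter fun z => z ∈ FischerTypes.perp D i)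
      (fun t => S.filter fun z => z ∈ FischerTypes.perp D t) 3
      (fun t ht => (hdegS t (Finset.mem_filter.1 ht).1).le)
    omega
  obtain ⟨k, hk⟩ : (S \ B).Nonempty := by
    rw [Finset.nonempty_iff_ne_empty]
    intro h0
    have := Finset.card_le_card (Finset.sdiff_eq_empty_iff_subset.1 h0)
    omega
  obtain ⟨hkS, hkB⟩ := Finset.mem_sdiff.1 hk
  simp only [B, Finset.mem_insert, Finset.mem_union, Finset.mem_biUnion, Finset.mem_filter, not_or, not_exists,
    not_and] at hkB
  obtain ⟨hki, hki', hkt⟩ := hkB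
  obtain ⟨⟨⟨hia, hib⟩, hig⟩, hif⟩ := hS.1 hi
  obtain ⟨⟨⟨hka, hkb⟩, hkg⟩, hkf⟩ := hS.1 hkS
  have nki : ¬ Commute k i := fun hc => hki' hkS ⟨hka.1, hki, hc.symm⟩
  obtain ⟨d, hd⟩ : (S.filter fun z => z ∈ FischerTypes.perp D i).Nonempty :=
    Finset.card_pos.1 (by rw [hdegS i hi]; norm_num)
  obtain ⟨hdS, hdi⟩ := Finset.mem_filter.1 hd
  obtain ⟨⟨⟨hda, hdb⟩, hdg⟩, hdf⟩ := hS.1 hdS
  have ndk : ¬ Commute d k := fun hc => hkt d ⟨hdS, hdi⟩ hkS ⟨hka.1, fun he => hki' hkS (he ▸ hdi), hc⟩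
  -- the last member
  have hM := ncard_common_four Mg hag hbg hig hkg hab hia.2.2.symm hib.2.2.symm
    (fun hc => nki hc.symm)
  set E := FischerTypes.perp D g ∩ (FischerTypes.perp D a ∩ FischerTypes.perp D b ∩
    (FischerTypes.perp D i ∩ FischerTypes.perp D k)) with hE
  obtain ⟨e, he, nde⟩ : ∃ e ∈ E, ¬ Commute d e := by
    by_contra hno
    push Not at hno
    obtain ⟨z, hz, z', hz', hzz⟩ := (Set.one_lt_ncard (Set.toFinite E)).1 (by omega)
    have hcl : ∀ p : G, p ∈ E → p ∈ FischerTypes.perp D g ∧ Commute p a ∧ Commute p b ∧ Commute p i ∧ Commute p k := by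
      intro p hp
      obtain ⟨p1, ⟨p2, p3⟩, p4, p5⟩ := hp
      exact ⟨p1, p2.2.2.symm, p3.2.2.symm, p4.2.2.symm, p5.2.2.symm⟩
    obtain ⟨z1, z2, z3, z4, z5⟩ := hcl z hz
    obtain ⟨w1, w2, w3, w4, w5⟩ := hcl z' hz'
    by_cases hzc : Commute z z'
    · refine hzz (eq_of_planes Mg hag hbg hig hkg hab (fun hc => nki hc.symm) ?_ z1 w1 ?_ ?_ hzc) <;>
        simp only [List.mem_cons, List.not_mem_nil, or_false, forall_eq_or_imp, forall_eq]
      exacts [⟨⟨hia.2.2, hka.2.2⟩, hib.2.2, hkb.2.2⟩, ⟨z2, z3, z4, z5⟩, ⟨w2, w3, w4, w5⟩]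
    · have hdik : d = i := by
        refine eq_of_line Mg hag hbg hkg hig hab nki ?_ z1 w1 ?_ ?_ hzc hdg hda.2.2.symm hdb.2.2.symm
          hdi.2.2.symm (hno z hz) (hno z' hz') <;>
          simp only [List.mem_cons, List.not_mem_nil, or_false, forall_eq_or_imp, forall_eq]
        exacts [⟨⟨hka.2.2, hia.2.2⟩, hkb.2.2, hib.2.2⟩, ⟨z2, z3, z5, z4⟩, ⟨w2, w3, w5, w4⟩]
      exact hdi.2.1 hdik
  obtain ⟨heg, ⟨hea, heb⟩, hei, hek⟩ := he
  have nfe : ¬ Commute f e := fun hc => by
    have heS : e ∈ S := hS.2 ⟨⟨⟨hea, heb⟩, heg⟩, hea.1, fun he => hgf (he ▸ heg.2.2), hc⟩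
    exact hkt e ⟨heS, hei⟩ hkS (perp_symm hka.1 hek)
  refine ⟨![g, f, e, d, k, i], fun j => ?_, isPath_six hgf nfe (fun hc => nde hc.symm) ndk nki
    heg.2.2 hdg.2.2 hkg.2.2 hig.2.2 hdf.2.2 hkf.2.2 hif.2.2 hek.2.2.symm hei.2.2.symm hdi.2.2.symm⟩
  fin_cases j
  exacts [⟨hga, hgb⟩, ⟨hfa, hfb⟩, ⟨hea, heb⟩, ⟨hda, hdb⟩, ⟨hka, hkb⟩, ⟨hia, hib⟩]

end CfsgLib.Transpositions.M22Unique
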