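import Cfsg.Agent.Transpositions.M22Config
import Cfsg.Agent.Transpositions.BraidWords
import Cfsg.Agent.FischerTypes.M22Involution

/-!
# The relations of `Fi₂₂` hold in a configuration

The ninth power of the Coxeter elements of both diagrams `E₇`, and the tenth power of the spider word,
are trivial.
-/

set_option autoImplicit false
set_option linter.unusedSectionVars false

namespace CfsgLib.Transpositions.M22Unique

open Cfsg CfsgLib.FischerTypes CfsgLib.U62 CfsgLib.RepBounds.Unit
open CfsgLib.Transpositions.Braid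

variable {G : Type*} [Group G] {D : Set G} {F : ℕ → G}

/-- From `s w s w = 1` and `w w = 1`. -/
theorem commute_of_cert (hb : Braided F) {s : ℕ} {l : List ℕ} (hl : pw F l * pw F l = 1)
    (h : pw F (s :: l ++ s :: l) = 1) : Commute (F s) (pw F l) := by
  rw [pw_append, pw_cons, mul_eq_one_iff_eq_inv, mul_inv_rev, inv_eq_of_mul_eq_one_right hl,
    inv_eq_of_mul_eq_one_right (hb.sq s)] at h
  exact h

/-- From `s w s w⁻¹ = 1`. -/
theorem commute_of_cert' (hb : Braided F) {s : ℕ} {l : List ℕ}
    (h : pw F (s :: l ++ s :: l.reverse) = 1) : Commute (F s) (pw F l) := by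
  rw [pw_append, pw_cons, pw_cons, pw_reverse hb, ← mul_assoc, mul_inv_eq_one] at h
  calc F s * pw F l = F s * pw F l * F s * F s := by rw [mul_assoc _ (F s), hb.sq, mul_one]
    _ = pw F l * F s := by rw [h]

/-- The product of a conjugate of a cube. -/
theorem pw_cube (hb : Braided F) {u t : List ℕ} (ht : pw F t ^ 3 = 1) :
    pw F (u ++ (List.replicate 3 t).flatten ++ u.reverse) = 1 := by
  rw [pw_append, pw_append, pw_replicate, ht, mul_one, pw_reverse hb, mul_inv_cancel]

theorem pw_map (f : ℕ → G) (σ : ℕ → ℕ) (l : List ℕ) : pw (f ∘ σ) l = pw f (l.map σ) := by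
  simp [pw, List.map_map]

/-- The automorphism exchanging the long arms. -/
def flip : ℕ → ℕ
  | 0 => 6
  | 1 => 5
  | 2 => 4
  | 3 => 3
  | 4 => 2
  | 5 => 1
  | 6 => 0
  | n => n

theorem flip_lt {s : ℕ} (h : s < 9) : flip s < 9 := by
  interval_cases s <;> decide

theorem flip_ge {s : ℕ} (h : 9 ≤ s) : flip s = s := by
  obtain ⟨n, rfl⟩ : ∃ n, s = n + 9 := ⟨s - 9, by omega⟩
  rfl

theorem adjb_flip (s t : ℕ) : adjb (flip s) (flip t) = adjb s t := by
  by_cases hs : s < 9
  · by_cases ht : t < 9
    · interval_cases s <;> interval_cases t <;> rfl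
    · have h1 : adjb s t = false := Bool.eq_false_iff.2 fun h => ht (adjb_lt h).2
      have h2 : adjb (flip s) (flip t) = false :=
        Bool.eq_false_iff.2 fun h => ht (flip_ge (s := t) (by omega) ▸ (adjb_lt h).2)
      rw [h1, h2]
  · have h1 : adjb s t = false := Bool.eq_false_iff.2 fun h => hs (adjb_lt h).1
    have h2 : adjb (flip s) (flip t) = false :=
      Bool.eq_false_iff.2 fun h => hs (flip_ge (s := s) (by omega) ▸ (adjb_lt h).1)
    rw [h1, h2]

theorem Config.flip_config (hF : Config D F) : Config D (F ∘ flip) where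
  braided :=
    { sq := fun s => hF.braided.sq _
      comm := fun s t h => hF.braided.comm _ _ (by rw [adjb_flip]; exact h)
      braid := fun s t h => hF.braided.braid _ _ (by rw [adjb_flip]; exact h) }
  mem := fun s hs => hF.mem _ (flip_lt hs)
  non := fun s t h => hF.non _ _ (by rw [adjb_flip]; exact h)

variable [Finite G] (h : IsThreeTranspositionGroup D) (hp : IsPrimitiveUnderConj D) (h22 : IsOfTypeM22 G D)

include h hp h22

/-- No two commuting members commute with a path of six from the end of a long arm. -/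
theorem no_pair (hF : Config D F) {x y : G} (hx : x ∈ D) (hy : y ∈ D) (hxy : Commute x y) (hne : x ≠ y)
    (hxc : ∀ s < 6, Commute x (F s)) (hyc : ∀ s < 6, Commute y (F s)) : False := by
  obtain ⟨M⟩ := exists_perpModel h h22 hx
  have hP : IsPath ![F 0, F 1, F 2, F 3, F 4, F 5] := by
    have c := hF.braided.comm
    exact isPath_six (hF.non 0 1 (by decide)) (hF.non 1 2 (by decide)) (hF.non 2 3 (by decide))
      (hF.non 3 4 (by decide)) (hF.non 4 5 (by decide)) (c 0 2 (by decide)) (c 0 3 (by decide))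
      (c 0 4 (by decide)) (c 0 5 (by decide)) (c 1 3 (by decide)) (c 1 4 (by decide)) (c 1 5 (by decide))
      (c 2 4 (by decide)) (c 2 5 (by decide)) (c 3 5 (by decide))
  have hmem : ∀ s t, s < 6 → t < 6 → adjb s t = true → F s ∈ FischerTypes.perp D x := fun s t hs ht hst =>
    ⟨hF.mem s (by omega), fun he => hF.non s t hst (he ▸ hxc t ht), hxc s hs⟩
  refine false_of_path M (fun k => ?_) hP.comm hP.not_comm ⟨hy, hne.symm, hxy⟩ fun k => ?_
  · fin_cases k
    exacts [hmem 0 1 (by norm_num) (by norm_num) (by decide), hmem 1 2 (by norm_num) (by norm_num) (by decide),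
      hmem 2 3 (by norm_num) (by norm_num) (by decide), hmem 3 4 (by norm_num) (by norm_num) (by decide),
      hmem 4 5 (by norm_num) (by norm_num) (by decide), hmem 5 4 (by norm_num) (by norm_num) (by decide)]
  · fin_cases k <;> exact hyc _ (by norm_num)

theorem theta1_props (hF : Config D F) :
    pw F Words.theta1 ∈ D ∧ ¬ Commute (pw F Words.theta1) (F 5) := by
  have hb := hF.braided
  refine ⟨?_, fun hc => hF.non 1 0 (by decide) ?_⟩
  · rw [show Words.theta1 = Words.theta1.take 16 ++ [0] ++ (Words.theta1.take 16).reverse by decide +kernel,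
      pw_append, pw_append, pw_singleton, pw_reverse hb]
    exact h.2.1 _ _ (hF.mem 0 (by norm_num))
  · have e1 := pw_of_check hb Words.theta1_adj
    have e2 := pw_of_check hb Words.five_adj
    simp only [pw_append, pw_cons, pw_nil, mul_one, pw_reverse hb] at e1 e2
    rw [mul_eq_one_iff_eq_inv, inv_eq_of_mul_eq_one_right (hb.sq _)] at e1 e2
    rw [← e1, ← e2]
    simpa [mul_assoc] using (commute_conj_iff' (pw F Words.y1) _ _).2 hc

/-- The ninth power of the Coxeter element. -/
theorem pw_z1 (hF : Config D F) : pw F Words.z1 = 1 := by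
  have hb := hF.braided
  have hsq : pw F Words.z1 * pw F Words.z1 = 1 := by
    rw [← pw_append]; exact pw_of_check hb Words.z1_sq
  have hcz : ∀ s ∈ [0, 1, 2, 3, 4, 5, 7], Commute (F s) (pw F Words.z1) := by
    simp only [List.mem_cons, List.not_mem_nil, or_false, forall_eq_or_imp, forall_eq]
    exact ⟨commute_of_cert hb hsq (pw_of_check hb Words.z1_comm_0),
      commute_of_cert hb hsq (pw_of_check hb Words.z1_comm_1),
      commute_of_cert hb hsq (pw_of_check hb Words.z1_comm_2),
      commute_of_cert hb hsq (pw_of_check hb Words.z1_comm_3),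
      commute_of_cert hb hsq (pw_of_check hb Words.z1_comm_4),
      commute_of_cert hb hsq (pw_of_check hb Words.z1_comm_5),
      commute_of_cert hb hsq (pw_of_check hb Words.z1_comm_7)⟩
  set z := pw F Words.z1 with hz
  obtain ⟨hθD, hθ5⟩ := theta1_props h hp h22 hF
  set θ := pw F Words.theta1 with hθ
  have h6D : F 6 ∈ D := hF.mem 6 (by norm_num)
  have hzgz : z * F 6 * z = θ * F 6 * θ := by
    have e := pw_of_check hb Words.z1_six
    simp only [pw_append, pw_cons, ← hz, ← hθ] at e
    rw [mul_eq_one_iff_eq_inv, mul_inv_rev, inv_eq_of_mul_eq_one_right (hb.sq 6), FischerTypes.inv_eq h.1 hθD] at e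
    have := congrArg (· * θ⁻¹) e
    have e' : z * F 6 * z * θ = θ * F 6 := by simpa [mul_assoc] using e
    calc z * F 6 * z = z * F 6 * z * θ * θ := by rw [mul_assoc _ θ, FischerTypes.mul_self h.1 hθD, mul_one]
      _ = θ * F 6 * θ := by rw [e']
  by_contra hne
  have hno : ∀ {x : G}, x ∈ D → (∀ s ∈ [0, 1, 2, 3, 4, 5, 7], Commute x (F s)) → ∀ {y : G}, y ∈ D →
      (∀ s ∈ [0, 1, 2, 3, 4, 5, 7], Commute y (F s)) → Commute x y → x ≠ y → False := by
    intro x hx hxc y hy hyc hxy hne'
    refine no_pair h hp h22 hF hx hy hxy hne' (fun s hs => hxc s ?_) (fun s hs => hyc s ?_) <;>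
      interval_cases s <;> simp
  rcases involution_eq_prod h hp h22 hsq hne with hzD | ⟨p, q, hpD, hq, he⟩ |
    ⟨p, q, r, hpD, hq, hr, hrq, he⟩
  · by_cases hc6 : Commute z (F 6)
    · refine Config.no_eight h hp h22 hF hzD fun s hs => ?_
      by_cases h6 : s = 6
      · exact h6 ▸ hc6
      · refine (hcz s ?_).symm
        interval_cases s <;> first
          | exact absurd rfl h6
          | simp
    · by_cases hθ6 : Commute θ (F 6)
      · refine hc6 ?_
        rw [hθ6.eq, mul_assoc (F 6) θ θ, FischerTypes.mul_self h.1 hθD, mul_one] at hzgz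
        calc z * F 6 = z * F 6 * z * z := by rw [mul_assoc _ z, FischerTypes.mul_self h.1 hzD, mul_one]
          _ = F 6 * z := by rw [hzgz]
      · have e : z = θ := by
          rw [FischerTypes.braid h.1 hzD h6D hc6, FischerTypes.braid h.1 hθD h6D hθ6] at hzgz
          exact mul_left_cancel (mul_right_cancel hzgz)
        exact hθ5 (e ▸ (hcz 5 (by simp)).symm)
  · have hcp : ∀ s ∈ [0, 1, 2, 3, 4, 5, 7], Commute p (F s) ∧ Commute q (F s) := fun s hs => by
      have h2 := commute_of_commute_mul h.1 hpD hq.1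
        (hF.mem s (by simp at hs; omega)) hq.2.2 (fun e => hq.2.1 e.symm) (he ▸ hcz s hs)
      exact ⟨h2.1.symm, h2.2.symm⟩
    exact hno hpD (fun s hs => (hcp s hs).1) hq.1 (fun s hs => (hcp s hs).2) hq.2.2 (fun e => hq.2.1 e.symm)
  · have hqr : Commute q r := hrq.2.2
    have npq : p ≠ q := fun e => hq.2.1 e.symm
    have npr : p ≠ r := fun e => hr.2.1 e.symm
    have nqr : q ≠ r := fun e => hrq.2.1 e.symm
    refine hno hpD (fun s hs => ?_) hq.1 (fun s hs => ?_) hq.2.2 npq
    · exact (commute_of_commute_mul3 h.1 hpD hq.1 hr.1 (hF.mem s (by simp at hs; omega)) hq.2.2 hr.2.2 hqr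
        npq npr nqr (he ▸ hcz s hs)).symm
    · exact (commute_of_commute_mul3 h.1 hq.1 hpD hr.1 (hF.mem s (by simp at hs; omega)) hq.2.2.symm hqr hr.2.2
        npq.symm nqr npr (hq.2.2.eq ▸ he ▸ hcz s hs)).symm

/-- The other diagram. -/
theorem pw_z2 (hF : Config D F) : pw F Words.z2 = 1 := by
  have h1 := pw_z1 h hp h22 hF.flip_config
  rw [pw_map, show Words.z1.map flip = Words.z1' by decide +kernel] at h1
  have h2 := pw_of_check hF.braided Words.z1_flip
  rwa [pw_append, pw_reverse hF.braided, h1, one_mul, inv_eq_one] at h2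

/-- The translation has order three. -/
theorem trans_cube (hF : Config D F) : pw F Words.trans ^ 3 = 1 := by
  have hb := hF.braided
  have hθ : pw F Words.theta6 ∈ FischerTypes.perp D (F 0) := by
    rw [show Words.theta6 = Words.theta6.take 10 ++ [2] ++ (Words.theta6.take 10).reverse by decide +kernel,
      pw_append, pw_append, pw_singleton, pw_reverse hb]
    refine conj_mem_perp h ?_ (Config.mem_perp_zero h hp h22 hF (by norm_num) (by norm_num))
    refine (commute_pw fun s hs => hb.comm 0 s ?_).symm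
    revert s
    decide
  have hsq : pw F Words.theta6 * pw F Words.theta6 = 1 := FischerTypes.mul_self h.1 hθ.1
  have hcθ : ∀ s ∈ [3, 4, 5, 7, 8], Commute (pw F Words.theta6) (F s) := by
    simp only [List.mem_cons, List.not_mem_nil, or_false, forall_eq_or_imp, forall_eq]
    exact ⟨(commute_of_cert hb hsq (pw_of_check hb Words.theta6_comm_3)).symm,
      (commute_of_cert hb hsq (pw_of_check hb Words.theta6_comm_4)).symm,
      (commute_of_cert hb hsq (pw_of_check hb Words.theta6_comm_5)).symm,
      (commute_of_cert hb hsq (pw_of_check hb Words.theta6_comm_7)).symm,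
      (commute_of_cert hb hsq (pw_of_check hb Words.theta6_comm_8)).symm⟩
  have h6 : ¬ Commute (pw F Words.theta6) (F 6) := fun hc => hF.non 5 6 (by decide) (by
    have e1 := pw_of_check hb Words.theta6_adj
    have e2 := pw_of_check hb Words.six_adj
    simp only [pw_append, pw_cons, pw_nil, mul_one, pw_reverse hb] at e1 e2
    rw [mul_eq_one_iff_eq_inv, inv_eq_of_mul_eq_one_right (hb.sq _)] at e1 e2
    rw [← e1, ← e2]
    simpa [mul_assoc] using (commute_conj_iff' (pw F Words.y6) _ _).2 hc)
  have hn := Config.not_commute_one h hp h22 hF hθ hcθ h6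
  have hbr := FischerTypes.braid h.1 hθ.1 (hF.mem 1 (by norm_num)) (fun hc => hn hc.symm)
  rw [Words.trans, pw_append, pw_singleton]
  calc (pw F Words.theta6 * F 1) ^ 3 = pw F Words.theta6 * F 1 * pw F Words.theta6 *
        (F 1 * pw F Words.theta6 * F 1) := by simp [pow_succ, mul_assoc]
    _ = 1 := by
      rw [hbr]
      simp [mul_assoc, FischerTypes.mul_self_cancel h.1 hθ.1, hb.sq 1,
        FischerTypes.mul_self_cancel h.1 (hF.mem 1 (by norm_num))]

/-- The tenth power of the spider word. -/
theorem pw_spider (hF : Config D F) : pw F Words.spider = 1 := by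
  have hb := hF.braided
  have ht := trans_cube h hp h22 hF
  have ht' : pw F Words.trans.reverse ^ 3 = 1 := by rw [pw_reverse hb, inv_pow, ht, inv_one]
  have hcub : pw F Words.spiderCubes = 1 := by
    rw [Words.spiderCubes, pw_append, pw_append, pw_cube hb ht, pw_cube hb ht, pw_cube hb ht', one_mul, one_mul]
  have hzR : pw F Words.spider = pw F Words.rest := by
    have e := pw_of_check hb Words.spider_split
    rwa [pw_append, pw_append, pw_reverse hb, pw_reverse hb, hcub, inv_one, mul_one, mul_inv_eq_one] at e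
  rw [hzR]
  set R := pw F Words.rest with hR
  have hcR : ∀ s ∈ [1, 3, 4, 5, 7, 8], Commute (F s) R := by
    have drop : ∀ {l c : List ℕ}, pw F c = 1 → pw F (l ++ c.reverse) = 1 → pw F l = 1 := fun {l c} hc e => by
      rwa [pw_append, pw_reverse hb, hc, inv_one, mul_one] at e
    simp only [List.mem_cons, List.not_mem_nil, or_false, forall_eq_or_imp, forall_eq]
    exact ⟨commute_of_cert' hb (pw_of_check hb Words.rest_comm_1),
      commute_of_cert' hb (pw_of_check hb Words.rest_comm_3),
      commute_of_cert' hb (drop (pw_cube hb ht') (pw_of_check hb Words.rest_comm_4)),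
      commute_of_cert' hb (drop (pw_cube hb ht) (pw_of_check hb Words.rest_comm_5)),
      commute_of_cert' hb (drop (pw_cube hb ht) (pw_of_check hb Words.rest_comm_7)),
      commute_of_cert' hb (drop (pw_cube hb ht') (pw_of_check hb Words.rest_comm_8))⟩
  have hR3 : R ^ 3 = 1 := by
    have hT : ∀ {u : List ℕ}, pw F (u ++ Words.trans ++ u.reverse) ^ 3 = 1 := fun {u} => by
      rw [pw_append, pw_append, pw_reverse hb, conj_pow, ht, mul_one, mul_inv_cancel]
    have hcT : ∀ {p q : List ℕ}, pw F (p ++ q ++ p.reverse ++ q.reverse) = 1 → Commute (pw F p) (pw F q) :=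
      fun {p q} e => by
        rw [pw_append, pw_append, pw_append, pw_reverse hb, pw_reverse hb, mul_inv_eq_one, mul_inv_eq_iff_eq_mul] at e
        exact e
    have c45 : Commute (pw F Words.T4) (pw F Words.T5) := hcT (pw_of_check hb Words.T_comm_4_5)
    have c47 : Commute (pw F Words.T4) (pw F Words.T7) := hcT (pw_of_check hb Words.T_comm_4_7)
    have c48 : Commute (pw F Words.T4) (pw F Words.T8) := hcT (pw_of_check hb Words.T_comm_4_8)
    have c57 : Commute (pw F Words.T5) (pw F Words.T7) := hcT (pw_of_check hb Words.T_comm_5_7)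
    have c58 : Commute (pw F Words.T5) (pw F Words.T8) := hcT (pw_of_check hb Words.T_comm_5_8)
    have c78 : Commute (pw F Words.T7) (pw F Words.T8) := hcT (pw_of_check hb Words.T_comm_7_8)
    rw [hR, Words.rest, pw_append, pw_append, pw_append, pw_reverse hb, pw_reverse hb,
      ((c48.mul_left c58.inv_left).mul_left c78.inv_left).mul_pow,
      (c47.inv_right.mul_left c57.inv_left.inv_right).mul_pow, c45.inv_right.mul_pow, inv_pow, inv_pow,
      Words.T4, Words.T5, Words.T7, Words.T8, hT, hT, hT, hT]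
    simp
  -- inside the centraliser of the letter `1`
  have h1D : F 1 ∈ D := hF.mem 1 (by norm_num)
  obtain ⟨M⟩ := exists_perpModel h h22 h1D
  obtain ⟨hP, hw⟩ := Config.path h hp h22 hF
  set w : Fin 6 → G := ![F 6, F 5, F 4, F 3, F 7, F 8] with hwdef
  have hw1 : ∀ k, w k ∈ FischerTypes.perp D (F 1) := fun k => (hw k).2
  have hRmem : R ∈ Subgroup.closure (FischerTypes.perp D (F 1)) := by
    rw [← centralizer_eq h hp h22 h1D]
    exact Subgroup.mem_centralizer_singleton_iff.2 (hcR 1 (by simp)).symm.eq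
  obtain ⟨g, hg⟩ := M.surj (QuotientGroup.mk ⟨R, hRmem⟩)
  obtain ⟨v, hv⟩ := exists_rep M
  have iso := fun k => (hv _ (hw1 k)).1
  have nz := fun k => (hv _ (hw1 k)).2.1
  have cm : ∀ j k, Commute (w j) (w k) ↔ herm M.C (v (w k)) (v (w j)) = 0 := fun j k =>
    M.commute_iff (hw1 j) (hw1 k) (iso j) (iso k) (nz k) (hv _ (hw1 j)).2.2 (hv _ (hw1 k)).2.2
  have hh0 : ∀ j k : Fin 6, ¬ ((j : ℕ) + 1 = k ∨ (k : ℕ) + 1 = j) → herm M.C (v (w j)) (v (w k)) = 0 :=
    fun j k hh => (cm k j).1 (hP.comm k j (by tauto))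
  have hh1 : ∀ j k : Fin 6, (j : ℕ) + 1 = k ∨ (k : ℕ) + 1 = j → herm M.C (v (w j)) (v (w k)) ≠ 0 :=
    fun j k hh he => hP.not_comm k j (by tauto) ((cm k j).2 he)
  have hfix : ∀ k : Fin 6, (k : ℕ) ≠ 0 → ∃ a : M.K, a ≠ 0 ∧ app M.C g (v (w k)) = a • v (w k) := by
    intro k hk
    have hc : Commute R (w k) := by
      fin_cases k <;> first
        | exact absurd rfl hk
        | exact (hcR _ (by simp)).symm
    have hb' : Commute (M.θ g) (M.θ (tv M.C (v (w k)))) := by
      rw [hg, ← (hv _ (hw1 k)).2.2]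
      exact (show Commute (⟨R, hRmem⟩ : ↥(Subgroup.closure (FischerTypes.perp D (F 1))))
        ⟨w k, mem_perp_closure (hw1 k)⟩ from Subtype.ext hc.eq).map (QuotientGroup.mk' _)
    have h1 : M.θ (tv M.C (v (w k))) = M.θ (tv M.C (app M.C g (v (w k)))) := by
      rw [← conj_tv M.C M.hq g (iso k), map_mul, map_mul, map_inv, hb'.eq, mul_inv_cancel_right]
    obtain ⟨a, ha0, ha⟩ := eq_smul_of_map_eq M.C M.hq M.θ M.hker (iso k)
      (by rw [herm_app, iso k])
      (fun h0 => nz k (by rw [← app_inv_app M.C g (v (w k)), h0]; simp [app])) h1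
    exact ⟨a, ha0, ha⟩
  choose α hα0 hα using hfix
  have hadj : ∀ j k : Fin 6, ∀ hj : (j : ℕ) ≠ 0, ∀ hk : (k : ℕ) ≠ 0, (j : ℕ) + 1 = k →
      α j hj = α k hk := by
    intro j k hj hk hjk
    have hne := hh1 j k (Or.inl hjk)
    have e := herm_app M.C g (v (w j)) (v (w k))
    rw [hα j hj, hα k hk, herm_smul_left, herm_smul_right, ← mul_assoc, mul_eq_right₀ hne] at e
    have e' := norm_eq_one M.C M.hq (hα0 k hk)
    exact mul_right_cancel₀ (show M.C.σ (α k hk) ≠ 0 from (map_ne_zero M.C.σ).2 (hα0 k hk)) (e.trans e'.symm)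
  set κ := α 1 (by decide) with hκ
  have hall : ∀ k : Fin 6, (k : ℕ) ≠ 0 → app M.C g (v (w k)) = κ • v (w k) := by
    intro k hk
    have e12 := hadj 1 2 (by decide) (by decide) rfl
    have e23 := hadj 2 3 (by decide) (by decide) rfl
    have e34 := hadj 3 4 (by decide) (by decide) rfl
    have e45 := hadj 4 5 (by decide) (by decide) rfl
    rw [hα k hk]
    congr 1
    fin_cases k
    · exact absurd rfl hk
    · rfl
    · exact e12.symm
    · exact (e12.trans e23).symm
    · exact ((e12.trans e23).trans e34).symm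
    · exact (((e12.trans e23).trans e34).trans e45).symm
  -- the radical of the five
  set μ := -(herm M.C (v (w 1)) (v (w 2)) / herm M.C (v (w 3)) (v (w 2))) with hμ
  set ν := -(μ * herm M.C (v (w 3)) (v (w 4)) / herm M.C (v (w 5)) (v (w 4))) with hν
  set r := v (w 1) + μ • v (w 3) + ν • v (w 5) with hr
  have hpair : ∀ k, herm M.C r (v (w k)) = herm M.C (v (w 1)) (v (w k)) + μ * herm M.C (v (w 3)) (v (w k)) +
      ν * herm M.C (v (w 5)) (v (w k)) := fun k => by
    rw [hr, herm_add_left, herm_add_left, herm_smul_left, herm_smul_left]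
  have r0 : herm M.C r (v (w 0)) ≠ 0 := by
    rw [hpair, hh0 3 0 (by decide), hh0 5 0 (by decide), mul_zero, mul_zero, add_zero, add_zero]
    exact hh1 1 0 (by decide)
  have r1 : herm M.C r (v (w 1)) = 0 := by
    rw [hpair, hh0 1 1 (by decide), hh0 3 1 (by decide), hh0 5 1 (by decide)]; ring
  have r2 : herm M.C r (v (w 2)) = 0 := by
    rw [hpair, hh0 5 2 (by decide), hμ, neg_mul, div_mul_cancel₀ _ (hh1 3 2 (by decide))]; ring
  have r3 : herm M.C r (v (w 3)) = 0 := by
    rw [hpair, hh0 1 3 (by decide), hh0 3 3 (by decide), hh0 5 3 (by decide)]; ring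
  have r4 : herm M.C r (v (w 4)) = 0 := by
    have e : ν * herm M.C (v (w 5)) (v (w 4)) = -(μ * herm M.C (v (w 3)) (v (w 4))) := by
      rw [hν, neg_mul (a := μ * herm M.C (v (w 3)) (v (w 4)) / herm M.C (v (w 5)) (v (w 4))),
        div_mul_cancel₀ _ (hh1 5 4 (by decide))]
    rw [hpair, hh0 1 4 (by decide), e]; ring
  have r5 : herm M.C r (v (w 5)) = 0 := by
    rw [hpair, hh0 1 5 (by decide), hh0 3 5 (by decide), hh0 5 5 (by decide)]; ring
  have hrr : herm M.C r r = 0 := by
    conv_lhs => arg 3; rw [hr]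
    rw [herm_add_right, herm_add_right, herm_smul_right, herm_smul_right, r1, r3, r5, mul_zero, mul_zero,
      add_zero, add_zero]
  have hr0 : r ≠ 0 := fun e => r0 (by rw [e, herm_zero_left])
  obtain ⟨y, hy, hyr⟩ := M.exists_mem hrr hr0
  have hone : ∀ x, ∀ hx : x ∈ FischerTypes.perp D (F 1), Commute y x →
      Commute (QuotientGroup.mk ⟨R, hRmem⟩ : PerpQuot D (F 1)) (bar hx) := by
    intro x hx hyx
    rw [(hv x hx).2.2, ← hg]
    have hxr : herm M.C (v x) r = 0 := (M.commute_iff hy hx hrr (hv x hx).1 (hv x hx).2.1 hyr (hv x hx).2.2).1 hyx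
    have hli := path_independent M.C (w := fun k => v (w k)) hh0 hh1
    obtain ⟨β, hβ⟩ := (Submodule.mem_span_range_iff_exists_fun M.K).1
      (show v x ∈ Submodule.span M.K (Set.range fun k => v (w k)) by
        rw [hli.span_eq_top_of_card_eq_finrank' (by rw [Module.finrank_fintype_fun_eq_card]; simp)]
        trivial)
    have hβ0 : β 0 = 0 := by
      have e := herm_sum_six M.C β (fun k => v (w k)) r
      rw [hβ, hxr] at e
      have sy : ∀ {p q : I6 → M.K}, herm M.C p q = 0 → herm M.C q p = 0 := fun {p q} hh => by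
        rw [← conj_herm, hh, map_zero]
      rw [sy r1, sy r2, sy r3, sy r4, sy r5] at e
      simp only [mul_zero, add_zero] at e
      exact (mul_eq_zero.1 e.symm).resolve_right fun hh => r0 (sy hh)
    have hgx : app M.C g (v x) = κ • v x := by
      conv_lhs => rw [← hβ]
      rw [← hβ, Fin.sum_univ_six, hβ0, app_add, app_add, app_add, app_add, app_add]
      simp only [app_smul, zero_smul, hall 1 (by decide), hall 2 (by decide), hall 3 (by decide),
        hall 4 (by decide), hall 5 (by decide), smul_add, smul_comm κ]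
      simp [app]
    have hκ0 : κ ≠ 0 := hα0 1 (by decide)
    have e := conj_tv M.C M.hq g (hv x hx).1
    rw [hgx, tv_smul M.C M.hq hκ0 (hv x hx).1, mul_inv_eq_iff_eq_mul] at e
    exact (show Commute g (tv M.C (v x)) from e).map M.θ
  have hp1 : (QuotientGroup.mk ⟨R, hRmem⟩ : PerpQuot D (F 1)) = 1 := by
    rcases M.one_or_bar hy (QuotientGroup.mk ⟨R, hRmem⟩) hone with e | e
    · exact e
    · have e3 : (QuotientGroup.mk ⟨R, hRmem⟩ : PerpQuot D (F 1)) ^ 3 = 1 := by
        rw [← QuotientGroup.mk_pow, show (⟨R, hRmem⟩ : ↥(Subgroup.closure (FischerTypes.perp D (F 1)))) ^ 3 = 1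
          from Subtype.ext hR3, QuotientGroup.mk_one]
      rw [e] at e3 ⊢
      have e2 : bar hy * bar hy = 1 := by
        rw [hyr, ← map_mul, tv_mul_self M.C M.hq hrr, map_one]
      rwa [pow_succ, pow_two, e2, one_mul] at e3
  rw [QuotientGroup.eq_one_iff] at hp1
  rcases (center_closure_perp h hp h22 h1D hRmem).1 (mem_center_closure_iff.1 hp1) with e | e
  · exact e
  · rw [e] at hR3
    rw [pow_succ, pow_two, FischerTypes.mul_self h.1 h1D, one_mul] at hR3
    exact absurd hR3 (FischerTypes.ne_one h.1 h1D)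

end CfsgLib.Transpositions.M22Unique
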