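import Cfsg.Agent.Transpositions.ReflectionsModThree
import Cfsg.Agent.Forms.OrthPerp

/-!
# Orthogonality lemmas in seven dimensions over the field with three elements

Six vectors of norm one forming a chain `A, B, C`, an isolated `X` and a pair `E, F` have an isotropic line
as their common orthogonal.
-/

set_option autoImplicit false

namespace CfsgLib.Transpositions.OrthSeven

open Matrix Module CfsgLib.Forms CfsgLib.Spinor

/-- The six vectors. -/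
structure Six (A B C X E F : Fin 7 → ZMod 3) : Prop where
  nA : A ⬝ᵥ A = 1
  nB : B ⬝ᵥ B = 1
  nC : C ⬝ᵥ C = 1
  nX : X ⬝ᵥ X = 1
  nE : E ⬝ᵥ E = 1
  nF : F ⬝ᵥ F = 1
  AB : A ⬝ᵥ B ≠ 0
  BC : B ⬝ᵥ C ≠ 0
  EF : E ⬝ᵥ F ≠ 0
  AC : A ⬝ᵥ C = 0
  AX : A ⬝ᵥ X = 0
  BX : B ⬝ᵥ X = 0
  CX : C ⬝ᵥ X = 0
  EX : E ⬝ᵥ X = 0
  FX : F ⬝ᵥ X = 0
  EA : E ⬝ᵥ A = 0
  EB : E ⬝ᵥ B = 0
  EC : E ⬝ᵥ C = 0
  FA : F ⬝ᵥ A = 0
  FB : F ⬝ᵥ B = 0
  FC : F ⬝ᵥ C = 0
  ne₁ : F ≠ E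
  ne₂ : F ≠ -E

variable {A B C X E F : Fin 7 → ZMod 3}

theorem sq_eq_one {a : ZMod 3} (h : a ≠ 0) : a * a = 1 := by revert a; decide

/-- The common orthogonal of the six is the isotropic line of the pair. -/
theorem Six.perp (h : Six A B C X E F) {m : Fin 7 → ZMod 3} (mA : m ⬝ᵥ A = 0) (mB : m ⬝ᵥ B = 0)
    (mC : m ⬝ᵥ C = 0) (mX : m ⬝ᵥ X = 0) (mE : m ⬝ᵥ E = 0) (mF : m ⬝ᵥ F = 0) :
    ∃ η : ZMod 3, m = η • (E + -(E ⬝ᵥ F) • F) := by
  set r := E + -(E ⬝ᵥ F) • F with hr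
  have hEF := sq_eq_one h.EF
  have rA : r ⬝ᵥ A = 0 := by simp [hr, h.EA, h.FA]
  have rB : r ⬝ᵥ B = 0 := by simp [hr, h.EB, h.FB]
  have rC : r ⬝ᵥ C = 0 := by simp [hr, h.EC, h.FC]
  have rX : r ⬝ᵥ X = 0 := by simp [hr, h.EX, h.FX]
  have rE : r ⬝ᵥ E = 0 := by simp [hr, h.nE, dotProduct_comm F E, hEF]
  have rF : r ⬝ᵥ F = 0 := by simp [hr, h.nF]
  have r0 : r ≠ 0 := by
    intro he
    rw [hr] at he
    rcases zmod_three_cases (E ⬝ᵥ F) with e | e | e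
    · exact h.EF e
    · rw [e] at he
      exact h.ne₁ (by linear_combination (norm := module) -he)
    · rw [e] at he
      exact h.ne₂ (by linear_combination (norm := module) he)
  obtain ⟨Z, hZ⟩ : ∃ Z, r ⬝ᵥ Z ≠ 0 := by
    by_contra hall
    push Not at hall
    exact r0 (dotProduct_eq_zero r hall)
  let b : Fin 7 → Fin 7 → ZMod 3 := ![A, B, C, X, E, F, Z]
  have hli : LinearIndependent (ZMod 3) b := by
    rw [Fintype.linearIndependent_iff]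
    intro g hg
    simp only [b, Fin.sum_univ_succ, Finset.univ_eq_empty, Finset.sum_empty, add_zero, cons_val_zero,
      cons_val_succ] at hg
    have g6 : g 6 = 0 := by
      have := congrArg (r ⬝ᵥ ·) hg
      simp [rA, rB, rC, rX, rE, rF, hZ] at this
      exact this
    rw [show g (Fin.succ (Fin.succ (Fin.succ (Fin.succ (Fin.succ (Fin.succ 0)))))) = 0 from g6, zero_smul,
      add_zero] at hg
    have g3 : g 3 = 0 := by
      have := congrArg (X ⬝ᵥ ·) hg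
      simp [h.nX, dotProduct_comm X, h.AX, h.BX, h.CX, h.EX, h.FX] at this
      exact this
    have eA : g 0 + g 1 * (A ⬝ᵥ B) = 0 := by
      have := congrArg (A ⬝ᵥ ·) hg
      simp [h.nA, h.AC, h.AX, dotProduct_comm A E, dotProduct_comm A F, h.EA, h.FA] at this
      exact this
    have eC : g 1 * (B ⬝ᵥ C) + g 2 = 0 := by
      have := congrArg (C ⬝ᵥ ·) hg
      simp [h.nC, dotProduct_comm C A, dotProduct_comm C B, h.AC, h.CX, dotProduct_comm C E, dotProduct_comm C F,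
        h.EC, h.FC] at this
      exact this
    have eB : g 0 * (A ⬝ᵥ B) + g 1 + g 2 * (B ⬝ᵥ C) = 0 := by
      have := congrArg (B ⬝ᵥ ·) hg
      simp [h.nB, dotProduct_comm B A, h.BX, dotProduct_comm B E, dotProduct_comm B F, h.EB, h.FB,
        ← add_assoc] at this
      exact this
    have g1 : g 1 = 0 := by
      have ha := sq_eq_one h.AB
      have hc := sq_eq_one h.BC
      linear_combination (A ⬝ᵥ B) * eA + (B ⬝ᵥ C) * eC - eB - g 1 * ha - g 1 * hc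
    have g0 : g 0 = 0 := by simpa [g1] using eA
    have g2 : g 2 = 0 := by simpa [g1] using eC
    have hEF' : g 4 • E + g 5 • F = 0 := by
      have hg' : g 0 • A + (g 1 • B + (g 2 • C + (g 3 • X + (g 4 • E + g 5 • F)))) = 0 := hg
      rwa [g0, g1, g2, g3, zero_smul, zero_smul, zero_smul, zero_smul, zero_add, zero_add, zero_add, zero_add]
        at hg'
    have e4 : g 4 + g 5 * (E ⬝ᵥ F) = 0 := by
      have := congrArg (E ⬝ᵥ ·) hEF'
      simpa [h.nE] using this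
    have g5 : g 5 = 0 := by
      by_contra h5
      rw [show g 4 = -(g 5 * (E ⬝ᵥ F)) by linear_combination e4] at hEF'
      have hz : g 5 • (F + -(E ⬝ᵥ F) • E) = 0 := by linear_combination (norm := module) hEF'
      have hz' := (smul_eq_zero.1 hz).resolve_left h5
      rcases zmod_three_cases (E ⬝ᵥ F) with e | e | e
      · exact h.EF e
      · rw [e] at hz'
        exact h.ne₁ (by linear_combination (norm := module) hz')
      · rw [e] at hz'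
        exact h.ne₂ (by linear_combination (norm := module) hz')
    have g4 : g 4 = 0 := by simpa [g5] using e4
    intro i
    fin_cases i
    exacts [g0, g1, g2, g3, g4, g5, g6]
  have hspan := hli.span_eq_top_of_card_eq_finrank' (by simp)
  refine ⟨(m ⬝ᵥ Z) * (r ⬝ᵥ Z)⁻¹, sub_eq_zero.1 (dotProduct_eq_zero _ fun w => ?_)⟩
  have hw : w ∈ Submodule.span (ZMod 3) (Set.range b) := hspan ▸ Submodule.mem_top
  induction hw using Submodule.span_induction with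
  | mem x hx =>
    obtain ⟨i, rfl⟩ := hx
    rw [sub_dotProduct, smul_dotProduct, smul_eq_mul]
    fin_cases i <;> simp [b, mA, mB, mC, mX, mE, mF, rA, rB, rC, rX, rE, rF, hZ]
  | zero => simp
  | add x y _ _ hx hy => rw [dotProduct_add, hx, hy, add_zero]
  | smul a x _ hx => rw [dotProduct_smul, hx, smul_zero]

/-- No vector of norm one is orthogonal to `A`, `B`, `X`, `E`, `F`. -/
theorem Six.false_of_orth (h : Six A B C X E F) {m : Fin 7 → ZMod 3} (hm : m ⬝ᵥ m = 1) (mA : m ⬝ᵥ A = 0)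
    (mB : m ⬝ᵥ B = 0) (mX : m ⬝ᵥ X = 0) (mE : m ⬝ᵥ E = 0) (mF : m ⬝ᵥ F = 0) : False := by
  set p := A + -(A ⬝ᵥ B) • B with hp
  have hAB := sq_eq_one h.AB
  have pA : p ⬝ᵥ A = 0 := by simp [hp, h.nA, dotProduct_comm B A, hAB]
  have pB : p ⬝ᵥ B = 0 := by simp [hp, h.nB]
  have pp : p ⬝ᵥ p = 0 := by
    conv_lhs => arg 2; rw [hp]
    simp [pA, pB]
  have pC : p ⬝ᵥ C ≠ 0 := by
    rw [show p ⬝ᵥ C = -(A ⬝ᵥ B) * (B ⬝ᵥ C) by simp [hp, h.AC]]
    exact mul_ne_zero (neg_ne_zero.2 h.AB) h.BC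
  have pm : m ⬝ᵥ p = 0 := by simp [hp, mA, mB]
  set k := -(m ⬝ᵥ C) * (p ⬝ᵥ C)⁻¹ with hk
  obtain ⟨η, hη⟩ := h.perp (m := m + k • p) (by simp [mA, pA]) (by simp [mB, pB])
    (by simp [hk, mul_assoc, pC])
    (by simp [mX, hp, h.AX, h.BX]) (by simp [mE, hp, dotProduct_comm A E, dotProduct_comm B E, h.EA, h.EB])
    (by simp [mF, hp, dotProduct_comm A F, dotProduct_comm B F, h.FA, h.FB])
  have h1 : (m + k • p) ⬝ᵥ (m + k • p) = 1 := by simp [hm, pp, pm, dotProduct_comm p m]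
  have h0 : (E + -(E ⬝ᵥ F) • F) ⬝ᵥ (E + -(E ⬝ᵥ F) • F) = 0 := by
    have := sq_eq_one h.EF
    simp [h.nE, h.nF, dotProduct_comm F E]
    linear_combination (-1 : ZMod 3) * this
  rw [hη, smul_dotProduct, dotProduct_smul, h0] at h1
  simp at h1

/-- A vector orthogonal to `A, B, C, E, F` is orthogonal to each one orthogonal to `X, E, F`. -/
theorem Six.orth_of_orth (h : Six A B C X E F) {y w : Fin 7 → ZMod 3} (yA : y ⬝ᵥ A = 0)
    (yB : y ⬝ᵥ B = 0) (yC : y ⬝ᵥ C = 0) (yE : y ⬝ᵥ E = 0) (yF : y ⬝ᵥ F = 0) (wX : w ⬝ᵥ X = 0)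
    (wE : w ⬝ᵥ E = 0) (wF : w ⬝ᵥ F = 0) : w ⬝ᵥ y = 0 := by
  obtain ⟨η, hη⟩ := h.perp (m := y + -(y ⬝ᵥ X) • X)
    (by simp [yA, dotProduct_comm X A, h.AX]) (by simp [yB, dotProduct_comm X B, h.BX])
    (by simp [yC, dotProduct_comm X C, h.CX]) (by simp [h.nX])
    (by simp [yE, dotProduct_comm X E, h.EX]) (by simp [yF, dotProduct_comm X F, h.FX])
  have := congrArg (w ⬝ᵥ ·) hη
  simpa [wX, wE, wF] using this

/-- The form given by the sum of the squares. -/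
noncomputable def dotQ : QuadraticForm (ZMod 3) (Fin 7 → ZMod 3) :=
  QuadraticMap.weightedSumSquares (ZMod 3) (fun _ : Fin 7 => (1 : ZMod 3))

theorem dotQ_apply (v : Fin 7 → ZMod 3) : dotQ v = v ⬝ᵥ v := by
  simp [dotQ, QuadraticMap.weightedSumSquares_apply, dotProduct]

theorem polar_dotQ (v w : Fin 7 → ZMod 3) : QuadraticMap.polar (⇑dotQ) v w = 2 * (v ⬝ᵥ w) := by
  rw [QuadraticMap.polar, dotQ_apply, dotQ_apply, dotQ_apply, add_dotProduct, dotProduct_add, dotProduct_add,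
    dotProduct_comm w v]
  ring

theorem det_chain : ∀ p q r : ZMod 3, p ≠ 0 → q ≠ 0 → r ≠ 0 →
    (!![(2 : ZMod 3), 0, 0, 0, 0; 0, 2, 2 * p, 0, 0; 0, 2 * p, 2, 2 * q, 0; 0, 0, 2 * q, 2, 2 * r;
      0, 0, 0, 2 * r, 2]).det ≠ 0 := by decide +kernel

/-- A vector of norm one orthogonal to an isolated one and a chain of four. -/
theorem exists_orth_chain {X P Q R S : Fin 7 → ZMod 3} (nX : X ⬝ᵥ X = 1) (nP : P ⬝ᵥ P = 1)
    (nQ : Q ⬝ᵥ Q = 1) (nR : R ⬝ᵥ R = 1) (nS : S ⬝ᵥ S = 1) (XP : X ⬝ᵥ P = 0) (XQ : X ⬝ᵥ Q = 0)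
    (XR : X ⬝ᵥ R = 0) (XS : X ⬝ᵥ S = 0) (PQ : P ⬝ᵥ Q ≠ 0) (PR : P ⬝ᵥ R = 0) (PS : P ⬝ᵥ S = 0)
    (QR : Q ⬝ᵥ R ≠ 0) (QS : Q ⬝ᵥ S = 0) (RS : R ⬝ᵥ S ≠ 0) :
    ∃ g : Fin 7 → ZMod 3, g ⬝ᵥ g = 1 ∧ g ⬝ᵥ X = 0 ∧ g ⬝ᵥ P = 0 ∧ g ⬝ᵥ Q = 0 ∧ g ⬝ᵥ R = 0 ∧ g ⬝ᵥ S = 0 := by
  have hsep : ∀ x, (∀ y, QuadraticMap.polar (⇑dotQ) x y = 0) → x = 0 := fun x hx =>
    dotProduct_eq_zero x fun y => (mul_eq_zero.1 ((polar_dotQ x y).symm.trans (hx y))).resolve_left (by decide)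
  have hG : (Matrix.of fun i j : Fin 5 =>
      QuadraticMap.polar (⇑dotQ) (![X, P, Q, R, S] i) (![X, P, Q, R, S] j)).det ≠ 0 := by
    have e : (Matrix.of fun i j : Fin 5 =>
        QuadraticMap.polar (⇑dotQ) (![X, P, Q, R, S] i) (![X, P, Q, R, S] j)) =
        !![(2 : ZMod 3), 0, 0, 0, 0; 0, 2, 2 * (P ⬝ᵥ Q), 0, 0; 0, 2 * (P ⬝ᵥ Q), 2, 2 * (Q ⬝ᵥ R), 0;
          0, 0, 2 * (Q ⬝ᵥ R), 2, 2 * (R ⬝ᵥ S); 0, 0, 0, 2 * (R ⬝ᵥ S), 2] := by
      have e1 := (dotProduct_comm P X).trans XP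
      have e2 := (dotProduct_comm Q X).trans XQ
      have e3 := (dotProduct_comm R X).trans XR
      have e4 := (dotProduct_comm S X).trans XS
      have e5 := (dotProduct_comm R P).trans PR
      have e6 := (dotProduct_comm S P).trans PS
      have e7 := (dotProduct_comm S Q).trans QS
      ext i j
      fin_cases i <;> fin_cases j <;>
        simp [polar_dotQ, nX, nP, nQ, nR, nS, XP, XQ, XR, XS, PR, PS, QS, e1, e2, e3, e4, e5, e6, e7] <;>
        exact Or.inl (dotProduct_comm (α := ZMod 3) _ _)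
    rw [e]
    exact det_chain _ _ _ PQ QR RS
  obtain ⟨z, hz⟩ := exists_quad_value two_ne_zero_zmod_three (dotQ.comp (perpSub dotQ ![X, P, Q, R, S]).subtype)
    (sep_perpSub dotQ hsep _ hG)
    (by
      have := le_finrank_perpSub dotQ ![X, P, Q, R, S]
      rw [finrank_fun_zmod, Fintype.card_fin] at this
      omega) 1
  have hperp : ∀ i, (z : Fin 7 → ZMod 3) ⬝ᵥ ![X, P, Q, R, S] i = 0 := fun i => by
    have := mem_perpSub.1 z.2 i
    rw [polar_dotQ, dotProduct_comm] at this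
    exact (mul_eq_zero.1 this).resolve_left (by decide)
  exact ⟨z, by rw [← dotQ_apply]; exact hz, hperp 0, hperp 1, hperp 2, hperp 3, hperp 4⟩

end CfsgLib.Transpositions.OrthSeven
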