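import Cfsg.Agent.Transpositions.M23PairModel
import Cfsg.Agent.Transpositions.OrthSevenVectors
import Cfsg.Agent.Transpositions.OrthSevenLemmas
import Cfsg.Agent.Transpositions.M22Config

/-!
# Configurations of ten members on the graph `Y₃₄₂` in type M(23)

Two non-commuting members `x`, `y`, and nine members commuting with `x` on the graph `Y₃₃₂`, of which `y`
commutes with all but the end of one long arm.
-/

set_option autoImplicit false
set_option linter.unusedSectionVars false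

namespace CfsgLib.Transpositions.M23Unique

open Cfsg CfsgLib.FischerTypes Matrix
open CfsgLib.Transpositions.OrthSeven (V vec eight eightAdj eight_dot Six exists_orth_chain)
open CfsgLib.Transpositions.Braid (adjb pw Braided)
open CfsgLib.Transpositions.M22Unique (gens IsPath isPath_six config_of_path)

variable {G : Type*} [Group G] {D : Set G}

/-- The image of a letter modulo the centre of `⟨D_x⟩`. -/
noncomputable def barF (D : Set G) (x : G) (F : ℕ → G) : ℕ → PerpQuot D x := fun s =>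
  open scoped Classical in if h : F s ∈ FischerTypes.perp D x then bar h else 1

theorem barF_eq {x : G} {F : ℕ → G} {s : ℕ} (h : F s ∈ FischerTypes.perp D x) : barF D x F s = bar h :=
  dif_pos h

/-- Ten members on the graph, with the centre of the nine. -/
structure Conf (D : Set G) (x y : G) (F : ℕ → G) : Prop where
  memx : x ∈ D
  memy : y ∈ D
  nxy : ¬ Commute x y
  braided : Braided F
  mem : ∀ s < 9, F s ∈ FischerTypes.perp D x
  non : ∀ s t, adjb s t = true → ¬ Commute (F s) (F t)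
  config : M22Unique.Config (img D x) (barF D x F)
  comm_y : ∀ s < 9, s ≠ 6 → Commute y (F s)
  eight : Subgroup.closure (F '' {s | s < 9 ∧ s ≠ 6}) = Subgroup.centralizer ({x, y} : Set G)
  eight_conj : ∀ u ∈ FischerTypes.perp D x ∩ FischerTypes.perp D y,
    ∃ k ∈ Subgroup.centralizer ({x, y} : Set G), k * F 0 * k⁻¹ = u

theorem mem_perp_mk {u v : G} (hv : v ∈ D) (hne : v ≠ u) (hc : Commute u v) : v ∈ FischerTypes.perp D u :=
  ⟨hv, hne, hc⟩

/-- Members commuting and not commuting as six vectors of the lemma do. -/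
structure SixMembers (D : Set G) (p q A B C X E F : G) : Prop where
  mA : A ∈ FischerTypes.perp D p ∩ FischerTypes.perp D q
  mB : B ∈ FischerTypes.perp D p ∩ FischerTypes.perp D q
  mC : C ∈ FischerTypes.perp D p ∩ FischerTypes.perp D q
  mX : X ∈ FischerTypes.perp D p ∩ FischerTypes.perp D q
  mE : E ∈ FischerTypes.perp D p ∩ FischerTypes.perp D q
  mF : F ∈ FischerTypes.perp D p ∩ FischerTypes.perp D q
  AB : ¬ Commute A B
  BC : ¬ Commute B C
  EF : ¬ Commute E F
  AC : C ∈ FischerTypes.perp D A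
  AX : X ∈ FischerTypes.perp D A
  BX : X ∈ FischerTypes.perp D B
  CX : X ∈ FischerTypes.perp D C
  EX : X ∈ FischerTypes.perp D E
  FX : X ∈ FischerTypes.perp D F
  EA : E ∈ FischerTypes.perp D A
  EB : E ∈ FischerTypes.perp D B
  EC : E ∈ FischerTypes.perp D C
  FA : F ∈ FischerTypes.perp D A
  FB : F ∈ FischerTypes.perp D B
  FC : F ∈ FischerTypes.perp D C

section rep

variable {p q : G} (M : PairModel D p q) {v : G → V}
  (hv : ∀ u ∈ FischerTypes.perp D p ∩ FischerTypes.perp D q, v u ⬝ᵥ v u = 1 ∧ M.φ (v u) = u)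

include hv

theorem dot_zero {u w : G} (hu : u ∈ FischerTypes.perp D p ∩ FischerTypes.perp D q)
    (hw : w ∈ FischerTypes.perp D p ∩ FischerTypes.perp D q) (hc : Commute u w) (hne : u ≠ w) :
    v u ⬝ᵥ v w = 0 :=
  M.dot_eq_zero (hv u hu).1 (hv w hw).1 (by rw [(hv u hu).2, (hv w hw).2]; exact hc)
    (by rw [(hv u hu).2, (hv w hw).2]; exact hne)

theorem dot_ne {u w : G} (hu : u ∈ FischerTypes.perp D p ∩ FischerTypes.perp D q)
    (hw : w ∈ FischerTypes.perp D p ∩ FischerTypes.perp D q) (hc : ¬ Commute u w) : v u ⬝ᵥ v w ≠ 0 :=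
  M.dot_ne_zero (hv u hu).1 (hv w hw).1 (by rw [(hv u hu).2, (hv w hw).2]; exact hc)

theorem SixMembers.vectors {A B C X E F : G} (h : SixMembers D p q A B C X E F) :
    Six (v A) (v B) (v C) (v X) (v E) (v F) := by
  have z : ∀ {u w : G}, u ∈ FischerTypes.perp D p ∩ FischerTypes.perp D q →
      w ∈ FischerTypes.perp D p ∩ FischerTypes.perp D q → w ∈ FischerTypes.perp D u → v u ⬝ᵥ v w = 0 :=
    fun hu hw hh => dot_zero M hv hu hw hh.2.2 hh.2.1.symm
  refine ⟨(hv _ h.mA).1, (hv _ h.mB).1, (hv _ h.mC).1, (hv _ h.mX).1, (hv _ h.mE).1, (hv _ h.mF).1,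
    dot_ne M hv h.mA h.mB h.AB, dot_ne M hv h.mB h.mC h.BC, dot_ne M hv h.mE h.mF h.EF,
    z h.mA h.mC h.AC, z h.mA h.mX h.AX, z h.mB h.mX h.BX, z h.mC h.mX h.CX, z h.mE h.mX h.EX,
    z h.mF h.mX h.FX, ?_, ?_, ?_, ?_, ?_, ?_, ?_, ?_⟩
  · rw [dotProduct_comm]; exact z h.mA h.mE h.EA
  · rw [dotProduct_comm]; exact z h.mB h.mE h.EB
  · rw [dotProduct_comm]; exact z h.mC h.mE h.EC
  · rw [dotProduct_comm]; exact z h.mA h.mF h.FA
  · rw [dotProduct_comm]; exact z h.mB h.mF h.FB
  · rw [dotProduct_comm]; exact z h.mC h.mF h.FC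
  all_goals
    intro he
    have hEF : E ≠ F := fun e => h.EF (e ▸ Commute.refl _)
    apply hEF
    rw [← (hv _ h.mE).2, ← (hv _ h.mF).2, M.eq_iff _ _ (hv _ h.mE).1 (hv _ h.mF).1]
    simp [he]

end rep

/-- Eight members spanning the model generate the centralizer of the pair, transitively on its members. -/
theorem eight_props (h : IsThreeTranspositionGroup D) {x y : G} (M : PairModel D x y) {F : ℕ → G}
    (hmem : ∀ s < 9, F s ∈ FischerTypes.perp D x) (hcy : ∀ s < 9, s ≠ 6 → Commute y (F s))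
    (hy : y ∈ D) (hxy : ¬ Commute x y) (hnon : ∀ s t, adjb s t = true → ¬ Commute (F s) (F t))
    {g : List ℕ} {ops : List (ℕ × ℕ × ℕ)} (hg : ∀ q ∈ g, OrthSeven.dotCode q q = 1)
    (hok : OrthSeven.okList g g ops = true) (hcov : OrthSeven.covers (g ++ ops.map Prod.fst) = true)
    (hvec : ∀ q ∈ g, ∃ s < 9, s ≠ 6 ∧ M.φ (vec q) = F s) :
    Subgroup.closure (F '' {s | s < 9 ∧ s ≠ 6}) = Subgroup.centralizer ({x, y} : Set G) ∧
      ∀ u ∈ FischerTypes.perp D x ∩ FischerTypes.perp D y,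
        ∃ k ∈ Subgroup.centralizer ({x, y} : Set G), k * F 0 * k⁻¹ = u := by
  set K := Subgroup.closure (F '' {s | s < 9 ∧ s ≠ 6}) with hK
  have hFK : ∀ {s}, s < 9 → s ≠ 6 → F s ∈ K := fun hs hs6 => Subgroup.subset_closure ⟨_, ⟨hs, hs6⟩, rfl⟩
  have step : ∀ {s t}, t < 9 → t ≠ 6 → adjb s t = true → s ≠ 6 → s < 9 →
      (∃ k ∈ K, k * F 0 * k⁻¹ = F s) → ∃ k ∈ K, k * F 0 * k⁻¹ = F t := by
    rintro s t ht ht6 hst hs6 hs ⟨k, hk, he⟩
    refine ⟨F s * F t * k, mul_mem (mul_mem (hFK hs hs6) (hFK ht ht6)) hk, ?_⟩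
    calc F s * F t * k * F 0 * (F s * F t * k)⁻¹
        = F s * F t * (k * F 0 * k⁻¹) * ((F t)⁻¹ * (F s)⁻¹) := by group
      _ = F s * F t * F s * (F t * F s) := by
        rw [he, FischerTypes.inv_eq h.1 (hmem t ht).1, FischerTypes.inv_eq h.1 (hmem s hs).1]
      _ = F t := by
        rw [FischerTypes.braid h.1 (hmem s hs).1 (hmem t ht).1 (hnon s t hst)]
        simp [mul_assoc, FischerTypes.mul_self h.1 (hmem s hs).1, FischerTypes.mul_self_cancel h.1 (hmem t ht).1,
          FischerTypes.mul_self h.1 (hmem t ht).1]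
  have b0 : ∃ k ∈ K, k * F 0 * k⁻¹ = F 0 := ⟨1, one_mem _, by group⟩
  have b1 := step (t := 1) (by norm_num) (by norm_num) (by decide) (by norm_num) (by norm_num) b0
  have b2 := step (t := 2) (by norm_num) (by norm_num) (by decide) (by norm_num) (by norm_num) b1
  have b3 := step (t := 3) (by norm_num) (by norm_num) (by decide) (by norm_num) (by norm_num) b2
  have b4 := step (t := 4) (by norm_num) (by norm_num) (by decide) (by norm_num) (by norm_num) b3
  have b5 := step (t := 5) (by norm_num) (by norm_num) (by decide) (by norm_num) (by norm_num) b4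
  have b7 := step (t := 7) (by norm_num) (by norm_num) (by decide) (by norm_num) (by norm_num) b3
  have b8 := step (t := 8) (by norm_num) (by norm_num) (by decide) (by norm_num) (by norm_num) b7
  have hall : ∀ v : V, v ⬝ᵥ v = 1 → M.φ v ∈ K ∧ ∃ k ∈ K, k * F 0 * k⁻¹ = M.φ v := by
    refine OrthSeven.all_of_closed hg hok hcov (fun q hq => ?_) (fun q hq w hw hP => ?_) fun w hw hP => ?_
    · obtain ⟨s, hs, hs6, he⟩ := hvec q hq
      rw [he]
      refine ⟨hFK hs hs6, ?_⟩
      interval_cases s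
      exacts [b0, b1, b2, b3, b4, b5, absurd rfl hs6, b7, b8]
    · obtain ⟨s, hs, hs6, he⟩ := hvec q hq
      obtain ⟨hwK, k, hk, hke⟩ := hP
      have hn : vec q ⬝ᵥ vec q = 1 := by rw [OrthSeven.dot_vec, hg q hq, Nat.cast_one]
      rw [← M.conj _ _ hn hw, he]
      refine ⟨mul_mem (mul_mem (hFK hs hs6) hwK) (hFK hs hs6), F s * k, mul_mem (hFK hs hs6) hk, ?_⟩
      calc F s * k * F 0 * (F s * k)⁻¹ = F s * (k * F 0 * k⁻¹) * (F s)⁻¹ := by group
        _ = _ := by rw [hke, FischerTypes.inv_eq h.1 (hmem s hs).1]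
    · have hnw : -w ⬝ᵥ -w = 1 := by rw [neg_dotProduct_neg, hw]
      rwa [(M.eq_iff _ _ hnw hw).2 (Or.inr (neg_neg w).symm)]
  have hle : K ≤ Subgroup.centralizer ({x, y} : Set G) := by
    rw [hK, ← M.centralizer, Subgroup.closure_le]
    rintro _ ⟨s, ⟨hs, hs6⟩, rfl⟩
    exact Subgroup.subset_closure ⟨hmem s hs, (hmem s hs).1,
      fun he => hxy (he ▸ (hmem s hs).2.2), hcy s hs hs6⟩
  refine ⟨le_antisymm hle ?_, fun u hu => ?_⟩
  · rw [← M.centralizer, Subgroup.closure_le]
    intro u hu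
    obtain ⟨v, hv, rfl⟩ := M.surj u hu
    exact (hall v hv).1
  · obtain ⟨v, hv, rfl⟩ := M.surj u hu
    obtain ⟨-, k, hk, he⟩ := hall v hv
    exact ⟨k, hle hk, he⟩

variable [Finite G] (H : M23.Hyp G D)

include H

/-- Configurations exist through any two non-commuting members. -/
theorem exists_conf {x y : G} (hx : x ∈ D) (hy : y ∈ D) (hxy : ¬ Commute x y) :
    ∃ F, Conf D x y F := by
  classical
  have h := H.group
  obtain ⟨M⟩ := exists_pairModel H hx hy hxy
  -- the eight in the common neighbourhood of `x` and `y`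
  set m : Fin 8 → G := fun k => M.φ (vec (eight k)) with hm
  have hn : ∀ k, vec (eight k) ⬝ᵥ vec (eight k) = 1 := fun k => by
    rw [OrthSeven.dot_vec, eight_dot, if_pos (Or.inl rfl), Nat.cast_one]
  have hX : ∀ k, m k ∈ FischerTypes.perp D x ∩ FischerTypes.perp D y := fun k => M.mem _ (hn k)
  have hD : ∀ k, m k ∈ D := fun k => (hX k).1.1
  have hd : ∀ {j k : Fin 8}, j ≠ k → vec (eight j) ⬝ᵥ vec (eight k) = if eightAdj j k then 1 else 0 :=
    fun {j k} hjk => by
      rw [OrthSeven.dot_vec, eight_dot]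
      cases eightAdj j k <;> simp [hjk]
  have hadj : ∀ j k : Fin 8, eightAdj j k = true → ¬ Commute (m j) (m k) := by
    intro j k hjk hc
    have hne : j ≠ k := fun he => by
      revert hjk; rw [he]; clear * -; revert k; decide
    rcases (M.commute _ _ (hn j) (hn k)).1 hc with e | e | e
    · rw [hd hne, hjk, if_pos rfl] at e; exact one_ne_zero e
    · have := hd hne
      rw [hjk, if_pos rfl, e, hn] at this
      have hh : ∀ i j : Fin 8, i ≠ j → vec (eight i) ≠ vec (eight j) := by decide +kernel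
      exact hh k j hne.symm e
    · have hh : ∀ i j : Fin 8, vec (eight i) ≠ -vec (eight j) := by decide +kernel
      exact hh k j e
  have hperp : ∀ j k : Fin 8, j ≠ k → eightAdj j k = false → m k ∈ FischerTypes.perp D (m j) := by
    intro j k hne hjk
    refine mem_perp_mk (hD k) (fun he => ?_) ((M.commute _ _ (hn j) (hn k)).2 (Or.inl (by rw [hd hne, hjk]; rfl)))
    have hh : ∀ i j : Fin 8, i ≠ j → vec (eight j) ≠ vec (eight i) ∧ vec (eight j) ≠ -vec (eight i) := by
      decide +kernel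
    rcases (M.eq_iff _ _ (hn j) (hn k)).1 he.symm with e | e
    exacts [(hh j k hne).1 e, (hh j k hne).2 e]
  have hxm : ∀ k, x ∈ FischerTypes.perp D (m k) := fun k => perp_symm hx (hX k).1
  have hym : ∀ k, y ∈ FischerTypes.perp D (m k) := fun k => perp_symm hy (hX k).2
  have two : ∀ j k l : Fin 8, j ≠ l → k ≠ l → eightAdj j l = false → eightAdj k l = false →
      m l ∈ FischerTypes.perp D (m j) ∩ FischerTypes.perp D (m k) := fun j k l h1 h2 h3 h4 =>
    ⟨hperp j l h1 h3, hperp k l h2 h4⟩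
  -- the end of the long arm
  obtain ⟨Mab⟩ := exists_pairModel H (hD 0) (hD 1) (hadj 0 1 (by decide))
  obtain ⟨v, hv⟩ := Mab.exists_rep
  have x01 : x ∈ FischerTypes.perp D (m 0) ∩ FischerTypes.perp D (m 1) := ⟨hxm 0, hxm 1⟩
  have m01 : ∀ l : Fin 8, l ∈ [3, 4, 5, 6, 7] → m l ∈ FischerTypes.perp D (m 0) ∩ FischerTypes.perp D (m 1) := by
    intro l hl
    fin_cases hl <;> exact two _ _ _ (by decide) (by decide) (by decide) (by decide)
  have e4 := m01 4 (by simp)
  have d3 := m01 3 (by simp)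
  have h6 := m01 6 (by simp)
  have i7 := m01 7 (by simp)
  have f5 := m01 5 (by simp)
  have zx : ∀ {l : Fin 8}, m l ∈ FischerTypes.perp D (m 0) ∩ FischerTypes.perp D (m 1) → v x ⬝ᵥ v (m l) = 0 :=
    fun {l} hl => dot_zero Mab hv x01 hl (hxm l).2.2.symm (hxm l).2.1
  have zz : ∀ {j k : Fin 8}, m j ∈ FischerTypes.perp D (m 0) ∩ FischerTypes.perp D (m 1) →
      m k ∈ FischerTypes.perp D (m 0) ∩ FischerTypes.perp D (m 1) → j ≠ k → eightAdj j k = false →
      v (m j) ⬝ᵥ v (m k) = 0 := fun {j k} hj hk hne hjk =>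
    dot_zero Mab hv hj hk (hperp j k hne hjk).2.2 (hperp j k hne hjk).2.1.symm
  obtain ⟨p, hp, pX, pE, pD, pH, pI⟩ := exists_orth_chain (hv _ x01).1 (hv _ e4).1 (hv _ d3).1 (hv _ h6).1
    (hv _ i7).1 (zx e4) (zx d3) (zx h6) (zx i7) (dot_ne Mab hv e4 d3 (hadj 4 3 (by decide)))
    (zz e4 h6 (by decide) (by decide)) (zz e4 i7 (by decide) (by decide))
    (dot_ne Mab hv d3 h6 (hadj 3 6 (by decide))) (zz d3 i7 (by decide) (by decide))
    (dot_ne Mab hv h6 i7 (hadj 6 7 (by decide)))
  set g := Mab.φ p with hg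
  have g01 := Mab.mem p hp
  have gperp : ∀ {u}, u ∈ FischerTypes.perp D (m 0) ∩ FischerTypes.perp D (m 1) → p ⬝ᵥ v u = 0 →
      g ∈ FischerTypes.perp D u := by
    intro u hu h0
    refine mem_perp_mk g01.1.1 (fun he => ?_) ?_
    · rcases (Mab.eq_iff _ _ hp (hv u hu).1).1 (he.trans (hv u hu).2.symm) with e | e
      · rw [e, hp] at h0; exact one_ne_zero h0
      · rw [e, dotProduct_neg, hp] at h0; exact one_ne_zero (neg_eq_zero.1 h0)
    · have := (Mab.commute _ _ (hv u hu).1 hp).2 (Or.inl (by rw [dotProduct_comm]; exact h0))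
      rwa [(hv u hu).2] at this
  have gx := gperp x01 pX
  have ge := gperp e4 pE
  have gd := gperp d3 pD
  have gh := gperp h6 pH
  have gi := gperp i7 pI
  have gf : ¬ Commute g (m 5) := by
    intro hc
    have gf' : g ∈ FischerTypes.perp D (m 5) :=
      mem_perp_mk g01.1.1 (fun he => hadj 4 5 (by decide) (he ▸ ge.2.2)) hc.symm
    obtain ⟨Mef⟩ := exists_pairModel H (hD 4) (hD 5) (hadj 4 5 (by decide))
    obtain ⟨u, hu⟩ := Mef.exists_rep
    have hs : SixMembers D (m 4) (m 5) (m 0) (m 1) (m 2) x (m 6) (m 7) :=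
      ⟨two _ _ _ (by decide) (by decide) (by decide) (by decide),
        two _ _ _ (by decide) (by decide) (by decide) (by decide),
        two _ _ _ (by decide) (by decide) (by decide) (by decide), ⟨hxm 4, hxm 5⟩,
        two _ _ _ (by decide) (by decide) (by decide) (by decide),
        two _ _ _ (by decide) (by decide) (by decide) (by decide),
        hadj _ _ (by decide), hadj _ _ (by decide), hadj _ _ (by decide),
        hperp _ _ (by decide) (by decide), hxm 0, hxm 1, hxm 2, hxm 6, hxm 7,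
        hperp _ _ (by decide) (by decide), hperp _ _ (by decide) (by decide), hperp _ _ (by decide) (by decide),
        hperp _ _ (by decide) (by decide), hperp _ _ (by decide) (by decide), hperp _ _ (by decide) (by decide)⟩
    have hgm : g ∈ FischerTypes.perp D (m 4) ∩ FischerTypes.perp D (m 5) := ⟨ge, gf'⟩
    have zg : ∀ {w}, w ∈ FischerTypes.perp D (m 4) ∩ FischerTypes.perp D (m 5) → g ∈ FischerTypes.perp D w →
        u g ⬝ᵥ u w = 0 := fun hw hgw => dot_zero Mef hu hgm hw hgw.2.2.symm hgw.2.1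
    exact (hs.vectors Mef hu).false_of_orth (hu g hgm).1 (zg hs.mA g01.1) (zg hs.mB g01.2) (zg hs.mX gx)
      (zg hs.mE gh) (zg hs.mF gi)
  -- the path and its configuration modulo the centre
  have gP : g ∈ FischerTypes.perp D x := gx
  set w : Fin 6 → G := ![g, m 5, m 4, m 3, m 6, m 7] with hw
  have hwx : ∀ k, w k ∈ FischerTypes.perp D x := by
    intro k; fin_cases k <;> [exact gP; exact (hX _).1; exact (hX _).1; exact (hX _).1; exact (hX _).1; exact (hX _).1]
  have hw01 : ∀ k, w k ∈ FischerTypes.perp D (m 0) ∧ w k ∈ FischerTypes.perp D (m 1) := by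
    intro k; fin_cases k <;> [exact g01; exact f5; exact e4; exact d3; exact h6; exact i7]
  have hP : IsPath w := isPath_six gf (hadj 5 4 (by decide)) (hadj 4 3 (by decide)) (hadj 3 6 (by decide))
    (hadj 6 7 (by decide)) ge.2.2.symm gd.2.2.symm gh.2.2.symm gi.2.2.symm
    (hperp 5 3 (by decide) (by decide)).2.2 (hperp 5 6 (by decide) (by decide)).2.2
    (hperp 5 7 (by decide) (by decide)).2.2 (hperp 4 6 (by decide) (by decide)).2.2
    (hperp 4 7 (by decide) (by decide)).2.2 (hperp 3 7 (by decide) (by decide)).2.2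
  have bc := fun {u u' : G} (hu : u ∈ FischerTypes.perp D x) (hu' : u' ∈ FischerTypes.perp D x) =>
    M23.bar_commute H hu hu'
  have hbP : IsPath fun k => bar (hwx k) :=
    ⟨fun j k hh => (bc _ _).2 (hP.comm j k hh), fun j k hh hc => hP.not_comm j k hh ((bc _ _).1 hc)⟩
  obtain ⟨cq, hcq⟩ := config_of_path (M23.quotGroup h x) (M23.quotPrim H hx) (M23.quot22 H hx)
    (M23.bar_mem H hx (hX 0).1) (M23.bar_mem H hx (hX 1).1) (fun hc => hadj 0 1 (by decide) ((bc _ _).1 hc))
    (w := fun k => bar (hwx k))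
    (fun k => ⟨(M23.mem_perp_bar H hx (hX 0).1 (hwx k)).2 (hw01 k).1,
      (M23.mem_perp_bar H hx (hX 1).1 (hwx k)).2 (hw01 k).2⟩) hbP
  obtain ⟨c, hcx, hcb⟩ := M23.exists_lift (hcq.mem 2 (by norm_num))
  set F := gens (m 0) (m 1) c w with hF
  have hmem : ∀ s < 9, F s ∈ FischerTypes.perp D x := by
    intro s hs
    interval_cases s
    exacts [(hX 0).1, (hX 1).1, hcx, hwx 3, hwx 2, hwx 1, hwx 0, hwx 4, hwx 5]
  have hbar : barF D x F = gens (bar (hX 0).1) (bar (hX 1).1) cq (fun k => bar (hwx k)) := by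
    funext s
    by_cases hs : s < 9
    · rw [barF_eq (hmem s hs)]
      interval_cases s <;> first | rfl | exact hcb
    · obtain ⟨n, rfl⟩ : ∃ n, s = n + 9 := ⟨s - 9, by omega⟩
      exact dif_neg fun hmem' => FischerTypes.ne_one h.1 hmem'.1 rfl
  have hconf : M22Unique.Config (img D x) (barF D x F) := hbar ▸ hcq
  have hcomm : ∀ s t, s < 9 → t < 9 → (Commute (F s) (F t) ↔ Commute (barF D x F s) (barF D x F t)) :=
    fun s t hs ht => by rw [barF_eq (hmem s hs), barF_eq (hmem t ht)]; exact (bc _ _).symm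
  have hnon : ∀ s t, adjb s t = true → ¬ Commute (F s) (F t) := fun s t hst hc => hconf.non s t hst
    ((hcomm s t (M22Unique.adjb_lt hst).1 (M22Unique.adjb_lt hst).2).1 hc)
  have hbraid : Braided F := by
    refine ⟨fun s => ?_, fun s t hst => ?_, fun s t hst => ?_⟩
    · by_cases hs : s < 9
      · exact FischerTypes.mul_self h.1 (hmem s hs).1
      · obtain ⟨n, rfl⟩ : ∃ n, s = n + 9 := ⟨s - 9, by omega⟩
        exact mul_one 1
    · by_cases hs : s < 9
      · by_cases ht : t < 9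
        · exact (hcomm s t hs ht).2 (hconf.braided.comm s t hst)
        · obtain ⟨n, rfl⟩ : ∃ n, t = n + 9 := ⟨t - 9, by omega⟩
          exact Commute.one_right _
      · obtain ⟨n, rfl⟩ : ∃ n, s = n + 9 := ⟨s - 9, by omega⟩
        exact Commute.one_left _
    · obtain ⟨hs, ht⟩ := M22Unique.adjb_lt hst
      exact FischerTypes.braid h.1 (hmem s hs).1 (hmem t ht).1 (hnon s t hst)
  -- the ninth letter commutes with `y`
  have cc : ∀ s < 9, adjb 2 s = false → Commute c (F s) := fun s _ hst => hbraid.comm 2 s hst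
  have hch : c ≠ m 6 := fun he => hadj 6 7 (by decide) (he ▸ cc 8 (by norm_num) (by decide))
  have hci : c ≠ m 7 := fun he => hadj 7 6 (by decide) (he ▸ cc 7 (by norm_num) (by decide))
  have hc67 : c ∈ FischerTypes.perp D (m 6) ∩ FischerTypes.perp D (m 7) :=
    ⟨mem_perp_mk hcx.1 hch (cc 7 (by norm_num) (by decide)).symm,
      mem_perp_mk hcx.1 hci (cc 8 (by norm_num) (by decide)).symm⟩
  have hyc : Commute y c := by
    obtain ⟨Mhi⟩ := exists_pairModel H (hD 6) (hD 7) (hadj 6 7 (by decide))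
    obtain ⟨u, hu⟩ := Mhi.exists_rep
    have hs : SixMembers D (m 6) (m 7) (m 0) (m 1) (m 2) x (m 4) (m 5) :=
      ⟨two _ _ _ (by decide) (by decide) (by decide) (by decide),
        two _ _ _ (by decide) (by decide) (by decide) (by decide),
        two _ _ _ (by decide) (by decide) (by decide) (by decide), ⟨hxm 6, hxm 7⟩,
        two _ _ _ (by decide) (by decide) (by decide) (by decide),
        two _ _ _ (by decide) (by decide) (by decide) (by decide),
        hadj _ _ (by decide), hadj _ _ (by decide), hadj _ _ (by decide),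
        hperp _ _ (by decide) (by decide), hxm 0, hxm 1, hxm 2, hxm 4, hxm 5,
        hperp _ _ (by decide) (by decide), hperp _ _ (by decide) (by decide), hperp _ _ (by decide) (by decide),
        hperp _ _ (by decide) (by decide), hperp _ _ (by decide) (by decide), hperp _ _ (by decide) (by decide)⟩
    have y67 : y ∈ FischerTypes.perp D (m 6) ∩ FischerTypes.perp D (m 7) := ⟨hym 6, hym 7⟩
    have zy : ∀ k, m k ∈ FischerTypes.perp D (m 6) ∩ FischerTypes.perp D (m 7) → u y ⬝ᵥ u (m k) = 0 :=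
      fun k hk => dot_zero Mhi hu y67 hk (hym k).2.2.symm (hym k).2.1
    have hne4 : c ≠ m 4 := fun he => hadj 4 5 (by decide) (he ▸ cc 5 (by norm_num) (by decide))
    have hne5 : c ≠ m 5 := fun he => hadj 5 4 (by decide) (he ▸ cc 4 (by norm_num) (by decide))
    have h0 := (hs.vectors Mhi hu).orth_of_orth (y := u y) (w := u c) (zy 0 hs.mA) (zy 1 hs.mB) (zy 2 hs.mC)
      (zy 4 hs.mE) (zy 5 hs.mF) (dot_zero Mhi hu hc67 hs.mX hcx.2.2.symm hcx.2.1)
      (dot_zero Mhi hu hc67 hs.mE (cc 4 (by norm_num) (by decide)) hne4)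
      (dot_zero Mhi hu hc67 hs.mF (cc 5 (by norm_num) (by decide)) hne5)
    have := (Mhi.commute _ _ (hu y y67).1 (hu c hc67).1).2 (Or.inl (by rw [dotProduct_comm]; exact h0))
    rwa [(hu y y67).2, (hu c hc67).2] at this
  have hcy : ∀ s < 9, s ≠ 6 → Commute y (F s) := by
    intro s hs hs6
    interval_cases s
    exacts [(hX 0).2.2.2, (hX 1).2.2.2, hyc, (hX 3).2.2.2, (hX 4).2.2.2, (hX 5).2.2.2, absurd rfl hs6,
      (hX 6).2.2.2, (hX 7).2.2.2]
  -- the vector of the ninth letter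
  have hcX : c ∈ FischerTypes.perp D x ∩ FischerTypes.perp D y :=
    ⟨hcx, hcx.1, fun he => hxy (he ▸ hcx.2.2), hyc⟩
  obtain ⟨vc, hvc, hvce⟩ := M.surj c hcX
  have hd0 : ∀ k : Fin 8, Commute c (m k) → c ≠ m k → vec (eight k) ⬝ᵥ vc = 0 := fun k hk hne => by
    rw [dotProduct_comm]
    exact M.dot_eq_zero hvc (hn k) (hvce.symm ▸ hk) (hvce.symm ▸ hne)
  have hd1 : ∀ k : Fin 8, ¬ Commute c (m k) → vec (eight k) ⬝ᵥ vc ≠ 0 := fun k hk => by
    rw [dotProduct_comm]
    exact M.dot_ne_zero hvc (hn k) (hvce.symm ▸ hk)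
  have c0 : c ≠ m 0 := fun he => hnon 2 3 (by decide) (show Commute c (F 3) from he ▸ hbraid.comm 0 3 (by decide))
  have hcand := OrthSeven.eight_cand hvc (hd0 0 (cc 0 (by norm_num) (by decide)) c0)
    (hd0 4 (cc 4 (by norm_num) (by decide)) (fun he => hadj 4 5 (by decide) (he ▸ cc 5 (by norm_num) (by decide))))
    (hd0 5 (cc 5 (by norm_num) (by decide)) (fun he => hadj 5 4 (by decide) (he ▸ cc 4 (by norm_num) (by decide))))
    (hd0 6 (cc 7 (by norm_num) (by decide)) hch) (hd0 7 (cc 8 (by norm_num) (by decide)) hci)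
    (hd1 1 (fun hh => hnon 1 2 (by decide) hh.symm)) (hd1 3 (hnon 2 3 (by decide)))
  have hsame : ∀ q, OrthSeven.dotCode q q = 1 → (vc = vec q ∨ vc = -vec q) → M.φ (vec q) = c := fun q hq hh =>
    ((M.eq_iff _ _ (by rw [OrthSeven.dot_vec, hq, Nat.cast_one]) hvc).2 hh).trans hvce
  obtain ⟨h8, h8'⟩ : Subgroup.closure (F '' {s | s < 9 ∧ s ≠ 6}) = Subgroup.centralizer ({x, y} : Set G) ∧
      ∀ u ∈ FischerTypes.perp D x ∩ FischerTypes.perp D y,
        ∃ k ∈ Subgroup.centralizer ({x, y} : Set G), k * F 0 * k⁻¹ = u := by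
    rcases hcand with hq | hq
    · have e := hsame 243 (by decide) hq
      refine eight_props h M hmem hcy hy hxy hnon OrthSeven.Closure.gens_norm.1 OrthSeven.Closure.ops0_ok
        OrthSeven.Closure.ops0_covers fun q hq' => ?_
      simp only [OrthSeven.Closure.gens0, List.mem_cons, List.not_mem_nil, or_false] at hq'
      rcases hq' with rfl | rfl | rfl | rfl | rfl | rfl | rfl | rfl
      exacts [⟨0, by norm_num, by norm_num, rfl⟩, ⟨1, by norm_num, by norm_num, rfl⟩,
        ⟨2, by norm_num, by norm_num, e⟩, ⟨3, by norm_num, by norm_num, rfl⟩, ⟨4, by norm_num, by norm_num, rfl⟩,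
        ⟨5, by norm_num, by norm_num, rfl⟩, ⟨7, by norm_num, by norm_num, rfl⟩, ⟨8, by norm_num, by norm_num, rfl⟩]
    · have e := hsame 441 (by decide) hq
      refine eight_props h M hmem hcy hy hxy hnon OrthSeven.Closure.gens_norm.2 OrthSeven.Closure.ops1_ok
        OrthSeven.Closure.ops1_covers fun q hq' => ?_
      simp only [OrthSeven.Closure.gens1, List.mem_cons, List.not_mem_nil, or_false] at hq'
      rcases hq' with rfl | rfl | rfl | rfl | rfl | rfl | rfl | rfl
      exacts [⟨0, by norm_num, by norm_num, rfl⟩, ⟨1, by norm_num, by norm_num, rfl⟩,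
        ⟨2, by norm_num, by norm_num, e⟩, ⟨3, by norm_num, by norm_num, rfl⟩, ⟨4, by norm_num, by norm_num, rfl⟩,
        ⟨5, by norm_num, by norm_num, rfl⟩, ⟨7, by norm_num, by norm_num, rfl⟩, ⟨8, by norm_num, by norm_num, rfl⟩]
  exact ⟨F, hx, hy, hxy, hbraid, hmem, hnon, hconf, hcy, h8, h8'⟩

end CfsgLib.Transpositions.M23Unique
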