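import Cfsg.Agent.Forms.OrthIndex
import Cfsg.Agent.Spinor.StdForms

/-!
# Crossed homomorphisms of orthogonal groups over the field with two elements

A crossed homomorphism of `Ω(Q)` into the natural module gives, on each product `t_u t_v` of two
orthogonal transvections with `B(u, v) = 1`, a vector; its inner products with `v` only depend on
`v`, and are additive along `B(u, v) = 1`. A finite certificate of connectivity then makes every
crossed homomorphism principal.
-/

set_option autoImplicit false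

namespace CfsgLib.Transpositions

open Matrix CfsgLib.Spinor

variable {ι : Type} [Fintype ι] [DecidableEq ι]

/-- Checker for a list of additions `known[i] + known[j]` with `B(known[i], known[j]) = 1`. -/
def growCheck (q : (ι → ZMod 2) → ZMod 2) :
    List (ι → ZMod 2) → List (ℕ × ℕ) → Option (List (ι → ZMod 2))
  | known, [] => some known
  | known, (i, j) :: rest =>
    if QuadraticMap.polar q (known.getD i 0) (known.getD j 0) = 1 ∧
        i < known.length ∧ j < known.length then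
      growCheck q (known ++ [known.getD i 0 + known.getD j 0]) rest
    else none

theorem growCheck_induction {q : (ι → ZMod 2) → ZMod 2} {P : (ι → ZMod 2) → Prop}
    (hstep : ∀ u v, P u → P v → QuadraticMap.polar q u v = 1 → P (u + v)) :
    ∀ (steps : List (ℕ × ℕ)) (known out : List (ι → ZMod 2)),
      growCheck q known steps = some out → (∀ v ∈ known, P v) → ∀ v ∈ out, P v := by
  intro steps
  induction steps with
  | nil =>
    intro known out h hk
    simp only [growCheck, Option.some.injEq] at h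
    exact h ▸ hk
  | cons s rest ih =>
    obtain ⟨i, j⟩ := s
    intro known out h hk
    simp only [growCheck] at h
    split at h
    · next hc =>
      refine ih _ _ h fun v hv => ?_
      rcases List.mem_append.1 hv with hv | hv
      · exact hk v hv
      · rw [List.mem_singleton.1 hv]
        refine hstep _ _ (hk _ ?_) (hk _ ?_) hc.1
        · rw [List.getD_eq_getElem _ _ hc.2.1]; exact List.getElem_mem _
        · rw [List.getD_eq_getElem _ _ hc.2.2]; exact List.getElem_mem _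
    · exact absurd h (by simp)

variable (Q : QuadraticForm (ZMod 2) (ι → ZMod 2))

theorem zmod_two_cases : ∀ x : ZMod 2, x = 0 ∨ x = 1 := by decide

theorem polar_self_two (v : ι → ZMod 2) : QuadraticMap.polar (⇑Q) v v = 0 := by
  rw [polar_self', show (2 : ZMod 2) = 0 from rfl, zero_mul]

/-- The transvection of a vector of norm one. -/
def tv (v : ι → ZMod 2) (hv : Q v = 1) : ↥(Cfsg.isometryGroup (ZMod 2) ⇑Q) :=
  reflIso Q v (by rw [hv]; exact one_ne_zero)

theorem tv_apply {v : ι → ZMod 2} (hv : Q v = 1) (x : ι → ZMod 2) :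
    mat Q (tv Q v hv) *ᵥ x = x + QuadraticMap.polar (⇑Q) v x • v := by
  show Cfsg.reflectionMatrix (⇑Q) v *ᵥ x = _
  rw [reflectionMatrix_mulVec, refl_apply, hv, inv_one, one_mul, sub_eq_add_neg, ← neg_smul,
    CharTwo.neg_eq]

theorem tv_mul_self {v : ι → ZMod 2} (hv : Q v = 1) : tv Q v hv * tv Q v hv = 1 :=
  mat_ext Q (reflectionMatrix_mul_self Q (by rw [hv]; exact one_ne_zero))

theorem tv_inv {v : ι → ZMod 2} (hv : Q v = 1) : (tv Q v hv)⁻¹ = tv Q v hv :=
  inv_eq_of_mul_eq_one_right (tv_mul_self Q hv)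

theorem tv_congr {v w : ι → ZMod 2} (hv : Q v = 1) (hw : Q w = 1) (h : v = w) :
    tv Q v hv = tv Q w hw := by subst h; rfl

theorem quad_add_two {u v : ι → ZMod 2} (hu : Q u = 1) (hv : Q v = 1)
    (h : QuadraticMap.polar (⇑Q) u v = 1) : Q (u + v) = 1 := by
  rw [QuadraticMap.map_add Q u v, hu, hv, h]; rfl

theorem tv_conj {u v : ι → ZMod 2} (hu : Q u = 1) (hv : Q v = 1)
    (h : QuadraticMap.polar (⇑Q) u v = 1) :
    tv Q u hu * tv Q v hv * tv Q u hu = tv Q (u + v) (quad_add_two Q hu hv h) := by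
  nth_rw 2 [← tv_inv Q hu]
  rw [show tv Q u hu * tv Q v hv * (tv Q u hu)⁻¹ = _ from conj_reflIso Q _ v _]
  refine tv_congr Q (by rw [quad_mulVec]; exact hv) _ ?_
  rw [tv_apply, h, one_smul, add_comm]

theorem tv_braid {u v : ι → ZMod 2} (hu : Q u = 1) (hv : Q v = 1)
    (h : QuadraticMap.polar (⇑Q) u v = 1) :
    tv Q u hu * tv Q v hv * tv Q u hu = tv Q v hv * tv Q u hu * tv Q v hv := by
  rw [tv_conj Q hu hv h, tv_conj Q hv hu (by rw [QuadraticMap.polar_comm]; exact h)]
  exact tv_congr Q _ _ (add_comm _ _)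

theorem pair_mem_omega {u v : ι → ZMod 2} (hu : Q u = 1) (hv : Q v = 1)
    (h : QuadraticMap.polar (⇑Q) u v = 1) :
    tv Q u hu * tv Q v hv ∈ Cfsg.Omega (ZMod 2) ⇑Q := by
  have hc : tv Q u hu * tv Q v hv =
      tv Q v hv * tv Q u hu * (tv Q v hv)⁻¹ * (tv Q u hu)⁻¹ := by
    rw [tv_inv, tv_inv]
    rw [← tv_braid Q hu hv h, mul_assoc, mul_assoc, tv_mul_self, mul_one]
  rw [hc, Cfsg.Omega, commutator_eq_closure]
  exact Subgroup.subset_closure ⟨_, _, rfl⟩

/-- The element `t_u t_v` of `Ω(Q)`. -/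
def pairElt (u v : ι → ZMod 2) (hu : Q u = 1) (hv : Q v = 1)
    (h : QuadraticMap.polar (⇑Q) u v = 1) : ↥(Cfsg.Omega (ZMod 2) ⇑Q) :=
  ⟨tv Q u hu * tv Q v hv, pair_mem_omega Q hu hv h⟩

theorem pairElt_inv {u v : ι → ZMod 2} (hu : Q u = 1) (hv : Q v = 1)
    (h : QuadraticMap.polar (⇑Q) u v = 1) :
    (pairElt Q u v hu hv h)⁻¹ =
      pairElt Q v u hv hu (by rw [QuadraticMap.polar_comm]; exact h) := by
  refine Subtype.ext ?_
  show (tv Q u hu * tv Q v hv)⁻¹ = tv Q v hv * tv Q u hu
  rw [_root_.mul_inv_rev, tv_inv, tv_inv]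

theorem pairElt_shift {u v : ι → ZMod 2} (hu : Q u = 1) (hv : Q v = 1)
    (h : QuadraticMap.polar (⇑Q) u v = 1) (h' : QuadraticMap.polar (⇑Q) v (u + v) = 1) :
    pairElt Q v (u + v) hv (quad_add_two Q hu hv h) h' = pairElt Q u v hu hv h := by
  refine Subtype.ext ?_
  show tv Q v hv * tv Q (u + v) _ = tv Q u hu * tv Q v hv
  rw [← tv_conj Q hu hv h, tv_braid Q hu hv h, ← mul_assoc, ← mul_assoc, tv_mul_self, one_mul]

/-- Whether `f` is a crossed homomorphism into the natural module. -/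
def IsCrossedHom (f : ↥(Cfsg.Omega (ZMod 2) ⇑Q) → ι → ZMod 2) : Prop :=
  ∀ g h : ↥(Cfsg.Omega (ZMod 2) ⇑Q), f (g * h) = f g + mat Q g.1 *ᵥ f h

variable {Q} {f : ↥(Cfsg.Omega (ZMod 2) ⇑Q) → ι → ZMod 2}

theorem IsCrossedHom.map_one (hf : IsCrossedHom Q f) : f 1 = 0 := by
  have h := hf 1 1
  rw [mul_one, show mat Q ((1 : ↥(Cfsg.Omega (ZMod 2) ⇑Q)).1) = 1 from rfl, one_mulVec] at h
  exact left_eq_add.1 h

theorem IsCrossedHom.map_inv (hf : IsCrossedHom Q f) (g : ↥(Cfsg.Omega (ZMod 2) ⇑Q)) :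
    f g⁻¹ = mat Q (g⁻¹).1 *ᵥ f g := by
  have h := hf g⁻¹ g
  rw [inv_mul_cancel, hf.map_one] at h
  rw [eq_comm, add_comm, add_eq_zero_iff_eq_neg] at h
  rw [h]
  funext i
  exact (CharTwo.neg_eq (f g⁻¹ i)).symm

variable (Q) in
/-- The vector attached to an element of order three. -/
def avec (f : ↥(Cfsg.Omega (ZMod 2) ⇑Q) → ι → ZMod 2) (g : ↥(Cfsg.Omega (ZMod 2) ⇑Q)) :
    ι → ZMod 2 := mat Q g.1 *ᵥ f g

theorem add_self_two (x : ι → ZMod 2) : x + x = 0 := funext fun i => CharTwo.add_self_eq_zero (x i)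

theorem IsCrossedHom.avec_inv (hf : IsCrossedHom Q f) {g : ↥(Cfsg.Omega (ZMod 2) ⇑Q)}
    (hg : g * g * g = 1) : avec Q f g⁻¹ = avec Q f g := by
  rw [avec, avec, hf.map_inv, mulVec_mulVec, ← mat_mul]
  congr 2
  show (g⁻¹ * g⁻¹).1 = g.1
  rw [inv_eq_of_mul_eq_one_left hg]
  congr 1
  calc g * g * (g * g) = g * g * g * g := by group
    _ = g := by rw [hg, one_mul]

theorem IsCrossedHom.eq_avec (hf : IsCrossedHom Q f) {g : ↥(Cfsg.Omega (ZMod 2) ⇑Q)}
    (hg : g * g * g = 1) : f g = mat Q g.1 *ᵥ avec Q f g + avec Q f g := by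
  have h : f (g * g * g) = 0 := by rw [hg, hf.map_one]
  rw [hf, hf, show mat Q ((g * g).1) = mat Q g.1 * mat Q g.1 from rfl, ← mulVec_mulVec] at h
  rw [avec]
  calc f g = f g + 0 := (add_zero _).symm
    _ = f g + (f g + mat Q g.1 *ᵥ f g + mat Q g.1 *ᵥ (mat Q g.1 *ᵥ f g)) := by rw [h]
    _ = (f g + f g) + (mat Q g.1 *ᵥ f g + mat Q g.1 *ᵥ (mat Q g.1 *ᵥ f g)) := by abel
    _ = _ := by rw [add_self_two, zero_add, add_comm]

theorem pairElt_cube {u v : ι → ZMod 2} (hu : Q u = 1) (hv : Q v = 1)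
    (h : QuadraticMap.polar (⇑Q) u v = 1) :
    pairElt Q u v hu hv h * pairElt Q u v hu hv h * pairElt Q u v hu hv h = 1 := by
  refine Subtype.ext ?_
  show tv Q u hu * tv Q v hv * (tv Q u hu * tv Q v hv) * (tv Q u hu * tv Q v hv) = 1
  calc _ = (tv Q u hu * tv Q v hv * tv Q u hu) * (tv Q v hv * tv Q u hu * tv Q v hv) := by group
    _ = _ := by
      rw [← tv_braid Q hu hv h]
      simp only [mul_assoc]
      rw [← mul_assoc (tv Q u hu) (tv Q u hu), tv_mul_self, one_mul, ← mul_assoc (tv Q v hv)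
        (tv Q v hv), tv_mul_self, one_mul, tv_mul_self]

/-- The inner product of the vector of `t_u t_v` with `v` does not depend on `u` when the two
partners are orthogonal. -/
theorem IsCrossedHom.polar_avec_orth (hf : IsCrossedHom Q f) {u v x : ι → ZMod 2}
    (hu : Q u = 1) (hv : Q v = 1) (hx : Q x = 1) (huv : QuadraticMap.polar (⇑Q) u v = 1)
    (hvx : QuadraticMap.polar (⇑Q) v x = 1) (hux : QuadraticMap.polar (⇑Q) u x = 0) :
    QuadraticMap.polar (⇑Q) (avec Q f (pairElt Q u v hu hv huv)) v =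
      QuadraticMap.polar (⇑Q) (avec Q f (pairElt Q v x hv hx hvx)) v := by
  set h := pairElt Q u v hu hv huv with hh
  set k := pairElt Q v x hv hx hvx with hk
  by_cases hxu : x = u
  · subst hxu
    have he : k = h⁻¹ := by rw [hk, hh, pairElt_inv]
    rw [he, hf.avec_inv (pairElt_cube hu hv huv)]
  set a := avec Q f h
  set b := avec Q f k
  set T := mat Q h.1
  set S := mat Q k.1
  set c := a + b
  set d := T *ᵥ c + c
  have hg : ∀ y, (T * S) *ᵥ y = y + QuadraticMap.polar (⇑Q) x y • x +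
      QuadraticMap.polar (⇑Q) u (y + QuadraticMap.polar (⇑Q) x y • x) • u := by
    intro y
    have e : T * S = mat Q (tv Q u hu) * mat Q (tv Q x hx) := by
      show mat Q (tv Q u hu * tv Q v hv) * mat Q (tv Q v hv * tv Q x hx) = _
      rw [← mat_mul, ← mat_mul, mul_assoc, ← mul_assoc (tv Q v hv), tv_mul_self, one_mul]
    rw [e, ← mulVec_mulVec, tv_apply, tv_apply]
  have hgg : ∀ y, (T * S) *ᵥ ((T * S) *ᵥ y) = y := by
    intro y
    have hxu' : QuadraticMap.polar (⇑Q) x u = 0 := by rw [QuadraticMap.polar_comm, hux]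
    rcases zmod_two_cases (QuadraticMap.polar (⇑Q) x y) with h1 | h1 <;>
      rcases zmod_two_cases (QuadraticMap.polar (⇑Q) u y) with h2 | h2 <;>
      simp [hg, h1, h2, hux, hxu', QuadraticMap.polar_add_right, polar_self_two, add_assoc,
        add_self_two] <;>
      funext i <;> simp only [Pi.add_apply] <;>
      (try simp [CharTwo.add_self_eq_zero]) <;> ring_nf <;>
      simp [show (2 : ZMod 2) = 0 from rfl, CharTwo.two_eq_zero]
  have hfg : f (h * k) = (T * S) *ᵥ b + b + d := by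
    rw [hf, hf.eq_avec (pairElt_cube hu hv huv), hf.eq_avec (pairElt_cube hv hx hvx)]
    show T *ᵥ a + a + T *ᵥ (S *ᵥ b + b) = (T * S) *ᵥ b + b + (T *ᵥ (a + b) + (a + b))
    rw [mulVec_add, mulVec_add, mulVec_mulVec]
    calc T *ᵥ a + a + ((T * S) *ᵥ b + T *ᵥ b)
        = T *ᵥ a + a + ((T * S) *ᵥ b + T *ᵥ b) + (b + b) := by rw [add_self_two, add_zero]
      _ = _ := by abel
  have hsq : h * k * (h * k) = 1 := by
    refine Subtype.ext (mat_ext Q (Matrix.ext_iff_mulVec.2 fun y => ?_))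
    rw [show mat Q ((h * k * (h * k)).1) = T * S * (T * S) from rfl, ← mulVec_mulVec, hgg]
    exact (one_mulVec y).symm
  have hgd : (T * S) *ᵥ d = d := by
    have h0 := hf (h * k) (h * k)
    rw [hsq, hf.map_one, hfg, show mat Q (h * k).1 = T * S from rfl, mulVec_add, mulVec_add, hgg]
      at h0
    have h1 : d + (T * S) *ᵥ d = 0 := by
      rw [h0]
      calc d + (T * S) *ᵥ d = (b + b) + ((T * S) *ᵥ b + (T * S) *ᵥ b) + (d + (T * S) *ᵥ d) := by
            rw [add_self_two, add_self_two, zero_add, zero_add]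
        _ = _ := by abel
    calc (T * S) *ᵥ d = (d + d) + (T * S) *ᵥ d := by rw [add_self_two, zero_add]
      _ = d + (d + (T * S) *ᵥ d) := by abel
      _ = d := by rw [h1, add_zero]
  have hvu : QuadraticMap.polar (⇑Q) v u = 1 := by rw [QuadraticMap.polar_comm, huv]
  have hxv : QuadraticMap.polar (⇑Q) x v = 1 := by rw [QuadraticMap.polar_comm, hvx]
  have hxu' : QuadraticMap.polar (⇑Q) x u = 0 := by rw [QuadraticMap.polar_comm, hux]
  have hd : d = QuadraticMap.polar (⇑Q) v c • v +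
      (QuadraticMap.polar (⇑Q) u c + QuadraticMap.polar (⇑Q) v c) • u := by
    show mat Q (tv Q u hu * tv Q v hv) *ᵥ c + c = _
    rw [mat_mul, ← mulVec_mulVec, tv_apply, tv_apply, QuadraticMap.polar_add_right (Q := Q) u c,
      QuadraticMap.polar_smul_right, huv, smul_eq_mul, mul_one]
    calc _ = (c + c) + (QuadraticMap.polar (⇑Q) v c • v +
          (QuadraticMap.polar (⇑Q) u c + QuadraticMap.polar (⇑Q) v c) • u) := by abel
      _ = _ := by rw [add_self_two, zero_add]
  have hxd : QuadraticMap.polar (⇑Q) x d = QuadraticMap.polar (⇑Q) v c := by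
    rw [hd, QuadraticMap.polar_add_right, QuadraticMap.polar_smul_right,
      QuadraticMap.polar_smul_right, hxv, hxu', smul_eq_mul, smul_eq_mul, mul_one, mul_zero,
      add_zero]
  have hud : QuadraticMap.polar (⇑Q) u d = QuadraticMap.polar (⇑Q) v c := by
    rw [hd, QuadraticMap.polar_add_right, QuadraticMap.polar_smul_right,
      QuadraticMap.polar_smul_right, huv, polar_self_two, smul_eq_mul, smul_eq_mul, mul_one,
      mul_zero, add_zero]
  have hc0 : QuadraticMap.polar (⇑Q) v c = 0 := by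
    rcases zmod_two_cases (QuadraticMap.polar (⇑Q) v c) with h0 | h0
    · exact h0
    · exfalso
      rw [hg, hxd, h0, one_smul, QuadraticMap.polar_add_right, hud, h0, hux, add_zero, one_smul]
        at hgd
      refine hxu ?_
      calc x = x + (u + u) := by rw [add_self_two, add_zero]
        _ = (d + x + u) + (d + u) + 0 := by
          calc x + (u + u) = (d + d) + (x + (u + u)) := by simp [add_self_two]
            _ = _ := by abel
        _ = d + (d + u) + 0 := by rw [hgd]
        _ = (d + d) + u := by abel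
        _ = u := by rw [add_self_two, zero_add]
  rw [show c = a + b from rfl, QuadraticMap.polar_add_right, CharTwo.add_eq_zero] at hc0
  rw [QuadraticMap.polar_comm, hc0, QuadraticMap.polar_comm]

theorem IsCrossedHom.polar_avec_eq (hf : IsCrossedHom Q f) {u v x : ι → ZMod 2}
    (hu : Q u = 1) (hv : Q v = 1) (hx : Q x = 1) (huv : QuadraticMap.polar (⇑Q) u v = 1)
    (hxv : QuadraticMap.polar (⇑Q) x v = 1) :
    QuadraticMap.polar (⇑Q) (avec Q f (pairElt Q u v hu hv huv)) v =
      QuadraticMap.polar (⇑Q) (avec Q f (pairElt Q x v hx hv hxv)) v := by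
  have hvx : QuadraticMap.polar (⇑Q) v x = 1 := by rw [QuadraticMap.polar_comm, hxv]
  rcases zmod_two_cases (QuadraticMap.polar (⇑Q) u x) with hux | hux
  · rw [hf.polar_avec_orth hu hv hx huv hvx hux, ← pairElt_inv Q hx hv hxv,
      hf.avec_inv (pairElt_cube hx hv hxv)]
  · have h' : QuadraticMap.polar (⇑Q) v (x + v) = 1 := by
      rw [QuadraticMap.polar_add_right, hvx, polar_self_two, add_zero]
    have hu' : QuadraticMap.polar (⇑Q) u (x + v) = 0 := by
      rw [QuadraticMap.polar_add_right, hux, huv]; rfl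
    rw [hf.polar_avec_orth hu hv (quad_add_two Q hx hv hxv) huv h' hu',
      pairElt_shift Q hx hv hxv h']

variable (Q)

/-- The main criterion: a crossed homomorphism is principal. -/
theorem exists_principal {n : ℕ} (b dual : Fin n → ι → ZMod 2) (hb : ∀ i, Q (b i) = 1)
    (hdual : ∀ i j, QuadraticMap.polar (⇑Q) (dual i) (b j) = if i = j then 1 else 0)
    (hchain : ∀ i, ∃ j, QuadraticMap.polar (⇑Q) (b j) (b i) = 1)
    (hconn : ∀ i : Fin n, (i : ℕ) = 0 ∨ ∃ j, j < i ∧ QuadraticMap.polar (⇑Q) (b j) (b i) = 1)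
    (steps : List (ℕ × ℕ)) (all : List (ι → ZMod 2))
    (hgrow : growCheck (⇑Q) (List.ofFn b) steps = some all)
    (hall : ∀ v, Q v = 1 → v ∈ all)
    (homega : ∀ K : Subgroup ↥(Cfsg.isometryGroup (ZMod 2) ⇑Q),
      (∀ u v, ∀ hu : Q u = 1, ∀ hv : Q v = 1, tv Q u hu * tv Q v hv ∈ K) →
        Cfsg.Omega (ZMod 2) ⇑Q ≤ K)
    (f : ↥(Cfsg.Omega (ZMod 2) ⇑Q) → ι → ZMod 2) (hf : IsCrossedHom Q f) :
    ∃ a, ∀ g, f g = mat Q g.1 *ᵥ a - a := by
  classical
  have hreach : ∀ P : (ι → ZMod 2) → Prop, (∀ i, P (b i)) →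
      (∀ u v, P u → P v → QuadraticMap.polar (⇑Q) u v = 1 → P (u + v)) → ∀ v, Q v = 1 → P v :=
    fun P hP hstep v hv => growCheck_induction hstep steps _ all hgrow
      (fun w hw => by obtain ⟨i, rfl⟩ := List.mem_ofFn.1 hw; exact hP i) v (hall v hv)
  have hpartner : ∀ v, Q v = 1 → ∃ u, Q u = 1 ∧ QuadraticMap.polar (⇑Q) u v = 1 := by
    intro v hv
    refine ((hreach (fun v => Q v = 1 ∧ ∃ u, Q u = 1 ∧ QuadraticMap.polar (⇑Q) u v = 1)
      (fun i => ?_) ?_ v hv)).2
    · obtain ⟨j, hj⟩ := hchain i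
      exact ⟨hb i, b j, hb j, hj⟩
    · rintro u w ⟨hu, -⟩ ⟨hw, -⟩ h
      exact ⟨quad_add_two Q hu hw h, u, hu, by
        rw [QuadraticMap.polar_add_right, polar_self_two, h, zero_add]⟩
  let φ : ∀ v, Q v = 1 → ZMod 2 := fun v hv =>
    QuadraticMap.polar (⇑Q) (avec Q f (pairElt Q (hpartner v hv).choose v
      (hpartner v hv).choose_spec.1 hv (hpartner v hv).choose_spec.2)) v
  have hφ : ∀ u v hu hv huv, φ v hv =
      QuadraticMap.polar (⇑Q) (avec Q f (pairElt Q u v hu hv huv)) v :=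
    fun u v hu hv huv => hf.polar_avec_eq (hpartner v hv).choose_spec.1 hv hu
      (hpartner v hv).choose_spec.2 huv
  have hswap : ∀ u v hu hv huv,
      φ u hu = QuadraticMap.polar (⇑Q) (avec Q f (pairElt Q u v hu hv huv)) u := by
    intro u v hu hv huv
    rw [hφ v u hv hu (by rw [QuadraticMap.polar_comm]; exact huv), ← pairElt_inv Q hu hv huv,
      hf.avec_inv (pairElt_cube hu hv huv)]
  set a : ι → ZMod 2 := ∑ i, φ (b i) (hb i) • dual i
  have hab : ∀ i, φ (b i) (hb i) = QuadraticMap.polar (⇑Q) a (b i) := by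
    intro i
    have : QuadraticMap.polar (⇑Q) a (b i) = ∑ j, φ (b j) (hb j) *
        QuadraticMap.polar (⇑Q) (dual j) (b i) := by
      show QuadraticMap.polarBilin Q a (b i) = _
      simp only [a, map_sum, map_smul, LinearMap.sum_apply, LinearMap.smul_apply, smul_eq_mul]
      rfl
    rw [this]
    simp [hdual]
  have hlin : ∀ v, ∀ hv : Q v = 1, φ v hv = QuadraticMap.polar (⇑Q) a v := by
    intro v hv
    obtain ⟨_, h⟩ := hreach (fun v => ∃ hv : Q v = 1, φ v hv = QuadraticMap.polar (⇑Q) a v)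
      (fun i => ⟨hb i, hab i⟩) (by
        rintro u w ⟨hu, eu⟩ ⟨hw, ew⟩ huw
        have h' : QuadraticMap.polar (⇑Q) w (u + w) = 1 := by
          rw [QuadraticMap.polar_add_right, polar_self_two, add_zero, QuadraticMap.polar_comm, huw]
        refine ⟨quad_add_two Q hu hw huw, ?_⟩
        rw [hφ w (u + w) hw (quad_add_two Q hu hw huw) h', pairElt_shift Q hu hw huw h',
          QuadraticMap.polar_add_right, ← hswap u w hu hw huw, ← hφ u w hu hw huw, eu, ew,
          QuadraticMap.polar_add_right]) v hv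
    exact h
  have hpair : ∀ u v hu hv huv, f (pairElt Q u v hu hv huv) =
      mat Q (pairElt Q u v hu hv huv).1 *ᵥ a + a := by
    intro u v hu hv huv
    set h := pairElt Q u v hu hv huv
    set A := avec Q f h
    have hu0 : QuadraticMap.polar (⇑Q) u (A + a) = 0 := by
      rw [QuadraticMap.polar_comm, QuadraticMap.polar_add_left, ← hswap u v hu hv huv, hlin u hu,
        CharTwo.add_self_eq_zero]
    have hv0 : QuadraticMap.polar (⇑Q) v (A + a) = 0 := by
      rw [QuadraticMap.polar_comm, QuadraticMap.polar_add_left, ← hφ u v hu hv huv, hlin v hv,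
        CharTwo.add_self_eq_zero]
    have hfix : mat Q h.1 *ᵥ (A + a) = A + a := by
      show mat Q (tv Q u hu * tv Q v hv) *ᵥ (A + a) = A + a
      rw [mat_mul, ← mulVec_mulVec, tv_apply, tv_apply, hv0, zero_smul, add_zero, hu0, zero_smul,
        add_zero]
    rw [hf.eq_avec (pairElt_cube hu hv huv)]
    show mat Q h.1 *ᵥ A + A = mat Q h.1 *ᵥ a + a
    rw [mulVec_add] at hfix
    calc mat Q h.1 *ᵥ A + A
        = mat Q h.1 *ᵥ A + (mat Q h.1 *ᵥ a + mat Q h.1 *ᵥ a) + A := by
          rw [add_self_two, add_zero]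
      _ = (mat Q h.1 *ᵥ A + mat Q h.1 *ᵥ a) + mat Q h.1 *ᵥ a + A := by abel
      _ = (A + a) + mat Q h.1 *ᵥ a + A := by rw [hfix]
      _ = (A + A) + (mat Q h.1 *ᵥ a + a) := by abel
      _ = _ := by rw [add_self_two, zero_add]
  -- the subgroup on which `f` is principal
  let M : Subgroup ↥(Cfsg.Omega (ZMod 2) ⇑Q) :=
    { carrier := {g | f g = mat Q g.1 *ᵥ a + a}
      mul_mem' := fun {g k} hg hk => by
        simp only [Set.mem_setOf_eq] at hg hk ⊢
        rw [hf, hg, hk, mulVec_add, mulVec_mulVec]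
        calc mat Q g.1 *ᵥ a + a + ((mat Q g.1 * mat Q k.1) *ᵥ a + mat Q g.1 *ᵥ a)
            = (mat Q g.1 *ᵥ a + mat Q g.1 *ᵥ a) + ((mat Q g.1 * mat Q k.1) *ᵥ a + a) := by abel
          _ = _ := by rw [add_self_two, zero_add]; rfl
      one_mem' := by
        show f 1 = _
        rw [hf.map_one, show mat Q ((1 : ↥(Cfsg.Omega (ZMod 2) ⇑Q)).1) = 1 from rfl, one_mulVec,
          add_self_two]
      inv_mem' := fun {g} hg => by
        simp only [Set.mem_setOf_eq] at hg ⊢
        rw [hf.map_inv, hg, mulVec_add, mulVec_mulVec, ← mat_mul,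
          show (g⁻¹).1 * g.1 = 1 from inv_mul_cancel g.1, mat_one, one_mulVec, add_comm] }
  set K := M.map (Cfsg.Omega (ZMod 2) ⇑Q).subtype
  have hK1 : ∀ u v hu hv, QuadraticMap.polar (⇑Q) u v = 1 → tv Q u hu * tv Q v hv ∈ K :=
    fun u v hu hv huv => ⟨pairElt Q u v hu hv huv, hpair u v hu hv huv, rfl⟩
  have hK : ∀ u v, ∀ hu : Q u = 1, ∀ hv : Q v = 1, tv Q u hu * tv Q v hv ∈ K := by
    rcases Nat.eq_zero_or_pos n with hn | hn
    · intro u v hu hv
      exact (hreach (fun _ => False) (fun i => absurd i.2 (by omega)) (fun _ _ h _ _ => h) u hu).elim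
    set o : Fin n := ⟨0, hn⟩
    have hT : ∀ v, Q v = 1 → ∀ hv : Q v = 1, tv Q v hv * tv Q (b o) (hb o) ∈ K := by
      intro v hv
      intro _
      have key := hreach (fun v => ∃ hv : Q v = 1, tv Q v hv * tv Q (b o) (hb o) ∈ K) ?_ ?_ v hv
      · obtain ⟨_, h⟩ := key; exact h
      · have hind : ∀ (k : ℕ) (i : Fin n), (i : ℕ) < k →
            tv Q (b i) (hb i) * tv Q (b o) (hb o) ∈ K := by
          intro k
          induction k with
          | zero => intro i hi; exact absurd hi (Nat.not_lt_zero _)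
          | succ k ih =>
            intro i hi
            rcases hconn i with h0 | ⟨j, hji, hj⟩
            · rw [tv_congr Q (hb i) (hb o) (congrArg b (Fin.ext h0)), tv_mul_self]
              exact one_mem K
            · have h1 := hK1 (b i) (b j) (hb i) (hb j) (by rw [QuadraticMap.polar_comm]; exact hj)
              have h2 := mul_mem h1 (ih j (by omega))
              rw [mul_assoc, ← mul_assoc (tv Q (b j) (hb j)), tv_mul_self, one_mul] at h2
              exact h2
        exact fun i => ⟨hb i, hind _ i (Nat.lt_succ_self _)⟩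
      · rintro u w ⟨hu, hu'⟩ ⟨hw, -⟩ huw
        refine ⟨quad_add_two Q hu hw huw, ?_⟩
        have h3 := mul_mem (hK1 u w hu hw huw) (hu')
        rw [← mul_assoc, tv_conj Q hu hw huw] at h3
        exact h3
    intro u v hu hv
    have h := mul_mem (hT u hu hu) (inv_mem (hT v hv hv))
    rwa [_root_.mul_inv_rev, tv_inv, tv_inv, mul_assoc, ← mul_assoc (tv Q (b o) _), tv_mul_self,
      one_mul] at h
  refine ⟨a, fun g => ?_⟩
  obtain ⟨g', hg', he⟩ := homega K hK g.2
  rw [show g' = g from Subtype.ext he] at hg'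
  rw [show f g = mat Q g.1 *ᵥ a + a from hg', sub_eq_add_neg]
  congr 1
  funext i
  exact (CharTwo.neg_eq (a i)).symm

end CfsgLib.Transpositions
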