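import Cfsg.Agent.Transpositions.TypeM24Cliques

/-!
# Counting around a maximal commuting set in type M(24)

Every outside member commutes with two or eight of its members (24288 of the latter kind); of those
commuting with such a member, 480 have a disjoint block; the maximal commuting sets are odd in number.
-/

set_option autoImplicit false
set_option linter.unusedSectionVars false
set_option linter.unusedDecidableInType false
set_option linter.unusedFintypeInType false

namespace CfsgLib.Transpositions.TypeM24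

open Cfsg CfsgLib.FischerTypes
open CfsgLib.Transpositions.CliqueAlgebra (val evenSub)

attribute [local instance] Classical.propDecidable

variable {G : Type*} [Group G] [Finite G] {D : Set G}

/-- The common neighbours as a finite set. -/
noncomputable def commonF (D : Set G) (X : Finset G) : Finset G :=
  (Set.toFinite (common D X)).toFinset

theorem mem_commonF {X : Finset G} {z : G} :
    z ∈ commonF D X ↔ z ∈ D ∧ ∀ x ∈ X, z ∈ FischerTypes.perp D x :=
  (Set.Finite.mem_toFinset _).trans Iff.rfl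

theorem card_commonF (X : Finset G) : (commonF D X).card = (common D X).ncard :=
  (Set.ncard_eq_toFinset_card _ _).symm

theorem card_commonF_sdiff (X : Finset G) (M : Finset G) :
    (commonF D X \ M).card = (common D X).ncard - (M.filter fun m => m ∈ commonF D X).card := by
  rw [Finset.card_sdiff, card_commonF]
  congr 2

variable (H : M24.Hyp G D) {M : Finset G} (hM : IsMaxClique D (M : Set G))

include H hM

theorem subset_adj_iff {z : G} (hz : z ∈ D) {T : Finset G} (hT : T ⊆ M) :
    T ⊆ adj D M z ↔ ∀ x ∈ T, z ∈ FischerTypes.perp D x := by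
  constructor
  · exact fun h x hx => perp_symm hz (mem_adj.1 (h hx)).2
  · exact fun h x hx => mem_adj.2 ⟨hT hx, perp_symm (hM.sub (hT hx)) (h x hx)⟩

/-- Members outside, by the number of neighbours inside. -/
theorem outside_types :
    (∀ z ∈ D, z ∉ M → (adj D M z).card = 2 ∨ (adj D M z).card = 8) ∧
      ((commonF D (∅ : Finset G) \ M).filter fun z => (adj D M z).card = 8).card = 24288 := by
  obtain ⟨h24, htypes⟩ := card_clique H hM
  set U := commonF D (∅ : Finset G) \ M with hU
  have hmemU : ∀ {z}, z ∈ U ↔ z ∈ D ∧ z ∉ M := fun {z} => by simp [hU, mem_commonF]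
  have hmom : ∀ i, ∀ f, (∀ T ∈ M.powersetCard i, (common D T).ncard = f) →
      ∑ z ∈ U, (adj D M z).card.choose i = (24 : ℕ).choose i * (f - (24 - i)) := by
    intro i f hf
    have h := DoubleCount.sum_choose U M (fun z x => x ∈ FischerTypes.perp D z) i
    refine h.trans ?_
    rw [Finset.sum_congr rfl (g := fun _ => f - (24 - i)) fun T hT => ?_, Finset.sum_const,
      Finset.card_powersetCard, h24, smul_eq_mul]
    have hf' := hf T hT
    rw [Finset.mem_powersetCard] at hT
    have e1 : (U.filter fun z => ∀ x ∈ T, x ∈ FischerTypes.perp D z) = commonF D T \ M := by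
      ext z
      simp only [Finset.mem_filter, hmemU, Finset.mem_sdiff, mem_commonF]
      exact ⟨fun ⟨⟨h1, h2⟩, h3⟩ => ⟨⟨h1, fun x hx => perp_symm h1 (h3 x hx)⟩, h2⟩,
        fun ⟨⟨h1, h3⟩, h2⟩ => ⟨⟨h1, h2⟩, fun x hx => perp_symm (hM.sub (hT.1 hx)) (h3 x hx)⟩⟩
    have e2 : (M.filter fun m => m ∈ commonF D T) = M \ T := by
      ext m
      simp only [Finset.mem_filter, Finset.mem_sdiff, mem_commonF]
      exact ⟨fun ⟨h1, _, h3⟩ => ⟨h1, fun h => (h3 m h).2.1 rfl⟩, fun ⟨h1, h2⟩ => ⟨h1, hM.sub h1,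
        fun x hx => ⟨hM.sub h1, fun he => h2 (he ▸ hx), hM.comm x (hT.1 hx) m h1⟩⟩⟩
    rw [e1, card_commonF_sdiff, e2, Finset.card_sdiff_of_subset hT.1, h24, hT.2, hf']
  have hc : ∀ T ∈ M.powersetCard 1, (common D T).ncard = 31671 := fun T hT => by
    rw [Finset.mem_powersetCard] at hT
    exact (ncard_common H (fun x hx => hM.sub (hT.1 hx)) (fun x hx y hy => hM.comm x (hT.1 hx) y (hT.1 hy))).1 hT.2
  have hc2 : ∀ T ∈ M.powersetCard 2, (common D T).ncard = 3510 := fun T hT => by
    rw [Finset.mem_powersetCard] at hT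
    exact (ncard_common H (fun x hx => hM.sub (hT.1 hx)) (fun x hx y hy => hM.comm x (hT.1 hx) y (hT.1 hy))).2.1 hT.2
  have hc3 : ∀ T ∈ M.powersetCard 3, (common D T).ncard = 693 := fun T hT => by
    rw [Finset.mem_powersetCard] at hT
    exact (ncard_common H (fun x hx => hM.sub (hT.1 hx)) (fun x hx y hy => hM.comm x (hT.1 hx) y (hT.1 hy))).2.2.1 hT.2
  have h1 := hmom 1 _ hc
  have h2 := hmom 2 _ hc2
  have h3 := hmom 3 _ hc3
  have h0 : U.card = 306936 - 24 := by
    rw [hU, card_commonF_sdiff, common_empty, ncard_D H,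
      Finset.filter_true_of_mem fun m hm => mem_commonF.2 ⟨hM.sub hm, fun x hx => absurd hx (Finset.notMem_empty x)⟩,
      h24]
  norm_num [Nat.choose] at h1 h2 h3
  -- indicator sums
  set I : ℕ → ℕ := fun k => (U.filter fun z => (adj D M z).card = k).card with hI
  have hsum : ∀ k, ∑ z ∈ U, (if (adj D M z).card = k then 1 else 0) = I k := fun k => by
    rw [hI, Finset.sum_boole]; rfl
  have hcases : ∀ z ∈ U, (adj D M z).card = 0 ∨ (adj D M z).card = 1 ∨ (adj D M z).card = 2 ∨
      (adj D M z).card = 8 := fun z hz => htypes z (hmemU.1 hz).1 (hmemU.1 hz).2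
  have e0 : U.card = I 0 + I 1 + I 2 + I 8 := by
    rw [← hsum, ← hsum, ← hsum, ← hsum, ← Finset.sum_add_distrib, ← Finset.sum_add_distrib,
      ← Finset.sum_add_distrib, Finset.card_eq_sum_ones]
    refine Finset.sum_congr rfl fun z hz => ?_
    rcases hcases z hz with h | h | h | h <;> simp [h]
  have e1 : ∑ z ∈ U, (adj D M z).card = I 1 + 2 * I 2 + 8 * I 8 := by
    rw [← hsum, ← hsum, ← hsum, Finset.mul_sum, Finset.mul_sum, ← Finset.sum_add_distrib,
      ← Finset.sum_add_distrib]
    refine Finset.sum_congr rfl fun z hz => ?_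
    rcases hcases z hz with h | h | h | h <;> simp [h]
  have e2 : ∑ z ∈ U, (adj D M z).card.choose 2 = I 2 + 28 * I 8 := by
    rw [← hsum, ← hsum, Finset.mul_sum, ← Finset.sum_add_distrib]
    refine Finset.sum_congr rfl fun z hz => ?_
    rcases hcases z hz with h | h | h | h <;> simp [h, Nat.choose]
  have e3 : ∑ z ∈ U, (adj D M z).card.choose 3 = 56 * I 8 := by
    rw [← hsum, Finset.mul_sum]
    refine Finset.sum_congr rfl fun z hz => ?_
    rcases hcases z hz with h | h | h | h <;> simp [h, Nat.choose]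
  have hI0 : I 0 = 0 := by omega
  have hI1 : I 1 = 0 := by omega
  refine ⟨fun z hz hzM => ?_, show I 8 = 24288 by omega⟩
  have hzU : z ∈ U := hmemU.2 ⟨hz, hzM⟩
  rcases hcases z hzU with h | h | h | h
  · exact absurd hI0 (Finset.card_ne_zero.2 ⟨z, Finset.mem_filter.2 ⟨hzU, h⟩⟩)
  · exact absurd hI1 (Finset.card_ne_zero.2 ⟨z, Finset.mem_filter.2 ⟨hzU, h⟩⟩)
  · exact Or.inl h
  · exact Or.inr h

/-- Around a member with eight neighbours in `M`: those with eight neighbours, none of them shared. -/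
theorem card_disjoint_partners {y : G} (hy : y ∈ D) (hyM : y ∉ M) (h8 : (adj D M y).card = 8) :
    (((commonF D {y}) \ M).filter fun z =>
      (adj D M z).card = 8 ∧ Disjoint (adj D M y) (adj D M z)).card = 480 := by
  obtain ⟨htype, -⟩ := outside_types H hM
  have h24 := (card_clique H hM).1
  set O := adj D M y with hOdef
  have hOM : O ⊆ M := Finset.filter_subset _ _
  have hOy : ∀ x ∈ O, x ∈ FischerTypes.perp D y := fun x hx => (mem_adj.1 hx).2
  have hOD : ∀ x ∈ O, x ∈ D := fun x hx => hM.sub (hOM hx)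
  set R : Finset G → Finset G := fun T => commonF D (insert y T) \ M with hR
  have hmemR : ∀ {T : Finset G}, T ⊆ O → ∀ {z}, z ∈ R T ↔
      z ∈ FischerTypes.perp D y ∧ z ∉ M ∧ ∀ x ∈ T, x ∈ adj D M z := by
    intro T hT z
    simp only [hR, Finset.mem_sdiff, mem_commonF, Finset.forall_mem_insert]
    constructor
    · exact fun ⟨⟨h1, h2, h3⟩, h4⟩ => ⟨h2, h4, fun x hx =>
        mem_adj.2 ⟨hOM (hT hx), perp_symm (hOD x (hT hx)) (h3 x hx)⟩⟩
    · exact fun ⟨h2, h4, h3⟩ => ⟨⟨h2.1, h2, fun x hx => perp_symm h2.1 (mem_adj.1 (h3 x hx)).2⟩, h4⟩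
  have hcommT : ∀ {T : Finset G}, T ⊆ O → ∀ a ∈ insert y T, ∀ b ∈ insert y T, Commute a b := by
    intro T hT a ha b hb
    rcases Finset.mem_insert.1 ha with ha' | ha' <;> rcases Finset.mem_insert.1 hb with hb' | hb'
    · rw [ha', hb']
    · rw [ha']; exact (hOy b (hT hb')).2.2
    · rw [hb']; exact (hOy a (hT ha')).2.2.symm
    · exact hM.comm a (hOM (hT ha')) b (hOM (hT hb'))
  have hcardR : ∀ {T : Finset G}, T ⊆ O → (R T).card = (common D (insert y T)).ncard - (8 - T.card) := by
    intro T hT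
    simp only [hR]
    rw [card_commonF_sdiff]
    congr 1
    rw [← h8, ← Finset.card_sdiff_of_subset hT]
    congr 1
    ext m
    simp only [Finset.mem_filter, mem_commonF, Finset.forall_mem_insert, Finset.mem_sdiff]
    constructor
    · exact fun ⟨h1, _, h2, h3⟩ => ⟨mem_adj.2 ⟨h1, h2⟩, fun h => (h3 m h).2.1 rfl⟩
    · exact fun ⟨h1, h2⟩ => ⟨hOM h1, hOD m h1, hOy m h1, fun x hx =>
        ⟨hOD m h1, fun he => h2 (he ▸ hx), hM.comm x (hOM (hT hx)) m (hOM h1)⟩⟩
  have hcom : ∀ {T : Finset G}, T ⊆ O → (T.card = 0 → (R T).card = 31663) ∧ (T.card = 1 → (R T).card = 3503) ∧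
      (T.card = 2 → (R T).card = 687) ∧ (T.card = 3 → (R T).card = 175) ∧ (T.card = 4 → (R T).card = 47) := by
    intro T hT
    have hyT : y ∉ T := fun h => hyM (hOM (hT h))
    have hcard : (insert y T).card = T.card + 1 := Finset.card_insert_of_notMem hyT
    have hD : ∀ x ∈ insert y T, x ∈ D := fun x hx => by
      rcases Finset.mem_insert.1 hx with rfl | hx
      exacts [hy, hOD x (hT hx)]
    obtain ⟨c1, c2, c3, c4, c5⟩ := ncard_common H hD (hcommT hT)
    refine ⟨fun h => ?_, fun h => ?_, fun h => ?_, fun h => ?_, fun h => ?_⟩ <;> rw [hcardR hT, h]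
    · rw [c1 (by omega)]
    · rw [c2 (by omega)]
    · rw [c3 (by omega)]
    · rw [c4 (by omega)]
    · rw [c5 (by omega)]
  -- the members not in `O`
  have hfar : ∀ {T : Finset G}, T ⊆ O → ∀ m ∈ M \ O,
      (T.card = 0 → ((R T).filter fun z => m ∈ adj D M z).card = 3232) ∧
      (T.card = 1 → ((R T).filter fun z => m ∈ adj D M z).card = 344) ∧
      (T.card = 2 → ((R T).filter fun z => m ∈ adj D M z).card = 120) := by
    intro T hT m hm
    obtain ⟨hmM, hmO⟩ := Finset.mem_sdiff.1 hm
    have hmD := hM.sub hmM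
    have hym : ¬ Commute y m := fun hc => hmO (mem_adj.2 ⟨hmM, hmD, fun he => hyM (he ▸ hmM), hc⟩)
    have hset : ((R T).filter fun z => m ∈ adj D M z) = commonF D (insert y (insert m T)) \ M := by
      ext z
      simp only [Finset.mem_filter, hR, Finset.mem_sdiff, mem_commonF, Finset.forall_mem_insert]
      constructor
      · exact fun ⟨⟨⟨h1, h2, h3⟩, h4⟩, h5⟩ => ⟨⟨h1, h2, perp_symm h1 (mem_adj.1 h5).2, h3⟩, h4⟩
      · exact fun ⟨⟨h1, h2, h5, h3⟩, h4⟩ => ⟨⟨⟨h1, h2, h3⟩, h4⟩, mem_adj.2 ⟨hmM, perp_symm hmD h5⟩⟩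
    have hMc : (M.filter fun x => x ∈ commonF D (insert y (insert m T))).card = 8 - T.card := by
      rw [← h8, ← Finset.card_sdiff_of_subset hT]
      congr 1
      ext x
      simp only [Finset.mem_filter, mem_commonF, Finset.forall_mem_insert, Finset.mem_sdiff]
      constructor
      · exact fun ⟨h1, _, h2, _, h3⟩ => ⟨mem_adj.2 ⟨h1, h2⟩, fun h => (h3 x h).2.1 rfl⟩
      · exact fun ⟨h1, h2⟩ => ⟨hOM h1, hOD x h1, hOy x h1,
          ⟨hOD x h1, fun he => hmO (he ▸ h1), hM.comm m hmM x (hOM h1)⟩, fun w hw =>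
          ⟨hOD x h1, fun he => h2 (he ▸ hw), hM.comm w (hOM (hT hw)) x (hOM h1)⟩⟩
    obtain ⟨g0, g1, g2⟩ := ncard_common_pair H hy hmD hym (X := T)
      (fun a ha b hb => hM.comm a (hOM (hT ha)) b (hOM (hT hb))) (fun x hx => hOy x (hT hx))
      (fun x hx => ⟨hOD x (hT hx), fun he => hmO (he ▸ hT hx), hM.comm m hmM x (hOM (hT hx))⟩)
    refine ⟨fun h => ?_, fun h => ?_, fun h => ?_⟩ <;> rw [hset, card_commonF_sdiff, hMc, h]
    · rw [g0 h]
    · rw [g1 h]
    · rw [g2 h]
  -- a member of `O` outside `T`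
  have hnear : ∀ {T : Finset G}, T ⊆ O → ∀ m ∈ O \ T,
      ((R T).filter fun z => m ∈ adj D M z) = R (insert m T) := by
    intro T hT m hm
    obtain ⟨hmO, -⟩ := Finset.mem_sdiff.1 hm
    ext z
    rw [Finset.mem_filter, hmemR hT, hmemR (Finset.insert_subset hmO hT), Finset.forall_mem_insert]
    tauto
  have hin : ∀ {T : Finset G}, T ⊆ O → ∀ m ∈ T, ((R T).filter fun z => m ∈ adj D M z) = R T := by
    intro T hT m hm
    exact Finset.filter_true_of_mem fun z hz => ((hmemR hT).1 hz).2.2 m hm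
  -- sums of degrees over `R T`
  have hswap : ∀ (S X : Finset G), ∑ z ∈ S, (X ∩ adj D M z).card =
      ∑ m ∈ X, (S.filter fun z => m ∈ adj D M z).card := by
    intro S X
    have h := Finset.sum_card_bipartiteAbove_eq_sum_card_bipartiteBelow
      (fun z m => m ∈ adj D M z) (s := S) (t := X)
    refine Eq.trans (Finset.sum_congr rfl fun z _ => ?_) h
    congr 1
  have hsumO : ∀ {T : Finset G}, T ⊆ O → ∀ r, (∀ m ∈ O \ T, (R (insert m T)).card = r) →
      ∑ z ∈ R T, (O ∩ adj D M z).card = T.card * (R T).card + (8 - T.card) * r := by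
    intro T hT r hr
    rw [hswap, ← Finset.sum_sdiff hT, Finset.sum_congr rfl (g := fun _ => r) fun m hm => ?_,
      Finset.sum_congr rfl (s₁ := T) (g := fun _ => (R T).card) fun m hm => by rw [hin hT m hm],
      Finset.sum_const, Finset.sum_const, Finset.card_sdiff_of_subset hT, h8, smul_eq_mul, smul_eq_mul,
      add_comm]
    rw [hnear hT m hm, hr m hm]
  have hsumM : ∀ {T : Finset G}, T ⊆ O → ∀ r s, (∀ m ∈ O \ T, (R (insert m T)).card = r) →
      (∀ m ∈ M \ O, ((R T).filter fun z => m ∈ adj D M z).card = s) →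
      ∑ z ∈ R T, (adj D M z).card = T.card * (R T).card + (8 - T.card) * r + 16 * s := by
    intro T hT r s hr hs
    rw [← hsumO hT r hr, Finset.sum_congr rfl (g := fun z => (M ∩ adj D M z).card) fun z _ => ?_,
      hswap, hswap, ← Finset.sum_sdiff hOM, Finset.sum_congr rfl (g := fun _ => s) hs, Finset.sum_const,
      Finset.card_sdiff_of_subset hOM, h24, h8, smul_eq_mul, add_comm]
    rw [Finset.inter_eq_right.2 (show adj D M z ⊆ M from Finset.filter_subset _ _)]
  have hsplit : ∀ {T : Finset G}, T ⊆ O → ∑ z ∈ R T, (adj D M z).card =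
      6 * ((R T).filter fun z => (adj D M z).card = 8).card + 2 * (R T).card := by
    intro T hT
    rw [Finset.card_filter, Finset.mul_sum, Finset.card_eq_sum_ones, Finset.mul_sum,
      ← Finset.sum_add_distrib]
    refine Finset.sum_congr rfl fun z hz => ?_
    obtain ⟨h1, h2, -⟩ := (hmemR hT).1 hz
    rcases htype z h1.1 h2 with h | h <;> simp [h]
  have hins : ∀ {T : Finset G}, T ⊆ O → ∀ m ∈ O \ T, insert m T ⊆ O ∧ (insert m T).card = T.card + 1 :=
    fun {T} hT m hm => ⟨Finset.insert_subset (Finset.mem_sdiff.1 hm).1 hT,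
      Finset.card_insert_of_notMem (Finset.mem_sdiff.1 hm).2⟩
  have hzD : ∀ {T : Finset G}, T ⊆ O → ∀ {z}, z ∈ R T → z ∈ D ∧ z ∉ M := fun {T} hT {z} hz =>
    ⟨((hmemR hT).1 hz).1.1, ((hmemR hT).1 hz).2.1⟩
  have hk : ∀ {z}, z ∈ D → z ∉ M → (adj D M z).card = 8 →
      (O ∩ adj D M z).card = 0 ∨ (O ∩ adj D M z).card = 2 ∨ (O ∩ adj D M z).card = 4 ∨
        O = adj D M z := fun {z} hz hzM h =>
    block_inter H hM hOM h8 (val_adj H hM hy hyM h8) (Finset.filter_subset _ _) h (val_adj H hM hz hzM h)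
  -- three members of `O`: fifteen with the same block
  set A8 := (R ∅).filter fun z => adj D M z = O with hA8
  have hc15 : A8.card = 15 := by
    obtain ⟨T, hT, hT3⟩ := Finset.exists_subset_card_eq (show 3 ≤ O.card by omega)
    have hall : ∀ z ∈ R T, (adj D M z).card = 8 ∧ ((O ∩ adj D M z).card = 4 ∨ O = adj D M z) := by
      intro z hz
      have h3 : 3 ≤ (O ∩ adj D M z).card := hT3 ▸ Finset.card_le_card
        (Finset.subset_inter hT fun x hx => ((hmemR hT).1 hz).2.2 x hx)
      have h8z : (adj D M z).card = 8 := (htype z (hzD hT hz).1 (hzD hT hz).2).resolve_left fun h => by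
        have := Finset.card_le_card (Finset.inter_subset_right (s₁ := O) (s₂ := adj D M z))
        omega
      refine ⟨h8z, ?_⟩
      rcases hk (hzD hT hz).1 (hzD hT hz).2 h8z with h | h | h | h
      · omega
      · omega
      · exact Or.inl h
      · exact Or.inr h
    have e : A8 = (R T).filter fun z => adj D M z = O := by
      ext z
      simp only [hA8, Finset.mem_filter, hmemR (Finset.empty_subset O), hmemR hT]
      constructor
      · exact fun ⟨⟨h1, h2, _⟩, h3⟩ => ⟨⟨h1, h2, fun x hx => h3 ▸ hT hx⟩, h3⟩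
      · exact fun ⟨⟨h1, h2, _⟩, h3⟩ => ⟨⟨h1, h2, by simp⟩, h3⟩
    have hs := hsumO hT 47 fun m hm => ((hcom (hins hT m hm).1).2.2.2.2 (by rw [(hins hT m hm).2, hT3]))
    rw [hT3, (hcom hT).2.2.2.1 hT3] at hs
    have hs2 : ∑ z ∈ R T, (O ∩ adj D M z).card = 4 * A8.card + 4 * (R T).card := by
      rw [e, Finset.card_filter, Finset.mul_sum, Finset.card_eq_sum_ones, Finset.mul_sum,
        ← Finset.sum_add_distrib]
      refine Finset.sum_congr rfl fun z hz => ?_
      by_cases he : adj D M z = O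
      · simp [he, h8]
      · rcases (hall z hz).2 with h | h
        · simp [h, he]
        · exact absurd h.symm he
    rw [(hcom hT).2.2.2.1 hT3] at hs2
    omega
  -- two members: none with exactly these two
  have hno2 : ∀ z ∈ R ∅, (adj D M z).card = 8 → (O ∩ adj D M z).card ≠ 2 := by
    intro z₀ hz₀ h8z₀ h2
    set T := O ∩ adj D M z₀ with hTdef
    have hT : T ⊆ O := Finset.inter_subset_left
    have hz₀T : z₀ ∈ R T := (hmemR hT).2 ⟨((hmemR (Finset.empty_subset O)).1 hz₀).1,
      ((hmemR (Finset.empty_subset O)).1 hz₀).2.1, fun x hx => Finset.mem_of_mem_inter_right hx⟩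
    have hr : ∀ m ∈ O \ T, (R (insert m T)).card = 175 := fun m hm =>
      (hcom (hins hT m hm).1).2.2.2.1 (by rw [(hins hT m hm).2, h2])
    have hs := hsumM hT 175 120 hr fun m hm => (hfar hT m hm).2.2 h2
    rw [hsplit hT, h2, (hcom hT).2.2.1 h2] at hs
    have hso := hsumO hT 175 hr
    rw [h2, (hcom hT).2.2.1 h2] at hso
    -- classify
    set P8 := (R T).filter fun z => (adj D M z).card = 8 with hP8
    have hge2 : ∀ z ∈ R T, 2 ≤ (O ∩ adj D M z).card := fun z hz => by
      rw [← h2]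
      exact Finset.card_le_card (Finset.subset_inter hT fun x hx => ((hmemR hT).1 hz).2.2 x hx)
    have e8 : ((R T).filter fun z => adj D M z = O) = A8 := by
      ext z
      simp only [hA8, Finset.mem_filter, hmemR (Finset.empty_subset O), hmemR hT]
      constructor
      · exact fun ⟨⟨h1, h2, _⟩, h3⟩ => ⟨⟨h1, h2, by simp⟩, h3⟩
      · exact fun ⟨⟨h1, h2, _⟩, h3⟩ => ⟨⟨h1, h2, fun x hx => h3 ▸ hT hx⟩, h3⟩
    have hdecomp : ∑ z ∈ R T, (O ∩ adj D M z).card +
        2 * ((R T).filter fun z => (adj D M z).card = 8 ∧ (O ∩ adj D M z).card = 2).card =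
        2 * (R T).card + 2 * P8.card + 4 * ((R T).filter fun z => adj D M z = O).card := by
      rw [hP8, Finset.card_filter, Finset.card_filter, Finset.card_filter,
        Finset.card_eq_sum_ones, Finset.mul_sum, Finset.mul_sum, Finset.mul_sum, Finset.mul_sum,
        ← Finset.sum_add_distrib, ← Finset.sum_add_distrib, ← Finset.sum_add_distrib]
      refine Finset.sum_congr rfl fun z hz => ?_
      have h2z := hge2 z hz
      rcases htype z (hzD hT hz).1 (hzD hT hz).2 with h | h
      · have hne : adj D M z ≠ O := fun he => by rw [he, h8] at h; omega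
        have := Finset.card_le_card (Finset.inter_subset_right (s₁ := O) (s₂ := adj D M z))
        simp [h, hne]
        omega
      · rcases hk (hzD hT hz).1 (hzD hT hz).2 h with hj | hj | hj | hj
        · omega
        · have hne : adj D M z ≠ O := fun he => by rw [he, Finset.inter_self, h8] at hj; omega
          simp [h, hj, hne]
        · have hne : adj D M z ≠ O := fun he => by rw [he, Finset.inter_self, h8] at hj; omega
          simp [h, hj, hne]
        · simp [← hj, h8]
    rw [e8, hc15, (hcom hT).2.2.1 h2] at hdecomp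
    have hpos : 0 < ((R T).filter fun z => (adj D M z).card = 8 ∧ (O ∩ adj D M z).card = 2).card :=
      Finset.card_pos.2 ⟨z₀, Finset.mem_filter.2 ⟨hz₀T, h8z₀, h2⟩⟩
    omega
  -- the count
  set Q8 := (R ∅).filter fun z => (adj D M z).card = 8 with hQ8
  have hQ8card : Q8.card = 2735 := by
    have hs := hsumM (Finset.empty_subset O) 3503 3232
      (fun m hm => (hcom (hins (Finset.empty_subset O) m hm).1).2.1 (by rw [(hins (Finset.empty_subset O) m hm).2]; rfl))
      (fun m hm => (hfar (Finset.empty_subset O) m hm).1 Finset.card_empty)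
    rw [hsplit (Finset.empty_subset O), Finset.card_empty, (hcom (Finset.empty_subset O)).1 Finset.card_empty,
      ← hQ8] at hs
    omega
  have hQsum : ∑ z ∈ Q8, (O ∩ adj D M z).card = 9080 := by
    rw [hswap, Finset.sum_congr rfl (g := fun _ => 1135) fun d hd => ?_, Finset.sum_const, h8, smul_eq_mul]
    have hT : ({d} : Finset G) ⊆ O := Finset.singleton_subset_iff.2 hd
    have e : (Q8.filter fun z => d ∈ adj D M z) = (R {d}).filter fun z => (adj D M z).card = 8 := by
      ext z
      simp only [hQ8, Finset.mem_filter, hmemR (Finset.empty_subset O), hmemR hT]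
      constructor
      · exact fun ⟨⟨⟨h1, h2, _⟩, h3⟩, h4⟩ => ⟨⟨h1, h2, fun x hx => Finset.mem_singleton.1 hx ▸ h4⟩, h3⟩
      · exact fun ⟨⟨h1, h2, h4⟩, h3⟩ => ⟨⟨⟨h1, h2, by simp⟩, h3⟩, h4 d (Finset.mem_singleton_self d)⟩
    rw [e]
    have hs := hsumM hT 687 344
      (fun m hm => (hcom (hins hT m hm).1).2.2.1 (by rw [(hins hT m hm).2, Finset.card_singleton]))
      (fun m hm => (hfar hT m hm).2.1 (Finset.card_singleton d))
    rw [hsplit hT, Finset.card_singleton, (hcom hT).2.1 (Finset.card_singleton d)] at hs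
    omega
  have e15 : (Q8.filter fun z => adj D M z = O) = A8 := by
    ext z
    simp only [hQ8, hA8, Finset.mem_filter]
    exact ⟨fun h => ⟨h.1.1, h.2⟩, fun h => ⟨⟨h.1, by rw [h.2, h8]⟩, h.2⟩⟩
  have hdec : ∑ z ∈ Q8, (O ∩ adj D M z).card + 4 * (Q8.filter fun z => Disjoint O (adj D M z)).card =
      4 * Q8.card + 4 * (Q8.filter fun z => adj D M z = O).card := by
    rw [Finset.card_filter (fun z => Disjoint O (adj D M z)), Finset.card_filter (fun z => adj D M z = O),
      Finset.card_eq_sum_ones Q8, Finset.mul_sum, Finset.mul_sum, Finset.mul_sum, ← Finset.sum_add_distrib,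
      ← Finset.sum_add_distrib]
    refine Finset.sum_congr rfl fun z hz => ?_
    obtain ⟨hzR, h8z⟩ := Finset.mem_filter.1 hz
    rcases hk (hzD (Finset.empty_subset O) hzR).1 (hzD (Finset.empty_subset O) hzR).2 h8z with h | h | h | h
    · have hd : Disjoint O (adj D M z) := Finset.disjoint_iff_inter_eq_empty.2 (Finset.card_eq_zero.1 h)
      have hne : adj D M z ≠ O := fun he => by rw [he, Finset.inter_self, h8] at h; omega
      simp [h, hd, hne]
    · exact absurd h (hno2 z hzR h8z)
    · have hd : ¬ Disjoint O (adj D M z) := fun hd => by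
        rw [Finset.disjoint_iff_inter_eq_empty.1 hd, Finset.card_empty] at h; omega
      have hne : adj D M z ≠ O := fun he => by rw [he, Finset.inter_self, h8] at h; omega
      simp [h, hd, hne]
    · have hd : ¬ Disjoint O (adj D M z) := fun hd => by
        rw [← h, disjoint_self, Finset.bot_eq_empty] at hd
        simp [hd] at h8
      simp [← h, h8]
      rw [← h] at hd
      simpa using hd
  rw [e15, hc15, hQ8card, hQsum] at hdec
  have efinal : ((commonF D {y} \ M).filter fun z => (adj D M z).card = 8 ∧ Disjoint O (adj D M z)) =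
      Q8.filter fun z => Disjoint O (adj D M z) := by
    rw [hQ8, Finset.filter_filter]
    rfl
  rw [efinal]
  omega

omit hM

/-- The pairwise commuting sets of `k` members. -/
noncomputable def tuples (D : Set G) (k : ℕ) : Finset (Finset G) :=
  (((Set.toFinite D).toFinset).powersetCard k).filter fun T => ∀ a ∈ T, ∀ b ∈ T, Commute a b

theorem mem_tuples {k : ℕ} {T : Finset G} :
    T ∈ tuples D k ↔ ((∀ a ∈ T, a ∈ D) ∧ T.card = k) ∧ ∀ a ∈ T, ∀ b ∈ T, Commute a b := by
  simp [tuples, Finset.mem_powersetCard, Finset.subset_iff]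

theorem card_tuples_succ (k f : ℕ) (hf : ∀ T ∈ tuples D k, (common D T).ncard = f) :
    (k + 1) * (tuples D (k + 1)).card = f * (tuples D k).card := by
  have h := Finset.sum_card_bipartiteAbove_eq_sum_card_bipartiteBelow
    (fun T U : Finset G => T ⊆ U) (s := tuples D k) (t := tuples D (k + 1))
  have e1 : ∀ T ∈ tuples D k, ((tuples D (k + 1)).bipartiteAbove (fun T U => T ⊆ U) T).card = f := by
    intro T hT
    rw [← hf T hT, ← card_commonF]
    obtain ⟨⟨hTD, hTk⟩, hTc⟩ := mem_tuples H |>.1 hT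
    symm
    refine Finset.card_bij (fun z _ => insert z T) (fun z hz => ?_) (fun z hz w hw he => ?_) (fun U hU => ?_)
    · obtain ⟨hzD, hzp⟩ := mem_commonF.1 hz
      have hzT : z ∉ T := fun h => (hzp z h).2.1 rfl
      refine Finset.mem_filter.2 ⟨(mem_tuples H).2 ⟨⟨fun a ha => ?_, ?_⟩, ?_⟩, Finset.subset_insert z T⟩
      · rcases Finset.mem_insert.1 ha with rfl | ha
        exacts [hzD, hTD a ha]
      · rw [Finset.card_insert_of_notMem hzT, hTk]
      · intro a ha b hb
        rcases Finset.mem_insert.1 ha with rfl | ha <;> rcases Finset.mem_insert.1 hb with rfl | hb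
        exacts [Commute.refl _, (hzp b ‹_›).2.2.symm, (hzp a ‹_›).2.2, hTc a ‹_› b ‹_›]
    · have hzT : z ∉ T := fun h => ((mem_commonF.1 hz).2 z h).2.1 rfl
      exact (Finset.mem_insert.1 (he ▸ Finset.mem_insert_self z T)).resolve_right hzT
    · obtain ⟨hU, hTU⟩ := Finset.mem_filter.1 hU
      obtain ⟨⟨hUD, hUk⟩, hUc⟩ := (mem_tuples H).1 hU
      obtain ⟨z, hz⟩ := Finset.card_eq_one.1 (show (U \ T).card = 1 by
        rw [Finset.card_sdiff_of_subset hTU, hUk, hTk]; omega)
      obtain ⟨hzU, hzT⟩ := Finset.mem_sdiff.1 (hz ▸ Finset.mem_singleton_self z : z ∈ U \ T)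
      refine ⟨z, mem_commonF.2 ⟨hUD z hzU, fun x hx => ⟨hUD z hzU, fun he => hzT (he ▸ hx), hUc x (hTU hx) z hzU⟩⟩, ?_⟩
      rw [← Finset.sdiff_union_of_subset hTU, hz]
      rfl
  have e2 : ∀ U ∈ tuples D (k + 1), ((tuples D k).bipartiteBelow (fun T U => T ⊆ U) U).card = k + 1 := by
    intro U hU
    obtain ⟨⟨hUD, hUk⟩, hUc⟩ := (mem_tuples H).1 hU
    rw [show (tuples D k).bipartiteBelow (fun T U => T ⊆ U) U = U.powersetCard k from ?_,
      Finset.card_powersetCard, hUk, Nat.choose_succ_self_right]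
    ext T
    simp only [Finset.bipartiteBelow, Finset.mem_filter, mem_tuples H, Finset.mem_powersetCard]
    exact ⟨fun ⟨⟨⟨_, h1⟩, _⟩, h2⟩ => ⟨h2, h1⟩, fun ⟨h2, h1⟩ =>
      ⟨⟨⟨fun a ha => hUD a (h2 ha), h1⟩, fun a ha b hb => hUc a (h2 ha) b (h2 hb)⟩, h2⟩⟩
  rw [Finset.sum_congr rfl e1, Finset.sum_congr rfl e2, Finset.sum_const, Finset.sum_const, smul_eq_mul,
    smul_eq_mul] at h
  rw [mul_comm, ← h, mul_comm]

/-- The maximal commuting sets. -/
noncomputable def cliques (D : Set G) : Finset (Finset G) :=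
  ((Set.toFinite D).toFinset).powerset.filter fun M => IsMaxClique D (M : Set G)

theorem mem_cliques {M : Finset G} : M ∈ cliques D ↔ IsMaxClique D (M : Set G) := by
  simp only [cliques, Finset.mem_filter, Finset.mem_powerset, and_iff_right_iff_imp]
  exact fun h x hx => (Set.Finite.mem_toFinset _).2 (h.sub hx)

theorem exists_clique {E : Finset G} (hE : ∀ a ∈ E, a ∈ D) (hEc : ∀ a ∈ E, ∀ b ∈ E, Commute a b) :
    ∃ M ∈ cliques D, E ⊆ M := by
  obtain ⟨M, hEM, hM⟩ := (((Set.toFinite D).toFinset).powerset.filter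
    fun M : Finset G => ∀ a ∈ M, ∀ b ∈ M, Commute a b).exists_le_maximal (a := E) (by
      rw [Finset.mem_filter, Finset.mem_powerset]
      exact ⟨fun x hx => (Set.Finite.mem_toFinset _).2 (hE x hx), hEc⟩)
  obtain ⟨hMsub, hMc⟩ := Finset.mem_filter.1 hM.1
  rw [Finset.mem_powerset] at hMsub
  refine ⟨M, (mem_cliques H).2 ⟨fun x hx => (Set.Finite.mem_toFinset _).1 (hMsub hx), hMc, fun y hy hym => ?_⟩, hEM⟩
  refine hM.2 (y := insert y M) (Finset.mem_filter.2 ⟨Finset.mem_powerset.2
    (Finset.insert_subset ((Set.Finite.mem_toFinset _).2 hy) hMsub), ?_⟩) (Finset.subset_insert y M)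
    (Finset.mem_insert_self y M)
  intro a ha b hb
  rcases Finset.mem_insert.1 ha with rfl | ha <;> rcases Finset.mem_insert.1 hb with rfl | hb
  exacts [Commute.refl _, hym b ‹_›, (hym a ‹_›).symm, hMc a ‹_› b ‹_›]

/-- Five commuting members lie in three maximal commuting sets. -/
theorem card_cliques_five {F : Finset G} (hF : F ∈ tuples D 5) :
    ((cliques D).filter fun M => F ⊆ M).card = 3 := by
  obtain ⟨⟨hFD, hF5⟩, hFc⟩ := (mem_tuples H).1 hF
  obtain ⟨M₀, hM₀c, hFM₀⟩ := exists_clique H hFD hFc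
  have hM₀ := (mem_cliques H).1 hM₀c
  obtain ⟨B, hBM, hB8, hFB, hBv⟩ := exists_block H hM₀ hFM₀ hF5
  have hBD : ∀ b ∈ B, b ∈ D := fun b hb => hM₀.sub (hBM hb)
  -- the block lies in every such set
  have hBall : ∀ M ∈ cliques D, F ⊆ M → B ⊆ M := by
    intro M hMc hFM b hb
    have hM := (mem_cliques H).1 hMc
    by_cases hbF : b ∈ F
    · exact hFM hbF
    refine hM.max b (hBD b hb) fun m hm => ?_
    have hm₀ := commM H hM₀
    have hW : B \ F ⊆ M₀ := Finset.sdiff_subset.trans hBM
    have he : B \ F = symmDiff B F := by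
      ext x
      simp only [Finset.mem_sdiff, Finset.mem_symmDiff]
      exact ⟨fun h => Or.inl h, fun h => h.elim id fun h => absurd (hFB h.1) h.2⟩
    have hc : Commute m (val M₀ (B \ F)) := by
      rw [he, CliqueAlgebra.val_symmDiff hm₀ hBM hFM₀, hBv, one_mul]
      exact CliqueAlgebra.commute_val hm₀ hFM₀ fun a ha => hM.comm m hm a (hFM ha)
    exact (commute_of_val H hM₀ (hM.sub hm) hW (by rw [Finset.card_sdiff_of_subset hFB]; omega) hc b
      (Finset.mem_sdiff.2 ⟨hb, hbF⟩)).symm
  set Q := commonF D F \ B with hQ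
  have hQ48 : Q.card = 48 := by
    rw [hQ, card_commonF_sdiff, (ncard_common H hFD hFc).2.2.2.2 hF5,
      show (B.filter fun m => m ∈ commonF D F) = B \ F from ?_, Finset.card_sdiff_of_subset hFB, hB8, hF5]
    ext b
    simp only [Finset.mem_filter, mem_commonF, Finset.mem_sdiff]
    exact ⟨fun ⟨h1, _, h3⟩ => ⟨h1, fun h => (h3 b h).2.1 rfl⟩, fun ⟨h1, h2⟩ => ⟨h1, hBD b h1, fun x hx =>
      ⟨hBD b h1, fun he => h2 (he ▸ hx), hM₀.comm x (hFM₀ hx) b (hBM h1)⟩⟩⟩
  have h := Finset.sum_card_bipartiteAbove_eq_sum_card_bipartiteBelow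
    (fun (M : Finset G) u => u ∈ M) (s := (cliques D).filter fun M => F ⊆ M) (t := Q)
  have e1 : ∀ M ∈ (cliques D).filter (fun M => F ⊆ M), (Q.bipartiteAbove (fun M u => u ∈ M) M).card = 16 := by
    intro M hMF
    obtain ⟨hMc, hFM⟩ := Finset.mem_filter.1 hMF
    have hM := (mem_cliques H).1 hMc
    have hBM' := hBall M hMc hFM
    rw [show Q.bipartiteAbove (fun M u => u ∈ M) M = M \ B from ?_, Finset.card_sdiff_of_subset hBM',
      (card_clique H hM).1, hB8]
    ext u
    simp only [Finset.bipartiteAbove, Finset.mem_filter, hQ, Finset.mem_sdiff, mem_commonF]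
    exact ⟨fun ⟨⟨_, h2⟩, h3⟩ => ⟨h3, h2⟩, fun ⟨h3, h2⟩ => ⟨⟨⟨hM.sub h3, fun x hx =>
      ⟨hM.sub h3, fun he => h2 (he ▸ hFB hx), hM.comm x (hFM hx) u h3⟩⟩, h2⟩, h3⟩⟩
  have e2 : ∀ u ∈ Q, (((cliques D).filter fun M => F ⊆ M).bipartiteBelow (fun M u => u ∈ M) u).card = 1 := by
    intro u hu
    obtain ⟨hu1, huB⟩ := Finset.mem_sdiff.1 hu
    obtain ⟨huD, hup⟩ := mem_commonF.1 hu1
    obtain ⟨M, hMc, hsub⟩ := exists_clique H (E := insert u F)
      (fun a ha => by
        rcases Finset.mem_insert.1 ha with rfl | ha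
        exacts [huD, hFD a ha])
      (fun a ha b hb => by
        rcases Finset.mem_insert.1 ha with rfl | ha <;> rcases Finset.mem_insert.1 hb with rfl | hb
        exacts [Commute.refl _, (hup b ‹_›).2.2.symm, (hup a ‹_›).2.2, hFc a ‹_› b ‹_›])
    have hM := (mem_cliques H).1 hMc
    obtain ⟨huM, hFM⟩ := Finset.insert_subset_iff.1 hsub
    rw [Finset.card_eq_one]
    refine ⟨M, Finset.ext fun M' => ?_⟩
    simp only [Finset.bipartiteBelow, Finset.mem_filter, Finset.mem_singleton]
    refine ⟨fun ⟨⟨hM'c, hFM'⟩, huM'⟩ => ?_, fun he => he ▸ ⟨⟨hMc, hFM⟩, huM⟩⟩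
    have hM' := (mem_cliques H).1 hM'c
    have hsub' : M' ⊆ M := by
      intro z hz
      by_contra hzM
      have hzD := hM'.sub hz
      have hadj : ∀ a ∈ M, a ∈ M' → a ∈ adj D M z := fun a ha ha' =>
        mem_adj.2 ⟨ha, hM.sub ha, fun he => hzM (he ▸ ha), hM'.comm z hz a ha'⟩
      have hFadj : F ⊆ adj D M z := fun a ha => hadj a (hFM ha) (hFM' ha)
      have h8 : (adj D M z).card = 8 := ((outside_types H hM).1 z hzD hzM).resolve_left fun h2 => by
        have := Finset.card_le_card hFadj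
        omega
      have hBM' := hBall M hMc hFM
      have hBv' : val M B = 1 := by
        rw [← hBv, CliqueAlgebra.val_eq_prod (commM H hM) hBM' B.nodup_toList (fun x => Finset.mem_toList),
          CliqueAlgebra.val_eq_prod (commM H hM₀) hBM B.nodup_toList (fun x => Finset.mem_toList)]
      have heq : adj D M z = B := block_unique H hM (Finset.filter_subset _ _) h8 (val_adj H hM hzD hzM h8)
        hBM' hB8 hBv' (hF5 ▸ Finset.card_le_card (Finset.subset_inter hFadj hFB))
      exact huB (heq ▸ hadj u huM huM')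
    exact Finset.eq_of_subset_of_card_le hsub' (by rw [(card_clique H hM).1, (card_clique H hM').1])
  rw [Finset.sum_congr rfl e1, Finset.sum_congr rfl e2, Finset.sum_const, Finset.sum_const, smul_eq_mul,
    smul_eq_mul, hQ48] at h
  omega

/-- The maximal commuting sets are odd in number. -/
theorem odd_card_cliques : Odd (cliques D).card := by
  have t0 : (tuples D 0).card = 1 := Finset.card_eq_one.2 ⟨∅, Finset.ext fun T => by
    rw [mem_tuples H, Finset.mem_singleton]
    exact ⟨fun h => Finset.card_eq_zero.1 h.1.2, fun h => by subst h; simp⟩⟩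
  have hc : ∀ {k}, ∀ T ∈ tuples D k, (∀ a ∈ T, a ∈ D) ∧ T.card = k ∧ (∀ a ∈ T, ∀ b ∈ T, Commute a b) :=
    fun {k} T hT => ⟨((mem_tuples H).1 hT).1.1, ((mem_tuples H).1 hT).1.2, ((mem_tuples H).1 hT).2⟩
  have t1 := card_tuples_succ H 0 306936 fun T hT => by
    rw [Finset.card_eq_zero.1 (hc T hT).2.1, common_empty, ncard_D H]
  have t2 := card_tuples_succ H 1 31671 fun T hT => (ncard_common H (hc T hT).1 (hc T hT).2.2).1 (hc T hT).2.1
  have t3 := card_tuples_succ H 2 3510 fun T hT => (ncard_common H (hc T hT).1 (hc T hT).2.2).2.1 (hc T hT).2.1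
  have t4 := card_tuples_succ H 3 693 fun T hT =>
    (ncard_common H (hc T hT).1 (hc T hT).2.2).2.2.1 (hc T hT).2.1
  have t5 := card_tuples_succ H 4 180 fun T hT =>
    (ncard_common H (hc T hT).1 (hc T hT).2.2).2.2.2.1 (hc T hT).2.1
  have h := Finset.sum_card_bipartiteAbove_eq_sum_card_bipartiteBelow
    (fun (M F : Finset G) => F ⊆ M) (s := cliques D) (t := tuples D 5)
  have e1 : ∀ M ∈ cliques D, ((tuples D 5).bipartiteAbove (fun M F => F ⊆ M) M).card = 42504 := by
    intro M hMc
    have hM := (mem_cliques H).1 hMc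
    rw [show (tuples D 5).bipartiteAbove (fun M F => F ⊆ M) M = M.powersetCard 5 from ?_,
      Finset.card_powersetCard, (card_clique H hM).1]
    · rfl
    ext F
    simp only [Finset.bipartiteAbove, Finset.mem_filter, mem_tuples H, Finset.mem_powersetCard]
    exact ⟨fun ⟨⟨⟨_, h1⟩, _⟩, h2⟩ => ⟨h2, h1⟩, fun ⟨h2, h1⟩ =>
      ⟨⟨⟨fun a ha => hM.sub (h2 ha), h1⟩, fun a ha b hb => hM.comm a (h2 ha) b (h2 hb)⟩, h2⟩⟩
  have e2 : ∀ F ∈ tuples D 5, ((cliques D).bipartiteBelow (fun (M F : Finset G) => F ⊆ M) F).card = 3 :=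
    fun F hF => card_cliques_five H hF
  rw [Finset.sum_congr rfl e1, Finset.sum_congr rfl e2,
    Finset.sum_const, Finset.sum_const, smul_eq_mul, smul_eq_mul] at h
  rw [show (0 : ℕ) + 1 = 1 from rfl, t0] at t1
  have u1 : (tuples D 1).card = 306936 := by omega
  rw [show (1 : ℕ) + 1 = 2 from rfl, u1] at t2
  have u2 : (tuples D 2).card = 4860485028 := by omega
  rw [show (2 : ℕ) + 1 = 3 from rfl, u2] at t3
  have u3 : (tuples D 3).card = 5686767482760 := by omega
  rw [show (3 : ℕ) + 1 = 4 from rfl, u3] at t4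
  have u4 : (tuples D 4).card = 985232466388170 := by omega
  rw [show (4 : ℕ) + 1 = 5 from rfl, u4] at t5
  have u5 : (tuples D 5).card = 35468368789974120 := by omega
  rw [u5] at h
  rw [Nat.odd_iff, show (cliques D).card = 2503413946215 by omega]

end CfsgLib.Transpositions.TypeM24
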